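import Cfsg.Agent.Fischer.QB
import Cfsg.Agent.Fischer.QC
import Cfsg.Agent.FiC.F22.T

set_option autoImplicit false
set_option maxRecDepth 100000
set_option linter.unusedSectionVars false

namespace Cfsg.Agent.FiC.F22
open Cfsg.Agent.Comp Cfsg.Agent.FiC

variable {G : Type*} [Group G] [Finite G] {D : Set G} {τ s : ℕ → G}

noncomputable def qU : List (List Nat) := [[nat_lit 18, nat_lit 14, nat_lit 44, nat_lit 38, nat_lit 31, nat_lit 37, nat_lit 40, nat_lit 38, nat_lit 42, nat_lit 16, nat_lit 12], [nat_lit 18, nat_lit 14, nat_lit 44, nat_lit 8, nat_lit 10, nat_lit 34, nat_lit 4, nat_lit 0, nat_lit 40, nat_lit 39], [nat_lit 18, nat_lit 14, nat_lit 44, nat_lit 43, nat_lit 10, nat_lit 16, nat_lit 12], [nat_lit 18, nat_lit 14, nat_lit 44, nat_lit 8, nat_lit 10, nat_lit 14, nat_lit 43], [nat_lit 18, nat_lit 14, nat_lit 44, nat_lit 43, nat_lit 10, nat_lit 8, nat_lit 42, nat_lit 12], [nat_lit 18, nat_lit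 14, nat_lit 44, nat_lit 38, nat_lit 31, nat_lit 41, nat_lit 39, nat_lit 37, nat_lit 42, nat_lit 38]]

noncomputable def qE : List (List Nat) := [[nat_lit 40, nat_lit 36, nat_lit 43, nat_lit 33, nat_lit 36, nat_lit 11], [nat_lit 30, nat_lit 43, nat_lit 30, nat_lit 4, nat_lit 43], [nat_lit 36, nat_lit 34, nat_lit 16, nat_lit 14, nat_lit 42], [nat_lit 34, nat_lit 12, nat_lit 35, nat_lit 12], [nat_lit 39, nat_lit 14, nat_lit 42, nat_lit 16], [nat_lit 36, nat_lit 40, nat_lit 37, nat_lit 40], [nat_lit 40, nat_lit 39, nat_lit 43, nat_lit 12], [nat_lit 8, nat_lit 12], [nat_lit 4, nat_lit 0]]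

noncomputable def qV : List (List Nat) := [nat_lit 4] :: qE

theorem qVpc (b : Base D τ s d0 64561751654400) : PC s 2 qV :=
  Cx.pcs b.x _ _ [[[]], [[], [nat_lit 14]], [[], [], []], [[], [nat_lit 10], [nat_lit 10], [nat_lit 10]], [[], [nat_lit 8], [nat_lit 8], [], []], [[], [], [], [nat_lit 6], [], []], [[], [], [], [], [], [nat_lit 4], []], [[], [], [], [nat_lit 2], [], [], [], []], [[], [], [nat_lit 0], [], [], [], [], [], []], [[], [], [], [], [], [], [], [], [], []]] (by decide +kernel)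

theorem vge1 (b : Base D τ s d0 64561751654400) : GE s [[nat_lit 0]] 2 :=
  GE.step b.x (GE.base []) _ [] (nat_lit 694) [nat_lit 0] (nat_lit 2) 2 (by decide +kernel)

theorem vge2 (b : Base D τ s d0 64561751654400) : GE s [[nat_lit 4], [nat_lit 40, nat_lit 36, nat_lit 43, nat_lit 33, nat_lit 36, nat_lit 11], [nat_lit 30, nat_lit 43, nat_lit 30, nat_lit 4, nat_lit 43], [nat_lit 36, nat_lit 34, nat_lit 16, nat_lit 14, nat_lit 42], [nat_lit 34, nat_lit 12, nat_lit 35, nat_lit 12], [nat_lit 39, nat_lit 14, nat_lit 42, nat_lit 16], [nat_lit 36, nat_lit 40, nat_lit 37, nat_lit 40], [nat_lit 40, nat_lit 39, nat_lit 43, nat_lit 12], [nat_lit 8, nat_lit 12], [nat_lit 4, nat_lit 0]] 1024 :=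
  GE.step b.x (vge1 b) _ [([nat_lit 0], [nat_lit 18, nat_lit 0])] (nat_lit 1) [nat_lit 0, nat_lit 8, nat_lit 4, nat_lit 5, nat_lit 6, nat_lit 7, nat_lit 2, nat_lit 3, nat_lit 1] (nat_lit 512) 1024 (by decide +kernel)

theorem qVge (b : Base D τ s d0 64561751654400) : GE s qV (2 ^ qV.length) :=
  (vge2 b)

theorem qVcard (b : Base D τ s d0 64561751654400) : Nat.card (genW (sv s) qV) = 1024 :=
  (qVpc b).card0 (by norm_num) (qVge b)

theorem vcu3 (b : Base D τ s d0 64561751654400) : CU ⊤ s [[nat_lit 4, nat_lit 23, nat_lit 0, nat_lit 22, nat_lit 5], [nat_lit 6], [nat_lit 2], [nat_lit 0]] 36 :=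
  CU.down b.x le_rfl (zcu12 b) (nat_lit 7) [[nat_lit 6], [nat_lit 10], [nat_lit 16], [nat_lit 42], [nat_lit 50], [nat_lit 52], [nat_lit 54], [nat_lit 56]] [nat_lit 4, nat_lit 23, nat_lit 0, nat_lit 22, nat_lit 5] [nat_lit 0, nat_lit 1, nat_lit 2, nat_lit 3, nat_lit 4, nat_lit 5, nat_lit 6, nat_lit 7, nat_lit 4, nat_lit 6, nat_lit 5, nat_lit 7, nat_lit 3, nat_lit 1] (nat_lit 1440) 36 (by decide +kernel)

theorem vcu4 (b : Base D τ s d0 64561751654400) : CU ⊤ s [[nat_lit 30, nat_lit 24, nat_lit 20, nat_lit 0, nat_lit 21, nat_lit 25, nat_lit 31], [nat_lit 4, nat_lit 23, nat_lit 0, nat_lit 22, nat_lit 5], [nat_lit 6], [nat_lit 2], [nat_lit 0]] 1 :=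
  CU.down b.x le_rfl (vcu3 b) (nat_lit 15) [[nat_lit 12, nat_lit 10, nat_lit 12], [nat_lit 55, nat_lit 6, nat_lit 41, nat_lit 6, nat_lit 40, nat_lit 10], [nat_lit 55, nat_lit 6, nat_lit 40, nat_lit 6, nat_lit 8, nat_lit 10, nat_lit 14]] [nat_lit 30, nat_lit 24, nat_lit 20, nat_lit 0, nat_lit 21, nat_lit 25, nat_lit 31] [nat_lit 0, nat_lit 1, nat_lit 0, nat_lit 2, nat_lit 0, nat_lit 1, nat_lit 2] (nat_lit 36) 1 (by decide +kernel)

theorem vcu5 (b : Base D τ s d0 64561751654400) : CU ⊤ s [[nat_lit 33, nat_lit 12, nat_lit 32], [nat_lit 28, nat_lit 4, nat_lit 29], [nat_lit 16], [nat_lit 14], [nat_lit 2]] 1 :=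
  CU.mono b.x le_rfl (vcu4 b) [[nat_lit 33, nat_lit 12, nat_lit 32], [nat_lit 28, nat_lit 4, nat_lit 29], [nat_lit 16], [nat_lit 14], [nat_lit 2]] [nat_lit 31, nat_lit 18, nat_lit 57, nat_lit 18, nat_lit 46, nat_lit 44, nat_lit 32, nat_lit 31, nat_lit 35, nat_lit 40, nat_lit 39, nat_lit 34, nat_lit 43] [[nat_lit 2], [nat_lit 0], [nat_lit 8], [nat_lit 6], [nat_lit 4]] (by decide +kernel)

theorem vcu6 (b : Base D τ s d0 64561751654400) : CU ⊤ s [[nat_lit 33, nat_lit 12, nat_lit 32], [nat_lit 28, nat_lit 4, nat_lit 29], [nat_lit 16], [nat_lit 14], [nat_lit 2], [nat_lit 4, nat_lit 0]] 1 :=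
  CU.clo b.x [[nat_lit 33, nat_lit 12, nat_lit 32], [nat_lit 28, nat_lit 4, nat_lit 29], [nat_lit 16], [nat_lit 14], [nat_lit 2], [nat_lit 4, nat_lit 0]] [] (CU.sub (vcu5 b) _ (by decide +kernel)) [nat_lit 0, nat_lit 1, nat_lit 2, nat_lit 3, nat_lit 4] [[nat_lit 0], [nat_lit 2], [nat_lit 4], [nat_lit 6], [nat_lit 8], [nat_lit 10]] [] (by decide +kernel)

theorem vnc7 (b : Base D τ s d0 64561751654400) : NC ⊤ s [[nat_lit 33, nat_lit 12, nat_lit 32], [nat_lit 28, nat_lit 4, nat_lit 29], [nat_lit 16], [nat_lit 14], [nat_lit 2], [nat_lit 4, nat_lit 0]] [[nat_lit 49, nat_lit 56, nat_lit 4, nat_lit 57, nat_lit 48], [nat_lit 28, nat_lit 4, nat_lit 29], [nat_lit 16], [nat_lit 14], [nat_lit 2], [nat_lit 4, nat_lit 0]] :=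
  NC.pc b.x b.ns _ _ (SE.diff (SE.and (SE.and (SE.diff (SE.and (SE.diff (SE.diff (SE.diff (SE.diff (SE.diff (SE.diff (SE.diff (SE.diff (SE.diff SE.all (SE.tp (nat_lit 2))) (SE.tp (nat_lit 3))) (SE.tp (nat_lit 4))) (SE.tp (nat_lit 0))) (SE.tp (nat_lit 1))) (SE.pre [nat_lit 10] (SE.tp (nat_lit 4)))) (SE.fx [nat_lit 4])) (SE.fx [nat_lit 6])) (SE.fx [nat_lit 8])) (SE.fx [nat_lit 0])) (SE.fx [nat_lit 2])) (SE.fx [nat_lit 10, nat_lit 8, nat_lit 11])) (SE.fx [nat_lit 4, nat_lit 6, nat_lit 4])) (SE.fx [nat_lit 2, nat_lit 4, nat_lit 2])) (by decide +kernel)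

theorem vcu8 (b : Base D τ s d0 64561751654400) : CU ⊤ s [[nat_lit 28, nat_lit 4, nat_lit 29], [nat_lit 16], [nat_lit 14], [nat_lit 2], [nat_lit 4, nat_lit 0]] 1 :=
  CU.up b.x le_rfl b.ns (vcu6 b) (nat_lit 15) [] (SE.diff (SE.diff (SE.diff (SE.diff (SE.diff (SE.and (SE.fx [nat_lit 8]) (SE.fx [nat_lit 2, nat_lit 8, nat_lit 0, nat_lit 9, nat_lit 3])) (SE.fx [nat_lit 2])) (SE.fx [nat_lit 4])) (SE.fx [nat_lit 4, nat_lit 8, nat_lit 2, nat_lit 9, nat_lit 5])) (SE.fx [nat_lit 4, nat_lit 8, nat_lit 0, nat_lit 9, nat_lit 5])) (SE.fx [nat_lit 6, nat_lit 8, nat_lit 0, nat_lit 9, nat_lit 7])) [([nat_lit 49, nat_lit 56, nat_lit 4, nat_lit 57, nat_lit 48], [])] (nat_lit 1) 1 (NCs.cons (vnc7 b) NCs.nil) (by decide +kernel)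

theorem vcu9 (b : Base D τ s d0 64561751654400) : CU ⊤ s [[nat_lit 16], [nat_lit 14], [nat_lit 2], [nat_lit 4, nat_lit 0]] 48 :=
  CU.up b.x le_rfl b.ns (vcu8 b) (nat_lit 7) [] (SE.diff (SE.diff (SE.diff (SE.fx [nat_lit 6]) (SE.fx [nat_lit 0])) (SE.fx [nat_lit 2])) (SE.fx [nat_lit 0, nat_lit 2, nat_lit 0])) [] (nat_lit 48) 48 NCs.nil (by decide +kernel)

theorem vcu10 (b : Base D τ s d0 64561751654400) : CU ⊤ s [[nat_lit 14], [nat_lit 2], [nat_lit 4, nat_lit 0]] 768 :=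
  CU.up b.x le_rfl b.ns (vcu9 b) (nat_lit 3) [] (SE.diff (SE.fx [nat_lit 4, nat_lit 2]) (SE.fx [nat_lit 0])) [] (nat_lit 16) 768 NCs.nil (by decide +kernel)

theorem vcu11 (b : Base D τ s d0 64561751654400) : CU ⊤ s [[nat_lit 2], [nat_lit 4, nat_lit 0]] 23040 :=
  CU.up b.x le_rfl b.ns (vcu10 b) (nat_lit 1) [] (SE.fx [nat_lit 2, nat_lit 0]) [] (nat_lit 30) 23040 NCs.nil (by decide +kernel)

theorem vnc12 (b : Base D τ s d0 64561751654400) : NC ⊤ s [[nat_lit 2], [nat_lit 4, nat_lit 0]] [[nat_lit 6], [nat_lit 4, nat_lit 0]] :=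
  NC.pc b.x b.ns _ _ (SE.and (SE.fx [nat_lit 0]) (SE.pre [nat_lit 2] (SE.tp (nat_lit 0)))) (by decide +kernel)

theorem vcu13 (b : Base D τ s d0 64561751654400) : CU ⊤ s [[nat_lit 4, nat_lit 0]] 53084160 :=
  CU.up b.x le_rfl b.ns (vcu11 b) (nat_lit 0) [[nat_lit 4], [nat_lit 8], [nat_lit 12], [nat_lit 14], [nat_lit 30], [nat_lit 32], [nat_lit 34], [nat_lit 38], [nat_lit 40], [nat_lit 42], [nat_lit 39, nat_lit 18, nat_lit 14, nat_lit 44, nat_lit 31, nat_lit 41, nat_lit 30, nat_lit 39, nat_lit 34, nat_lit 34, nat_lit 8]] (SE.diff SE.all (SE.fx [nat_lit 0])) [([nat_lit 6], [nat_lit 0, nat_lit 1, nat_lit 3, nat_lit 4, nat_lit 5, nat_lit 6, nat_lit 9, nat_lit 4, nat_lit 7, nat_lit 5, nat_lit 8, nat_lit 10, nat_lit 2])] (nat_lit 2304) 53084160 (NCs.cons (vnc12 b) NCs.nil) (by decide +kernel)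

theorem vge14 (b : Base D τ s d0 64561751654400) : GE s [[nat_lit 15, nat_lit 10, nat_lit 37, nat_lit 32, nat_lit 42, nat_lit 12, nat_lit 37, nat_lit 42, nat_lit 38, nat_lit 43, nat_lit 16], [nat_lit 18, nat_lit 14, nat_lit 44, nat_lit 10, nat_lit 37, nat_lit 32, nat_lit 36, nat_lit 42, nat_lit 37, nat_lit 34, nat_lit 40, nat_lit 8, nat_lit 43], [nat_lit 12, nat_lit 10, nat_lit 16, nat_lit 39, nat_lit 42, nat_lit 12], [nat_lit 17, nat_lit 43, nat_lit 41, nat_lit 43, nat_lit 11, nat_lit 9, nat_lit 39], [nat_lit 43, nat_lit 10, nat_lit 42]] 32 :=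
  GE.step b.x (GE.base []) _ [] (nat_lit 1) [nat_lit 4, nat_lit 2, nat_lit 3, nat_lit 0, nat_lit 1] (nat_lit 32) 32 (by decide +kernel)

theorem vge15 (b : Base D τ s d0 64561751654400) : GE s [[nat_lit 14, nat_lit 38], [nat_lit 15, nat_lit 10, nat_lit 37, nat_lit 32, nat_lit 42, nat_lit 12, nat_lit 37, nat_lit 42, nat_lit 38, nat_lit 43, nat_lit 16], [nat_lit 36, nat_lit 18, nat_lit 14, nat_lit 44, nat_lit 39, nat_lit 33, nat_lit 36, nat_lit 34, nat_lit 0, nat_lit 40], [nat_lit 41, nat_lit 10, nat_lit 41, nat_lit 38, nat_lit 12]] 23040 :=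
  GE.step b.x (vge14 b) _ [([nat_lit 18, nat_lit 14, nat_lit 44, nat_lit 10, nat_lit 37, nat_lit 32, nat_lit 36, nat_lit 42, nat_lit 37, nat_lit 34, nat_lit 40, nat_lit 8, nat_lit 43], [nat_lit 0, nat_lit 6, nat_lit 0, nat_lit 6, nat_lit 4, nat_lit 0, nat_lit 7]), ([nat_lit 12, nat_lit 10, nat_lit 16, nat_lit 39, nat_lit 42, nat_lit 12], [nat_lit 3, nat_lit 9, nat_lit 2, nat_lit 7, nat_lit 9, nat_lit 6]), ([nat_lit 17, nat_lit 43, nat_lit 41, nat_lit 43, nat_lit 11, nat_lit 9, nat_lit 39], [nat_lit 11, nat_lit 4, nat_lit 9, nat_lit 11, nat_lit 8, nat_lit 5]), ([nat_lit 43, nat_lit 10, nat_lit 42], [nat_lit 10, nat_lit 13, nat_lit 7, nat_lit 12, nat_lit 6, nat_lit 6, nat_lit 11])] (nat_lit 3218) [nat_lit 0, nat_lit 0, nat_lit 3, nat_lit 0, nat_lit 0, nat_lit 3, nat_lit 0, nat_lit 3, nat_lit 2, nat_lit 0, nat_lit 0, nat_lit 3, nat_lit 0, nat_lit 3, nat_lit 0, nat_lit 3, nat_lit 0, nat_lit 2]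 (nat_lit 720) 23040 (by decide +kernel)

theorem vge16 (b : Base D τ s d0 64561751654400) : GE s [[nat_lit 41, nat_lit 18, nat_lit 14, nat_lit 44, nat_lit 14, nat_lit 30, nat_lit 16, nat_lit 12, nat_lit 34, nat_lit 0, nat_lit 39, nat_lit 16], [nat_lit 13, nat_lit 43, nat_lit 9, nat_lit 34, nat_lit 13, nat_lit 31, nat_lit 17, nat_lit 33], [nat_lit 42, nat_lit 39, nat_lit 43, nat_lit 34, nat_lit 13, nat_lit 34, nat_lit 11, nat_lit 37, nat_lit 32]] 53084160 :=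
  GE.step b.x (vge15 b) _ [([nat_lit 14, nat_lit 38], [nat_lit 3, nat_lit 4, nat_lit 4, nat_lit 4, nat_lit 3]), ([nat_lit 15, nat_lit 10, nat_lit 37, nat_lit 32, nat_lit 42, nat_lit 12, nat_lit 37, nat_lit 42, nat_lit 38, nat_lit 43, nat_lit 16], [nat_lit 2, nat_lit 2, nat_lit 2, nat_lit 2]), ([nat_lit 36, nat_lit 18, nat_lit 14, nat_lit 44, nat_lit 39, nat_lit 33, nat_lit 36, nat_lit 34, nat_lit 0, nat_lit 40], [nat_lit 9, nat_lit 5, nat_lit 5, nat_lit 6, nat_lit 4, nat_lit 8]), ([nat_lit 41, nat_lit 10, nat_lit 41, nat_lit 38, nat_lit 12], [nat_lit 10, nat_lit 10, nat_lit 6, nat_lit 11, nat_lit 6, nat_lit 11])] (nat_lit 694) [nat_lit 1, nat_lit 2, nat_lit 1, nat_lit 0, nat_lit 2, nat_lit 1, nat_lit 2, nat_lit 1, nat_lit 0, nat_lit 2, nat_lit 1, nat_lit 2, nat_lit 1, nat_lit 2, nat_lit 1, nat_lit 2, nat_lit 1, nat_lit 1] (nat_lit 2304) 53084160 (by decide +kernel)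

theorem vge17 (b : Base D τ s d0 64561751654400) : GE s [[nat_lit 18, nat_lit 14, nat_lit 44, nat_lit 38, nat_lit 31, nat_lit 37, nat_lit 40, nat_lit 38, nat_lit 42, nat_lit 16, nat_lit 12], [nat_lit 18, nat_lit 14, nat_lit 44, nat_lit 8, nat_lit 10, nat_lit 34, nat_lit 4, nat_lit 0, nat_lit 40, nat_lit 39], [nat_lit 18, nat_lit 14, nat_lit 44, nat_lit 43, nat_lit 10, nat_lit 16, nat_lit 12], [nat_lit 18, nat_lit 14, nat_lit 44, nat_lit 8, nat_lit 10, nat_lit 14, nat_lit 43], [nat_lit 18, nat_lit 14, nat_lit 44, nat_lit 43, nat_lit 10, nat_lit 8, nat_lit 42, nat_lit 12], [nat_lit 18, nat_lit 14, nat_lit 44, nat_lit 38, nat_lit 31, nat_lit 41, nat_lit 39, nat_lit 37, nat_lit 42, nat_lit 38], [nat_lit 4], [nat_lit 40, nat_lit 36, nat_lit 43, nat_lit 33, nat_lit 36, nat_lit 11], [nat_lit 30, nat_lit 43, nat_lit 30, nat_lit 4, nat_lit 43], [nat_lit 36, nat_lit 34, nat_lit 16, nat_lit 14, nat_lit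 42], [nat_lit 34, nat_lit 12, nat_lit 35, nat_lit 12], [nat_lit 39, nat_lit 14, nat_lit 42, nat_lit 16], [nat_lit 36, nat_lit 40, nat_lit 37, nat_lit 40], [nat_lit 40, nat_lit 39, nat_lit 43, nat_lit 12], [nat_lit 8, nat_lit 12], [nat_lit 4, nat_lit 0]] 53084160 :=
  GE.sub b.x (vge16 b) _ [([nat_lit 41, nat_lit 18, nat_lit 14, nat_lit 44, nat_lit 14, nat_lit 30, nat_lit 16, nat_lit 12, nat_lit 34, nat_lit 0, nat_lit 39, nat_lit 16], [nat_lit 11, nat_lit 2, nat_lit 21, nat_lit 23, nat_lit 14, nat_lit 16, nat_lit 6, nat_lit 3, nat_lit 8]), ([nat_lit 13, nat_lit 43, nat_lit 9, nat_lit 34, nat_lit 13, nat_lit 31, nat_lit 17, nat_lit 33], [nat_lit 3, nat_lit 13, nat_lit 29, nat_lit 2, nat_lit 26, nat_lit 24, nat_lit 30, nat_lit 14, nat_lit 3]), ([nat_lit 42, nat_lit 39, nat_lit 43, nat_lit 34, nat_lit 13, nat_lit 34, nat_lit 11, nat_lit 37, nat_lit 32], [nat_lit 13, nat_lit 8, nat_lit 19, nat_lit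 34, nat_lit 21, nat_lit 31, nat_lit 10, nat_lit 23, nat_lit 7])] (by decide +kernel)

theorem qC (b : Base D τ s d0 64561751654400) : Cen ⊤ s [[nat_lit 4, nat_lit 0]] = genW (sv s) (qU ++ qV) ∧ Nat.card (genW (sv s) (qU ++ qV)) = 53084160 :=
  CU.eq b.x le_rfl (vcu13 b) (vge17 b) (nat_lit 0) (by decide +kernel)

theorem qnz (b : Base D τ s d0 64561751654400) : genW (sv s) (qU ++ qV) ≤ Subgroup.normalizer (genW (sv s) qV : Set _) :=
  Cx.nz b.x _ _ [[[nat_lit 0, nat_lit 18], [nat_lit 2, nat_lit 4, nat_lit 10, nat_lit 18], [nat_lit 2, nat_lit 4, nat_lit 6, nat_lit 8, nat_lit 10, nat_lit 12, nat_lit 18], [nat_lit 2, nat_lit 8, nat_lit 10, nat_lit 12], [nat_lit 0, nat_lit 6, nat_lit 8, nat_lit 10], [nat_lit 2, nat_lit 6, nat_lit 8, nat_lit 12], [nat_lit 0, nat_lit 4, nat_lit 6, nat_lit 12], [nat_lit 2, nat_lit 10, nat_lit 12, nat_lit 16, nat_lit 18], [nat_lit 0, nat_lit 8, nat_lit 10, nat_lit 14],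 [nat_lit 18]], [[nat_lit 0, nat_lit 18], [nat_lit 2, nat_lit 4, nat_lit 6, nat_lit 8, nat_lit 10, nat_lit 14, nat_lit 16], [nat_lit 0, nat_lit 4, nat_lit 6, nat_lit 12, nat_lit 14, nat_lit 16, nat_lit 18], [nat_lit 0, nat_lit 6, nat_lit 8, nat_lit 12, nat_lit 18], [nat_lit 16, nat_lit 18], [nat_lit 0, nat_lit 6, nat_lit 10, nat_lit 12, nat_lit 14, nat_lit 16], [nat_lit 8, nat_lit 12, nat_lit 16], [nat_lit 0, nat_lit 8, nat_lit 12, nat_lit 14, nat_lit 18], [nat_lit 8, nat_lit 18], [nat_lit 18]], [[nat_lit 0, nat_lit 18], [nat_lit 0, nat_lit 2, nat_lit 6, nat_lit 8, nat_lit 10, nat_lit 12, nat_lit 14, nat_lit 16, nat_lit 18], [nat_lit 0, nat_lit 8, nat_lit 12, nat_lit 16, nat_lit 18], [nat_lit 0, nat_lit 2, nat_lit 4, nat_lit 6, nat_lit 12, nat_lit 16, nat_lit 18], [nat_lit 0, nat_lit 6, nat_lit 10, nat_lit 12, nat_lit 14, nat_lit 16, nat_lit 18], [nat_lit 16], [nat_lit 4, nat_lit 6, nat_lit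 12, nat_lit 14, nat_lit 16], [nat_lit 2, nat_lit 8, nat_lit 10, nat_lit 14, nat_lit 16], [nat_lit 10], [nat_lit 18]], [[nat_lit 0, nat_lit 18], [nat_lit 2, nat_lit 14, nat_lit 18], [nat_lit 2, nat_lit 4, nat_lit 10, nat_lit 12, nat_lit 14], [nat_lit 0, nat_lit 6, nat_lit 8, nat_lit 10, nat_lit 14, nat_lit 18], [nat_lit 8, nat_lit 16, nat_lit 18], [nat_lit 10, nat_lit 16], [nat_lit 12, nat_lit 14, nat_lit 16, nat_lit 18], [nat_lit 14], [nat_lit 16], [nat_lit 18]], [[nat_lit 0, nat_lit 18], [nat_lit 0, nat_lit 2, nat_lit 6, nat_lit 8, nat_lit 12, nat_lit 14], [nat_lit 6, nat_lit 8, nat_lit 14, nat_lit 18], [nat_lit 0, nat_lit 2, nat_lit 4, nat_lit 6, nat_lit 8, nat_lit 12, nat_lit 16], [nat_lit 0, nat_lit 6, nat_lit 10, nat_lit 12, nat_lit 14, nat_lit 16, nat_lit 18], [nat_lit 16], [nat_lit 4, nat_lit 6, nat_lit 8, nat_lit 12, nat_lit 14], [nat_lit 2, nat_lit 8, nat_lit 10, nat_lit 14], [nat_lit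 10], [nat_lit 18]], [[nat_lit 0, nat_lit 18], [nat_lit 0, nat_lit 2, nat_lit 4, nat_lit 14], [nat_lit 2, nat_lit 4, nat_lit 10, nat_lit 12, nat_lit 14], [nat_lit 2, nat_lit 8, nat_lit 10, nat_lit 12, nat_lit 16], [nat_lit 0, nat_lit 6, nat_lit 8, nat_lit 10], [nat_lit 2, nat_lit 6, nat_lit 8, nat_lit 12, nat_lit 16], [nat_lit 0, nat_lit 4, nat_lit 6, nat_lit 8, nat_lit 12, nat_lit 16], [nat_lit 2, nat_lit 10, nat_lit 12, nat_lit 18], [nat_lit 0, nat_lit 8, nat_lit 10, nat_lit 14], [nat_lit 18]], [[nat_lit 0], [nat_lit 2], [nat_lit 4], [nat_lit 6], [nat_lit 8], [nat_lit 10], [nat_lit 12], [nat_lit 14], [nat_lit 16], [nat_lit 18]], [[nat_lit 0], [nat_lit 2], [nat_lit 4], [nat_lit 6, nat_lit 18], [nat_lit 8, nat_lit 18], [nat_lit 10], [nat_lit 12], [nat_lit 14], [nat_lit 16], [nat_lit 18]], [[nat_lit 0], [nat_lit 2], [nat_lit 4], [nat_lit 6, nat_lit 18], [nat_lit 8, nat_lit 18], [nat_lit 10],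 [nat_lit 12], [nat_lit 14], [nat_lit 16, nat_lit 18], [nat_lit 18]], [[nat_lit 0], [nat_lit 2, nat_lit 18], [nat_lit 4, nat_lit 18], [nat_lit 6], [nat_lit 8], [nat_lit 10, nat_lit 18], [nat_lit 12], [nat_lit 14, nat_lit 18], [nat_lit 16], [nat_lit 18]], [[nat_lit 0], [nat_lit 2, nat_lit 18], [nat_lit 4, nat_lit 18], [nat_lit 6], [nat_lit 8], [nat_lit 10], [nat_lit 12], [nat_lit 14], [nat_lit 16], [nat_lit 18]], [[nat_lit 0], [nat_lit 2], [nat_lit 4], [nat_lit 6, nat_lit 18], [nat_lit 8], [nat_lit 10], [nat_lit 12, nat_lit 18], [nat_lit 14], [nat_lit 16], [nat_lit 18]], [[nat_lit 0], [nat_lit 2], [nat_lit 4], [nat_lit 6], [nat_lit 8], [nat_lit 10, nat_lit 18], [nat_lit 12], [nat_lit 14], [nat_lit 16], [nat_lit 18]], [[nat_lit 0], [nat_lit 2], [nat_lit 4], [nat_lit 6, nat_lit 18], [nat_lit 8], [nat_lit 10], [nat_lit 12], [nat_lit 14], [nat_lit 16], [nat_lit 18]], [[nat_lit 0], [nat_lit 2], [nat_lit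 4, nat_lit 18], [nat_lit 6], [nat_lit 8], [nat_lit 10], [nat_lit 12], [nat_lit 14], [nat_lit 16], [nat_lit 18]], [[nat_lit 0], [nat_lit 2], [nat_lit 4], [nat_lit 6], [nat_lit 8], [nat_lit 10], [nat_lit 12], [nat_lit 14], [nat_lit 16], [nat_lit 18]]] (by decide +kernel)

theorem vcu18 (b : Base D τ s d0 64561751654400) : CU ⊤ s [[nat_lit 49, nat_lit 14, nat_lit 48], [nat_lit 2], [nat_lit 8], [nat_lit 4], [nat_lit 0]] 12 :=
  CU.down b.x le_rfl (zcu10 b) (nat_lit 15) [[nat_lit 12], [nat_lit 14], [nat_lit 16], [nat_lit 38], [nat_lit 40]] [nat_lit 49, nat_lit 14, nat_lit 48] [nat_lit 0, nat_lit 2, nat_lit 3, nat_lit 1, nat_lit 4, nat_lit 3] (nat_lit 32) 12 (by decide +kernel)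

theorem vcu19 (b : Base D τ s d0 64561751654400) : CU ⊤ s [[nat_lit 10], [nat_lit 49, nat_lit 14, nat_lit 48], [nat_lit 2], [nat_lit 8], [nat_lit 4], [nat_lit 0]] 2 :=
  CU.down b.x le_rfl (vcu18 b) (nat_lit 31) [[nat_lit 8], [nat_lit 14], [nat_lit 40]] [nat_lit 10] [nat_lit 0, nat_lit 2, nat_lit 1] (nat_lit 6) 2 (by decide +kernel)

theorem vcu20 (b : Base D τ s d0 64561751654400) : CU ⊤ s [[nat_lit 35, nat_lit 27, nat_lit 6, nat_lit 26, nat_lit 34], [nat_lit 10], [nat_lit 49, nat_lit 14, nat_lit 48], [nat_lit 2], [nat_lit 8], [nat_lit 4], [nat_lit 0]] 1 :=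
  CU.down b.x le_rfl (vcu19 b) (nat_lit 63) [[nat_lit 14]] [nat_lit 35, nat_lit 27, nat_lit 6, nat_lit 26, nat_lit 34] [nat_lit 0] (nat_lit 2) 1 (by decide +kernel)

theorem vcu21 (b : Base D τ s d0 64561751654400) : CU ⊤ s [[nat_lit 0], [nat_lit 14], [nat_lit 16], [nat_lit 8], [nat_lit 10], [nat_lit 2, nat_lit 35, nat_lit 12, nat_lit 34, nat_lit 3], [nat_lit 4]] 1 :=
  CU.mono b.x le_rfl (vcu20 b) [[nat_lit 0], [nat_lit 14], [nat_lit 16], [nat_lit 8], [nat_lit 10], [nat_lit 2, nat_lit 35, nat_lit 12, nat_lit 34, nat_lit 3], [nat_lit 4]] [nat_lit 12, nat_lit 26, nat_lit 31, nat_lit 8, nat_lit 10, nat_lit 16, nat_lit 14, nat_lit 35, nat_lit 0, nat_lit 40, nat_lit 39, nat_lit 43] [[nat_lit 12], [nat_lit 4], [nat_lit 6], [nat_lit 10], [nat_lit 2], [nat_lit 8], [nat_lit 0]] (by decide +kernel)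

theorem vcu22 (b : Base D τ s d0 64561751654400) : CU ⊤ s [[nat_lit 2, nat_lit 35, nat_lit 12, nat_lit 34, nat_lit 3], [nat_lit 4], [nat_lit 40, nat_lit 36, nat_lit 43, nat_lit 33, nat_lit 36, nat_lit 11], [nat_lit 30, nat_lit 43, nat_lit 30, nat_lit 4, nat_lit 43], [nat_lit 36, nat_lit 34, nat_lit 16, nat_lit 14, nat_lit 42], [nat_lit 34, nat_lit 12, nat_lit 35, nat_lit 12], [nat_lit 39, nat_lit 14, nat_lit 42, nat_lit 16], [nat_lit 36, nat_lit 40, nat_lit 37, nat_lit 40], [nat_lit 40, nat_lit 39, nat_lit 43, nat_lit 12], [nat_lit 8, nat_lit 12], [nat_lit 4, nat_lit 0]] 1 :=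
  CU.clo b.x [[nat_lit 2, nat_lit 35, nat_lit 12, nat_lit 34, nat_lit 3], [nat_lit 4], [nat_lit 40, nat_lit 36, nat_lit 43, nat_lit 33, nat_lit 36, nat_lit 11], [nat_lit 30, nat_lit 43, nat_lit 30, nat_lit 4, nat_lit 43], [nat_lit 36, nat_lit 34, nat_lit 16, nat_lit 14, nat_lit 42], [nat_lit 34, nat_lit 12, nat_lit 35, nat_lit 12], [nat_lit 39, nat_lit 14, nat_lit 42, nat_lit 16], [nat_lit 36, nat_lit 40, nat_lit 37, nat_lit 40], [nat_lit 40, nat_lit 39, nat_lit 43, nat_lit 12], [nat_lit 8, nat_lit 12], [nat_lit 4, nat_lit 0]] [[nat_lit 0], [nat_lit 14], [nat_lit 16], [nat_lit 8], [nat_lit 10]] (CU.sub (vcu21 b) _ (by decide +kernel)) [nat_lit 0, nat_lit 1] [[nat_lit 0], [nat_lit 2], [nat_lit 4], [nat_lit 6], [nat_lit 8], [nat_lit 10], [nat_lit 12], [nat_lit 14], [nat_lit 16], [nat_lit 18], [nat_lit 20]] [nat_lit 1, nat_lit 10, nat_lit 5, nat_lit 7, nat_lit 3, nat_lit 4, nat_lit 0, nat_lit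 5, nat_lit 7, nat_lit 3] (by decide +kernel)

theorem vcu23 (b : Base D τ s d0 64561751654400) : CU ⊤ s [[nat_lit 4], [nat_lit 40, nat_lit 36, nat_lit 43, nat_lit 33, nat_lit 36, nat_lit 11], [nat_lit 30, nat_lit 43, nat_lit 30, nat_lit 4, nat_lit 43], [nat_lit 36, nat_lit 34, nat_lit 16, nat_lit 14, nat_lit 42], [nat_lit 34, nat_lit 12, nat_lit 35, nat_lit 12], [nat_lit 39, nat_lit 14, nat_lit 42, nat_lit 16], [nat_lit 36, nat_lit 40, nat_lit 37, nat_lit 40], [nat_lit 40, nat_lit 39, nat_lit 43, nat_lit 12], [nat_lit 8, nat_lit 12], [nat_lit 4, nat_lit 0]] 4 :=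
  CU.up b.x le_rfl b.ns (vcu22 b) (nat_lit 1) [] (SE.diff (SE.diff (SE.and (SE.and (SE.fx [nat_lit 16]) (SE.fx [nat_lit 10])) (SE.fx [nat_lit 14])) (SE.fx [nat_lit 0])) (SE.fx [nat_lit 2, nat_lit 8])) [] (nat_lit 4) 4 NCs.nil (by decide +kernel)

theorem vge24 (b : Base D τ s d0 64561751654400) : GE s [[nat_lit 4], [nat_lit 0]] 4 :=
  GE.step b.x (GE.base []) _ [] (nat_lit 694) [nat_lit 0, nat_lit 1] (nat_lit 4) 4 (by decide +kernel)

theorem qZ (b : Base D τ s d0 64561751654400) : Cen ⊤ s qV = genW (sv s) [[nat_lit 4], [nat_lit 0]] ∧ Nat.card (genW (sv s) [[nat_lit 4], [nat_lit 0]]) = 4 :=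
  CU.eq b.x le_rfl (vcu23 b) (vge24 b) (nat_lit 1) (by decide +kernel)

theorem qZV (b : Base D τ s d0 64561751654400) : genW (sv s) [[nat_lit 4], [nat_lit 0]] ≤ genW (sv s) qV :=
  Cx.leW b.x _ _ [[nat_lit 0], [nat_lit 0, nat_lit 18]] (by decide +kernel)

theorem qcom (b : Base D τ s d0 64561751654400) : ∀ x ∈ genW (sv s) qV, ∀ y ∈ genW (sv s) [[nat_lit 4], [nat_lit 0]], Commute x y :=
  com_of b.x (nat_lit 3) (by decide +kernel)

theorem qcls (b : Base D τ s d0 64561751654400) : ∀ x ∈ genW (sv s) qV, ∀ y ∈ genW (sv s) qV, x * y * x⁻¹ * y⁻¹ ∈ genW (sv s) [[nat_lit 4], [nat_lit 0]] ∧ x ^ 2 ∈ genW (sv s) [[nat_lit 4], [nat_lit 0]] :=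
  Cx.cls2 b.x _ _ [[], [], [], [], [], [], [], [], [], [], [], [nat_lit 0, nat_lit 2], [], [], [], [nat_lit 0, nat_lit 2], [nat_lit 0, nat_lit 2], [], [], [], [], [], [], [], [], [], [nat_lit 0, nat_lit 2], [nat_lit 0, nat_lit 2], [], [], [], [nat_lit 0, nat_lit 2], [], [nat_lit 0, nat_lit 2], [], [nat_lit 0, nat_lit 2], [nat_lit 0, nat_lit 2], [], [], [nat_lit 0, nat_lit 2], [], [nat_lit 0, nat_lit 2], [], [], [], [], [nat_lit 0, nat_lit 2], [nat_lit 0, nat_lit 2], [], [], [], [], [], [], [], [], [], [], [], [nat_lit 0, nat_lit 2], [], [], [nat_lit 0, nat_lit 2], [], [], [], [], [], [], [], [], [], [nat_lit 0, nat_lit 2], [], [], [], [], [], [], [], [], [nat_lit 0, nat_lit 2], [], [], [], [], [], [], [], [], [], [nat_lit 0, nat_lit 2], [], [], [], [], [], [], [], [], [], [], [], [], [], [], [], [], [], []] (fun x hx => Subgroup.centralizer_le_normalizer _ fun y hy => (qcom b x hx y hy).symm)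 (by decide +kernel)

theorem qn1 (b : Base D τ s d0 64561751654400) : E s [nat_lit 4] ∉ genW (sv s) qE := by
  have := (qVpc b).notMem (j := 0) (k := 1) Nat.prime_two (qVge b) (by decide +kernel) one_pos one_lt_two
  rwa [pow_one] at this

theorem qEcard (b : Base D τ s d0 64561751654400) : Nat.card (genW (sv s) qE) = 2 ^ 9 :=
  (qVpc b).card_eq two_pos (qVge b) (i := 1) (by decide +kernel)

theorem qEV (b : Base D τ s d0 64561751654400) : genW (sv s) qE ≤ genW (sv s) qV :=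
  genW_le_iff.2 fun _ hw => ev_mem_genW (List.mem_cons_of_mem _ hw)

theorem qES (b : Base D τ s d0 64561751654400) : Fischer.ES (genW (sv s) qE) (E s [nat_lit 4, nat_lit 0]) := by
  have e : E s [nat_lit 4, nat_lit 0] = E s [nat_lit 4] * E s [nat_lit 0] := by simp [E]
  have hz : E s [nat_lit 4, nat_lit 0] ∈ genW (sv s) qE := ev_mem_genW (by decide +kernel)
  have sq := b.x.eqs (Es := [([nat_lit 4, nat_lit 4], []), ([nat_lit 0, nat_lit 0], [])]) (by decide +kernel)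
  simp only [List.forall_mem_cons] at sq
  have s1 : E s [nat_lit 4] * E s [nat_lit 4] = 1 := by simpa [E] using sq.1
  have s2 : E s [nat_lit 0] * E s [nat_lit 0] = 1 := by simpa [E] using sq.2.1
  have c12 := qcom b _ (qZV b (ev_mem_genW (w := [nat_lit 4]) (by simp))) _ (ev_mem_genW (w := [nat_lit 0]) (by simp))
  refine b.x.es qE _ [nat_lit 16] [[nat_lit 0], [], [], [nat_lit 0], [nat_lit 0], [], [], [], [], [], [], [], [], [nat_lit 0], [nat_lit 0], [], [], [], [nat_lit 0], [], [nat_lit 0], [nat_lit 0], [nat_lit 0], [], [], [nat_lit 0], [], [nat_lit 0], [], [], [], [nat_lit 0], [nat_lit 0], [], [], [], [], [], [], [], [], [], [], [nat_lit 0], [], [], [nat_lit 0], [], [], [], [], [], [], [], [], [nat_lit 0], [], [], [], [], [], [], [], [nat_lit 0], [], [], [], [], [], [], [], [], [nat_lit 0], [], [], [], [], [], [], [], [], [], [], [], [], [], [], [], [], []] (nat_lit 1) (fun x hx => ?_) (by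 rw [qEcard b]; norm_num) (by decide +kernel)
  have h1 : x ∈ Cen ⊤ s qV := mem_Cen.2 ⟨trivial, List.forall_mem_cons.2
    ⟨qcom b x (qEV b hx.1) _ (ev_mem_genW (by simp)), (mem_Cen.1 hx.2).2⟩⟩
  rw [(qZ b).1, genW2] at h1
  rcases mem_klein s1 s2 c12 h1 with rfl | rfl | rfl | rfl
  · exact one_mem _
  · exact absurd hx.1 (qn1 b)
  · refine absurd ?_ (qn1 b)
    have := mul_mem hz hx.1
    rwa [e, mul_assoc, s2, mul_one] at this
  · exact e ▸ Subgroup.mem_zpowers _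

theorem qquot (b : Base D τ s d0 64561751654400) {C Q : Subgroup G} (hC : C = genW (sv s) (qU ++ qV)) (hQ : Q = genW (sv s) qV)
    [(Q.subgroupOf C).Normal] : Nonempty (C ⧸ Q.subgroupOf C ≃* O6m) :=
  b.x.quot univ_o6 qU qV [] hC hQ (by rw [hC, hQ, (qC b).2, qVcard b, card_o6]) (by decide +kernel)

end Cfsg.Agent.FiC.F22
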