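import Mathlib
import Cfsg.Agent.Fischer.Chk2

set_option autoImplicit false

namespace Cfsg.Agent.Fischer.PetExt

open Cfsg.Agent.Fischer Cfsg.Agent.Fischer.Chk

def pet_extF_0 : ℕ := 0x280073000000008007300000000000730000000180073000700070001900000002800730000000080073000000000007300000001800730007000700019000000070000300000007000040006800000078000000058007c0007800100020000000028007300000000800730007000700011000000070001b00070006800580007000700019000000068005c000680068002100000006800230006800600010000000010005c000000010006400060000000200005800580061000580018002000038001800100000000100003000000010002c00000003800240000000180024000000010002400000000000240001800180009000180018000100010001000010000000180014000000010000c00000000800040007000680059000680060001100060000000210005800180021000500048000100048003800090004000300001000380018001100030001000090002800080001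
def pet_extF (n : ℕ) : ℕ := Nat.land (Nat.shiftRight pet_extF_0 (Nat.mul 52 n)) 4503599627370495
def pet_extJ_0 : ℕ := 0x178a0000000000000000000000170a0000000000000000000000168a0000000000000000000000160a000000000000000000000015860000000000000000000000128a0000000000000000000000120a0000000000000000000000150a0000000000000000000000110a000000000000000000000010060000000000000000000000148a0000000000428000288000138100007800000e40002600000e0100000000000c00002600000601000000000000000000000008830000000000000000140000118b00000000000000000b0000118b00008500004280001ca0000c0100000000001200001780000e8100000000000000001f0000048700002400001200001780000f0100000000003880001800000d81000071000038800019a0000681000000000038800019a0000a8100000000000000001a0000040700000000002cc000174000098100000000001a000019400008810000000000000000100000038700001800000c000007000007010000000000000000120000030700000000000000000c0000010700000000000000000c0000072b00000000001a000000000005810000000000000000000000000f0000000000000000000000000f0000000000000000000000000f0000000000000000000000000f0000000000000000000000000f0000000000000000000000000f0000000000000000000000000f0000000000000000000000000f0000000000000000000000000f0000000000000000000000000f0000000000000000000000000f0000000000000000000000000f0000000000000000000000000f0000000000000000000000000f0000000000000000000000000f0000000000000000000000000f0000000000000000000000000f0000000000000000000000000f0000000000000000000000000f0000000000000000000000000f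
def pet_extJ (n : ℕ) : ℕ := Nat.land (Nat.shiftRight pet_extJ_0 (Nat.mul 104 n)) 20282409603651670423947251286015
def pet_extP_0 : ℕ := 0x20004000000000000000000000000000000000000000000000000000000000000000000000000000000000000000000000000000000000000000000000000
def pet_extP (n : ℕ) : ℕ := Nat.land (Nat.shiftRight pet_extP_0 (Nat.mul 32 n)) 4294967295

theorem pet_ext_check0 : steps false 15 20 pet_extF pet_extJ pet_extP 0 53 = true := by decide +kernel

theorem pet_ext_all : ∀ n < 53, step false 15 20 pet_extF pet_extJ pet_extP n = true := by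
  intro n hn
  exact steps_spec 53 pet_ext_check0 n (by omega) (by omega)

theorem pet_ext_aux {G : Type*} [Group G] {D : Set G} (hS : Setting D false) {a b z d y p02 p13 p24 p03 p14 p04 yd ya zya w : G}
    (ma : a ∈ D) (mb : b ∈ D) (mz : z ∈ D) (md : d ∈ D) (my : y ∈ D) (mp02 : p02 ∈ D) (mp13 : p13 ∈ D) (mp24 : p24 ∈ D) (mp03 : p03 ∈ D) (mp14 : p14 ∈ D) (mp04 : p04 ∈ D) (myd : yd ∈ D) (mya : ya ∈ D) (mzya : zya ∈ D) (mw : w ∈ D)
    (h0 : a * b * a = p02)
    (h1 : b * z * b = p13)
    (h2 : z * d * z = p24)
    (h3 : a * p13 * a = p03)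
    (h4 : b * p24 * b = p14)
    (h5 : a * p14 * a = p04)
    (h6 : y * d * y = yd)
    (h7 : y * a * y = ya)
    (h8 : z * ya * z = zya)
    (h9 : yd * zya * yd = w)
    (h10 : ¬ Commute a b)
    (h11 : ¬ Commute b z)
    (h12 : ¬ Commute z d)
    (h13 : Commute a z)
    (h14 : Commute a d)
    (h15 : Commute b d)
    (h16 : ¬ Commute y a)
    (h17 : ¬ Commute y z)
    (h18 : ¬ Commute y d)
    (h19 : ¬ Commute y p24)
    : (Commute d w) ∧ (w ≠ d) ∧ (w ≠ a) ∧ (w ≠ b) ∧ (w ≠ p02) := by
  let g : ℕ → G := fun n => [a, b, z, d, y, p02, p13, p24, p03, p14, p04, yd, ya, zya, w].getD n a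
  have hv := val_mem hS.conj (ngen := 15) (g := g) ma
    (fun n hn => by interval_cases n <;> assumption) pet_extP
  have e0 : val g 15 pet_extP 0 = a := val_gen _ _ (by norm_num)
  have e1 : val g 15 pet_extP 1 = b := val_gen _ _ (by norm_num)
  have e2 : val g 15 pet_extP 2 = z := val_gen _ _ (by norm_num)
  have e3 : val g 15 pet_extP 3 = d := val_gen _ _ (by norm_num)
  have e4 : val g 15 pet_extP 4 = y := val_gen _ _ (by norm_num)
  have e5 : val g 15 pet_extP 5 = p02 := val_gen _ _ (by norm_num)
  have e6 : val g 15 pet_extP 6 = p13 := val_gen _ _ (by norm_num)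
  have e7 : val g 15 pet_extP 7 = p24 := val_gen _ _ (by norm_num)
  have e8 : val g 15 pet_extP 8 = p03 := val_gen _ _ (by norm_num)
  have e9 : val g 15 pet_extP 9 = p14 := val_gen _ _ (by norm_num)
  have e10 : val g 15 pet_extP 10 = p04 := val_gen _ _ (by norm_num)
  have e11 : val g 15 pet_extP 11 = yd := val_gen _ _ (by norm_num)
  have e12 : val g 15 pet_extP 12 = ya := val_gen _ _ (by norm_num)
  have e13 : val g 15 pet_extP 13 = zya := val_gen _ _ (by norm_num)
  have e14 : val g 15 pet_extP 14 = w := val_gen _ _ (by norm_num)
  have hs := sound (J := pet_extJ) (F := pet_extF) (nhyp := 20) hS hv (fun n hn => by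
    interval_cases n
    · exact holds_T 0 1 5 (by decide +kernel) (by rw [e0, e1, e5]; exact h0)
    · exact holds_T 1 2 6 (by decide +kernel) (by rw [e1, e2, e6]; exact h1)
    · exact holds_T 2 3 7 (by decide +kernel) (by rw [e2, e3, e7]; exact h2)
    · exact holds_T 0 6 8 (by decide +kernel) (by rw [e0, e6, e8]; exact h3)
    · exact holds_T 1 7 9 (by decide +kernel) (by rw [e1, e7, e9]; exact h4)
    · exact holds_T 0 9 10 (by decide +kernel) (by rw [e0, e9, e10]; exact h5)
    · exact holds_T 4 3 11 (by decide +kernel) (by rw [e4, e3, e11]; exact h6)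
    · exact holds_T 4 0 12 (by decide +kernel) (by rw [e4, e0, e12]; exact h7)
    · exact holds_T 2 12 13 (by decide +kernel) (by rw [e2, e12, e13]; exact h8)
    · exact holds_T 11 13 14 (by decide +kernel) (by rw [e11, e13, e14]; exact h9)
    · exact holds_N 0 1 (by decide +kernel) (by rw [e0, e1]; exact h10)
    · exact holds_N 1 2 (by decide +kernel) (by rw [e1, e2]; exact h11)
    · exact holds_N 2 3 (by decide +kernel) (by rw [e2, e3]; exact h12)
    · exact holds_C hS hv 0 2 (by decide +kernel) (by rw [e0, e2]; exact h13)
    · exact holds_C hS hv 0 3 (by decide +kernel) (by rw [e0, e3]; exact h14)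
    · exact holds_C hS hv 1 3 (by decide +kernel) (by rw [e1, e3]; exact h15)
    · exact holds_N 4 0 (by decide +kernel) (by rw [e4, e0]; exact h16)
    · exact holds_N 4 2 (by decide +kernel) (by rw [e4, e2]; exact h17)
    · exact holds_N 4 3 (by decide +kernel) (by rw [e4, e3]; exact h18)
    · exact holds_N 4 7 (by decide +kernel) (by rw [e4, e7]; exact h19)
    ) pet_ext_all
  have g0 := of_holds_C hS hv 3 14 (hs 48 (by norm_num)) (by decide +kernel)
  rw [e3, e14] at g0
  have g1 := of_holds_NE 14 3 (hs 49 (by norm_num)) (by decide +kernel)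
  rw [e14, e3] at g1
  have g2 := of_holds_NE 14 0 (hs 50 (by norm_num)) (by decide +kernel)
  rw [e14, e0] at g2
  have g3 := of_holds_NE 14 1 (hs 51 (by norm_num)) (by decide +kernel)
  rw [e14, e1] at g3
  have g4 := of_holds_NE 14 5 (hs 52 (by norm_num)) (by decide +kernel)
  rw [e14, e5] at g4
  exact ⟨g0, g1, g2, g3, g4⟩

theorem pet_ext {G : Type*} [Group G] {D : Set G} (hS : Setting D false) {a b z d y : G}
    (ma : a ∈ D) (mb : b ∈ D) (mz : z ∈ D) (md : d ∈ D) (my : y ∈ D)
    (h0 : ¬ Commute a b)
    (h1 : ¬ Commute b z)
    (h2 : ¬ Commute z d)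
    (h3 : Commute a z)
    (h4 : Commute a d)
    (h5 : Commute b d)
    (h6 : ¬ Commute y a)
    (h7 : ¬ Commute y z)
    (h8 : ¬ Commute y d)
    (h9 : ¬ Commute y (z * d * z))
    : (Commute d ((y * d * y) * (z * (y * a * y) * z) * (y * d * y))) ∧ (((y * d * y) * (z * (y * a * y) * z) * (y * d * y)) ≠ d) ∧ (((y * d * y) * (z * (y * a * y) * z) * (y * d * y)) ≠ a) ∧ (((y * d * y) * (z * (y * a * y) * z) * (y * d * y)) ≠ b) ∧ (((y * d * y) * (z * (y * a * y) * z) * (y * d * y)) ≠ (a * b * a)) :=
  pet_ext_aux hS ma mb mz md my (hS.conj _ ma _ mb) (hS.conj _ mb _ mz) (hS.conj _ mz _ md) (hS.conj _ ma _ (hS.conj _ mb _ mz)) (hS.conj _ mb _ (hS.conj _ mz _ md)) (hS.conj _ ma _ (hS.conj _ mb _ (hS.conj _ mz _ md))) (hS.conj _ my _ md) (hS.conj _ my _ ma) (hS.conj _ mz _ (hS.conj _ my _ ma)) (hS.conj _ (hS.conj _ my _ md) _ (hS.conj _ mz _ (hS.conj _ my _ ma))) rfl rfl rfl rfl rfl rfl rfl rfl rfl rfl h0 h1 h2 h3 h4 h5 h6 h7 h8 h9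

end Cfsg.Agent.Fischer.PetExt
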