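import Mathlib
import Cfsg.Agent.Fischer.Chk2

set_option autoImplicit false

namespace Cfsg.Agent.Fischer.S5Lem

open Cfsg.Agent.Fischer Cfsg.Agent.Fischer.Chk

def point_only_0F_0 : ℕ := 0x78001b000000078000300078007800190007800780001000000078001b000000070001b00000007800030000000700003000780078001900070007800190007000700019000780078000100070007800010007000700001000000018007300018001800710008000800069000000080006b000680088002800058008800110008800500080000880030001800080000800180007000700001000000070007a00070007000010000000700003000680068002100000006800230006000600039000000060003b0006000580000000580058004100000005800430005800500008000000000005c000500050002900000002000540000000080054000000050002b0005000180010000380040000100040000800280003800100020000300010000800028001000000002000080000000000028000c000000048001c000000040001c000000038001c000000030001c000000028001c000000020001c000000010001c000000008001c000000018000300018001800010000000100024000000010000c00000001000040000000080004000780070000100070006800090006800600011000600058000100058005000090005000180011000480028002100040000800290003800100021000300010000900028001000010002000080001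
def point_only_0F (n : ℕ) : ℕ := Nat.land (Nat.shiftRight point_only_0F_0 (Nat.mul 52 n)) 4503599627370495
def point_only_0J_0 : ℕ := 0x228a0000000000000000000000218a0000000000000000000000208600000000000000000000001f060000000000000000440000188500000000000000000000001d8a000000000000000042000018850000000000000000000000178a0000000000000000400000188500000000000000003f0000188500000000000000000000001d2600000000000000003d0000188500000000000000003c0000188500000000000000000000001906000000000066c0000a00001c010000cd800066c0000a00001c810000d680006b4000374000128100000000006b4000374000110100002400006c40001c4000150100009d00006800001d600003000000d000004280003300000e8100000000000000000000000b030000000000000000000000090300000000000000000b000018850000000000000000300000058400002800001400001b6000170100000000001400001b6000168100002400001200001e6000160100000000001200001e6000158100002000001000002000001481000000000010000020000014010000000000000000260000040700001c00000e00001f4000128100000000000e00001f4000110100000000000000002300000387000000000036c000070000120100001800000c00001c400008010000000000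3cc0000600000b8100000000003ac0000600000b0100000000000c00001c40000881000000000000000013000003070000790000080000000000009000000000000000001a0000020700000000000000000f0000018700000000000000000e0000010700000000000000000d0000008700000000000000000c00000007000000000002000000200007810000000000000000000000000f0000000000000000000000000f0000000000000000000000000f0000000000000000000000000f0000000000000000000000000f0000000000000000000000000f0000000000000000000000000f0000000000000000000000000f0000000000000000000000000f0000000000000000000000000f0000000000000000000000000f0000000000000000000000000f0000000000000000000000000f0000000000000000000000000f0000000000000000000000000f0000000000000000000000000f0000000000000000000000000f0000000000000000000000000f0000000000000000000000000f0000000000000000000000000f0000000000000000000000000f0000000000000000000000000f0000000000000000000000000f0000000000000000000000000f0000000000000000000000000f0000000000000000000000000f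
def point_only_0J (n : ℕ) : ℕ := Nat.land (Nat.shiftRight point_only_0J_0 (Nat.mul 104 n)) 20282409603651670423947251286015
def point_only_0P_0 : ℕ := 0x600030001000300000000000000000000000000000000000000000000000000000000000000000000000000000000000000000000000000000000000000000000000000000000
def point_only_0P (n : ℕ) : ℕ := Nat.land (Nat.shiftRight point_only_0P_0 (Nat.mul 32 n)) 4294967295

theorem point_only_0_check0 : steps false 16 26 point_only_0F point_only_0J point_only_0P 0 74 = true := by decide +kernel

theorem point_only_0_all : ∀ n < 74, step false 16 26 point_only_0F point_only_0J point_only_0P n = true := by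
  intro n hn
  exact steps_spec 74 point_only_0_check0 n (by omega) (by omega)

theorem point_only_0_aux {G : Type*} [Group G] {D : Set G} (hS : Setting D false) {a b c z ab ac bc abc acb p z1 z2 z3 z4 z5 w : G}
    (ma : a ∈ D) (mb : b ∈ D) (mc : c ∈ D) (mz : z ∈ D) (mab : ab ∈ D) (mac : ac ∈ D) (mbc : bc ∈ D) (mabc : abc ∈ D) (macb : acb ∈ D) (mp : p ∈ D) (mz1 : z1 ∈ D) (mz2 : z2 ∈ D) (mz3 : z3 ∈ D) (mz4 : z4 ∈ D) (mz5 : z5 ∈ D) (mw : w ∈ D)
    (h0 : a * b * a = ab)
    (h1 : a * c * a = ac)
    (h2 : b * c * b = bc)
    (h3 : ab * c * ab = abc)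
    (h4 : ac * b * ac = acb)
    (h5 : ab * ac * ab = p)
    (h6 : c * z * c = z1)
    (h7 : b * z1 * b = z2)
    (h8 : a * z2 * a = z3)
    (h9 : c * z3 * c = z4)
    (h10 : b * z4 * b = z5)
    (h11 : a * z5 * a = w)
    (h12 : ¬ Commute a b)
    (h13 : ¬ Commute a c)
    (h14 : ¬ Commute b c)
    (h15 : ¬ Commute ab c)
    (h16 : Commute a z)
    (h17 : a ≠ z)
    (h18 : ¬ Commute z b)
    (h19 : ¬ Commute z c)
    (h20 : ¬ Commute z ab)
    (h21 : ¬ Commute z ac)
    (h22 : ¬ Commute z bc)
    (h23 : ¬ Commute z abc)
    (h24 : ¬ Commute z acb)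
    (h25 : ¬ Commute z p)
    : (Commute a w) ∧ (Commute z w) ∧ (a ≠ w) ∧ (z ≠ w) := by
  let g : ℕ → G := fun n => [a, b, c, z, ab, ac, bc, abc, acb, p, z1, z2, z3, z4, z5, w].getD n a
  have hv := val_mem hS.conj (ngen := 16) (g := g) ma
    (fun n hn => by interval_cases n <;> assumption) point_only_0P
  have e0 : val g 16 point_only_0P 0 = a := val_gen _ _ (by norm_num)
  have e1 : val g 16 point_only_0P 1 = b := val_gen _ _ (by norm_num)
  have e2 : val g 16 point_only_0P 2 = c := val_gen _ _ (by norm_num)
  have e3 : val g 16 point_only_0P 3 = z := val_gen _ _ (by norm_num)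
  have e4 : val g 16 point_only_0P 4 = ab := val_gen _ _ (by norm_num)
  have e5 : val g 16 point_only_0P 5 = ac := val_gen _ _ (by norm_num)
  have e6 : val g 16 point_only_0P 6 = bc := val_gen _ _ (by norm_num)
  have e7 : val g 16 point_only_0P 7 = abc := val_gen _ _ (by norm_num)
  have e8 : val g 16 point_only_0P 8 = acb := val_gen _ _ (by norm_num)
  have e9 : val g 16 point_only_0P 9 = p := val_gen _ _ (by norm_num)
  have e10 : val g 16 point_only_0P 10 = z1 := val_gen _ _ (by norm_num)
  have e11 : val g 16 point_only_0P 11 = z2 := val_gen _ _ (by norm_num)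
  have e12 : val g 16 point_only_0P 12 = z3 := val_gen _ _ (by norm_num)
  have e13 : val g 16 point_only_0P 13 = z4 := val_gen _ _ (by norm_num)
  have e14 : val g 16 point_only_0P 14 = z5 := val_gen _ _ (by norm_num)
  have e15 : val g 16 point_only_0P 15 = w := val_gen _ _ (by norm_num)
  have hs := sound (J := point_only_0J) (F := point_only_0F) (nhyp := 26) hS hv (fun n hn => by
    interval_cases n
    · exact holds_T 0 1 4 (by decide +kernel) (by rw [e0, e1, e4]; exact h0)
    · exact holds_T 0 2 5 (by decide +kernel) (by rw [e0, e2, e5]; exact h1)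
    · exact holds_T 1 2 6 (by decide +kernel) (by rw [e1, e2, e6]; exact h2)
    · exact holds_T 4 2 7 (by decide +kernel) (by rw [e4, e2, e7]; exact h3)
    · exact holds_T 5 1 8 (by decide +kernel) (by rw [e5, e1, e8]; exact h4)
    · exact holds_T 4 5 9 (by decide +kernel) (by rw [e4, e5, e9]; exact h5)
    · exact holds_T 2 3 10 (by decide +kernel) (by rw [e2, e3, e10]; exact h6)
    · exact holds_T 1 10 11 (by decide +kernel) (by rw [e1, e10, e11]; exact h7)
    · exact holds_T 0 11 12 (by decide +kernel) (by rw [e0, e11, e12]; exact h8)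
    · exact holds_T 2 12 13 (by decide +kernel) (by rw [e2, e12, e13]; exact h9)
    · exact holds_T 1 13 14 (by decide +kernel) (by rw [e1, e13, e14]; exact h10)
    · exact holds_T 0 14 15 (by decide +kernel) (by rw [e0, e14, e15]; exact h11)
    · exact holds_N 0 1 (by decide +kernel) (by rw [e0, e1]; exact h12)
    · exact holds_N 0 2 (by decide +kernel) (by rw [e0, e2]; exact h13)
    · exact holds_N 1 2 (by decide +kernel) (by rw [e1, e2]; exact h14)
    · exact holds_N 4 2 (by decide +kernel) (by rw [e4, e2]; exact h15)
    · exact holds_C hS hv 0 3 (by decide +kernel) (by rw [e0, e3]; exact h16)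
    · exact holds_NE 0 3 (by decide +kernel) (by rw [e0, e3]; exact h17)
    · exact holds_N 3 1 (by decide +kernel) (by rw [e3, e1]; exact h18)
    · exact holds_N 3 2 (by decide +kernel) (by rw [e3, e2]; exact h19)
    · exact holds_N 3 4 (by decide +kernel) (by rw [e3, e4]; exact h20)
    · exact holds_N 3 5 (by decide +kernel) (by rw [e3, e5]; exact h21)
    · exact holds_N 3 6 (by decide +kernel) (by rw [e3, e6]; exact h22)
    · exact holds_N 3 7 (by decide +kernel) (by rw [e3, e7]; exact h23)
    · exact holds_N 3 8 (by decide +kernel) (by rw [e3, e8]; exact h24)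
    · exact holds_N 3 9 (by decide +kernel) (by rw [e3, e9]; exact h25)
    ) point_only_0_all
  have g0 := of_holds_C hS hv 0 15 (hs 70 (by norm_num)) (by decide +kernel)
  rw [e0, e15] at g0
  have g1 := of_holds_C hS hv 3 15 (hs 71 (by norm_num)) (by decide +kernel)
  rw [e3, e15] at g1
  have g2 := of_holds_NE 0 15 (hs 72 (by norm_num)) (by decide +kernel)
  rw [e0, e15] at g2
  have g3 := of_holds_NE 3 15 (hs 73 (by norm_num)) (by decide +kernel)
  rw [e3, e15] at g3
  exact ⟨g0, g1, g2, g3⟩

theorem point_only_0 {G : Type*} [Group G] {D : Set G} (hS : Setting D false) {a b c z : G}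
    (ma : a ∈ D) (mb : b ∈ D) (mc : c ∈ D) (mz : z ∈ D)
    (h0 : ¬ Commute a b)
    (h1 : ¬ Commute a c)
    (h2 : ¬ Commute b c)
    (h3 : ¬ Commute (a * b * a) c)
    (h4 : Commute a z)
    (h5 : a ≠ z)
    (h6 : ¬ Commute z b)
    (h7 : ¬ Commute z c)
    (h8 : ¬ Commute z (a * b * a))
    (h9 : ¬ Commute z (a * c * a))
    (h10 : ¬ Commute z (b * c * b))
    (h11 : ¬ Commute z ((a * b * a) * c * (a * b * a)))
    (h12 : ¬ Commute z ((a * c * a) * b * (a * c * a)))
    (h13 : ¬ Commute z ((a * b * a) * (a * c * a) * (a * b * a)))
    : (Commute a (a * (b * (c * (a * (b * (c * z * c) * b) * a) * c) * b) * a)) ∧ (Commute z (a * (b * (c * (a * (b * (c * z * c) * b) * a) * c) * b) * a)) ∧ (a ≠ (a * (b * (c * (a * (b * (c * z * c) * b) * a) * c) * b) * a)) ∧ (z ≠ (a * (b * (c * (a * (b * (c * z * c) * b) * a) * c) * b) * a)) :=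
  point_only_0_aux hS ma mb mc mz (hS.conj _ ma _ mb) (hS.conj _ ma _ mc) (hS.conj _ mb _ mc) (hS.conj _ (hS.conj _ ma _ mb) _ mc) (hS.conj _ (hS.conj _ ma _ mc) _ mb) (hS.conj _ (hS.conj _ ma _ mb) _ (hS.conj _ ma _ mc)) (hS.conj _ mc _ mz) (hS.conj _ mb _ (hS.conj _ mc _ mz)) (hS.conj _ ma _ (hS.conj _ mb _ (hS.conj _ mc _ mz))) (hS.conj _ mc _ (hS.conj _ ma _ (hS.conj _ mb _ (hS.conj _ mc _ mz)))) (hS.conj _ mb _ (hS.conj _ mc _ (hS.conj _ ma _ (hS.conj _ mb _ (hS.conj _ mc _ mz))))) (hS.conj _ ma _ (hS.conj _ mb _ (hS.conj _ mc _ (hS.conj _ ma _ (hS.conj _ mb _ (hS.conj _ mc _ mz)))))) rfl rfl rfl rfl rfl rfl rfl rfl rfl rfl rfl rfl h0 h1 h2 h3 h4 h5 h6 h7 h8 h9 h10 h11 h12 h13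

theorem point_only {G : Type*} [Group G] {D : Set G} (hS : Setting D false) {a b c z : G}
    (ma : a ∈ D) (mb : b ∈ D) (mc : c ∈ D) (mz : z ∈ D)
    (h0 : ¬ Commute a b)
    (h1 : ¬ Commute a c)
    (h2 : ¬ Commute b c)
    (h3 : ¬ Commute (a * b * a) c)
    (h4 : Commute a z)
    (h5 : a ≠ z)
    (h6 : ¬ Commute z b)
    (h7 : ¬ Commute z c)
    (h8 : ¬ Commute z (a * b * a))
    (h9 : ¬ Commute z (a * c * a))
    (h10 : ¬ Commute z (b * c * b))
    (h11 : ¬ Commute z ((a * b * a) * c * (a * b * a)))
    (h12 : ¬ Commute z ((a * c * a) * b * (a * c * a)))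
    (h13 : ¬ Commute z ((a * b * a) * (a * c * a) * (a * b * a)))
    : (Commute a (a * (b * (c * (a * (b * (c * z * c) * b) * a) * c) * b) * a)) ∧ (Commute z (a * (b * (c * (a * (b * (c * z * c) * b) * a) * c) * b) * a)) ∧ (a ≠ (a * (b * (c * (a * (b * (c * z * c) * b) * a) * c) * b) * a)) ∧ (z ≠ (a * (b * (c * (a * (b * (c * z * c) * b) * a) * c) * b) * a)) := by
  exact point_only_0 hS ma mb mc mz h0 h1 h2 h3 h4 h5 h6 h7 h8 h9 h10 h11 h12 h13 

def parallel_0F_0 : ℕ := 0x78001b000000078000300078007800190007800780001000000078001b000000070001b00000007800030000000700003000780078001900070007800190007000700019000780078000100070007800010007000700001000000018007300018001800710008000800069000000080006b000680088002800058008800110008800500080000880030001800080000800180007000700001000000070007a00070007000010000000700003000680068002100000006800230006000600039000000060003b0006000580000000580058004100000005800430005800500008000000000005c000500050002900000002000540000000080054000000050002b0005000180010000380040000100040000800280003800100020000300010000800028001000000002000080000000000028000c000000038001c000000030001c000000010001c000000008001c000000018000300018001800010000000100024000000010000c00000001000040000000080004000780070000100070006800090006800600011000600058000100058005000090005000180011000480028002100040000800290003800100021000300010000900028001000010002000080001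
def parallel_0F (n : ℕ) : ℕ := Nat.land (Nat.shiftRight parallel_0F_0 (Nat.mul 52 n)) 4503599627370495
def parallel_0J_0 : ℕ := 0x208a00000000000000000000001f8a00000000000000000000001e8600000000000000000000001d060000000000000000400000168500000000000000000000001b8a00000000000000003e000016850000000000000000000000158a00000000000000003c0000168500000000000000003b0000168500000000000000000000001b2600000000000000003900001685000000000000000038000016850000000000000000000000170600000000005ec0000a00001a010000bd80005ec0000a00001a810000c68000634000334000108100000000006340003340000f010000240000644000184000130100008d000060000019600003000000c000003a80002f00000c8100000000000000000000000a030000000000000000000000090300000000000000000b0000168500000000000000002c00000584000028000014000017600015010000000000140000176000148100002400001200001a6000140100000000001200001a6000138100002000001000001c0000128100000000001000001c000012010000000000000000220000040700001c00000e00001b4000108100000000000e00001b40000f0100000000000000001f0000038700000000002ec000070000100100001800000c00001840000801000000000034c000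0600000a81000000000032c0000600000a0100000000000c0000184000088100000000000000001300000307000069000008000000000000900000000000000000160000020700000000000000000f0000018700000000000000000e0000010700000000000000000d0000008700000000000000000c00000007000000000002000000200007810000000000000000000000000f0000000000000000000000000f0000000000000000000000000f0000000000000000000000000f0000000000000000000000000f0000000000000000000000000f0000000000000000000000000f0000000000000000000000000f0000000000000000000000000f0000000000000000000000000f0000000000000000000000000f0000000000000000000000000f0000000000000000000000000f0000000000000000000000000f0000000000000000000000000f0000000000000000000000000f0000000000000000000000000f0000000000000000000000000f0000000000000000000000000f0000000000000000000000000f0000000000000000000000000f0000000000000000000000000f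
def parallel_0J (n : ℕ) : ℕ := Nat.land (Nat.shiftRight parallel_0J_0 (Nat.mul 104 n)) 20282409603651670423947251286015
def parallel_0P_0 : ℕ := 0x600030001000300000000000000000000000000000000000000000000000000000000000000000000000000000000000000000000000000000000000000000000000000000000
def parallel_0P (n : ℕ) : ℕ := Nat.land (Nat.shiftRight parallel_0P_0 (Nat.mul 32 n)) 4294967295

theorem parallel_0_check0 : steps false 16 22 parallel_0F parallel_0J parallel_0P 0 70 = true := by decide +kernel

theorem parallel_0_all : ∀ n < 70, step false 16 22 parallel_0F parallel_0J parallel_0P n = true := by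
  intro n hn
  exact steps_spec 70 parallel_0_check0 n (by omega) (by omega)

theorem parallel_0_aux {G : Type*} [Group G] {D : Set G} (hS : Setting D false) {a b c z ab ac bc abc acb p z1 z2 z3 z4 z5 w : G}
    (ma : a ∈ D) (mb : b ∈ D) (mc : c ∈ D) (mz : z ∈ D) (mab : ab ∈ D) (mac : ac ∈ D) (mbc : bc ∈ D) (mabc : abc ∈ D) (macb : acb ∈ D) (mp : p ∈ D) (mz1 : z1 ∈ D) (mz2 : z2 ∈ D) (mz3 : z3 ∈ D) (mz4 : z4 ∈ D) (mz5 : z5 ∈ D) (mw : w ∈ D)
    (h0 : a * b * a = ab)
    (h1 : a * c * a = ac)
    (h2 : b * c * b = bc)
    (h3 : ab * c * ab = abc)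
    (h4 : ac * b * ac = acb)
    (h5 : ab * ac * ab = p)
    (h6 : c * z * c = z1)
    (h7 : b * z1 * b = z2)
    (h8 : a * z2 * a = z3)
    (h9 : c * z3 * c = z4)
    (h10 : b * z4 * b = z5)
    (h11 : a * z5 * a = w)
    (h12 : ¬ Commute a b)
    (h13 : ¬ Commute a c)
    (h14 : ¬ Commute b c)
    (h15 : ¬ Commute ab c)
    (h16 : Commute a z)
    (h17 : a ≠ z)
    (h18 : ¬ Commute z b)
    (h19 : ¬ Commute z c)
    (h20 : ¬ Commute z bc)
    (h21 : ¬ Commute z abc)
    : (Commute a w) ∧ (Commute z w) ∧ (a ≠ w) ∧ (z ≠ w) := by
  let g : ℕ → G := fun n => [a, b, c, z, ab, ac, bc, abc, acb, p, z1, z2, z3, z4, z5, w].getD n a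
  have hv := val_mem hS.conj (ngen := 16) (g := g) ma
    (fun n hn => by interval_cases n <;> assumption) parallel_0P
  have e0 : val g 16 parallel_0P 0 = a := val_gen _ _ (by norm_num)
  have e1 : val g 16 parallel_0P 1 = b := val_gen _ _ (by norm_num)
  have e2 : val g 16 parallel_0P 2 = c := val_gen _ _ (by norm_num)
  have e3 : val g 16 parallel_0P 3 = z := val_gen _ _ (by norm_num)
  have e4 : val g 16 parallel_0P 4 = ab := val_gen _ _ (by norm_num)
  have e5 : val g 16 parallel_0P 5 = ac := val_gen _ _ (by norm_num)
  have e6 : val g 16 parallel_0P 6 = bc := val_gen _ _ (by norm_num)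
  have e7 : val g 16 parallel_0P 7 = abc := val_gen _ _ (by norm_num)
  have e8 : val g 16 parallel_0P 8 = acb := val_gen _ _ (by norm_num)
  have e9 : val g 16 parallel_0P 9 = p := val_gen _ _ (by norm_num)
  have e10 : val g 16 parallel_0P 10 = z1 := val_gen _ _ (by norm_num)
  have e11 : val g 16 parallel_0P 11 = z2 := val_gen _ _ (by norm_num)
  have e12 : val g 16 parallel_0P 12 = z3 := val_gen _ _ (by norm_num)
  have e13 : val g 16 parallel_0P 13 = z4 := val_gen _ _ (by norm_num)
  have e14 : val g 16 parallel_0P 14 = z5 := val_gen _ _ (by norm_num)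
  have e15 : val g 16 parallel_0P 15 = w := val_gen _ _ (by norm_num)
  have hs := sound (J := parallel_0J) (F := parallel_0F) (nhyp := 22) hS hv (fun n hn => by
    interval_cases n
    · exact holds_T 0 1 4 (by decide +kernel) (by rw [e0, e1, e4]; exact h0)
    · exact holds_T 0 2 5 (by decide +kernel) (by rw [e0, e2, e5]; exact h1)
    · exact holds_T 1 2 6 (by decide +kernel) (by rw [e1, e2, e6]; exact h2)
    · exact holds_T 4 2 7 (by decide +kernel) (by rw [e4, e2, e7]; exact h3)
    · exact holds_T 5 1 8 (by decide +kernel) (by rw [e5, e1, e8]; exact h4)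
    · exact holds_T 4 5 9 (by decide +kernel) (by rw [e4, e5, e9]; exact h5)
    · exact holds_T 2 3 10 (by decide +kernel) (by rw [e2, e3, e10]; exact h6)
    · exact holds_T 1 10 11 (by decide +kernel) (by rw [e1, e10, e11]; exact h7)
    · exact holds_T 0 11 12 (by decide +kernel) (by rw [e0, e11, e12]; exact h8)
    · exact holds_T 2 12 13 (by decide +kernel) (by rw [e2, e12, e13]; exact h9)
    · exact holds_T 1 13 14 (by decide +kernel) (by rw [e1, e13, e14]; exact h10)
    · exact holds_T 0 14 15 (by decide +kernel) (by rw [e0, e14, e15]; exact h11)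
    · exact holds_N 0 1 (by decide +kernel) (by rw [e0, e1]; exact h12)
    · exact holds_N 0 2 (by decide +kernel) (by rw [e0, e2]; exact h13)
    · exact holds_N 1 2 (by decide +kernel) (by rw [e1, e2]; exact h14)
    · exact holds_N 4 2 (by decide +kernel) (by rw [e4, e2]; exact h15)
    · exact holds_C hS hv 0 3 (by decide +kernel) (by rw [e0, e3]; exact h16)
    · exact holds_NE 0 3 (by decide +kernel) (by rw [e0, e3]; exact h17)
    · exact holds_N 3 1 (by decide +kernel) (by rw [e3, e1]; exact h18)
    · exact holds_N 3 2 (by decide +kernel) (by rw [e3, e2]; exact h19)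
    · exact holds_N 3 6 (by decide +kernel) (by rw [e3, e6]; exact h20)
    · exact holds_N 3 7 (by decide +kernel) (by rw [e3, e7]; exact h21)
    ) parallel_0_all
  have g0 := of_holds_C hS hv 0 15 (hs 66 (by norm_num)) (by decide +kernel)
  rw [e0, e15] at g0
  have g1 := of_holds_C hS hv 3 15 (hs 67 (by norm_num)) (by decide +kernel)
  rw [e3, e15] at g1
  have g2 := of_holds_NE 0 15 (hs 68 (by norm_num)) (by decide +kernel)
  rw [e0, e15] at g2
  have g3 := of_holds_NE 3 15 (hs 69 (by norm_num)) (by decide +kernel)
  rw [e3, e15] at g3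
  exact ⟨g0, g1, g2, g3⟩

theorem parallel_0 {G : Type*} [Group G] {D : Set G} (hS : Setting D false) {a b c z : G}
    (ma : a ∈ D) (mb : b ∈ D) (mc : c ∈ D) (mz : z ∈ D)
    (h0 : ¬ Commute a b)
    (h1 : ¬ Commute a c)
    (h2 : ¬ Commute b c)
    (h3 : ¬ Commute (a * b * a) c)
    (h4 : Commute a z)
    (h5 : a ≠ z)
    (h6 : ¬ Commute z b)
    (h7 : ¬ Commute z c)
    (h8 : ¬ Commute z (b * c * b))
    (h9 : ¬ Commute z ((a * b * a) * c * (a * b * a)))
    : (Commute a (a * (b * (c * (a * (b * (c * z * c) * b) * a) * c) * b) * a)) ∧ (Commute z (a * (b * (c * (a * (b * (c * z * c) * b) * a) * c) * b) * a)) ∧ (a ≠ (a * (b * (c * (a * (b * (c * z * c) * b) * a) * c) * b) * a)) ∧ (z ≠ (a * (b * (c * (a * (b * (c * z * c) * b) * a) * c) * b) * a)) :=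
  parallel_0_aux hS ma mb mc mz (hS.conj _ ma _ mb) (hS.conj _ ma _ mc) (hS.conj _ mb _ mc) (hS.conj _ (hS.conj _ ma _ mb) _ mc) (hS.conj _ (hS.conj _ ma _ mc) _ mb) (hS.conj _ (hS.conj _ ma _ mb) _ (hS.conj _ ma _ mc)) (hS.conj _ mc _ mz) (hS.conj _ mb _ (hS.conj _ mc _ mz)) (hS.conj _ ma _ (hS.conj _ mb _ (hS.conj _ mc _ mz))) (hS.conj _ mc _ (hS.conj _ ma _ (hS.conj _ mb _ (hS.conj _ mc _ mz)))) (hS.conj _ mb _ (hS.conj _ mc _ (hS.conj _ ma _ (hS.conj _ mb _ (hS.conj _ mc _ mz))))) (hS.conj _ ma _ (hS.conj _ mb _ (hS.conj _ mc _ (hS.conj _ ma _ (hS.conj _ mb _ (hS.conj _ mc _ mz)))))) rfl rfl rfl rfl rfl rfl rfl rfl rfl rfl rfl rfl h0 h1 h2 h3 h4 h5 h6 h7 h8 h9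

theorem parallel {G : Type*} [Group G] {D : Set G} (hS : Setting D false) {a b c z : G}
    (ma : a ∈ D) (mb : b ∈ D) (mc : c ∈ D) (mz : z ∈ D)
    (h0 : ¬ Commute a b)
    (h1 : ¬ Commute a c)
    (h2 : ¬ Commute b c)
    (h3 : ¬ Commute (a * b * a) c)
    (h4 : Commute a z)
    (h5 : a ≠ z)
    (h6 : ¬ Commute z b)
    (h7 : ¬ Commute z c)
    (h8 : ¬ Commute z (b * c * b))
    (h9 : ¬ Commute z ((a * b * a) * c * (a * b * a)))
    : (Commute a (a * (b * (c * (a * (b * (c * z * c) * b) * a) * c) * b) * a)) ∧ (Commute z (a * (b * (c * (a * (b * (c * z * c) * b) * a) * c) * b) * a)) ∧ (a ≠ (a * (b * (c * (a * (b * (c * z * c) * b) * a) * c) * b) * a)) ∧ (z ≠ (a * (b * (c * (a * (b * (c * z * c) * b) * a) * c) * b) * a)) := by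
  exact parallel_0 hS ma mb mc mz h0 h1 h2 h3 h4 h5 h6 h7 h8 h9 

def d5_0F_0 : ℕ := 0x50000c0000000180053000000000005300050005000190005000500001000000050000c0000000180053000000000005300050005000190005000500001000180018005100028002800510005000500011000500040005800058005800390005800000008000000000000c00050005000010000000500003000500048000800030003000510002000200051000000050001b0000000080054000000008004c000380038004900020002000490004800400000000080008004100000000800430004000380010000200020004100000004000040002800280039000000010003c00000003800040003000300011000000030001300030002800180003800300008000000018002c000000030000c000000028000c0000000000031000000000002900028002000100000000000023000000018002300000001000240001800180021000080008002100000000000210001800180009000180018000100010001000010000000180014000000010000c0000000080004000500048000900048004000010004000380011000380030000900030002800190002800200011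
def d5_0F (n : ℕ) : ℕ := Nat.land (Nat.shiftRight d5_0F_0 (Nat.mul 52 n)) 4503599627370495
def d5_0J_0 : ℕ := 0x1d0a00000000000000000000001c8a00000000000000000000001c0a00000000000000000000001b8600000000000000000000001b060000000000000000000000140a0000000000000000000000148a0000000000000000000000168a00000000000000000000001aa600000000000000000000001706000065800032c0002b00001a00000000000000000033000015010000c9000064800021a0001881000014000046800030000012010000c000006000000200000a01000000000000000000000017830000000000000000000000030a0000b1000058800024a0001181000000000058800024a0001101000000000000000027000002870000088000044000050000130100003500001a800005000012810000000000000000280000058b000000000003c000050000138100000000004600002440000301000086000043000024400004810000310000188000040000100100000000000000001f0000020700006280003140002140000d8100000000003140002140000d0100000000000000001d0000018700000080000040000300000f0100000000000600000940000e01000066000033000018400005810000000000368000184000038100000000003080001400000301000065000032800012a0000701000000000032800012a000080100000000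0000000017000000870000000000000000160000010700000000001c0000124000040100000000000200000b40000a8100000000002480000d00000381000029000014800001000009810000250000128000000000060100000000000000000f000000070000000000000000000000000f0000000000000000000000000f0000000000000000000000000f0000000000000000000000000f0000000000000000000000000f0000000000000000000000000f0000000000000000000000000f0000000000000000000000000f0000000000000000000000000f0000000000000000000000000f0000000000000000000000000f0000000000000000000000000f0000000000000000000000000f0000000000000000000000000f0000000000000000000000000f0000000000000000000000000f0000000000000000000000000f0000000000000000000000000f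
def d5_0J (n : ℕ) : ℕ := Nat.land (Nat.shiftRight d5_0J_0 (Nat.mul 104 n)) 20282409603651670423947251286015
def d5_0P_0 : ℕ := 0x10000000000000000000000000000000000000000000000000000000000000000000000000000000000000000
def d5_0P (n : ℕ) : ℕ := Nat.land (Nat.shiftRight d5_0P_0 (Nat.mul 32 n)) 4294967295

theorem d5_0_check0 : steps false 11 18 d5_0F d5_0J d5_0P 0 64 = true := by decide +kernel

theorem d5_0_all : ∀ n < 64, step false 11 18 d5_0F d5_0J d5_0P n = true := by
  intro n hn
  exact steps_spec 64 d5_0_check0 n (by omega) (by omega)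

theorem d5_0_aux {G : Type*} [Group G] {D : Set G} (hS : Setting D false) {a b z d y y1 y2 y3 y4 y5 w : G}
    (ma : a ∈ D) (mb : b ∈ D) (mz : z ∈ D) (md : d ∈ D) (my : y ∈ D) (my1 : y1 ∈ D) (my2 : y2 ∈ D) (my3 : y3 ∈ D) (my4 : y4 ∈ D) (my5 : y5 ∈ D) (mw : w ∈ D)
    (h0 : z * y * z = y1)
    (h1 : d * y1 * d = y2)
    (h2 : b * y2 * b = y3)
    (h3 : z * y3 * z = y4)
    (h4 : a * y4 * a = y5)
    (h5 : b * y5 * b = w)
    (h6 : ¬ Commute a b)
    (h7 : ¬ Commute b z)
    (h8 : ¬ Commute z d)
    (h9 : Commute a z)
    (h10 : Commute a d)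
    (h11 : Commute b d)
    (h12 : Commute y a)
    (h13 : Commute y b)
    (h14 : Commute y d)
    (h15 : ¬ Commute y z)
    (h16 : y ≠ d)
    (h17 : y ≠ a)
    : (Commute a w) ∧ (Commute d w) ∧ (w ≠ a) ∧ (w ≠ d) ∧ (¬ Commute b w) := by
  let g : ℕ → G := fun n => [a, b, z, d, y, y1, y2, y3, y4, y5, w].getD n a
  have hv := val_mem hS.conj (ngen := 11) (g := g) ma
    (fun n hn => by interval_cases n <;> assumption) d5_0P
  have e0 : val g 11 d5_0P 0 = a := val_gen _ _ (by norm_num)
  have e1 : val g 11 d5_0P 1 = b := val_gen _ _ (by norm_num)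
  have e2 : val g 11 d5_0P 2 = z := val_gen _ _ (by norm_num)
  have e3 : val g 11 d5_0P 3 = d := val_gen _ _ (by norm_num)
  have e4 : val g 11 d5_0P 4 = y := val_gen _ _ (by norm_num)
  have e5 : val g 11 d5_0P 5 = y1 := val_gen _ _ (by norm_num)
  have e6 : val g 11 d5_0P 6 = y2 := val_gen _ _ (by norm_num)
  have e7 : val g 11 d5_0P 7 = y3 := val_gen _ _ (by norm_num)
  have e8 : val g 11 d5_0P 8 = y4 := val_gen _ _ (by norm_num)
  have e9 : val g 11 d5_0P 9 = y5 := val_gen _ _ (by norm_num)
  have e10 : val g 11 d5_0P 10 = w := val_gen _ _ (by norm_num)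
  have hs := sound (J := d5_0J) (F := d5_0F) (nhyp := 18) hS hv (fun n hn => by
    interval_cases n
    · exact holds_T 2 4 5 (by decide +kernel) (by rw [e2, e4, e5]; exact h0)
    · exact holds_T 3 5 6 (by decide +kernel) (by rw [e3, e5, e6]; exact h1)
    · exact holds_T 1 6 7 (by decide +kernel) (by rw [e1, e6, e7]; exact h2)
    · exact holds_T 2 7 8 (by decide +kernel) (by rw [e2, e7, e8]; exact h3)
    · exact holds_T 0 8 9 (by decide +kernel) (by rw [e0, e8, e9]; exact h4)
    · exact holds_T 1 9 10 (by decide +kernel) (by rw [e1, e9, e10]; exact h5)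
    · exact holds_N 0 1 (by decide +kernel) (by rw [e0, e1]; exact h6)
    · exact holds_N 1 2 (by decide +kernel) (by rw [e1, e2]; exact h7)
    · exact holds_N 2 3 (by decide +kernel) (by rw [e2, e3]; exact h8)
    · exact holds_C hS hv 0 2 (by decide +kernel) (by rw [e0, e2]; exact h9)
    · exact holds_C hS hv 0 3 (by decide +kernel) (by rw [e0, e3]; exact h10)
    · exact holds_C hS hv 1 3 (by decide +kernel) (by rw [e1, e3]; exact h11)
    · exact holds_C hS hv 4 0 (by decide +kernel) (by rw [e4, e0]; exact h12)
    · exact holds_C hS hv 4 1 (by decide +kernel) (by rw [e4, e1]; exact h13)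
    · exact holds_C hS hv 4 3 (by decide +kernel) (by rw [e4, e3]; exact h14)
    · exact holds_N 4 2 (by decide +kernel) (by rw [e4, e2]; exact h15)
    · exact holds_NE 4 3 (by decide +kernel) (by rw [e4, e3]; exact h16)
    · exact holds_NE 4 0 (by decide +kernel) (by rw [e4, e0]; exact h17)
    ) d5_0_all
  have g0 := of_holds_C hS hv 0 10 (hs 59 (by norm_num)) (by decide +kernel)
  rw [e0, e10] at g0
  have g1 := of_holds_C hS hv 3 10 (hs 60 (by norm_num)) (by decide +kernel)
  rw [e3, e10] at g1
  have g2 := of_holds_NE 10 0 (hs 61 (by norm_num)) (by decide +kernel)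
  rw [e10, e0] at g2
  have g3 := of_holds_NE 10 3 (hs 62 (by norm_num)) (by decide +kernel)
  rw [e10, e3] at g3
  have g4 := of_holds_N 1 10 (hs 63 (by norm_num)) (by decide +kernel)
  rw [e1, e10] at g4
  exact ⟨g0, g1, g2, g3, g4⟩

theorem d5_0 {G : Type*} [Group G] {D : Set G} (hS : Setting D false) {a b z d y : G}
    (ma : a ∈ D) (mb : b ∈ D) (mz : z ∈ D) (md : d ∈ D) (my : y ∈ D)
    (h0 : ¬ Commute a b)
    (h1 : ¬ Commute b z)
    (h2 : ¬ Commute z d)
    (h3 : Commute a z)
    (h4 : Commute a d)
    (h5 : Commute b d)
    (h6 : Commute y a)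
    (h7 : Commute y b)
    (h8 : Commute y d)
    (h9 : ¬ Commute y z)
    (h10 : y ≠ d)
    (h11 : y ≠ a)
    : (Commute a (b * (a * (z * (b * (d * (z * y * z) * d) * b) * z) * a) * b)) ∧ (Commute d (b * (a * (z * (b * (d * (z * y * z) * d) * b) * z) * a) * b)) ∧ ((b * (a * (z * (b * (d * (z * y * z) * d) * b) * z) * a) * b) ≠ a) ∧ ((b * (a * (z * (b * (d * (z * y * z) * d) * b) * z) * a) * b) ≠ d) ∧ (¬ Commute b (b * (a * (z * (b * (d * (z * y * z) * d) * b) * z) * a) * b)) :=
  d5_0_aux hS ma mb mz md my (hS.conj _ mz _ my) (hS.conj _ md _ (hS.conj _ mz _ my)) (hS.conj _ mb _ (hS.conj _ md _ (hS.conj _ mz _ my))) (hS.conj _ mz _ (hS.conj _ mb _ (hS.conj _ md _ (hS.conj _ mz _ my)))) (hS.conj _ ma _ (hS.conj _ mz _ (hS.conj _ mb _ (hS.conj _ md _ (hS.conj _ mz _ my))))) (hS.conj _ mb _ (hS.conj _ ma _ (hS.conj _ mz _ (hS.conj _ mb _ (hS.conj _ md _ (hS.conj _ mz _ my)))))) rfl rfl rfl rfl rfl rfl h0 h1 h2 h3 h4 h5 h6 h7 h8 h9 h10 h11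

theorem d5 {G : Type*} [Group G] {D : Set G} (hS : Setting D false) {a b z d y : G}
    (ma : a ∈ D) (mb : b ∈ D) (mz : z ∈ D) (md : d ∈ D) (my : y ∈ D)
    (h0 : ¬ Commute a b)
    (h1 : ¬ Commute b z)
    (h2 : ¬ Commute z d)
    (h3 : Commute a z)
    (h4 : Commute a d)
    (h5 : Commute b d)
    (h6 : Commute y a)
    (h7 : Commute y b)
    (h8 : Commute y d)
    (h9 : ¬ Commute y z)
    (h10 : y ≠ d)
    (h11 : y ≠ a)
    : (Commute a (b * (a * (z * (b * (d * (z * y * z) * d) * b) * z) * a) * b)) ∧ (Commute d (b * (a * (z * (b * (d * (z * y * z) * d) * b) * z) * a) * b)) ∧ ((b * (a * (z * (b * (d * (z * y * z) * d) * b) * z) * a) * b) ≠ a) ∧ ((b * (a * (z * (b * (d * (z * y * z) * d) * b) * z) * a) * b) ≠ d) ∧ (¬ Commute b (b * (a * (z * (b * (d * (z * y * z) * d) * b) * z) * a) * b)) := by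
  exact d5_0 hS ma mb mz md my h0 h1 h2 h3 h4 h5 h6 h7 h8 h9 h10 h11 

end Cfsg.Agent.Fischer.S5Lem
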