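import Mathlib
import Cfsg.Agent.Fischer.Basic

set_option autoImplicit false

namespace Cfsg.Agent.Fischer

variable {G : Type*} [Group G]

theorem conj_mul_invol {a b : G} (ha : a * a = 1) (hb : b * b = 1) :
    a * (a * b) * a⁻¹ = (a * b)⁻¹ := by
  rw [mul_inv_rev, inv_of_mul_self ha, inv_of_mul_self hb, cancel_of_mul_self ha]

theorem conj_pow_invol {a b : G} (ha : a * a = 1) (hb : b * b = 1) (n : ℕ) :
    a * (a * b) ^ n * a⁻¹ = ((a * b) ^ n)⁻¹ := by
  rw [← conj_pow, conj_mul_invol ha hb, inv_pow]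

/-- the reflections `a (a b) ^ n` of the dihedral group are conjugate to `a` or `b` -/
theorem dihedral_mem {D : Set G} (hconj : ∀ g : G, ∀ d ∈ D, g * d * g⁻¹ ∈ D) {a b : G}
    (ha : a * a = 1) (hb : b * b = 1) (haD : a ∈ D) (hbD : b ∈ D) (n : ℕ) :
    a * (a * b) ^ n ∈ D := by
  induction n using Nat.twoStepInduction with
  | zero => simpa using haD
  | one => rw [pow_one, cancel_of_mul_self ha]; exact hbD
  | more n ih _ =>
    have := hconj (a * b)⁻¹ _ ih
    have e : (a * b)⁻¹ * (a * (a * b) ^ n) * (a * b)⁻¹⁻¹ = a * (a * b) ^ (n + 2) := by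
      rw [inv_inv, mul_inv_rev, inv_of_mul_self ha, inv_of_mul_self hb, pow_succ, pow_succ']
      simp only [mul_assoc, cancel_of_mul_self ha]
    rwa [e] at this

/-- if `a b` has odd order some reflection of `⟨a, b⟩` swaps `a` and `b` -/
theorem dihedral_midpoint {a b : G} (ha : a * a = 1) (hb : b * b = 1) {m : ℕ}
    (h : (a * b) ^ (2 * m + 1) = 1) :
    (a * (a * b) ^ (m + 1)) * a * (a * (a * b) ^ (m + 1)) = b := by
  have h1 := conj_pow_invol ha hb (m + 1)
  rw [inv_of_mul_self ha] at h1
  have h2 : (a * b) ^ (m + 1) * (a * b) ^ (m + 1) = a * b := by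
    rw [← pow_add, show m + 1 + (m + 1) = (2 * m + 1) + 1 by ring, pow_succ, h, one_mul]
  calc (a * (a * b) ^ (m + 1)) * a * (a * (a * b) ^ (m + 1))
      = a * ((a * b) ^ (m + 1) * (a * b) ^ (m + 1)) := by
        simp only [mul_assoc, cancel_of_mul_self ha]
    _ = b := by rw [h2, cancel_of_mul_self ha]

/-- an element centralised by `e` and inverted by `a` with `e a` of odd order squares to one -/
theorem sq_eq_one_of_inverted {e a s : G} (hes : Commute e s) (has : a * s * a⁻¹ = s⁻¹)
    {n : ℕ} (hn : Odd n) (h : (e * a) ^ n = 1) : s⁻¹ = s := by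
  have h1 : (e * a) * s * (e * a)⁻¹ = s⁻¹ := by
    rw [mul_inv_rev]
    calc e * a * s * (a⁻¹ * e⁻¹) = e * (a * s * a⁻¹) * e⁻¹ := by simp only [mul_assoc]
      _ = s⁻¹ := by rw [has, hes.inv_right.eq]; simp
  have h2 : (e * a) * s⁻¹ * (e * a)⁻¹ = s := by
    rw [← conj_inv, h1, inv_inv]
  have h3 : Commute ((e * a) ^ 2) s := by
    have : (e * a) ^ 2 * s * ((e * a) ^ 2)⁻¹ = s := by
      calc (e * a) ^ 2 * s * ((e * a) ^ 2)⁻¹
          = (e * a) * ((e * a) * s * (e * a)⁻¹) * (e * a)⁻¹ := by
            rw [pow_two, mul_inv_rev (e * a)]; simp only [mul_assoc]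
        _ = s := by rw [h1, h2]
    exact mul_inv_eq_iff_eq_mul.1 this
  obtain ⟨k, rfl⟩ := hn
  have h4 : Commute ((e * a) ^ (2 * k)) s := by rw [pow_mul]; exact h3.pow_left k
  have h5 : (e * a) = ((e * a) ^ (2 * k))⁻¹ := by
    rw [pow_succ] at h; exact eq_inv_of_mul_eq_one_right h
  have h6 : Commute (e * a) s := by rw [h5]; exact h4.inv_left
  rw [← h1, h6.eq, mul_assoc, mul_inv_cancel, mul_one]

/-- uniqueness of midpoints in a set of involutions whose products have odd order -/
theorem midpoint_unique {a b e : G} (ha : a * a = 1) (hb : b * b = 1)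
    {n m : ℕ} (hn : Odd n) (hea : (e * a) ^ n = 1) (hm : Odd m) (hab : (a * b) ^ m = 1)
    (h : a * e * a = b * e * b) : a = b := by
  have hc : Commute e (a * b) := by
    have h1 : b * (a * e * a) * b = e := by
      rw [h]; simp only [mul_assoc, cancel_of_mul_self hb, hb, mul_one]
    have h2 : (a * b) * e = e * (a * b) := by
      conv_lhs => rw [← h1]
      simp only [mul_assoc, cancel_of_mul_self hb, cancel_of_mul_self ha]
    exact h2.symm
  have := sq_eq_one_of_inverted hc (conj_mul_invol ha hb) hn hea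
  have h2 : (a * b) ^ 2 = 1 := by
    rw [pow_two]; nth_rewrite 1 [← this]; simp
  obtain ⟨k, rfl⟩ := hm
  rw [pow_succ, pow_mul, h2, one_pow, one_mul] at hab
  rw [← inv_of_mul_self hb]; exact eq_inv_of_mul_eq_one_left hab

/-- the partition lemma: for a conjugation closed set `D` of involutions with products of odd
order and `x` with `x * x = 1`, every `e ∈ D` commutes with `a x` for a unique `a ∈ C_D(x)` -/
theorem exists_unique_midpoint {D : Set G} (hconj : ∀ g : G, ∀ d ∈ D, g * d * g⁻¹ ∈ D)
    (hsq : ∀ d ∈ D, d * d = 1) (hodd : ∀ a ∈ D, ∀ b ∈ D, Odd (orderOf (a * b)))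
    {x : G} (hx : x * x = 1) {e : G} (he : e ∈ D) :
    ∃! a : G, a ∈ D ∧ Commute a x ∧ Commute e (a * x) := by
  have hxi := inv_of_mul_self hx
  have he' : x * e * x ∈ D := by have := hconj x e he; rwa [hxi] at this
  obtain ⟨m, hm⟩ := hodd e he _ he'
  have hpow : (e * (x * e * x)) ^ (2 * m + 1) = 1 := by rw [← hm]; exact pow_orderOf_eq_one _
  have hmid := dihedral_midpoint (hsq e he) (hsq _ he') hpow
  have haD := dihedral_mem hconj (hsq e he) (hsq _ he') he he' (m + 1)
  set a := e * (e * (x * e * x)) ^ (m + 1)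
  have uniq : ∀ b ∈ D, b * e * b = x * e * x → b = a := by
    intro b hb h
    exact midpoint_unique (hsq b hb) (hsq a haD) (hodd e he b hb) (pow_orderOf_eq_one _)
      (hodd b hb a haD) (pow_orderOf_eq_one _) (h.trans hmid.symm)
  have ha2 := hsq a haD
  have hax : Commute a x := by
    have hb : x * a * x ∈ D := by have := hconj x a haD; rwa [hxi] at this
    have : x * a * x = a := by
      apply uniq _ hb
      calc x * a * x * e * (x * a * x) = x * (a * (x * e * x) * a) * x := by simp only [mul_assoc]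
        _ = x * (a * (a * e * a) * a) * x := by rw [hmid]
        _ = x * e * x := by
          simp only [mul_assoc, cancel_of_mul_self ha2, ha2, mul_one]
    exact ((commute_iff_conj_eq hx).2 this).symm
  refine ⟨a, ⟨haD, hax, ?_⟩, ?_⟩
  · have : a * x * e = e * (a * x) := by
      calc a * x * e = a * (x * e * x) * x := by simp only [mul_assoc, hx, mul_one]
        _ = e * (a * x) := by
          rw [← hmid]; simp only [mul_assoc, cancel_of_mul_self ha2]
    exact this.symm
  · rintro b ⟨hb, hbx, heb⟩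
    apply uniq b hb
    have hb2 := hsq b hb
    calc b * e * b = b * (e * (b * x)) * x := by simp only [mul_assoc, hx, mul_one]
      _ = x * e * x := by rw [heb.eq]; simp only [mul_assoc, cancel_of_mul_self hb2]

theorem conjugatesOf_conj (d g : G) {x : G} (hx : x ∈ conjugatesOf d) :
    g * x * g⁻¹ ∈ conjugatesOf d := IsConj.trans hx (isConj_iff.2 ⟨g, rfl⟩)

theorem conjugatesOf_sq {d : G} (hd : d * d = 1) {x : G} (hx : x ∈ conjugatesOf d) :
    x * x = 1 := by
  obtain ⟨g, rfl⟩ := isConj_iff.1 hx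
  rw [conj_mul, hd]; simp

end Cfsg.Agent.Fischer
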