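import Cfsg.Agent.Fischer.PMChk
import Cfsg.Agent.Comp.Fi23.Main

set_option autoImplicit false
set_option maxRecDepth 100000

namespace Cfsg.Agent.Fischer.F23
open Cfsg.Agent.Comp Cfsg.Agent.Comp.Fi23

/-- the transposition at the point `0` -/
def b0 : List Nat := [7, 6, 5, 4, 3, 2, 1, 0, 8, 3, 2, 4, 3, 5, 4, 6, 5, 7, 6, 8, 3, 2, 4, 3, 5, 4, 8, 3, 2, 1, 0, 1, 2, 3, 8, 4, 5, 3, 4, 2, 3, 8, 6, 7, 5, 6, 4, 5, 3, 4, 2, 3, 8, 0, 1, 2, 3, 4, 5, 6, 7]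

def U : List (List Nat) := [[1, 2, 3, 8, 4, 5, 3, 4, 2, 3, 8, 6, 7, 5, 6, 4, 5, 3, 4, 2, 3, 8, 0, 1, 2, 3, 4, 5, 6, 7],
  [0, 1, 1, 2, 3, 8, 4, 5, 3, 4, 2, 3, 8, 6, 7, 5, 6, 4, 5, 3, 4, 2, 3, 8, 0, 1, 2, 3, 4, 5, 6, 7],
  [1, 2, 0, 1, 1, 2, 3, 8, 4, 5, 3, 4, 2, 3, 8, 6, 7, 5, 6, 4, 5, 3, 4, 2, 3, 8, 0, 1, 2, 3, 4, 5, 6, 7],
  [2, 3, 1, 2, 0, 1, 1, 2, 3, 8, 4, 5, 3, 4, 2, 3, 8, 6, 7, 5, 6, 4, 5, 3, 4, 2, 3, 8, 0, 1, 2, 3, 4, 5, 6, 7],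
  [3, 4, 2, 3, 1, 2, 0, 1, 1, 2, 3, 8, 4, 5, 3, 4, 2, 3, 8, 6, 7, 5, 6, 4, 5, 3, 4, 2, 3, 8, 0, 1, 2, 3, 4, 5, 6, 7],
  [4, 5, 3, 4, 2, 3, 1, 2, 0, 1, 1, 2, 3, 8, 4, 5, 3, 4, 2, 3, 8, 6, 7, 5, 6, 4, 5, 3, 4, 2, 3, 8, 0, 1, 2, 3, 4, 5, 6, 7],
  [5, 6, 4, 5, 3, 4, 2, 3, 1, 2, 0, 1, 1, 2, 3, 8, 4, 5, 3, 4, 2, 3, 8, 6, 7, 5, 6, 4, 5, 3, 4, 2, 3, 8, 0, 1, 2, 3, 4, 5, 6, 7],
  [6, 7, 5, 6, 4, 5, 3, 4, 2, 3, 1, 2, 0, 1, 1, 2, 3, 8, 4, 5, 3, 4, 2, 3, 8, 6, 7, 5, 6, 4, 5, 3, 4, 2, 3, 8, 0, 1, 2, 3, 4, 5, 6, 7],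
  [3, 8, 2, 3, 1, 2, 0, 1, 1, 2, 3, 8, 4, 5, 3, 4, 2, 3, 8, 6, 7, 5, 6, 4, 5, 3, 4, 2, 3, 8, 0, 1, 2, 3, 4, 5, 6, 7],
  [8, 9, 3, 8, 2, 3, 1, 2, 0, 1, 1, 2, 3, 8, 4, 5, 3, 4, 2, 3, 8, 6, 7, 5, 6, 4, 5, 3, 4, 2, 3, 8, 0, 1, 2, 3, 4, 5, 6, 7]]

theorem sq : ∀ j < 10, s j * s j = 1 := fun j hj => by
  have : ∀ j < 10, [j, j] ∈ R := by decide +kernel
  simpa using pres.sat _ (this j hj)

theorem l0 : s 0 = ev s (nth [] U 0) * ev s b0 * (ev s (nth [] U 0))⁻¹ := by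
  have h : ∀ y ∈ ([7, 6, 5, 4, 3, 2, 1, 0, 8, 3, 2, 4, 3, 5, 4, 6, 5, 7, 6, 8, 3, 2, 4, 3, 5, 4, 8, 3, 2, 1] : List ℕ), s y * s y = 1 := fun y hy => sq y ((by decide : ∀ y ∈ ([7, 6, 5, 4, 3, 2, 1, 0, 8, 3, 2, 4, 3, 5, 4, 6, 5, 7, 6, 8, 3, 2, 4, 3, 5, 4, 8, 3, 2, 1] : List ℕ), y < 10) y hy)
  rw [show b0 = cjw [7, 6, 5, 4, 3, 2, 1, 0, 8, 3, 2, 4, 3, 5, 4, 6, 5, 7, 6, 8, 3, 2, 4, 3, 5, 4, 8, 3, 2, 1] 0 from rfl, ev_cjw, cg_eq h, show nth [] U 0 = ([7, 6, 5, 4, 3, 2, 1, 0, 8, 3, 2, 4, 3, 5, 4, 6, 5, 7, 6, 8, 3, 2, 4, 3, 5, 4, 8, 3, 2, 1] : List ℕ).reverse from rfl, ev_reverse h]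
  group

theorem l1 : s 1 = ev s (nth [] U 1) * ev s b0 * (ev s (nth [] U 1))⁻¹ :=
  braid_conj (sq 0 (by decide)) (sq 1 (by decide)) (Or.inl (pres.sat _ (by decide +kernel))) l0

theorem l2 : s 2 = ev s (nth [] U 2) * ev s b0 * (ev s (nth [] U 2))⁻¹ :=
  braid_conj (sq 1 (by decide)) (sq 2 (by decide)) (Or.inl (pres.sat _ (by decide +kernel))) l1

theorem l3 : s 3 = ev s (nth [] U 3) * ev s b0 * (ev s (nth [] U 3))⁻¹ :=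
  braid_conj (sq 2 (by decide)) (sq 3 (by decide)) (Or.inl (pres.sat _ (by decide +kernel))) l2

theorem l4 : s 4 = ev s (nth [] U 4) * ev s b0 * (ev s (nth [] U 4))⁻¹ :=
  braid_conj (sq 3 (by decide)) (sq 4 (by decide)) (Or.inl (pres.sat _ (by decide +kernel))) l3

theorem l8 : s 8 = ev s (nth [] U 8) * ev s b0 * (ev s (nth [] U 8))⁻¹ :=
  braid_conj (sq 3 (by decide)) (sq 8 (by decide)) (Or.inl (pres.sat _ (by decide +kernel))) l3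

theorem l5 : s 5 = ev s (nth [] U 5) * ev s b0 * (ev s (nth [] U 5))⁻¹ :=
  braid_conj (sq 4 (by decide)) (sq 5 (by decide)) (Or.inl (pres.sat _ (by decide +kernel))) l4

theorem l9 : s 9 = ev s (nth [] U 9) * ev s b0 * (ev s (nth [] U 9))⁻¹ :=
  braid_conj (sq 8 (by decide)) (sq 9 (by decide)) (Or.inl (pres.sat _ (by decide +kernel))) l8

theorem l6 : s 6 = ev s (nth [] U 6) * ev s b0 * (ev s (nth [] U 6))⁻¹ :=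
  braid_conj (sq 5 (by decide)) (sq 6 (by decide)) (Or.inl (pres.sat _ (by decide +kernel))) l5

theorem l7 : s 7 = ev s (nth [] U 7) * ev s b0 * (ev s (nth [] U 7))⁻¹ :=
  braid_conj (sq 6 (by decide)) (sq 7 (by decide)) (Or.inl (pres.sat _ (by decide +kernel))) l6

theorem com0 : EqsP 31671 0 5 T (W0.map fun w => (w ++ b0, b0 ++ w)) :=
  eqsP_of (B := 15) (K := 5) ok (by norm_num) (by norm_num) (by norm_num) (by decide +kernel)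

theorem com1 : EqsP 31671 5 10 T (W0.map fun w => (w ++ b0, b0 ++ w)) :=
  eqsP_of (B := 15) (K := 5) ok (by norm_num) (by norm_num) (by norm_num) (by decide +kernel)

theorem com2 : EqsP 31671 10 15 T (W0.map fun w => (w ++ b0, b0 ++ w)) :=
  eqsP_of (B := 15) (K := 5) ok (by norm_num) (by norm_num) (by norm_num) (by decide +kernel)

theorem pm : PM s 10 31671 3510 T phi (ev s b0) U :=
  pm_of (B := 15) rep card.2.2 sq trans stab.2 (by decide) (by decide)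
    (com_of_eqs rep card.2.2 (by decide) (by decide) (((com0.join com1).join com2).eqs ok (by norm_num))) (by norm_num)
    (by decide +kernel) orb1.1 orb3511.1
    (by have := l0; have h := sq 0 (by decide); rw [this] at h
        have h2 := congrArg (fun g => (ev s (nth [] U 0))⁻¹ * g * ev s (nth [] U 0)) h
        simpa [mul_assoc] using h2)
    [7, 6, 5, 4, 3, 8, 2, 3, 4, 5, 6, 7] (by decide) 2 3518 (by decide +kernel) (by decide +kernel) (by decide) 7 (by decide)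
    (by decide +kernel) (by decide +kernel) (by decide +kernel)
    (fun j hj => by interval_cases j; exacts [l0, l1, l2, l3, l4, l5, l6, l7, l8, l9]) (by decide) (by decide) (by decide)

end Cfsg.Agent.Fischer.F23
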