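import Cfsg.Agent.Fischer.JD
import Cfsg.Agent.FiC.F22.D0

/-!
A base of the Fischer group.
-/

set_option autoImplicit false
set_option maxRecDepth 100000
set_option linter.unusedSectionVars false

namespace Cfsg.Agent.Fischer.J22
open Cfsg.Agent.Comp Cfsg.Agent.FiC Cfsg.Agent.FiC.F22 Cfsg.Agent.Fischer.JB Subgroup

variable {G : Type*} [Group G] [Finite G] {D : Set G} {τ s : ℕ → G}

/-- data -/
noncomputable def W : List (List Nat) :=
  [[nat_lit 0], [nat_lit 4], [nat_lit 8], [nat_lit 14], [nat_lit 12], [nat_lit 41, nat_lit 16, nat_lit 40], [nat_lit 38, nat_lit 14, nat_lit 39], [nat_lit 26, nat_lit 16, nat_lit 27], [nat_lit 34, nat_lit 12, nat_lit 35], [nat_lit 6, nat_lit 18, nat_lit 2, nat_lit 19, nat_lit 7], [nat_lit 35, nat_lit 12, nat_lit 34], [nat_lit 54, nat_lit 46, nat_lit 4, nat_lit 47, nat_lit 55], [nat_lit 18, nat_lit 48, nat_lit 10, nat_lit 49, nat_lit 19], [nat_lit 20, nat_lit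 44, nat_lit 4, nat_lit 45, nat_lit 21], [nat_lit 6, nat_lit 49, nat_lit 8, nat_lit 48, nat_lit 7], [nat_lit 47, nat_lit 28, nat_lit 4, nat_lit 29, nat_lit 46], [nat_lit 48, nat_lit 24, nat_lit 4, nat_lit 25, nat_lit 49], [nat_lit 26, nat_lit 40, nat_lit 6, nat_lit 41, nat_lit 27], [nat_lit 27, nat_lit 19, nat_lit 14, nat_lit 18, nat_lit 26], [nat_lit 26, nat_lit 52, nat_lit 8, nat_lit 53, nat_lit 27], [nat_lit 53, nat_lit 6, nat_lit 4, nat_lit 7, nat_lit 52], [nat_lit 46, nat_lit 27, nat_lit 4, nat_lit 26, nat_lit 47]]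

/-- data -/
noncomputable def c' : List Nat :=
  [nat_lit 2, nat_lit 4, nat_lit 8, nat_lit 16, nat_lit 32, nat_lit 64, nat_lit 128, nat_lit 256, nat_lit 512, nat_lit 279, nat_lit 670, nat_lit 559, nat_lit 761, nat_lit 124, nat_lit 203, nat_lit 948, nat_lit 967, nat_lit 498, nat_lit 429, nat_lit 865, nat_lit 858]

/-- data -/
noncomputable def Γ : List (List Nat × List Nat) :=
  [([nat_lit 7, nat_lit 10, nat_lit 19, nat_lit 26, nat_lit 38, nat_lit 31, nat_lit 36], [nat_lit 2, nat_lit 1, nat_lit 20, nat_lit 18, nat_lit 17, nat_lit 19, nat_lit 9, nat_lit 6, nat_lit 5, nat_lit 10, nat_lit 7, nat_lit 0, nat_lit 12, nat_lit 15, nat_lit 13, nat_lit 16, nat_lit 14, nat_lit 4, nat_lit 3, nat_lit 21, nat_lit 11, nat_lit 8]), ([nat_lit 22, nat_lit 20, nat_lit 47, nat_lit 6, nat_lit 30, nat_lit 16, nat_lit 37, nat_lit 14, nat_lit 35, nat_lit 14], [nat_lit 2, nat_lit 18, nat_lit 14, nat_lit 1, nat_lit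 17, nat_lit 8, nat_lit 6, nat_lit 9, nat_lit 21, nat_lit 7, nat_lit 10, nat_lit 15, nat_lit 3, nat_lit 0, nat_lit 13, nat_lit 16, nat_lit 20, nat_lit 4, nat_lit 12, nat_lit 5, nat_lit 11, nat_lit 19]), ([nat_lit 19, nat_lit 31, nat_lit 21, nat_lit 19, nat_lit 52, nat_lit 27, nat_lit 38, nat_lit 31, nat_lit 37, nat_lit 14], [nat_lit 21, nat_lit 3, nat_lit 10, nat_lit 1, nat_lit 4, nat_lit 0, nat_lit 2, nat_lit 13, nat_lit 15, nat_lit 16, nat_lit 11, nat_lit 6, nat_lit 18, nat_lit 9, nat_lit 8, nat_lit 19, nat_lit 7, nat_lit 17, nat_lit 12, nat_lit 14, nat_lit 5, nat_lit 20])]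

/-- data -/
noncomputable def H : List (List Nat × List Nat) :=
  [([nat_lit 51, nat_lit 30, nat_lit 44, nat_lit 39, nat_lit 31, nat_lit 39, nat_lit 37, nat_lit 38], [nat_lit 0, nat_lit 15, nat_lit 1, nat_lit 20, nat_lit 6, nat_lit 11, nat_lit 4, nat_lit 14, nat_lit 7, nat_lit 5, nat_lit 3, nat_lit 16, nat_lit 10, nat_lit 18, nat_lit 19, nat_lit 17, nat_lit 9, nat_lit 2, nat_lit 13, nat_lit 8, nat_lit 12, nat_lit 21]), ([nat_lit 29, nat_lit 40, nat_lit 52, nat_lit 43, nat_lit 31, nat_lit 34, nat_lit 34, nat_lit 4], [nat_lit 0, nat_lit 21, nat_lit 11, nat_lit 16, nat_lit 17, nat_lit 4, nat_lit 2, nat_lit 15, nat_lit 1, nat_lit 8, nat_lit 9, nat_lit 14, nat_lit 20, nat_lit 19, nat_lit 13, nat_lit 5, nat_lit 7, nat_lit 3, nat_lit 6, nat_lit 18, nat_lit 10, nat_lit 12])]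

/-- data -/
noncomputable def L : List (List Nat) :=
  [[nat_lit 0, nat_lit 1, nat_lit 2, nat_lit 3, nat_lit 4, nat_lit 5, nat_lit 6, nat_lit 7, nat_lit 8, nat_lit 9, nat_lit 10, nat_lit 11, nat_lit 12, nat_lit 13, nat_lit 14, nat_lit 15, nat_lit 16, nat_lit 17, nat_lit 18, nat_lit 19, nat_lit 20, nat_lit 21], [nat_lit 7, nat_lit 12, nat_lit 5, nat_lit 18, nat_lit 4, nat_lit 16, nat_lit 20, nat_lit 14, nat_lit 11, nat_lit 15, nat_lit 0, nat_lit 21, nat_lit 1, nat_lit 8, nat_lit 10, nat_lit 6, nat_lit 19, nat_lit 17, nat_lit 3, nat_lit 2, nat_lit 9, nat_lit 13], [nat_lit 7, nat_lit 3, nat_lit 19, nat_lit 12, nat_lit 17, nat_lit 0, nat_lit 2, nat_lit 16, nat_lit 14, nat_lit 13, nat_lit 11, nat_lit 8, nat_lit 18, nat_lit 5, nat_lit 6, nat_lit 10, nat_lit 21, nat_lit 4, nat_lit 1, nat_lit 15, nat_lit 9, nat_lit 20], [nat_lit 16, nat_lit 18, nat_lit 20, nat_lit 12, nat_lit 4, nat_lit 9, nat_lit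 21, nat_lit 19, nat_lit 10, nat_lit 8, nat_lit 5, nat_lit 0, nat_lit 3, nat_lit 14, nat_lit 2, nat_lit 11, nat_lit 15, nat_lit 17, nat_lit 1, nat_lit 6, nat_lit 13, nat_lit 7], [nat_lit 14, nat_lit 1, nat_lit 16, nat_lit 3, nat_lit 4, nat_lit 19, nat_lit 9, nat_lit 10, nat_lit 21, nat_lit 6, nat_lit 7, nat_lit 13, nat_lit 12, nat_lit 11, nat_lit 0, nat_lit 20, nat_lit 2, nat_lit 17, nat_lit 18, nat_lit 5, nat_lit 15, nat_lit 8], [nat_lit 16, nat_lit 18, nat_lit 0, nat_lit 1, nat_lit 17, nat_lit 21, nat_lit 9, nat_lit 6, nat_lit 8, nat_lit 10, nat_lit 7, nat_lit 20, nat_lit 3, nat_lit 14, nat_lit 11, nat_lit 2, nat_lit 15, nat_lit 4, nat_lit 12, nat_lit 19, nat_lit 13, nat_lit 5], [nat_lit 19, nat_lit 3, nat_lit 9, nat_lit 1, nat_lit 4, nat_lit 15, nat_lit 13, nat_lit 2, nat_lit 0, nat_lit 11, nat_lit 16, nat_lit 7, nat_lit 18, nat_lit 10, nat_lit 5, nat_lit 21, nat_lit 6, nat_lit 17,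 nat_lit 12, nat_lit 20, nat_lit 8, nat_lit 14], [nat_lit 14, nat_lit 18, nat_lit 2, nat_lit 1, nat_lit 17, nat_lit 7, nat_lit 5, nat_lit 19, nat_lit 10, nat_lit 8, nat_lit 21, nat_lit 11, nat_lit 3, nat_lit 16, nat_lit 20, nat_lit 0, nat_lit 13, nat_lit 4, nat_lit 12, nat_lit 6, nat_lit 15, nat_lit 9], [nat_lit 16, nat_lit 12, nat_lit 15, nat_lit 18, nat_lit 4, nat_lit 7, nat_lit 19, nat_lit 21, nat_lit 6, nat_lit 5, nat_lit 8, nat_lit 14, nat_lit 1, nat_lit 0, nat_lit 2, nat_lit 11, nat_lit 20, nat_lit 17, nat_lit 3, nat_lit 10, nat_lit 13, nat_lit 9], [nat_lit 19, nat_lit 12, nat_lit 6, nat_lit 3, nat_lit 17, nat_lit 16, nat_lit 20, nat_lit 15, nat_lit 2, nat_lit 14, nat_lit 0, nat_lit 10, nat_lit 1, nat_lit 9, nat_lit 21, nat_lit 5, nat_lit 7, nat_lit 4, nat_lit 18, nat_lit 11, nat_lit 8, nat_lit 13], [nat_lit 21, nat_lit 1, nat_lit 9, nat_lit 18, nat_lit 17, nat_lit 13, nat_lit 20,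 nat_lit 15, nat_lit 11, nat_lit 14, nat_lit 0, nat_lit 7, nat_lit 12, nat_lit 6, nat_lit 19, nat_lit 8, nat_lit 10, nat_lit 4, nat_lit 3, nat_lit 2, nat_lit 5, nat_lit 16], [nat_lit 15, nat_lit 1, nat_lit 13, nat_lit 3, nat_lit 4, nat_lit 8, nat_lit 7, nat_lit 6, nat_lit 5, nat_lit 10, nat_lit 9, nat_lit 16, nat_lit 12, nat_lit 2, nat_lit 20, nat_lit 0, nat_lit 11, nat_lit 17, nat_lit 18, nat_lit 21, nat_lit 14, nat_lit 19], [nat_lit 10, nat_lit 12, nat_lit 19, nat_lit 18, nat_lit 4, nat_lit 2, nat_lit 15, nat_lit 0, nat_lit 13, nat_lit 20, nat_lit 14, nat_lit 8, nat_lit 1, nat_lit 21, nat_lit 7, nat_lit 9, nat_lit 5, nat_lit 17, nat_lit 3, nat_lit 16, nat_lit 6, nat_lit 11], [nat_lit 6, nat_lit 3, nat_lit 21, nat_lit 12, nat_lit 17, nat_lit 15, nat_lit 13, nat_lit 11, nat_lit 20, nat_lit 2, nat_lit 16, nat_lit 5, nat_lit 18, nat_lit 8, nat_lit 7, nat_lit 9, nat_lit 19, nat_lit 4, nat_lit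 1, nat_lit 0, nat_lit 10, nat_lit 14], [nat_lit 2, nat_lit 18, nat_lit 15, nat_lit 12, nat_lit 4, nat_lit 6, nat_lit 8, nat_lit 5, nat_lit 7, nat_lit 21, nat_lit 19, nat_lit 14, nat_lit 3, nat_lit 0, nat_lit 16, nat_lit 13, nat_lit 20, nat_lit 17, nat_lit 1, nat_lit 9, nat_lit 11, nat_lit 10], [nat_lit 19, nat_lit 3, nat_lit 7, nat_lit 12, nat_lit 17, nat_lit 13, nat_lit 15, nat_lit 20, nat_lit 11, nat_lit 0, nat_lit 14, nat_lit 9, nat_lit 18, nat_lit 10, nat_lit 21, nat_lit 5, nat_lit 6, nat_lit 4, nat_lit 1, nat_lit 2, nat_lit 8, nat_lit 16], [nat_lit 21, nat_lit 1, nat_lit 7, nat_lit 3, nat_lit 4, nat_lit 20, nat_lit 13, nat_lit 2, nat_lit 14, nat_lit 11, nat_lit 16, nat_lit 9, nat_lit 12, nat_lit 6, nat_lit 8, nat_lit 19, nat_lit 10, nat_lit 17, nat_lit 18, nat_lit 15, nat_lit 5, nat_lit 0], [nat_lit 15, nat_lit 1, nat_lit 16, nat_lit 18, nat_lit 17, nat_lit 7, nat_lit 8, nat_lit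 21, nat_lit 10, nat_lit 5, nat_lit 19, nat_lit 13, nat_lit 12, nat_lit 2, nat_lit 0, nat_lit 20, nat_lit 11, nat_lit 4, nat_lit 3, nat_lit 6, nat_lit 14, nat_lit 9], [nat_lit 15, nat_lit 12, nat_lit 13, nat_lit 3, nat_lit 17, nat_lit 10, nat_lit 5, nat_lit 19, nat_lit 7, nat_lit 8, nat_lit 21, nat_lit 16, nat_lit 1, nat_lit 11, nat_lit 0, nat_lit 20, nat_lit 2, nat_lit 4, nat_lit 18, nat_lit 9, nat_lit 14, nat_lit 6], [nat_lit 6, nat_lit 12, nat_lit 8, nat_lit 18, nat_lit 4, nat_lit 11, nat_lit 14, nat_lit 20, nat_lit 16, nat_lit 0, nat_lit 15, nat_lit 19, nat_lit 1, nat_lit 5, nat_lit 9, nat_lit 7, nat_lit 21, nat_lit 17, nat_lit 3, nat_lit 13, nat_lit 10, nat_lit 2], [nat_lit 10, nat_lit 3, nat_lit 5, nat_lit 12, nat_lit 17, nat_lit 14, nat_lit 16, nat_lit 2, nat_lit 0, nat_lit 11, nat_lit 13, nat_lit 21, nat_lit 18, nat_lit 19, nat_lit 9, nat_lit 7, nat_lit 8, nat_lit 4, nat_lit 1,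 nat_lit 20, nat_lit 6, nat_lit 15], [nat_lit 6, nat_lit 1, nat_lit 19, nat_lit 3, nat_lit 4, nat_lit 16, nat_lit 0, nat_lit 15, nat_lit 11, nat_lit 14, nat_lit 20, nat_lit 8, nat_lit 12, nat_lit 21, nat_lit 9, nat_lit 7, nat_lit 5, nat_lit 17, nat_lit 18, nat_lit 2, nat_lit 10, nat_lit 13], [nat_lit 2, nat_lit 1, nat_lit 20, nat_lit 18, nat_lit 17, nat_lit 19, nat_lit 9, nat_lit 6, nat_lit 5, nat_lit 10, nat_lit 7, nat_lit 0, nat_lit 12, nat_lit 15, nat_lit 13, nat_lit 16, nat_lit 14, nat_lit 4, nat_lit 3, nat_lit 21, nat_lit 11, nat_lit 8], [nat_lit 19, nat_lit 1, nat_lit 6, nat_lit 3, nat_lit 4, nat_lit 14, nat_lit 2, nat_lit 13, nat_lit 20, nat_lit 16, nat_lit 11, nat_lit 10, nat_lit 12, nat_lit 7, nat_lit 5, nat_lit 21, nat_lit 9, nat_lit 17, nat_lit 18, nat_lit 0, nat_lit 8, nat_lit 15], [nat_lit 21, nat_lit 18, nat_lit 10, nat_lit 1, nat_lit 17, nat_lit 16, nat_lit 15, nat_lit 20,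 nat_lit 2, nat_lit 0, nat_lit 14, nat_lit 6, nat_lit 3, nat_lit 7, nat_lit 19, nat_lit 8, nat_lit 9, nat_lit 4, nat_lit 12, nat_lit 11, nat_lit 5, nat_lit 13], [nat_lit 15, nat_lit 3, nat_lit 11, nat_lit 1, nat_lit 4, nat_lit 19, nat_lit 6, nat_lit 7, nat_lit 21, nat_lit 9, nat_lit 10, nat_lit 2, nat_lit 18, nat_lit 16, nat_lit 20, nat_lit 0, nat_lit 13, nat_lit 17, nat_lit 12, nat_lit 5, nat_lit 14, nat_lit 8], [nat_lit 15, nat_lit 18, nat_lit 2, nat_lit 12, nat_lit 4, nat_lit 21, nat_lit 9, nat_lit 10, nat_lit 19, nat_lit 6, nat_lit 7, nat_lit 11, nat_lit 3, nat_lit 13, nat_lit 20, nat_lit 0, nat_lit 16, nat_lit 17, nat_lit 1, nat_lit 8, nat_lit 14, nat_lit 5], [nat_lit 13, nat_lit 12, nat_lit 15, nat_lit 3, nat_lit 17, nat_lit 8, nat_lit 9, nat_lit 6, nat_lit 21, nat_lit 10, nat_lit 7, nat_lit 14, nat_lit 1, nat_lit 20, nat_lit 2, nat_lit 11, nat_lit 0, nat_lit 4, nat_lit 18, nat_lit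 5, nat_lit 16, nat_lit 19], [nat_lit 20, nat_lit 3, nat_lit 13, nat_lit 1, nat_lit 4, nat_lit 5, nat_lit 9, nat_lit 10, nat_lit 8, nat_lit 6, nat_lit 7, nat_lit 16, nat_lit 18, nat_lit 2, nat_lit 15, nat_lit 14, nat_lit 11, nat_lit 17, nat_lit 12, nat_lit 19, nat_lit 0, nat_lit 21], [nat_lit 7, nat_lit 18, nat_lit 8, nat_lit 1, nat_lit 17, nat_lit 14, nat_lit 13, nat_lit 11, nat_lit 0, nat_lit 2, nat_lit 16, nat_lit 19, nat_lit 3, nat_lit 21, nat_lit 6, nat_lit 10, nat_lit 5, nat_lit 4, nat_lit 12, nat_lit 20, nat_lit 9, nat_lit 15], [nat_lit 11, nat_lit 18, nat_lit 14, nat_lit 12, nat_lit 4, nat_lit 10, nat_lit 19, nat_lit 21, nat_lit 9, nat_lit 5, nat_lit 8, nat_lit 15, nat_lit 3, nat_lit 20, nat_lit 13, nat_lit 16, nat_lit 0, nat_lit 17, nat_lit 1, nat_lit 7, nat_lit 2, nat_lit 6], [nat_lit 11, nat_lit 18, nat_lit 15, nat_lit 1, nat_lit 17, nat_lit 19, nat_lit 10, nat_lit 7, nat_lit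 5, nat_lit 9, nat_lit 6, nat_lit 14, nat_lit 3, nat_lit 20, nat_lit 16, nat_lit 13, nat_lit 0, nat_lit 4, nat_lit 12, nat_lit 21, nat_lit 2, nat_lit 8], [nat_lit 5, nat_lit 3, nat_lit 6, nat_lit 1, nat_lit 4, nat_lit 20, nat_lit 11, nat_lit 16, nat_lit 14, nat_lit 13, nat_lit 2, nat_lit 10, nat_lit 18, nat_lit 7, nat_lit 19, nat_lit 8, nat_lit 9, nat_lit 17, nat_lit 12, nat_lit 15, nat_lit 21, nat_lit 0], [nat_lit 20, nat_lit 18, nat_lit 13, nat_lit 1, nat_lit 17, nat_lit 6, nat_lit 8, nat_lit 21, nat_lit 9, nat_lit 5, nat_lit 19, nat_lit 16, nat_lit 3, nat_lit 11, nat_lit 14, nat_lit 15, nat_lit 2, nat_lit 4, nat_lit 12, nat_lit 7, nat_lit 0, nat_lit 10], [nat_lit 2, nat_lit 12, nat_lit 20, nat_lit 18, nat_lit 4, nat_lit 10, nat_lit 5, nat_lit 8, nat_lit 9, nat_lit 19, nat_lit 21, nat_lit 0, nat_lit 1, nat_lit 14, nat_lit 16, nat_lit 13, nat_lit 15, nat_lit 17, nat_lit 3, nat_lit 7,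 nat_lit 11, nat_lit 6], [nat_lit 21, nat_lit 12, nat_lit 7, nat_lit 3, nat_lit 17, nat_lit 11, nat_lit 14, nat_lit 0, nat_lit 13, nat_lit 20, nat_lit 15, nat_lit 9, nat_lit 1, nat_lit 10, nat_lit 19, nat_lit 8, nat_lit 6, nat_lit 4, nat_lit 18, nat_lit 16, nat_lit 5, nat_lit 2], [nat_lit 19, nat_lit 1, nat_lit 10, nat_lit 18, nat_lit 17, nat_lit 2, nat_lit 14, nat_lit 0, nat_lit 16, nat_lit 20, nat_lit 15, nat_lit 6, nat_lit 12, nat_lit 7, nat_lit 21, nat_lit 5, nat_lit 9, nat_lit 4, nat_lit 3, nat_lit 13, nat_lit 8, nat_lit 11], [nat_lit 20, nat_lit 1, nat_lit 11, nat_lit 3, nat_lit 4, nat_lit 21, nat_lit 10, nat_lit 9, nat_lit 19, nat_lit 7, nat_lit 6, nat_lit 2, nat_lit 12, nat_lit 16, nat_lit 15, nat_lit 14, nat_lit 13, nat_lit 17, nat_lit 18, nat_lit 8, nat_lit 0, nat_lit 5], [nat_lit 2, nat_lit 18, nat_lit 14, nat_lit 1, nat_lit 17, nat_lit 8, nat_lit 6, nat_lit 9, nat_lit 21, nat_lit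 7, nat_lit 10, nat_lit 15, nat_lit 3, nat_lit 0, nat_lit 13, nat_lit 16, nat_lit 20, nat_lit 4, nat_lit 12, nat_lit 5, nat_lit 11, nat_lit 19], [nat_lit 15, nat_lit 12, nat_lit 16, nat_lit 18, nat_lit 4, nat_lit 5, nat_lit 10, nat_lit 9, nat_lit 8, nat_lit 7, nat_lit 6, nat_lit 13, nat_lit 1, nat_lit 11, nat_lit 20, nat_lit 0, nat_lit 2, nat_lit 17, nat_lit 3, nat_lit 19, nat_lit 14, nat_lit 21], [nat_lit 6, nat_lit 12, nat_lit 19, nat_lit 3, nat_lit 17, nat_lit 14, nat_lit 11, nat_lit 13, nat_lit 0, nat_lit 16, nat_lit 2, nat_lit 8, nat_lit 1, nat_lit 5, nat_lit 7, nat_lit 9, nat_lit 21, nat_lit 4, nat_lit 18, nat_lit 20, nat_lit 10, nat_lit 15], [nat_lit 13, nat_lit 12, nat_lit 14, nat_lit 18, nat_lit 4, nat_lit 9, nat_lit 8, nat_lit 5, nat_lit 10, nat_lit 21, nat_lit 19, nat_lit 15, nat_lit 1, nat_lit 20, nat_lit 11, nat_lit 2, nat_lit 0, nat_lit 17, nat_lit 3, nat_lit 6, nat_lit 16,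 nat_lit 7], [nat_lit 20, nat_lit 3, nat_lit 16, nat_lit 12, nat_lit 17, nat_lit 9, nat_lit 5, nat_lit 19, nat_lit 6, nat_lit 8, nat_lit 21, nat_lit 13, nat_lit 18, nat_lit 2, nat_lit 14, nat_lit 15, nat_lit 11, nat_lit 4, nat_lit 1, nat_lit 10, nat_lit 0, nat_lit 7], [nat_lit 7, nat_lit 18, nat_lit 19, nat_lit 12, nat_lit 4, nat_lit 13, nat_lit 14, nat_lit 20, nat_lit 2, nat_lit 0, nat_lit 15, nat_lit 8, nat_lit 3, nat_lit 21, nat_lit 10, nat_lit 6, nat_lit 5, nat_lit 17, nat_lit 1, nat_lit 11, nat_lit 9, nat_lit 16], [nat_lit 10, nat_lit 3, nat_lit 21, nat_lit 1, nat_lit 4, nat_lit 16, nat_lit 14, nat_lit 20, nat_lit 11, nat_lit 0, nat_lit 15, nat_lit 5, nat_lit 18, nat_lit 19, nat_lit 7, nat_lit 9, nat_lit 8, nat_lit 17, nat_lit 12, nat_lit 2, nat_lit 6, nat_lit 13], [nat_lit 6, nat_lit 1, nat_lit 8, nat_lit 18, nat_lit 17, nat_lit 0, nat_lit 16, nat_lit 2, nat_lit 14, nat_lit 11, nat_lit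 13, nat_lit 19, nat_lit 12, nat_lit 21, nat_lit 7, nat_lit 9, nat_lit 5, nat_lit 4, nat_lit 3, nat_lit 15, nat_lit 10, nat_lit 20], [nat_lit 10, nat_lit 18, nat_lit 5, nat_lit 12, nat_lit 4, nat_lit 11, nat_lit 0, nat_lit 15, nat_lit 16, nat_lit 14, nat_lit 20, nat_lit 21, nat_lit 3, nat_lit 8, nat_lit 7, nat_lit 9, nat_lit 19, nat_lit 17, nat_lit 1, nat_lit 13, nat_lit 6, nat_lit 2], [nat_lit 11, nat_lit 3, nat_lit 14, nat_lit 12, nat_lit 17, nat_lit 5, nat_lit 9, nat_lit 6, nat_lit 19, nat_lit 10, nat_lit 7, nat_lit 15, nat_lit 18, nat_lit 0, nat_lit 16, nat_lit 13, nat_lit 20, nat_lit 4, nat_lit 1, nat_lit 8, nat_lit 2, nat_lit 21], [nat_lit 21, nat_lit 3, nat_lit 10, nat_lit 1, nat_lit 4, nat_lit 0, nat_lit 2, nat_lit 13, nat_lit 15, nat_lit 16, nat_lit 11, nat_lit 6, nat_lit 18, nat_lit 9, nat_lit 8, nat_lit 19, nat_lit 7, nat_lit 17, nat_lit 12, nat_lit 14, nat_lit 5, nat_lit 20],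 [nat_lit 0, nat_lit 18, nat_lit 16, nat_lit 1, nat_lit 17, nat_lit 10, nat_lit 19, nat_lit 5, nat_lit 7, nat_lit 21, nat_lit 8, nat_lit 13, nat_lit 3, nat_lit 2, nat_lit 15, nat_lit 14, nat_lit 11, nat_lit 4, nat_lit 12, nat_lit 9, nat_lit 20, nat_lit 6], [nat_lit 11, nat_lit 12, nat_lit 0, nat_lit 18, nat_lit 4, nat_lit 6, nat_lit 21, nat_lit 19, nat_lit 7, nat_lit 8, nat_lit 5, nat_lit 20, nat_lit 1, nat_lit 15, nat_lit 13, nat_lit 16, nat_lit 14, nat_lit 17, nat_lit 3, nat_lit 9, nat_lit 2, nat_lit 10], [nat_lit 5, nat_lit 12, nat_lit 9, nat_lit 3, nat_lit 17, nat_lit 2, nat_lit 15, nat_lit 20, nat_lit 16, nat_lit 0, nat_lit 14, nat_lit 7, nat_lit 1, nat_lit 6, nat_lit 8, nat_lit 19, nat_lit 10, nat_lit 4, nat_lit 18, nat_lit 13, nat_lit 21, nat_lit 11], [nat_lit 20, nat_lit 12, nat_lit 2, nat_lit 18, nat_lit 4, nat_lit 19, nat_lit 7, nat_lit 6, nat_lit 21, nat_lit 10, nat_lit 9, nat_lit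 11, nat_lit 1, nat_lit 13, nat_lit 15, nat_lit 14, nat_lit 16, nat_lit 17, nat_lit 3, nat_lit 5, nat_lit 0, nat_lit 8], [nat_lit 2, nat_lit 3, nat_lit 15, nat_lit 12, nat_lit 17, nat_lit 21, nat_lit 7, nat_lit 10, nat_lit 8, nat_lit 6, nat_lit 9, nat_lit 14, nat_lit 18, nat_lit 20, nat_lit 13, nat_lit 16, nat_lit 0, nat_lit 4, nat_lit 1, nat_lit 19, nat_lit 11, nat_lit 5], [nat_lit 21, nat_lit 18, nat_lit 6, nat_lit 12, nat_lit 4, nat_lit 15, nat_lit 16, nat_lit 11, nat_lit 0, nat_lit 2, nat_lit 13, nat_lit 10, nat_lit 3, nat_lit 7, nat_lit 8, nat_lit 19, nat_lit 9, nat_lit 17, nat_lit 1, nat_lit 20, nat_lit 5, nat_lit 14], [nat_lit 15, nat_lit 3, nat_lit 2, nat_lit 12, nat_lit 17, nat_lit 6, nat_lit 19, nat_lit 5, nat_lit 9, nat_lit 21, nat_lit 8, nat_lit 11, nat_lit 18, nat_lit 16, nat_lit 0, nat_lit 20, nat_lit 13, nat_lit 4, nat_lit 1, nat_lit 7, nat_lit 14, nat_lit 10], [nat_lit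 6, nat_lit 18, nat_lit 21, nat_lit 12, nat_lit 4, nat_lit 2, nat_lit 20, nat_lit 14, nat_lit 13, nat_lit 15, nat_lit 0, nat_lit 5, nat_lit 3, nat_lit 19, nat_lit 9, nat_lit 7, nat_lit 8, nat_lit 17, nat_lit 1, nat_lit 16, nat_lit 10, nat_lit 11], [nat_lit 13, nat_lit 3, nat_lit 0, nat_lit 12, nat_lit 17, nat_lit 19, nat_lit 6, nat_lit 9, nat_lit 5, nat_lit 7, nat_lit 10, nat_lit 20, nat_lit 18, nat_lit 14, nat_lit 2, nat_lit 11, nat_lit 15, nat_lit 4, nat_lit 1, nat_lit 21, nat_lit 16, nat_lit 8], [nat_lit 7, nat_lit 1, nat_lit 5, nat_lit 18, nat_lit 17, nat_lit 15, nat_lit 11, nat_lit 13, nat_lit 20, nat_lit 16, nat_lit 2, nat_lit 21, nat_lit 12, nat_lit 19, nat_lit 6, nat_lit 10, nat_lit 8, nat_lit 4, nat_lit 3, nat_lit 0, nat_lit 9, nat_lit 14], [nat_lit 10, nat_lit 12, nat_lit 8, nat_lit 3, nat_lit 17, nat_lit 15, nat_lit 2, nat_lit 16, nat_lit 20, nat_lit 13, nat_lit 11, nat_lit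 19, nat_lit 1, nat_lit 21, nat_lit 9, nat_lit 7, nat_lit 5, nat_lit 4, nat_lit 18, nat_lit 0, nat_lit 6, nat_lit 14], [nat_lit 6, nat_lit 3, nat_lit 5, nat_lit 1, nat_lit 4, nat_lit 13, nat_lit 15, nat_lit 0, nat_lit 2, nat_lit 20, nat_lit 14, nat_lit 21, nat_lit 18, nat_lit 8, nat_lit 9, nat_lit 7, nat_lit 19, nat_lit 17, nat_lit 12, nat_lit 11, nat_lit 10, nat_lit 16], [nat_lit 10, nat_lit 1, nat_lit 19, nat_lit 18, nat_lit 17, nat_lit 20, nat_lit 13, nat_lit 11, nat_lit 15, nat_lit 2, nat_lit 16, nat_lit 8, nat_lit 12, nat_lit 5, nat_lit 9, nat_lit 7, nat_lit 21, nat_lit 4, nat_lit 3, nat_lit 14, nat_lit 6, nat_lit 0], [nat_lit 11, nat_lit 1, nat_lit 20, nat_lit 3, nat_lit 4, nat_lit 7, nat_lit 8, nat_lit 5, nat_lit 6, nat_lit 21, nat_lit 19, nat_lit 0, nat_lit 12, nat_lit 14, nat_lit 13, nat_lit 16, nat_lit 15, nat_lit 17, nat_lit 18, nat_lit 10, nat_lit 2, nat_lit 9], [nat_lit 8,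 nat_lit 1, nat_lit 6, nat_lit 18, nat_lit 17, nat_lit 11, nat_lit 15, nat_lit 20, nat_lit 13, nat_lit 0, nat_lit 14, nat_lit 10, nat_lit 12, nat_lit 9, nat_lit 5, nat_lit 21, nat_lit 7, nat_lit 4, nat_lit 3, nat_lit 16, nat_lit 19, nat_lit 2], [nat_lit 5, nat_lit 18, nat_lit 10, nat_lit 12, nat_lit 4, nat_lit 14, nat_lit 13, nat_lit 2, nat_lit 20, nat_lit 11, nat_lit 16, nat_lit 6, nat_lit 3, nat_lit 9, nat_lit 19, nat_lit 8, nat_lit 7, nat_lit 17, nat_lit 1, nat_lit 0, nat_lit 21, nat_lit 15], [nat_lit 14, nat_lit 3, nat_lit 11, nat_lit 12, nat_lit 17, nat_lit 10, nat_lit 8, nat_lit 21, nat_lit 7, nat_lit 5, nat_lit 19, nat_lit 2, nat_lit 18, nat_lit 13, nat_lit 20, nat_lit 0, nat_lit 16, nat_lit 4, nat_lit 1, nat_lit 9, nat_lit 15, nat_lit 6], [nat_lit 9, nat_lit 18, nat_lit 8, nat_lit 12, nat_lit 4, nat_lit 16, nat_lit 15, nat_lit 0, nat_lit 11, nat_lit 20, nat_lit 14, nat_lit 19,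 nat_lit 3, nat_lit 5, nat_lit 6, nat_lit 10, nat_lit 21, nat_lit 17, nat_lit 1, nat_lit 2, nat_lit 7, nat_lit 13], [nat_lit 9, nat_lit 12, nat_lit 5, nat_lit 3, nat_lit 17, nat_lit 0, nat_lit 13, nat_lit 11, nat_lit 14, nat_lit 2, nat_lit 16, nat_lit 21, nat_lit 1, nat_lit 19, nat_lit 10, nat_lit 6, nat_lit 8, nat_lit 4, nat_lit 18, nat_lit 15, nat_lit 7, nat_lit 20], [nat_lit 16, nat_lit 1, nat_lit 14, nat_lit 3, nat_lit 4, nat_lit 6, nat_lit 5, nat_lit 8, nat_lit 7, nat_lit 19, nat_lit 21, nat_lit 15, nat_lit 12, nat_lit 20, nat_lit 2, nat_lit 11, nat_lit 0, nat_lit 17, nat_lit 18, nat_lit 9, nat_lit 13, nat_lit 10], [nat_lit 21, nat_lit 3, nat_lit 6, nat_lit 12, nat_lit 17, nat_lit 2, nat_lit 0, nat_lit 14, nat_lit 16, nat_lit 15, nat_lit 20, nat_lit 10, nat_lit 18, nat_lit 9, nat_lit 19, nat_lit 8, nat_lit 7, nat_lit 4, nat_lit 1, nat_lit 13, nat_lit 5, nat_lit 11], [nat_lit 8, nat_lit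 1, nat_lit 10, nat_lit 3, nat_lit 4, nat_lit 15, nat_lit 11, nat_lit 16, nat_lit 0, nat_lit 13, nat_lit 2, nat_lit 6, nat_lit 12, nat_lit 9, nat_lit 21, nat_lit 5, nat_lit 7, nat_lit 17, nat_lit 18, nat_lit 20, nat_lit 19, nat_lit 14], [nat_lit 0, nat_lit 1, nat_lit 11, nat_lit 18, nat_lit 17, nat_lit 6, nat_lit 5, nat_lit 19, nat_lit 9, nat_lit 8, nat_lit 21, nat_lit 2, nat_lit 12, nat_lit 13, nat_lit 15, nat_lit 14, nat_lit 16, nat_lit 4, nat_lit 3, nat_lit 7, nat_lit 20, nat_lit 10], [nat_lit 0, nat_lit 12, nat_lit 2, nat_lit 3, nat_lit 17, nat_lit 9, nat_lit 8, nat_lit 21, nat_lit 6, nat_lit 5, nat_lit 19, nat_lit 11, nat_lit 1, nat_lit 16, nat_lit 15, nat_lit 14, nat_lit 13, nat_lit 4, nat_lit 18, nat_lit 10, nat_lit 20, nat_lit 7], [nat_lit 9, nat_lit 12, nat_lit 21, nat_lit 18, nat_lit 4, nat_lit 13, nat_lit 0, nat_lit 15, nat_lit 2, nat_lit 14, nat_lit 20, nat_lit 5, nat_lit 1,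 nat_lit 19, nat_lit 6, nat_lit 10, nat_lit 8, nat_lit 17, nat_lit 3, nat_lit 11, nat_lit 7, nat_lit 16], [nat_lit 9, nat_lit 3, nat_lit 8, nat_lit 12, nat_lit 17, nat_lit 20, nat_lit 11, nat_lit 13, nat_lit 15, nat_lit 16, nat_lit 2, nat_lit 19, nat_lit 18, nat_lit 21, nat_lit 10, nat_lit 6, nat_lit 5, nat_lit 4, nat_lit 1, nat_lit 14, nat_lit 7, nat_lit 0], [nat_lit 9, nat_lit 1, nat_lit 5, nat_lit 3, nat_lit 4, nat_lit 2, nat_lit 14, nat_lit 20, nat_lit 13, nat_lit 0, nat_lit 15, nat_lit 21, nat_lit 12, nat_lit 8, nat_lit 6, nat_lit 10, nat_lit 19, nat_lit 17, nat_lit 18, nat_lit 16, nat_lit 7, nat_lit 11], [nat_lit 13, nat_lit 1, nat_lit 14, nat_lit 18, nat_lit 17, nat_lit 21, nat_lit 10, nat_lit 7, nat_lit 8, nat_lit 9, nat_lit 6, nat_lit 15, nat_lit 12, nat_lit 0, nat_lit 2, nat_lit 11, nat_lit 20, nat_lit 4, nat_lit 3, nat_lit 19, nat_lit 16, nat_lit 5], [nat_lit 5, nat_lit 1, nat_lit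 9, nat_lit 3, nat_lit 4, nat_lit 0, nat_lit 16, nat_lit 11, nat_lit 15, nat_lit 2, nat_lit 13, nat_lit 7, nat_lit 12, nat_lit 10, nat_lit 19, nat_lit 8, nat_lit 6, nat_lit 17, nat_lit 18, nat_lit 14, nat_lit 21, nat_lit 20], [nat_lit 19, nat_lit 18, nat_lit 9, nat_lit 1, nat_lit 17, nat_lit 11, nat_lit 0, nat_lit 14, nat_lit 13, nat_lit 15, nat_lit 20, nat_lit 7, nat_lit 3, nat_lit 6, nat_lit 21, nat_lit 5, nat_lit 10, nat_lit 4, nat_lit 12, nat_lit 16, nat_lit 8, nat_lit 2], [nat_lit 20, nat_lit 18, nat_lit 16, nat_lit 12, nat_lit 4, nat_lit 8, nat_lit 6, nat_lit 7, nat_lit 5, nat_lit 9, nat_lit 10, nat_lit 13, nat_lit 3, nat_lit 11, nat_lit 15, nat_lit 14, nat_lit 2, nat_lit 17, nat_lit 1, nat_lit 21, nat_lit 0, nat_lit 19], [nat_lit 2, nat_lit 12, nat_lit 0, nat_lit 3, nat_lit 17, nat_lit 5, nat_lit 10, nat_lit 7, nat_lit 19, nat_lit 9, nat_lit 6, nat_lit 20, nat_lit 1, nat_lit 14,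 nat_lit 13, nat_lit 16, nat_lit 15, nat_lit 4, nat_lit 18, nat_lit 8, nat_lit 11, nat_lit 21], [nat_lit 6, nat_lit 18, nat_lit 5, nat_lit 1, nat_lit 17, nat_lit 20, nat_lit 2, nat_lit 16, nat_lit 15, nat_lit 13, nat_lit 11, nat_lit 21, nat_lit 3, nat_lit 19, nat_lit 7, nat_lit 9, nat_lit 8, nat_lit 4, nat_lit 12, nat_lit 14, nat_lit 10, nat_lit 0], [nat_lit 13, nat_lit 18, nat_lit 0, nat_lit 12, nat_lit 4, nat_lit 7, nat_lit 5, nat_lit 8, nat_lit 6, nat_lit 19, nat_lit 21, nat_lit 20, nat_lit 3, nat_lit 15, nat_lit 11, nat_lit 2, nat_lit 14, nat_lit 17, nat_lit 1, nat_lit 10, nat_lit 16, nat_lit 9], [nat_lit 5, nat_lit 3, nat_lit 10, nat_lit 12, nat_lit 17, nat_lit 11, nat_lit 20, nat_lit 15, nat_lit 13, nat_lit 14, nat_lit 0, nat_lit 6, nat_lit 18, nat_lit 7, nat_lit 8, nat_lit 19, nat_lit 9, nat_lit 4, nat_lit 1, nat_lit 16, nat_lit 21, nat_lit 2], [nat_lit 20, nat_lit 1, nat_lit 2,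 nat_lit 18, nat_lit 17, nat_lit 10, nat_lit 21, nat_lit 8, nat_lit 7, nat_lit 19, nat_lit 5, nat_lit 11, nat_lit 12, nat_lit 16, nat_lit 14, nat_lit 15, nat_lit 13, nat_lit 4, nat_lit 3, nat_lit 9, nat_lit 0, nat_lit 6], [nat_lit 10, nat_lit 18, nat_lit 21, nat_lit 1, nat_lit 17, nat_lit 0, nat_lit 11, nat_lit 13, nat_lit 14, nat_lit 16, nat_lit 2, nat_lit 5, nat_lit 3, nat_lit 8, nat_lit 9, nat_lit 7, nat_lit 19, nat_lit 4, nat_lit 12, nat_lit 15, nat_lit 6, nat_lit 20], [nat_lit 11, nat_lit 3, nat_lit 15, nat_lit 1, nat_lit 4, nat_lit 9, nat_lit 5, nat_lit 8, nat_lit 10, nat_lit 19, nat_lit 21, nat_lit 14, nat_lit 18, nat_lit 0, nat_lit 13, nat_lit 16, nat_lit 20, nat_lit 17, nat_lit 12, nat_lit 6, nat_lit 2, nat_lit 7], [nat_lit 5, nat_lit 18, nat_lit 6, nat_lit 1, nat_lit 17, nat_lit 13, nat_lit 14, nat_lit 0, nat_lit 11, nat_lit 20, nat_lit 15, nat_lit 10, nat_lit 3, nat_lit 9, nat_lit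 8, nat_lit 19, nat_lit 7, nat_lit 4, nat_lit 12, nat_lit 2, nat_lit 21, nat_lit 16], [nat_lit 14, nat_lit 3, nat_lit 2, nat_lit 1, nat_lit 4, nat_lit 8, nat_lit 10, nat_lit 9, nat_lit 5, nat_lit 7, nat_lit 6, nat_lit 11, nat_lit 18, nat_lit 13, nat_lit 0, nat_lit 20, nat_lit 16, nat_lit 17, nat_lit 12, nat_lit 21, nat_lit 15, nat_lit 19], [nat_lit 9, nat_lit 18, nat_lit 19, nat_lit 1, nat_lit 17, nat_lit 15, nat_lit 16, nat_lit 2, nat_lit 20, nat_lit 11, nat_lit 13, nat_lit 8, nat_lit 3, nat_lit 5, nat_lit 10, nat_lit 6, nat_lit 21, nat_lit 4, nat_lit 12, nat_lit 0, nat_lit 7, nat_lit 14], [nat_lit 16, nat_lit 1, nat_lit 15, nat_lit 18, nat_lit 17, nat_lit 5, nat_lit 6, nat_lit 9, nat_lit 19, nat_lit 7, nat_lit 10, nat_lit 14, nat_lit 12, nat_lit 20, nat_lit 11, nat_lit 2, nat_lit 0, nat_lit 4, nat_lit 3, nat_lit 8, nat_lit 13, nat_lit 21], [nat_lit 0, nat_lit 18, nat_lit 13, nat_lit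 12, nat_lit 4, nat_lit 19, nat_lit 10, nat_lit 9, nat_lit 21, nat_lit 7, nat_lit 6, nat_lit 16, nat_lit 3, nat_lit 2, nat_lit 14, nat_lit 15, nat_lit 11, nat_lit 17, nat_lit 1, nat_lit 5, nat_lit 20, nat_lit 8], [nat_lit 11, nat_lit 12, nat_lit 20, nat_lit 3, nat_lit 17, nat_lit 21, nat_lit 6, nat_lit 9, nat_lit 8, nat_lit 7, nat_lit 10, nat_lit 0, nat_lit 1, nat_lit 15, nat_lit 16, nat_lit 13, nat_lit 14, nat_lit 4, nat_lit 18, nat_lit 19, nat_lit 2, nat_lit 5], [nat_lit 5, nat_lit 12, nat_lit 7, nat_lit 18, nat_lit 4, nat_lit 15, nat_lit 2, nat_lit 13, nat_lit 0, nat_lit 16, nat_lit 11, nat_lit 9, nat_lit 1, nat_lit 6, nat_lit 19, nat_lit 8, nat_lit 10, nat_lit 17, nat_lit 3, nat_lit 20, nat_lit 21, nat_lit 14], [nat_lit 20, nat_lit 12, nat_lit 11, nat_lit 3, nat_lit 17, nat_lit 7, nat_lit 19, nat_lit 5, nat_lit 10, nat_lit 21, nat_lit 8, nat_lit 2, nat_lit 1, nat_lit 13, nat_lit 14,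 nat_lit 15, nat_lit 16, nat_lit 4, nat_lit 18, nat_lit 6, nat_lit 0, nat_lit 9], [nat_lit 2, nat_lit 3, nat_lit 14, nat_lit 1, nat_lit 4, nat_lit 7, nat_lit 21, nat_lit 19, nat_lit 6, nat_lit 8, nat_lit 5, nat_lit 15, nat_lit 18, nat_lit 20, nat_lit 16, nat_lit 13, nat_lit 0, nat_lit 17, nat_lit 12, nat_lit 10, nat_lit 11, nat_lit 9], [nat_lit 0, nat_lit 3, nat_lit 16, nat_lit 1, nat_lit 4, nat_lit 21, nat_lit 7, nat_lit 6, nat_lit 19, nat_lit 10, nat_lit 9, nat_lit 13, nat_lit 18, nat_lit 11, nat_lit 14, nat_lit 15, nat_lit 2, nat_lit 17, nat_lit 12, nat_lit 8, nat_lit 20, nat_lit 5], [nat_lit 11, nat_lit 1, nat_lit 0, nat_lit 18, nat_lit 17, nat_lit 8, nat_lit 7, nat_lit 10, nat_lit 21, nat_lit 6, nat_lit 9, nat_lit 20, nat_lit 12, nat_lit 14, nat_lit 16, nat_lit 13, nat_lit 15, nat_lit 4, nat_lit 3, nat_lit 5, nat_lit 2, nat_lit 19], [nat_lit 8, nat_lit 12, nat_lit 6, nat_lit 18, nat_lit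 4, nat_lit 0, nat_lit 13, nat_lit 2, nat_lit 15, nat_lit 11, nat_lit 16, nat_lit 10, nat_lit 1, nat_lit 7, nat_lit 21, nat_lit 5, nat_lit 9, nat_lit 17, nat_lit 3, nat_lit 14, nat_lit 19, nat_lit 20], [nat_lit 7, nat_lit 1, nat_lit 21, nat_lit 3, nat_lit 4, nat_lit 11, nat_lit 15, nat_lit 0, nat_lit 16, nat_lit 20, nat_lit 14, nat_lit 5, nat_lit 12, nat_lit 19, nat_lit 10, nat_lit 6, nat_lit 8, nat_lit 17, nat_lit 18, nat_lit 13, nat_lit 9, nat_lit 2], [nat_lit 8, nat_lit 18, nat_lit 7, nat_lit 1, nat_lit 17, nat_lit 2, nat_lit 20, nat_lit 15, nat_lit 16, nat_lit 14, nat_lit 0, nat_lit 9, nat_lit 3, nat_lit 10, nat_lit 5, nat_lit 21, nat_lit 6, nat_lit 4, nat_lit 12, nat_lit 13, nat_lit 19, nat_lit 11], [nat_lit 13, nat_lit 3, nat_lit 20, nat_lit 1, nat_lit 4, nat_lit 6, nat_lit 19, nat_lit 21, nat_lit 7, nat_lit 5, nat_lit 8, nat_lit 0, nat_lit 18, nat_lit 14, nat_lit 11, nat_lit 2,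 nat_lit 15, nat_lit 17, nat_lit 12, nat_lit 9, nat_lit 16, nat_lit 10], [nat_lit 19, nat_lit 12, nat_lit 10, nat_lit 18, nat_lit 4, nat_lit 20, nat_lit 16, nat_lit 11, nat_lit 14, nat_lit 2, nat_lit 13, nat_lit 6, nat_lit 1, nat_lit 9, nat_lit 5, nat_lit 21, nat_lit 7, nat_lit 17, nat_lit 3, nat_lit 15, nat_lit 8, nat_lit 0], [nat_lit 14, nat_lit 12, nat_lit 16, nat_lit 3, nat_lit 17, nat_lit 6, nat_lit 21, nat_lit 8, nat_lit 9, nat_lit 19, nat_lit 5, nat_lit 13, nat_lit 1, nat_lit 2, nat_lit 20, nat_lit 0, nat_lit 11, nat_lit 4, nat_lit 18, nat_lit 7, nat_lit 15, nat_lit 10], [nat_lit 16, nat_lit 3, nat_lit 0, nat_lit 1, nat_lit 4, nat_lit 10, nat_lit 8, nat_lit 5, nat_lit 9, nat_lit 21, nat_lit 19, nat_lit 20, nat_lit 18, nat_lit 15, nat_lit 2, nat_lit 11, nat_lit 14, nat_lit 17, nat_lit 12, nat_lit 7, nat_lit 13, nat_lit 6], [nat_lit 21, nat_lit 12, nat_lit 9, nat_lit 18, nat_lit 4,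 nat_lit 14, nat_lit 11, nat_lit 16, nat_lit 20, nat_lit 13, nat_lit 2, nat_lit 7, nat_lit 1, nat_lit 10, nat_lit 8, nat_lit 19, nat_lit 6, nat_lit 17, nat_lit 3, nat_lit 0, nat_lit 5, nat_lit 15], [nat_lit 8, nat_lit 3, nat_lit 9, nat_lit 12, nat_lit 17, nat_lit 16, nat_lit 14, nat_lit 0, nat_lit 2, nat_lit 20, nat_lit 15, nat_lit 7, nat_lit 18, nat_lit 6, nat_lit 5, nat_lit 21, nat_lit 10, nat_lit 4, nat_lit 1, nat_lit 11, nat_lit 19, nat_lit 13], [nat_lit 13, nat_lit 18, nat_lit 20, nat_lit 1, nat_lit 17, nat_lit 5, nat_lit 7, nat_lit 10, nat_lit 19, nat_lit 6, nat_lit 9, nat_lit 0, nat_lit 3, nat_lit 15, nat_lit 2, nat_lit 11, nat_lit 14, nat_lit 4, nat_lit 12, nat_lit 8, nat_lit 16, nat_lit 21], [nat_lit 7, nat_lit 12, nat_lit 21, nat_lit 3, nat_lit 17, nat_lit 20, nat_lit 16, nat_lit 2, nat_lit 15, nat_lit 11, nat_lit 13, nat_lit 5, nat_lit 1, nat_lit 8, nat_lit 6, nat_lit 10, nat_lit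 19, nat_lit 4, nat_lit 18, nat_lit 14, nat_lit 9, nat_lit 0], [nat_lit 7, nat_lit 3, nat_lit 8, nat_lit 1, nat_lit 4, nat_lit 2, nat_lit 0, nat_lit 15, nat_lit 13, nat_lit 14, nat_lit 20, nat_lit 19, nat_lit 18, nat_lit 5, nat_lit 10, nat_lit 6, nat_lit 21, nat_lit 17, nat_lit 12, nat_lit 16, nat_lit 9, nat_lit 11], [nat_lit 16, nat_lit 3, nat_lit 20, nat_lit 12, nat_lit 17, nat_lit 8, nat_lit 10, nat_lit 7, nat_lit 21, nat_lit 9, nat_lit 6, nat_lit 0, nat_lit 18, nat_lit 15, nat_lit 11, nat_lit 2, nat_lit 14, nat_lit 4, nat_lit 1, nat_lit 5, nat_lit 13, nat_lit 19], [nat_lit 8, nat_lit 3, nat_lit 7, nat_lit 1, nat_lit 4, nat_lit 14, nat_lit 16, nat_lit 11, nat_lit 20, nat_lit 2, nat_lit 13, nat_lit 9, nat_lit 18, nat_lit 6, nat_lit 21, nat_lit 5, nat_lit 10, nat_lit 17, nat_lit 12, nat_lit 0, nat_lit 19, nat_lit 15], [nat_lit 15, nat_lit 18, nat_lit 11, nat_lit 1, nat_lit 17, nat_lit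 9, nat_lit 21, nat_lit 8, nat_lit 6, nat_lit 19, nat_lit 5, nat_lit 2, nat_lit 3, nat_lit 13, nat_lit 0, nat_lit 20, nat_lit 16, nat_lit 4, nat_lit 12, nat_lit 10, nat_lit 14, nat_lit 7], [nat_lit 8, nat_lit 12, nat_lit 10, nat_lit 3, nat_lit 17, nat_lit 13, nat_lit 0, nat_lit 14, nat_lit 11, nat_lit 15, nat_lit 20, nat_lit 6, nat_lit 1, nat_lit 7, nat_lit 5, nat_lit 21, nat_lit 9, nat_lit 4, nat_lit 18, nat_lit 2, nat_lit 19, nat_lit 16], [nat_lit 8, nat_lit 18, nat_lit 9, nat_lit 12, nat_lit 4, nat_lit 20, nat_lit 2, nat_lit 13, nat_lit 14, nat_lit 16, nat_lit 11, nat_lit 7, nat_lit 3, nat_lit 10, nat_lit 21, nat_lit 5, nat_lit 6, nat_lit 17, nat_lit 1, nat_lit 15, nat_lit 19, nat_lit 0], [nat_lit 0, nat_lit 3, nat_lit 13, nat_lit 12, nat_lit 17, nat_lit 7, nat_lit 21, nat_lit 8, nat_lit 10, nat_lit 19, nat_lit 5, nat_lit 16, nat_lit 18, nat_lit 11, nat_lit 15, nat_lit 14, nat_lit 2,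 nat_lit 4, nat_lit 1, nat_lit 6, nat_lit 20, nat_lit 9], [nat_lit 9, nat_lit 3, nat_lit 19, nat_lit 1, nat_lit 4, nat_lit 11, nat_lit 20, nat_lit 14, nat_lit 16, nat_lit 15, nat_lit 0, nat_lit 8, nat_lit 18, nat_lit 21, nat_lit 6, nat_lit 10, nat_lit 5, nat_lit 17, nat_lit 12, nat_lit 13, nat_lit 7, nat_lit 2], [nat_lit 9, nat_lit 1, nat_lit 21, nat_lit 18, nat_lit 17, nat_lit 14, nat_lit 2, nat_lit 16, nat_lit 0, nat_lit 13, nat_lit 11, nat_lit 5, nat_lit 12, nat_lit 8, nat_lit 10, nat_lit 6, nat_lit 19, nat_lit 4, nat_lit 3, nat_lit 20, nat_lit 7, nat_lit 15], [nat_lit 13, nat_lit 1, nat_lit 15, nat_lit 3, nat_lit 4, nat_lit 10, nat_lit 21, nat_lit 19, nat_lit 9, nat_lit 8, nat_lit 5, nat_lit 14, nat_lit 12, nat_lit 0, nat_lit 11, nat_lit 2, nat_lit 20, nat_lit 17, nat_lit 18, nat_lit 7, nat_lit 16, nat_lit 6], [nat_lit 5, nat_lit 1, nat_lit 7, nat_lit 18, nat_lit 17, nat_lit 16, nat_lit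 0, nat_lit 14, nat_lit 2, nat_lit 15, nat_lit 20, nat_lit 9, nat_lit 12, nat_lit 10, nat_lit 8, nat_lit 19, nat_lit 6, nat_lit 4, nat_lit 3, nat_lit 11, nat_lit 21, nat_lit 13], [nat_lit 19, nat_lit 18, nat_lit 7, nat_lit 12, nat_lit 4, nat_lit 0, nat_lit 11, nat_lit 16, nat_lit 15, nat_lit 13, nat_lit 2, nat_lit 9, nat_lit 3, nat_lit 6, nat_lit 5, nat_lit 21, nat_lit 10, nat_lit 17, nat_lit 1, nat_lit 14, nat_lit 8, nat_lit 20], [nat_lit 2, nat_lit 1, nat_lit 0, nat_lit 3, nat_lit 4, nat_lit 9, nat_lit 19, nat_lit 21, nat_lit 10, nat_lit 5, nat_lit 8, nat_lit 20, nat_lit 12, nat_lit 15, nat_lit 16, nat_lit 13, nat_lit 14, nat_lit 17, nat_lit 18, nat_lit 6, nat_lit 11, nat_lit 7], [nat_lit 0, nat_lit 12, nat_lit 11, nat_lit 18, nat_lit 4, nat_lit 8, nat_lit 9, nat_lit 10, nat_lit 5, nat_lit 6, nat_lit 7, nat_lit 2, nat_lit 1, nat_lit 16, nat_lit 14, nat_lit 15, nat_lit 13, nat_lit 17,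 nat_lit 3, nat_lit 21, nat_lit 20, nat_lit 19], [nat_lit 14, nat_lit 12, nat_lit 13, nat_lit 18, nat_lit 4, nat_lit 21, nat_lit 6, nat_lit 7, nat_lit 19, nat_lit 9, nat_lit 10, nat_lit 16, nat_lit 1, nat_lit 2, nat_lit 0, nat_lit 20, nat_lit 11, nat_lit 17, nat_lit 3, nat_lit 8, nat_lit 15, nat_lit 5], [nat_lit 14, nat_lit 1, nat_lit 13, nat_lit 18, nat_lit 17, nat_lit 9, nat_lit 19, nat_lit 5, nat_lit 6, nat_lit 21, nat_lit 8, nat_lit 16, nat_lit 12, nat_lit 11, nat_lit 20, nat_lit 0, nat_lit 2, nat_lit 4, nat_lit 3, nat_lit 10, nat_lit 15, nat_lit 7], [nat_lit 14, nat_lit 18, nat_lit 11, nat_lit 12, nat_lit 4, nat_lit 5, nat_lit 7, nat_lit 6, nat_lit 8, nat_lit 10, nat_lit 9, nat_lit 2, nat_lit 3, nat_lit 16, nat_lit 0, nat_lit 20, nat_lit 13, nat_lit 17, nat_lit 1, nat_lit 19, nat_lit 15, nat_lit 21], [nat_lit 16, nat_lit 12, nat_lit 14, nat_lit 3, nat_lit 17, nat_lit 19, nat_lit 7,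 nat_lit 10, nat_lit 5, nat_lit 6, nat_lit 9, nat_lit 15, nat_lit 1, nat_lit 0, nat_lit 11, nat_lit 2, nat_lit 20, nat_lit 4, nat_lit 18, nat_lit 21, nat_lit 13, nat_lit 8], [nat_lit 10, nat_lit 1, nat_lit 8, nat_lit 3, nat_lit 4, nat_lit 13, nat_lit 20, nat_lit 14, nat_lit 2, nat_lit 15, nat_lit 0, nat_lit 19, nat_lit 12, nat_lit 5, nat_lit 7, nat_lit 9, nat_lit 21, nat_lit 17, nat_lit 18, nat_lit 11, nat_lit 6, nat_lit 16]]

/-- data -/
noncomputable def Q : List (List Nat × List Nat × Nat) :=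
  [([nat_lit 14, nat_lit 1, nat_lit 16, nat_lit 3, nat_lit 4, nat_lit 19, nat_lit 9, nat_lit 10, nat_lit 21, nat_lit 6, nat_lit 7, nat_lit 13, nat_lit 12, nat_lit 11, nat_lit 0, nat_lit 20, nat_lit 2, nat_lit 17, nat_lit 18, nat_lit 5, nat_lit 15, nat_lit 8], [nat_lit 125, nat_lit 0, nat_lit 944, nat_lit 0, nat_lit 0, nat_lit 397, nat_lit 576, nat_lit 407, nat_lit 602, nat_lit 576], nat_lit 28), ([nat_lit 15, nat_lit 1, nat_lit 13, nat_lit 3, nat_lit 4, nat_lit 8, nat_lit 7, nat_lit 6, nat_lit 5, nat_lit 10, nat_lit 9, nat_lit 16, nat_lit 12, nat_lit 2, nat_lit 20, nat_lit 0, nat_lit 11, nat_lit 17, nat_lit 18, nat_lit 21, nat_lit 14, nat_lit 19], [nat_lit 202, nat_lit 0, nat_lit 765, nat_lit 0, nat_lit 0, nat_lit 288, nat_lit 192, nat_lit 192, nat_lit 288, nat_lit 791], nat_lit 28), ([nat_lit 21, nat_lit 1, nat_lit 7, nat_lit 3, nat_lit 4, nat_lit 20, nat_lit 13, nat_lit 2, nat_lit 14,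 nat_lit 11, nat_lit 16, nat_lit 9, nat_lit 12, nat_lit 6, nat_lit 8, nat_lit 19, nat_lit 10, nat_lit 17, nat_lit 18, nat_lit 15, nat_lit 5, nat_lit 0], [nat_lit 859, nat_lit 0, nat_lit 132, nat_lit 0, nat_lit 0, nat_lit 833, nat_lit 697, nat_lit 132, nat_lit 380, nat_lit 158], nat_lit 16), ([nat_lit 6, nat_lit 1, nat_lit 19, nat_lit 3, nat_lit 4, nat_lit 16, nat_lit 0, nat_lit 15, nat_lit 11, nat_lit 14, nat_lit 20, nat_lit 8, nat_lit 12, nat_lit 21, nat_lit 9, nat_lit 7, nat_lit 5, nat_lit 17, nat_lit 18, nat_lit 2, nat_lit 10, nat_lit 13], [nat_lit 65, nat_lit 0, nat_lit 425, nat_lit 0, nat_lit 0, nat_lit 916, nat_lit 65, nat_lit 75, nat_lit 926, nat_lit 636], nat_lit 16), ([nat_lit 19, nat_lit 1, nat_lit 6, nat_lit 3, nat_lit 4, nat_lit 14, nat_lit 2, nat_lit 13, nat_lit 20, nat_lit 16, nat_lit 11, nat_lit 10, nat_lit 12, nat_lit 7, nat_lit 5, nat_lit 21, nat_lit 9, nat_lit 17, nat_lit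 18, nat_lit 0, nat_lit 8, nat_lit 15], [nat_lit 428, nat_lit 0, nat_lit 68, nat_lit 0, nat_lit 0, nat_lit 92, nat_lit 68, nat_lit 633, nat_lit 609, nat_lit 436], nat_lit 16), ([nat_lit 15, nat_lit 3, nat_lit 11, nat_lit 1, nat_lit 4, nat_lit 19, nat_lit 6, nat_lit 7, nat_lit 21, nat_lit 9, nat_lit 10, nat_lit 2, nat_lit 18, nat_lit 16, nat_lit 20, nat_lit 0, nat_lit 13, nat_lit 17, nat_lit 12, nat_lit 5, nat_lit 14, nat_lit 8], [nat_lit 202, nat_lit 10, nat_lit 666, nat_lit 10, nat_lit 0, nat_lit 397, nat_lit 0, nat_lit 0, nat_lit 602, nat_lit 0], nat_lit 16), ([nat_lit 15, nat_lit 18, nat_lit 2, nat_lit 12, nat_lit 4, nat_lit 21, nat_lit 9, nat_lit 10, nat_lit 19, nat_lit 6, nat_lit 7, nat_lit 11, nat_lit 3, nat_lit 13, nat_lit 20, nat_lit 0, nat_lit 16, nat_lit 17, nat_lit 1, nat_lit 8, nat_lit 14, nat_lit 5], [nat_lit 202, nat_lit 496, nat_lit 0, nat_lit 551, nat_lit 0, nat_lit 890,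 nat_lit 576, nat_lit 407, nat_lit 173, nat_lit 576], nat_lit 16), ([nat_lit 20, nat_lit 3, nat_lit 13, nat_lit 1, nat_lit 4, nat_lit 5, nat_lit 9, nat_lit 10, nat_lit 8, nat_lit 6, nat_lit 7, nat_lit 16, nat_lit 18, nat_lit 2, nat_lit 15, nat_lit 14, nat_lit 11, nat_lit 17, nat_lit 12, nat_lit 19, nat_lit 0, nat_lit 21], [nat_lit 864, nat_lit 10, nat_lit 765, nat_lit 10, nat_lit 0, nat_lit 0, nat_lit 576, nat_lit 407, nat_lit 0, nat_lit 576], nat_lit 16), ([nat_lit 20, nat_lit 1, nat_lit 11, nat_lit 3, nat_lit 4, nat_lit 21, nat_lit 10, nat_lit 9, nat_lit 19, nat_lit 7, nat_lit 6, nat_lit 2, nat_lit 12, nat_lit 16, nat_lit 15, nat_lit 14, nat_lit 13, nat_lit 17, nat_lit 18, nat_lit 8, nat_lit 0, nat_lit 5], [nat_lit 864, nat_lit 0, nat_lit 666, nat_lit 0, nat_lit 0, nat_lit 890, nat_lit 343, nat_lit 640, nat_lit 173, nat_lit 640], nat_lit 36), ([nat_lit 15, nat_lit 12, nat_lit 16, nat_lit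 18, nat_lit 4, nat_lit 5, nat_lit 10, nat_lit 9, nat_lit 8, nat_lit 7, nat_lit 6, nat_lit 13, nat_lit 1, nat_lit 11, nat_lit 20, nat_lit 0, nat_lit 2, nat_lit 17, nat_lit 3, nat_lit 19, nat_lit 14, nat_lit 21], [nat_lit 202, nat_lit 557, nat_lit 944, nat_lit 506, nat_lit 0, nat_lit 0, nat_lit 343, nat_lit 640, nat_lit 0, nat_lit 640], nat_lit 20), ([nat_lit 20, nat_lit 12, nat_lit 2, nat_lit 18, nat_lit 4, nat_lit 19, nat_lit 7, nat_lit 6, nat_lit 21, nat_lit 10, nat_lit 9, nat_lit 11, nat_lit 1, nat_lit 13, nat_lit 15, nat_lit 14, nat_lit 16, nat_lit 17, nat_lit 3, nat_lit 5, nat_lit 0, nat_lit 8], [nat_lit 864, nat_lit 557, nat_lit 0, nat_lit 506, nat_lit 0, nat_lit 397, nat_lit 192, nat_lit 192, nat_lit 602, nat_lit 791], nat_lit 20), ([nat_lit 11, nat_lit 1, nat_lit 20, nat_lit 3, nat_lit 4, nat_lit 7, nat_lit 8, nat_lit 5, nat_lit 6, nat_lit 21, nat_lit 19, nat_lit 0, nat_lit 12,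 nat_lit 14, nat_lit 13, nat_lit 16, nat_lit 15, nat_lit 17, nat_lit 18, nat_lit 10, nat_lit 2, nat_lit 9], [nat_lit 671, nat_lit 0, nat_lit 869, nat_lit 0, nat_lit 0, nat_lit 160, nat_lit 320, nat_lit 160, nat_lit 320, nat_lit 346], nat_lit 20), ([nat_lit 16, nat_lit 1, nat_lit 14, nat_lit 3, nat_lit 4, nat_lit 6, nat_lit 5, nat_lit 8, nat_lit 7, nat_lit 19, nat_lit 21, nat_lit 15, nat_lit 12, nat_lit 20, nat_lit 2, nat_lit 11, nat_lit 0, nat_lit 17, nat_lit 18, nat_lit 9, nat_lit 13, nat_lit 10], [nat_lit 949, nat_lit 0, nat_lit 120, nat_lit 0, nat_lit 0, nat_lit 96, nat_lit 96, nat_lit 384, nat_lit 384, nat_lit 941], nat_lit 20), ([nat_lit 8, nat_lit 1, nat_lit 10, nat_lit 3, nat_lit 4, nat_lit 15, nat_lit 11, nat_lit 16, nat_lit 0, nat_lit 13, nat_lit 2, nat_lit 6, nat_lit 12, nat_lit 9, nat_lit 21, nat_lit 5, nat_lit 7, nat_lit 17, nat_lit 18, nat_lit 20, nat_lit 19, nat_lit 14],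 [nat_lit 257, nat_lit 0, nat_lit 275, nat_lit 0, nat_lit 0, nat_lit 235, nat_lit 734, nat_lit 820, nat_lit 257, nat_lit 249], nat_lit 16), ([nat_lit 0, nat_lit 1, nat_lit 11, nat_lit 18, nat_lit 17, nat_lit 6, nat_lit 5, nat_lit 19, nat_lit 9, nat_lit 8, nat_lit 21, nat_lit 2, nat_lit 12, nat_lit 13, nat_lit 15, nat_lit 14, nat_lit 16, nat_lit 4, nat_lit 3, nat_lit 7, nat_lit 20, nat_lit 10], [nat_lit 0, nat_lit 0, nat_lit 666, nat_lit 506, nat_lit 983, nat_lit 96, nat_lit 96, nat_lit 301, nat_lit 768, nat_lit 768], nat_lit 12), ([nat_lit 0, nat_lit 12, nat_lit 2, nat_lit 3, nat_lit 17, nat_lit 9, nat_lit 8, nat_lit 21, nat_lit 6, nat_lit 5, nat_lit 19, nat_lit 11, nat_lit 1, nat_lit 16, nat_lit 15, nat_lit 14, nat_lit 13, nat_lit 4, nat_lit 18, nat_lit 10, nat_lit 20, nat_lit 7], [nat_lit 0, nat_lit 557, nat_lit 0, nat_lit 0, nat_lit 983, nat_lit 544, nat_lit 320, nat_lit 986, nat_lit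 320, nat_lit 544], nat_lit 12), ([nat_lit 9, nat_lit 1, nat_lit 5, nat_lit 3, nat_lit 4, nat_lit 2, nat_lit 14, nat_lit 20, nat_lit 13, nat_lit 0, nat_lit 15, nat_lit 21, nat_lit 12, nat_lit 8, nat_lit 6, nat_lit 10, nat_lit 19, nat_lit 17, nat_lit 18, nat_lit 16, nat_lit 7, nat_lit 11], [nat_lit 513, nat_lit 0, nat_lit 36, nat_lit 0, nat_lit 0, nat_lit 36, nat_lit 60, nat_lit 993, nat_lit 1017, nat_lit 513], nat_lit 16), ([nat_lit 13, nat_lit 1, nat_lit 14, nat_lit 18, nat_lit 17, nat_lit 21, nat_lit 10, nat_lit 7, nat_lit 8, nat_lit 9, nat_lit 6, nat_lit 15, nat_lit 12, nat_lit 0, nat_lit 2, nat_lit 11, nat_lit 20, nat_lit 4, nat_lit 3, nat_lit 19, nat_lit 16, nat_lit 5], [nat_lit 760, nat_lit 0, nat_lit 120, nat_lit 506, nat_lit 983, nat_lit 890, nat_lit 343, nat_lit 0, nat_lit 0, nat_lit 0], nat_lit 12), ([nat_lit 5, nat_lit 1, nat_lit 9, nat_lit 3, nat_lit 4, nat_lit 0, nat_lit 16,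 nat_lit 11, nat_lit 15, nat_lit 2, nat_lit 13, nat_lit 7, nat_lit 12, nat_lit 10, nat_lit 19, nat_lit 8, nat_lit 6, nat_lit 17, nat_lit 18, nat_lit 14, nat_lit 21, nat_lit 20], [nat_lit 33, nat_lit 0, nat_lit 516, nat_lit 0, nat_lit 0, nat_lit 33, nat_lit 1012, nat_lit 542, nat_lit 459, nat_lit 516], nat_lit 16), ([nat_lit 20, nat_lit 18, nat_lit 16, nat_lit 12, nat_lit 4, nat_lit 8, nat_lit 6, nat_lit 7, nat_lit 5, nat_lit 9, nat_lit 10, nat_lit 13, nat_lit 3, nat_lit 11, nat_lit 15, nat_lit 14, nat_lit 2, nat_lit 17, nat_lit 1, nat_lit 21, nat_lit 0, nat_lit 19], [nat_lit 864, nat_lit 496, nat_lit 944, nat_lit 551, nat_lit 0, nat_lit 288, nat_lit 0, nat_lit 0, nat_lit 288, nat_lit 0], nat_lit 16), ([nat_lit 2, nat_lit 12, nat_lit 0, nat_lit 3, nat_lit 17, nat_lit 5, nat_lit 10, nat_lit 7, nat_lit 19, nat_lit 9, nat_lit 6, nat_lit 20, nat_lit 1, nat_lit 14, nat_lit 13, nat_lit 16, nat_lit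 15, nat_lit 4, nat_lit 18, nat_lit 8, nat_lit 11, nat_lit 21], [nat_lit 5, nat_lit 557, nat_lit 5, nat_lit 0, nat_lit 983, nat_lit 0, nat_lit 343, nat_lit 0, nat_lit 173, nat_lit 0], nat_lit 12), ([nat_lit 20, nat_lit 1, nat_lit 2, nat_lit 18, nat_lit 17, nat_lit 10, nat_lit 21, nat_lit 8, nat_lit 7, nat_lit 19, nat_lit 5, nat_lit 11, nat_lit 12, nat_lit 16, nat_lit 14, nat_lit 15, nat_lit 13, nat_lit 4, nat_lit 3, nat_lit 9, nat_lit 0, nat_lit 6], [nat_lit 864, nat_lit 0, nat_lit 0, nat_lit 506, nat_lit 983, nat_lit 311, nat_lit 794, nat_lit 384, nat_lit 384, nat_lit 941], nat_lit 12), ([nat_lit 14, nat_lit 3, nat_lit 2, nat_lit 1, nat_lit 4, nat_lit 8, nat_lit 10, nat_lit 9, nat_lit 5, nat_lit 7, nat_lit 6, nat_lit 11, nat_lit 18, nat_lit 13, nat_lit 0, nat_lit 20, nat_lit 16, nat_lit 17, nat_lit 12, nat_lit 21, nat_lit 15, nat_lit 19], [nat_lit 125, nat_lit 10, nat_lit 0, nat_lit 10,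 nat_lit 0, nat_lit 288, nat_lit 343, nat_lit 640, nat_lit 288, nat_lit 640], nat_lit 16), ([nat_lit 16, nat_lit 1, nat_lit 15, nat_lit 18, nat_lit 17, nat_lit 5, nat_lit 6, nat_lit 9, nat_lit 19, nat_lit 7, nat_lit 10, nat_lit 14, nat_lit 12, nat_lit 20, nat_lit 11, nat_lit 2, nat_lit 0, nat_lit 4, nat_lit 3, nat_lit 8, nat_lit 13, nat_lit 21], [nat_lit 949, nat_lit 0, nat_lit 207, nat_lit 506, nat_lit 983, nat_lit 0, nat_lit 0, nat_lit 640, nat_lit 173, nat_lit 640], nat_lit 12), ([nat_lit 0, nat_lit 18, nat_lit 13, nat_lit 12, nat_lit 4, nat_lit 19, nat_lit 10, nat_lit 9, nat_lit 21, nat_lit 7, nat_lit 6, nat_lit 16, nat_lit 3, nat_lit 2, nat_lit 14, nat_lit 15, nat_lit 11, nat_lit 17, nat_lit 1, nat_lit 5, nat_lit 20, nat_lit 8], [nat_lit 0, nat_lit 496, nat_lit 765, nat_lit 551, nat_lit 0, nat_lit 397, nat_lit 343, nat_lit 640, nat_lit 602, nat_lit 640], nat_lit 16), ([nat_lit 11,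 nat_lit 12, nat_lit 20, nat_lit 3, nat_lit 17, nat_lit 21, nat_lit 6, nat_lit 9, nat_lit 8, nat_lit 7, nat_lit 10, nat_lit 0, nat_lit 1, nat_lit 15, nat_lit 16, nat_lit 13, nat_lit 14, nat_lit 4, nat_lit 18, nat_lit 19, nat_lit 2, nat_lit 5], [nat_lit 671, nat_lit 557, nat_lit 869, nat_lit 0, nat_lit 983, nat_lit 890, nat_lit 0, nat_lit 640, nat_lit 0, nat_lit 640], nat_lit 12), ([nat_lit 20, nat_lit 12, nat_lit 11, nat_lit 3, nat_lit 17, nat_lit 7, nat_lit 19, nat_lit 5, nat_lit 10, nat_lit 21, nat_lit 8, nat_lit 2, nat_lit 1, nat_lit 13, nat_lit 14, nat_lit 15, nat_lit 16, nat_lit 4, nat_lit 18, nat_lit 6, nat_lit 0, nat_lit 9], [nat_lit 864, nat_lit 557, nat_lit 666, nat_lit 0, nat_lit 983, nat_lit 160, nat_lit 493, nat_lit 160, nat_lit 23, nat_lit 346], nat_lit 12), ([nat_lit 0, nat_lit 3, nat_lit 16, nat_lit 1, nat_lit 4, nat_lit 21, nat_lit 7, nat_lit 6, nat_lit 19, nat_lit 10,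 nat_lit 9, nat_lit 13, nat_lit 18, nat_lit 11, nat_lit 14, nat_lit 15, nat_lit 2, nat_lit 17, nat_lit 12, nat_lit 8, nat_lit 20, nat_lit 5], [nat_lit 0, nat_lit 10, nat_lit 944, nat_lit 10, nat_lit 0, nat_lit 890, nat_lit 192, nat_lit 192, nat_lit 173, nat_lit 791], nat_lit 16), ([nat_lit 7, nat_lit 1, nat_lit 21, nat_lit 3, nat_lit 4, nat_lit 11, nat_lit 15, nat_lit 0, nat_lit 16, nat_lit 20, nat_lit 14, nat_lit 5, nat_lit 12, nat_lit 19, nat_lit 10, nat_lit 6, nat_lit 8, nat_lit 17, nat_lit 18, nat_lit 13, nat_lit 9, nat_lit 2], [nat_lit 129, nat_lit 0, nat_lit 862, nat_lit 0, nat_lit 0, nat_lit 702, nat_lit 139, nat_lit 129, nat_lit 692, nat_lit 353], nat_lit 16), ([nat_lit 13, nat_lit 1, nat_lit 15, nat_lit 3, nat_lit 4, nat_lit 10, nat_lit 21, nat_lit 19, nat_lit 9, nat_lit 8, nat_lit 5, nat_lit 14, nat_lit 12, nat_lit 0, nat_lit 11, nat_lit 2, nat_lit 20, nat_lit 17, nat_lit 18,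 nat_lit 7, nat_lit 16, nat_lit 6], [nat_lit 760, nat_lit 0, nat_lit 207, nat_lit 0, nat_lit 0, nat_lit 311, nat_lit 794, nat_lit 301, nat_lit 768, nat_lit 768], nat_lit 20), ([nat_lit 2, nat_lit 1, nat_lit 0, nat_lit 3, nat_lit 4, nat_lit 9, nat_lit 19, nat_lit 21, nat_lit 10, nat_lit 5, nat_lit 8, nat_lit 20, nat_lit 12, nat_lit 15, nat_lit 16, nat_lit 13, nat_lit 14, nat_lit 17, nat_lit 18, nat_lit 6, nat_lit 11, nat_lit 7], [nat_lit 5, nat_lit 0, nat_lit 5, nat_lit 0, nat_lit 0, nat_lit 544, nat_lit 493, nat_lit 986, nat_lit 23, nat_lit 544], nat_lit 20), ([nat_lit 0, nat_lit 12, nat_lit 11, nat_lit 18, nat_lit 4, nat_lit 8, nat_lit 9, nat_lit 10, nat_lit 5, nat_lit 6, nat_lit 7, nat_lit 2, nat_lit 1, nat_lit 16, nat_lit 14, nat_lit 15, nat_lit 13, nat_lit 17, nat_lit 3, nat_lit 21, nat_lit 20, nat_lit 19], [nat_lit 0, nat_lit 557, nat_lit 666, nat_lit 506, nat_lit 0, nat_lit 288,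 nat_lit 576, nat_lit 407, nat_lit 288, nat_lit 576], nat_lit 20), ([nat_lit 14, nat_lit 12, nat_lit 13, nat_lit 18, nat_lit 4, nat_lit 21, nat_lit 6, nat_lit 7, nat_lit 19, nat_lit 9, nat_lit 10, nat_lit 16, nat_lit 1, nat_lit 2, nat_lit 0, nat_lit 20, nat_lit 11, nat_lit 17, nat_lit 3, nat_lit 8, nat_lit 15, nat_lit 5], [nat_lit 125, nat_lit 557, nat_lit 765, nat_lit 506, nat_lit 0, nat_lit 890, nat_lit 0, nat_lit 0, nat_lit 173, nat_lit 0], nat_lit 20), ([nat_lit 14, nat_lit 18, nat_lit 11, nat_lit 12, nat_lit 4, nat_lit 5, nat_lit 7, nat_lit 6, nat_lit 8, nat_lit 10, nat_lit 9, nat_lit 2, nat_lit 3, nat_lit 16, nat_lit 0, nat_lit 20, nat_lit 13, nat_lit 17, nat_lit 1, nat_lit 19, nat_lit 15, nat_lit 21], [nat_lit 125, nat_lit 496, nat_lit 666, nat_lit 551, nat_lit 0, nat_lit 0, nat_lit 192, nat_lit 192, nat_lit 0, nat_lit 791], nat_lit 16), ([nat_lit 10, nat_lit 1, nat_lit 8, nat_lit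 3, nat_lit 4, nat_lit 13, nat_lit 20, nat_lit 14, nat_lit 2, nat_lit 15, nat_lit 0, nat_lit 19, nat_lit 12, nat_lit 5, nat_lit 7, nat_lit 9, nat_lit 21, nat_lit 17, nat_lit 18, nat_lit 11, nat_lit 6, nat_lit 16], [nat_lit 278, nat_lit 0, nat_lit 260, nat_lit 0, nat_lit 0, nat_lit 729, nat_lit 801, nat_lit 252, nat_lit 260, nat_lit 715], nat_lit 16)]

/-- data -/
noncomputable def Ms : List (List Nat) :=
  [[nat_lit 1, nat_lit 203, nat_lit 2, nat_lit 865, nat_lit 64, nat_lit 670, nat_lit 16, nat_lit 124, nat_lit 128, nat_lit 32], [nat_lit 1, nat_lit 858, nat_lit 670, nat_lit 948, nat_lit 967, nat_lit 16, nat_lit 4, nat_lit 203, nat_lit 2, nat_lit 256]]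

theorem jcu1 (b : Base D τ s d0 64561751654400) : CU ⊤ s [[nat_lit 14], [nat_lit 12], [nat_lit 8], [nat_lit 4], [nat_lit 0]] 1024 :=
  CU.down b.x le_rfl (zcu15 b) (nat_lit 15) [[nat_lit 14], [nat_lit 16], [nat_lit 38], [nat_lit 40], [nat_lit 36, nat_lit 39, nat_lit 37, nat_lit 40, nat_lit 42]] [nat_lit 14] [nat_lit 1, nat_lit 2, nat_lit 3, nat_lit 1, nat_lit 0, nat_lit 4, nat_lit 3, nat_lit 3] (nat_lit 48) 1024 (by decide +kernel)

theorem jcu2 (b : Base D τ s d0 64561751654400) : CU ⊤ s [[nat_lit 0], [nat_lit 4], [nat_lit 8], [nat_lit 14], [nat_lit 12], [nat_lit 41, nat_lit 16, nat_lit 40], [nat_lit 38, nat_lit 14, nat_lit 39], [nat_lit 26, nat_lit 16, nat_lit 27], [nat_lit 34, nat_lit 12, nat_lit 35], [nat_lit 6, nat_lit 18, nat_lit 2, nat_lit 19, nat_lit 7], [nat_lit 35, nat_lit 12, nat_lit 34], [nat_lit 54, nat_lit 46, nat_lit 4, nat_lit 47, nat_lit 55], [nat_lit 18, nat_lit 48,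 nat_lit 10, nat_lit 49, nat_lit 19], [nat_lit 20, nat_lit 44, nat_lit 4, nat_lit 45, nat_lit 21], [nat_lit 6, nat_lit 49, nat_lit 8, nat_lit 48, nat_lit 7], [nat_lit 47, nat_lit 28, nat_lit 4, nat_lit 29, nat_lit 46], [nat_lit 48, nat_lit 24, nat_lit 4, nat_lit 25, nat_lit 49], [nat_lit 26, nat_lit 40, nat_lit 6, nat_lit 41, nat_lit 27], [nat_lit 27, nat_lit 19, nat_lit 14, nat_lit 18, nat_lit 26], [nat_lit 26, nat_lit 52, nat_lit 8, nat_lit 53, nat_lit 27], [nat_lit 53, nat_lit 6, nat_lit 4, nat_lit 7, nat_lit 52], [nat_lit 46, nat_lit 27, nat_lit 4, nat_lit 26, nat_lit 47]] 1024 :=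
  CU.sub (jcu1 b) [[nat_lit 0], [nat_lit 4], [nat_lit 8], [nat_lit 14], [nat_lit 12], [nat_lit 41, nat_lit 16, nat_lit 40], [nat_lit 38, nat_lit 14, nat_lit 39], [nat_lit 26, nat_lit 16, nat_lit 27], [nat_lit 34, nat_lit 12, nat_lit 35], [nat_lit 6, nat_lit 18, nat_lit 2, nat_lit 19, nat_lit 7], [nat_lit 35, nat_lit 12, nat_lit 34], [nat_lit 54, nat_lit 46, nat_lit 4, nat_lit 47, nat_lit 55], [nat_lit 18, nat_lit 48, nat_lit 10, nat_lit 49, nat_lit 19], [nat_lit 20, nat_lit 44, nat_lit 4, nat_lit 45, nat_lit 21], [nat_lit 6, nat_lit 49, nat_lit 8, nat_lit 48, nat_lit 7], [nat_lit 47, nat_lit 28, nat_lit 4, nat_lit 29, nat_lit 46], [nat_lit 48, nat_lit 24, nat_lit 4, nat_lit 25, nat_lit 49], [nat_lit 26, nat_lit 40, nat_lit 6, nat_lit 41, nat_lit 27], [nat_lit 27, nat_lit 19, nat_lit 14, nat_lit 18, nat_lit 26], [nat_lit 26, nat_lit 52, nat_lit 8, nat_lit 53, nat_lit 27], [nat_lit 53,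 nat_lit 6, nat_lit 4, nat_lit 7, nat_lit 52], [nat_lit 46, nat_lit 27, nat_lit 4, nat_lit 26, nat_lit 47]] (by decide +kernel)

theorem jge3 (b : Base D τ s d0 64561751654400) : GE s [[nat_lit 0], [nat_lit 4], [nat_lit 8], [nat_lit 14], [nat_lit 12], [nat_lit 41, nat_lit 16, nat_lit 40], [nat_lit 38, nat_lit 14, nat_lit 39], [nat_lit 26, nat_lit 16, nat_lit 27], [nat_lit 34, nat_lit 12, nat_lit 35], [nat_lit 6, nat_lit 18, nat_lit 2, nat_lit 19, nat_lit 7], [nat_lit 35, nat_lit 12, nat_lit 34], [nat_lit 54, nat_lit 46, nat_lit 4, nat_lit 47, nat_lit 55], [nat_lit 18, nat_lit 48, nat_lit 10, nat_lit 49, nat_lit 19], [nat_lit 20, nat_lit 44, nat_lit 4, nat_lit 45, nat_lit 21], [nat_lit 6, nat_lit 49, nat_lit 8, nat_lit 48, nat_lit 7], [nat_lit 47, nat_lit 28, nat_lit 4, nat_lit 29, nat_lit 46], [nat_lit 48, nat_lit 24, nat_lit 4, nat_lit 25, nat_lit 49], [nat_lit 26, nat_lit 40, nat_lit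 6, nat_lit 41, nat_lit 27], [nat_lit 27, nat_lit 19, nat_lit 14, nat_lit 18, nat_lit 26], [nat_lit 26, nat_lit 52, nat_lit 8, nat_lit 53, nat_lit 27], [nat_lit 53, nat_lit 6, nat_lit 4, nat_lit 7, nat_lit 52], [nat_lit 46, nat_lit 27, nat_lit 4, nat_lit 26, nat_lit 47]] 1024 :=
  GE.step b.x (GE.base []) _ [] (nat_lit 749) [nat_lit 0, nat_lit 1, nat_lit 2, nat_lit 3, nat_lit 4, nat_lit 5, nat_lit 6, nat_lit 7, nat_lit 8, nat_lit 9] (nat_lit 1024) 1024 (by decide +kernel)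

theorem jge4 (b : Base D τ s d0 64561751654400) : GE s [[nat_lit 8], [nat_lit 14], [nat_lit 12], [nat_lit 41, nat_lit 16, nat_lit 40], [nat_lit 38, nat_lit 14, nat_lit 39], [nat_lit 40, nat_lit 56, nat_lit 46, nat_lit 18, nat_lit 34, nat_lit 29, nat_lit 35, nat_lit 32, nat_lit 35, nat_lit 38, nat_lit 43], [nat_lit 20, nat_lit 39, nat_lit 19, nat_lit 10, nat_lit 27, nat_lit 6, nat_lit 34, nat_lit 8, nat_lit 30, nat_lit 12, nat_lit 34, nat_lit 38, nat_lit 40, nat_lit 12]] 128 :=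
  GE.step b.x (GE.base []) _ [] (nat_lit 261) [nat_lit 0, nat_lit 1, nat_lit 2, nat_lit 3, nat_lit 4, nat_lit 5, nat_lit 6] (nat_lit 128) 128 (by decide +kernel)

theorem jge5 (b : Base D τ s d0 64561751654400) : GE s [[nat_lit 0], [nat_lit 4], [nat_lit 8], [nat_lit 14], [nat_lit 12], [nat_lit 41, nat_lit 16, nat_lit 40], [nat_lit 38, nat_lit 14, nat_lit 39], [nat_lit 26, nat_lit 16, nat_lit 27], [nat_lit 34, nat_lit 12, nat_lit 35], [nat_lit 6, nat_lit 18, nat_lit 2, nat_lit 19, nat_lit 7], [nat_lit 7, nat_lit 10, nat_lit 19, nat_lit 26, nat_lit 38, nat_lit 31, nat_lit 36], [nat_lit 22, nat_lit 20, nat_lit 47, nat_lit 6, nat_lit 30, nat_lit 16, nat_lit 37, nat_lit 14, nat_lit 35, nat_lit 14], [nat_lit 19, nat_lit 31, nat_lit 21, nat_lit 19, nat_lit 52, nat_lit 27, nat_lit 38, nat_lit 31, nat_lit 37, nat_lit 14]] 131072 :=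
  GE.step b.x (jge4 b) _ [([nat_lit 40, nat_lit 56, nat_lit 46, nat_lit 18, nat_lit 34, nat_lit 29, nat_lit 35, nat_lit 32, nat_lit 35, nat_lit 38, nat_lit 43], [nat_lit 25, nat_lit 23, nat_lit 7, nat_lit 24, nat_lit 8, nat_lit 23]), ([nat_lit 20, nat_lit 39, nat_lit 19, nat_lit 10, nat_lit 27, nat_lit 6, nat_lit 34, nat_lit 8, nat_lit 30, nat_lit 12, nat_lit 34, nat_lit 38, nat_lit 40, nat_lit 12], [nat_lit 27, nat_lit 24, nat_lit 26, nat_lit 11, nat_lit 22, nat_lit 26, nat_lit 4])] (nat_lit 1331) [nat_lit 0, nat_lit 1, nat_lit 7, nat_lit 8, nat_lit 9, nat_lit 10, nat_lit 11, nat_lit 10, nat_lit 12, nat_lit 10, nat_lit 10, nat_lit 11, nat_lit 10] (nat_lit 1024) 131072 (by decide +kernel)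

theorem jcu6 (b : Base D τ s d0 64561751654400) : CU ⊤ s [[nat_lit 22, nat_lit 8, nat_lit 23], [nat_lit 14], [nat_lit 12], [nat_lit 8], [nat_lit 4], [nat_lit 0]] 1 :=
  CU.down b.x le_rfl (jcu1 b) (nat_lit 31) [[nat_lit 0], [nat_lit 4], [nat_lit 8], [nat_lit 12], [nat_lit 14], [nat_lit 14, nat_lit 42, nat_lit 16], [nat_lit 34, nat_lit 36, nat_lit 39, nat_lit 14], [nat_lit 41, nat_lit 35, nat_lit 37, nat_lit 39, nat_lit 40], [nat_lit 37, nat_lit 35, nat_lit 38, nat_lit 14, nat_lit 12], [nat_lit 4, nat_lit 40, nat_lit 39, nat_lit 43, nat_lit 12]] [nat_lit 22, nat_lit 8, nat_lit 23] [nat_lit 0, nat_lit 1, nat_lit 2, nat_lit 3, nat_lit 4, nat_lit 5, nat_lit 6, nat_lit 7, nat_lit 8, nat_lit 9] (nat_lit 1024) 1 (by decide +kernel)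

theorem jcu7 (b : Base D τ s d0 64561751654400) : CU ⊤ s [[nat_lit 22, nat_lit 8, nat_lit 23], [nat_lit 0], [nat_lit 4], [nat_lit 8], [nat_lit 14], [nat_lit 12], [nat_lit 41, nat_lit 16, nat_lit 40], [nat_lit 38, nat_lit 14, nat_lit 39], [nat_lit 26, nat_lit 16, nat_lit 27], [nat_lit 34, nat_lit 12, nat_lit 35], [nat_lit 6, nat_lit 18, nat_lit 2, nat_lit 19, nat_lit 7], [nat_lit 35, nat_lit 12, nat_lit 34], [nat_lit 54, nat_lit 46, nat_lit 4, nat_lit 47, nat_lit 55], [nat_lit 18, nat_lit 48, nat_lit 10, nat_lit 49, nat_lit 19], [nat_lit 20, nat_lit 44, nat_lit 4, nat_lit 45, nat_lit 21], [nat_lit 6, nat_lit 49, nat_lit 8, nat_lit 48, nat_lit 7], [nat_lit 47, nat_lit 28, nat_lit 4, nat_lit 29, nat_lit 46], [nat_lit 48, nat_lit 24, nat_lit 4, nat_lit 25, nat_lit 49], [nat_lit 26, nat_lit 40, nat_lit 6, nat_lit 41, nat_lit 27], [nat_lit 27, nat_lit 19, nat_lit 14, nat_lit 18, nat_lit 26],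 [nat_lit 26, nat_lit 52, nat_lit 8, nat_lit 53, nat_lit 27], [nat_lit 53, nat_lit 6, nat_lit 4, nat_lit 7, nat_lit 52], [nat_lit 46, nat_lit 27, nat_lit 4, nat_lit 26, nat_lit 47]] 1 :=
  CU.sub (jcu6 b) [[nat_lit 22, nat_lit 8, nat_lit 23], [nat_lit 0], [nat_lit 4], [nat_lit 8], [nat_lit 14], [nat_lit 12], [nat_lit 41, nat_lit 16, nat_lit 40], [nat_lit 38, nat_lit 14, nat_lit 39], [nat_lit 26, nat_lit 16, nat_lit 27], [nat_lit 34, nat_lit 12, nat_lit 35], [nat_lit 6, nat_lit 18, nat_lit 2, nat_lit 19, nat_lit 7], [nat_lit 35, nat_lit 12, nat_lit 34], [nat_lit 54, nat_lit 46, nat_lit 4, nat_lit 47, nat_lit 55], [nat_lit 18, nat_lit 48, nat_lit 10, nat_lit 49, nat_lit 19], [nat_lit 20, nat_lit 44, nat_lit 4, nat_lit 45, nat_lit 21], [nat_lit 6, nat_lit 49, nat_lit 8, nat_lit 48, nat_lit 7], [nat_lit 47, nat_lit 28, nat_lit 4, nat_lit 29, nat_lit 46], [nat_lit 48, nat_lit 24, nat_lit 4,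 nat_lit 25, nat_lit 49], [nat_lit 26, nat_lit 40, nat_lit 6, nat_lit 41, nat_lit 27], [nat_lit 27, nat_lit 19, nat_lit 14, nat_lit 18, nat_lit 26], [nat_lit 26, nat_lit 52, nat_lit 8, nat_lit 53, nat_lit 27], [nat_lit 53, nat_lit 6, nat_lit 4, nat_lit 7, nat_lit 52], [nat_lit 46, nat_lit 27, nat_lit 4, nat_lit 26, nat_lit 47]] (by decide +kernel)

theorem mod (hD : Cl D) (b : Base D τ s d0 64561751654400) : Mod D (vals s W) W.length 10 (1 :: c') :=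
  mod_of b hD (by decide +kernel) (jge3 b) (jcu2 b)

theorem k0 : Γ.all (inOK d0 W) = true := by decide +kernel

theorem k1 : cloOK W.length (Γ.map Prod.snd) L = true := by decide +kernel

theorem k2 : invOK (1 :: c') W.length 10 L Q = true := by decide +kernel

theorem k3 : pairOK 10 Q = true := by decide +kernel

theorem hT (b : Base D τ s d0 64561751654400) : 2 ^ (7 + 10) ≤
    Nat.card (closure (fam (vals s W) W.length ∪ {g | g ∈ (Γ.map Prod.fst).map (E s)})) :=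
  ge_of (jge5 b) (by decide +kernel)

theorem bs (hD : Cl D) (b : Base D τ s d0 64561751654400) : BS D (fam (vals s W) W.length) (E s [0]) 22 10 :=
  bs_of b (mod hD b) k0 k1 k2 k3 rfl (hT b) (by norm_num)
    (O6 := (nat_lit 0x214408224808128184124104012028484021228411404820118804224801801288202144201188042108108144840211240840204282041802428814201811484412104100608902014822809806001102408420680600142802401802901941204482008608209048220416001091441181081900109141801811401941440))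
    (O7 := (nat_lit 0x128804118404214248218208021014848012114822808410224408118402402144101288102244081204204288480122180480108141082401814428102422848821208200904601028411406409002201804810940900281401802401602682108841004904106084110829002062882242042600206282402422802682880))
    (O14 := (nat_lit 0xfcc33f3cc33f3c03c30cc3cf3fccfc3333fcccc030c3f33cfcc33f3cc33fc3fcc03cfcc33cfcc33f3ccf3cf303333fcccc3f33fcf3c3cf3c3fc3033c3cfc3cc03330ccf3cff0f30fcfc30cc3f03f0ffccfc3f33cf03f0ffc3c3fc3fc3f00fc00ccf333cff30f30f0f33ccf3c0ffcf0c00cc3cf3c0ffcf0c0c3fc3cc0fc00c000))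
    (by decide +kernel) (H := H) (Ms := Ms) (sw := ([nat_lit 40, nat_lit 18, nat_lit 8, nat_lit 50, nat_lit 38, nat_lit 10, nat_lit 39], [nat_lit 1, nat_lit 16, nat_lit 4, nat_lit 12, nat_lit 7, nat_lit 11, nat_lit 0, nat_lit 13, nat_lit 21, nat_lit 9, nat_lit 14, nat_lit 18, nat_lit 10, nat_lit 15, nat_lit 5, nat_lit 20, nat_lit 19, nat_lit 2, nat_lit 3, nat_lit 8, nat_lit 17, nat_lit 6])) (q := [nat_lit 4, nat_lit 6, nat_lit 4, nat_lit 8, nat_lit 6]) (by decide +kernel)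
    (t2 := [nat_lit 4, nat_lit 5, nat_lit 406, nat_lit 407, nat_lit 1717, nat_lit 1934, nat_lit 1935, nat_lit 64, nat_lit 65, nat_lit 1118, nat_lit 1119, nat_lit 17, nat_lit 1341, nat_lit 32, nat_lit 559, nat_lit 1897, nat_lit 248, nat_lit 249, nat_lit 1025, nat_lit 859]) (t3 := [nat_lit 6, nat_lit 7, nat_lit 404, nat_lit 405, nat_lit 1719, nat_lit 1932, nat_lit 1933, nat_lit 66, nat_lit 67, nat_lit 1116, nat_lit 1117, nat_lit 19, nat_lit 1343, nat_lit 34, nat_lit 557, nat_lit 1899, nat_lit 250, nat_lit 251, nat_lit 1027, nat_lit 857])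
    (t6 := [nat_lit 12, nat_lit 13, nat_lit 402, nat_lit 403, nat_lit 904, nat_lit 905, nat_lit 1560, nat_lit 1561, nat_lit 1781, nat_lit 476, nat_lit 477, nat_lit 1190, nat_lit 1191, nat_lit 1927, nat_lit 80, nat_lit 81, nat_lit 1150, nat_lit 1151, nat_lit 693, nat_lit 1374, nat_lit 1375, nat_lit 372, nat_lit 373, nat_lit 816, nat_lit 1324, nat_lit 1325, nat_lit 1022, nat_lit 1864, nat_lit 1865, nat_lit 686, nat_lit 687, nat_lit 332, nat_lit 333, nat_lit 1630, nat_lit 1631, nat_lit 726, nat_lit 727, nat_lit 1876, nat_lit 1877, nat_lit 528, nat_lit 529, nat_lit 2020, nat_lit 2021, nat_lit 1978, nat_lit 1979, nat_lit 426, nat_lit 1936, nat_lit 1937, nat_lit 822, nat_lit 1152, nat_lit 1153, nat_lit 1678, nat_lit 1679, nat_lit 49, nat_lit 1032, nat_lit 1033, nat_lit 1110, nat_lit 574, nat_lit 575, nat_lit 814, nat_lit 815, nat_lit 1734, nat_lit 1735, nat_lit 842, nat_lit 843, nat_lit 498,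 nat_lit 499, nat_lit 976, nat_lit 623, nat_lit 1987, nat_lit 1901, nat_lit 1458, nat_lit 1459, nat_lit 640, nat_lit 2012, nat_lit 1882, nat_lit 1883, nat_lit 1266, nat_lit 1267, nat_lit 1583, nat_lit 96, nat_lit 97, nat_lit 520, nat_lit 521, nat_lit 240, nat_lit 241, nat_lit 391, nat_lit 231, nat_lit 68, nat_lit 69, nat_lit 1852, nat_lit 1853, nat_lit 1746, nat_lit 1747, nat_lit 872, nat_lit 873, nat_lit 232, nat_lit 233, nat_lit 1430, nat_lit 1480, nat_lit 1481, nat_lit 1178, nat_lit 1165, nat_lit 933, nat_lit 347, nat_lit 550, nat_lit 551, nat_lit 1056, nat_lit 1057, nat_lit 952, nat_lit 1972, nat_lit 1753, nat_lit 891, nat_lit 1013, nat_lit 576, nat_lit 577, nat_lit 485, nat_lit 796, nat_lit 797, nat_lit 1536, nat_lit 1537, nat_lit 1966, nat_lit 260, nat_lit 261, nat_lit 1336, nat_lit 862, nat_lit 863, nat_lit 207, nat_lit 272, nat_lit 1195, nat_lit 1684, nat_lit 1640, nat_lit 1641,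 nat_lit 253, nat_lit 668, nat_lit 669, nat_lit 1350, nat_lit 1351, nat_lit 1088, nat_lit 1089, nat_lit 768, nat_lit 1433, nat_lit 667, nat_lit 1998, nat_lit 1440, nat_lit 1666, nat_lit 1667, nat_lit 1700, nat_lit 384, nat_lit 385, nat_lit 992, nat_lit 317, nat_lit 192, nat_lit 193, nat_lit 1422, nat_lit 1950, nat_lit 1951, nat_lit 1612, nat_lit 1613, nat_lit 121, nat_lit 1131, nat_lit 36, nat_lit 37, nat_lit 132, nat_lit 133, nat_lit 1705, nat_lit 1394, nat_lit 1395, nat_lit 320, nat_lit 517, nat_lit 366, nat_lit 1827, nat_lit 1790, nat_lit 1361, nat_lit 931, nat_lit 1594, nat_lit 184, nat_lit 185, nat_lit 1272, nat_lit 1273, nat_lit 150, nat_lit 151, nat_lit 1649, nat_lit 1260, nat_lit 1041, nat_lit 1404, nat_lit 545, nat_lit 458, nat_lit 603, nat_lit 118, nat_lit 216, nat_lit 217, nat_lit 761, nat_lit 41, nat_lit 1738, nat_lit 1739, nat_lit 1518, nat_lit 144, nat_lit 145, nat_lit 279,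 nat_lit 438, nat_lit 191, nat_lit 1476, nat_lit 1477, nat_lit 1796, nat_lit 1797, nat_lit 2034, nat_lit 987, nat_lit 1888])
    (t7 := [nat_lit 14, nat_lit 15, nat_lit 400, nat_lit 401, nat_lit 906, nat_lit 907, nat_lit 1562, nat_lit 1563, nat_lit 1783, nat_lit 478, nat_lit 479, nat_lit 1188, nat_lit 1189, nat_lit 1925, nat_lit 82, nat_lit 83, nat_lit 1148, nat_lit 1149, nat_lit 695, nat_lit 1372, nat_lit 1373, nat_lit 374, nat_lit 375, nat_lit 818, nat_lit 1326, nat_lit 1327, nat_lit 1020, nat_lit 1866, nat_lit 1867, nat_lit 684, nat_lit 685, nat_lit 334, nat_lit 335, nat_lit 1628, nat_lit 1629, nat_lit 724, nat_lit 725, nat_lit 1878, nat_lit 1879, nat_lit 530, nat_lit 531, nat_lit 2022, nat_lit 2023, nat_lit 1976, nat_lit 1977, nat_lit 424, nat_lit 1938, nat_lit 1939, nat_lit 820, nat_lit 1154, nat_lit 1155, nat_lit 1676, nat_lit 1677, nat_lit 51, nat_lit 1034, nat_lit 1035, nat_lit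 1108, nat_lit 572, nat_lit 573, nat_lit 812, nat_lit 813, nat_lit 1732, nat_lit 1733, nat_lit 840, nat_lit 841, nat_lit 496, nat_lit 497, nat_lit 978, nat_lit 621, nat_lit 1985, nat_lit 1903, nat_lit 1456, nat_lit 1457, nat_lit 642, nat_lit 2014, nat_lit 1880, nat_lit 1881, nat_lit 1264, nat_lit 1265, nat_lit 1581, nat_lit 98, nat_lit 99, nat_lit 522, nat_lit 523, nat_lit 242, nat_lit 243, nat_lit 389, nat_lit 229, nat_lit 70, nat_lit 71, nat_lit 1854, nat_lit 1855, nat_lit 1744, nat_lit 1745, nat_lit 874, nat_lit 875, nat_lit 234, nat_lit 235, nat_lit 1428, nat_lit 1482, nat_lit 1483, nat_lit 1176, nat_lit 1167, nat_lit 935, nat_lit 345, nat_lit 548, nat_lit 549, nat_lit 1058, nat_lit 1059, nat_lit 954, nat_lit 1974, nat_lit 1755, nat_lit 889, nat_lit 1015, nat_lit 578, nat_lit 579, nat_lit 487, nat_lit 798, nat_lit 799, nat_lit 1538, nat_lit 1539, nat_lit 1964, nat_lit 262, nat_lit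 263, nat_lit 1338, nat_lit 860, nat_lit 861, nat_lit 205, nat_lit 274, nat_lit 1193, nat_lit 1686, nat_lit 1642, nat_lit 1643, nat_lit 255, nat_lit 670, nat_lit 671, nat_lit 1348, nat_lit 1349, nat_lit 1090, nat_lit 1091, nat_lit 770, nat_lit 1435, nat_lit 665, nat_lit 1996, nat_lit 1442, nat_lit 1664, nat_lit 1665, nat_lit 1702, nat_lit 386, nat_lit 387, nat_lit 994, nat_lit 319, nat_lit 194, nat_lit 195, nat_lit 1420, nat_lit 1948, nat_lit 1949, nat_lit 1614, nat_lit 1615, nat_lit 123, nat_lit 1129, nat_lit 38, nat_lit 39, nat_lit 134, nat_lit 135, nat_lit 1707, nat_lit 1392, nat_lit 1393, nat_lit 322, nat_lit 519, nat_lit 364, nat_lit 1825, nat_lit 1788, nat_lit 1363, nat_lit 929, nat_lit 1592, nat_lit 186, nat_lit 187, nat_lit 1274, nat_lit 1275, nat_lit 148, nat_lit 149, nat_lit 1651, nat_lit 1262, nat_lit 1043, nat_lit 1406, nat_lit 547, nat_lit 456, nat_lit 601, nat_lit 116, nat_lit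 218, nat_lit 219, nat_lit 763, nat_lit 43, nat_lit 1736, nat_lit 1737, nat_lit 1516, nat_lit 146, nat_lit 147, nat_lit 277, nat_lit 436, nat_lit 189, nat_lit 1478, nat_lit 1479, nat_lit 1798, nat_lit 1799, nat_lit 2032, nat_lit 985, nat_lit 1890])
    (t14 := [nat_lit 28, nat_lit 29, nat_lit 1872, nat_lit 1873, nat_lit 1248, nat_lit 1249, nat_lit 582, nat_lit 583, nat_lit 1242, nat_lit 1243, nat_lit 1500, nat_lit 1501, nat_lit 1446, nat_lit 1447, nat_lit 1449, nat_lit 1682, nat_lit 1683, nat_lit 920, nat_lit 921, nat_lit 126, nat_lit 127, nat_lit 756, nat_lit 757, nat_lit 1886, nat_lit 396, nat_lit 397, nat_lit 678, nat_lit 679, nat_lit 300, nat_lit 301, nat_lit 1952, nat_lit 1953, nat_lit 1382, nat_lit 1383, nat_lit 1822, nat_lit 1823, nat_lit 974, nat_lit 975, nat_lit 750, nat_lit 751, nat_lit 844, nat_lit 845, nat_lit 969, nat_lit 1662, nat_lit 1663, nat_lit 982, nat_lit 983, nat_lit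 330, nat_lit 331, nat_lit 534, nat_lit 535, nat_lit 52, nat_lit 53, nat_lit 308, nat_lit 309, nat_lit 490, nat_lit 491, nat_lit 1424, nat_lit 1425, nat_lit 280, nat_lit 281, nat_lit 1044, nat_lit 1045, nat_lit 1168, nat_lit 1169, nat_lit 654, nat_lit 655, nat_lit 1771, nat_lit 1904, nat_lit 1905, nat_lit 1396, nat_lit 1397, nat_lit 560, nat_lit 561, nat_lit 1292, nat_lit 1293, nat_lit 1064, nat_lit 1065, nat_lit 1366, nat_lit 1367, nat_lit 570, nat_lit 1158, nat_lit 1159, nat_lit 942, nat_lit 943, nat_lit 328, nat_lit 329, nat_lit 946, nat_lit 947, nat_lit 100, nat_lit 101, nat_lit 1475, nat_lit 1161, nat_lit 1622, nat_lit 1623, nat_lit 474, nat_lit 475, nat_lit 2004, nat_lit 2005, nat_lit 1618, nat_lit 1619, nat_lit 1836, nat_lit 1837, nat_lit 1988, nat_lit 1989, nat_lit 1378, nat_lit 1379, nat_lit 782, nat_lit 783, nat_lit 1626, nat_lit 1627, nat_lit 1270, nat_lit 1271, nat_lit 1599,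 nat_lit 962, nat_lit 963, nat_lit 1812, nat_lit 1813, nat_lit 988, nat_lit 989, nat_lit 1698, nat_lit 1699, nat_lit 1376, nat_lit 1377, nat_lit 176, nat_lit 177, nat_lit 902, nat_lit 157, nat_lit 710, nat_lit 711, nat_lit 852, nat_lit 853, nat_lit 592, nat_lit 593, nat_lit 1508, nat_lit 1509, nat_lit 1859, nat_lit 227, nat_lit 299, nat_lit 30, nat_lit 31, nat_lit 197, nat_lit 178, nat_lit 179, nat_lit 722, nat_lit 723, nat_lit 616, nat_lit 617, nat_lit 1860, nat_lit 501, nat_lit 1214, nat_lit 1215, nat_lit 200, nat_lit 201, nat_lit 1438, nat_lit 1439, nat_lit 1472, nat_lit 1473, nat_lit 1162, nat_lit 1163, nat_lit 1945, nat_lit 383, nat_lit 1066, nat_lit 282, nat_lit 283, nat_lit 956, nat_lit 1844, nat_lit 811, nat_lit 1018, nat_lit 1019, nat_lit 800, nat_lit 801, nat_lit 1000, nat_lit 1001, nat_lit 1009, nat_lit 614, nat_lit 615, nat_lit 700, nat_lit 701, nat_lit 1359, nat_lit 170, nat_lit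 1940, nat_lit 1330, nat_lit 1331, nat_lit 1294, nat_lit 1287, nat_lit 1082, nat_lit 1083, nat_lit 104, nat_lit 105, nat_lit 536, nat_lit 696, nat_lit 697, nat_lit 114, nat_lit 650, nat_lit 1144, nat_lit 1145, nat_lit 360, nat_lit 361, nat_lit 1254, nat_lit 1255, nat_lit 440, nat_lit 441, nat_lit 1773, nat_lit 590, nat_lit 948, nat_lit 949, nat_lit 1370, nat_lit 1371, nat_lit 483, nat_lit 1408, nat_lit 1409, nat_lit 1284, nat_lit 1285, nat_lit 1080, nat_lit 1081, nat_lit 1634, nat_lit 238, nat_lit 239, nat_lit 76, nat_lit 77, nat_lit 1256, nat_lit 1257, nat_lit 1691, nat_lit 912, nat_lit 913, nat_lit 111, nat_lit 1868, nat_lit 1869, nat_lit 1202, nat_lit 1203, nat_lit 644, nat_lit 645, nat_lit 944, nat_lit 945, nat_lit 1956, nat_lit 1874, nat_lit 1875, nat_lit 1250, nat_lit 1692, nat_lit 1632, nat_lit 1633, nat_lit 236, nat_lit 237, nat_lit 733, nat_lit 1862, nat_lit 1208, nat_lit 1209,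 nat_lit 662, nat_lit 663, nat_lit 1298, nat_lit 2028, nat_lit 2029, nat_lit 1971, nat_lit 356, nat_lit 357, nat_lit 1305, nat_lit 1301, nat_lit 1994, nat_lit 1995, nat_lit 1917, nat_lit 1444, nat_lit 1445, nat_lit 958, nat_lit 959, nat_lit 1846, nat_lit 462, nat_lit 463, nat_lit 730, nat_lit 731, nat_lit 1596, nat_lit 1597, nat_lit 960, nat_lit 961, nat_lit 1544, nat_lit 1545, nat_lit 1644, nat_lit 1645, nat_lit 802, nat_lit 803, nat_lit 672, nat_lit 673, nat_lit 1122, nat_lit 376, nat_lit 377, nat_lit 1564, nat_lit 1565, nat_lit 1120, nat_lit 1121, nat_lit 776, nat_lit 348, nat_lit 1321, nat_lit 284, nat_lit 285, nat_lit 1776, nat_lit 1777, nat_lit 866, nat_lit 60, nat_lit 61, nat_lit 167, nat_lit 1740, nat_lit 1741, nat_lit 1784, nat_lit 1785, nat_lit 883, nat_lit 296, nat_lit 297, nat_lit 1312, nat_lit 1313, nat_lit 1540, nat_lit 1541, nat_lit 2008, nat_lit 2009, nat_lit 1464, nat_lit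 1465, nat_lit 658, nat_lit 1990, nat_lit 1494, nat_lit 1495, nat_lit 892, nat_lit 294, nat_lit 295, nat_lit 827, nat_lit 2042, nat_lit 1344, nat_lit 1345, nat_lit 773, nat_lit 1096, nat_lit 1097, nat_lit 784, nat_lit 785, nat_lit 1695, nat_lit 1092, nat_lit 1093, nat_lit 1578, nat_lit 1579, nat_lit 1452, nat_lit 1548, nat_lit 1992, nat_lit 1993, nat_lit 832, nat_lit 833, nat_lit 480, nat_lit 1586, nat_lit 152, nat_lit 153, nat_lit 926, nat_lit 302, nat_lit 303, nat_lit 1315, nat_lit 1542, nat_lit 1037, nat_lit 1068, nat_lit 1198, nat_lit 937, nat_lit 155, nat_lit 90, nat_lit 91, nat_lit 1819, nat_lit 1778, nat_lit 1779, nat_lit 1302, nat_lit 1303, nat_lit 1568, nat_lit 1569, nat_lit 183, nat_lit 1721, nat_lit 1946, nat_lit 1947, nat_lit 380, nat_lit 142, nat_lit 1240, nat_lit 1584, nat_lit 1585, nat_lit 1276, nat_lit 1277, nat_lit 1038, nat_lit 1070, nat_lit 1228, nat_lit 1296, nat_lit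 1574, nat_lit 1575, nat_lit 2002, nat_lit 2003, nat_lit 1654, nat_lit 467, nat_lit 1657, nat_lit 1462, nat_lit 1980, nat_lit 1981, nat_lit 894, nat_lit 895, nat_lit 1234, nat_lit 1235, nat_lit 141, nat_lit 450, nat_lit 451, nat_lit 587, nat_lit 1668, nat_lit 220, nat_lit 221, nat_lit 676, nat_lit 677, nat_lit 758, nat_lit 759, nat_lit 1646, nat_lit 1140, nat_lit 1141, nat_lit 729, nat_lit 1680, nat_lit 363, nat_lit 1253, nat_lit 324, nat_lit 379, nat_lit 1566, nat_lit 416, nat_lit 1922, nat_lit 899, nat_lit 1764, nat_lit 1532, nat_lit 1533, nat_lit 509, nat_lit 660, nat_lit 293, nat_lit 1398, nat_lit 1095, nat_lit 878, nat_lit 304, nat_lit 1486, nat_lit 421, nat_lit 2039, nat_lit 125, nat_lit 805, nat_lit 56, nat_lit 57, nat_lit 215, nat_lit 494, nat_lit 495, nat_lit 1759, nat_lit 1329, nat_lit 608, nat_lit 609, nat_lit 788, nat_lit 789, nat_lit 1098, nat_lit 736, nat_lit 1412, nat_lit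 1413, nat_lit 950, nat_lit 1831, nat_lit 1820, nat_lit 1821, nat_lit 1850, nat_lit 1851, nat_lit 1787, nat_lit 1774, nat_lit 1775, nat_lit 1173, nat_lit 454, nat_lit 455, nat_lit 394, nat_lit 1184, nat_lit 1185, nat_lit 1671, nat_lit 1220, nat_lit 434, nat_lit 1380, nat_lit 1793, nat_lit 1766, nat_lit 604, nat_lit 1674, nat_lit 1675, nat_lit 489, nat_lit 1051, nat_lit 339, nat_lit 607, nat_lit 1016, nat_lit 630, nat_lit 453, nat_lit 540, nat_lit 2030, nat_lit 2031, nat_lit 449, nat_lit 1418, nat_lit 1419, nat_lit 1624, nat_lit 1625, nat_lit 2006, nat_lit 460, nat_lit 461, nat_lit 532, nat_lit 533, nat_lit 923, nat_lit 738, nat_lit 653, nat_lit 326, nat_lit 465, nat_lit 1231, nat_lit 1658, nat_lit 829, nat_lit 613, nat_lit 938, nat_lit 2046, nat_lit 1609, nat_lit 790, nat_lit 924, nat_lit 1511, nat_lit 445, nat_lit 589, nat_lit 1224, nat_lit 310, nat_lit 971, nat_lit 1389, nat_lit 681,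 nat_lit 1139, nat_lit 1955, nat_lit 774, nat_lit 775, nat_lit 1135, nat_lit 1554, nat_lit 1354, nat_lit 208, nat_lit 209, nat_lit 172, nat_lit 846, nat_lit 1606, nat_lit 1498, nat_lit 502, nat_lit 1268, nat_lit 1269, nat_lit 1742, nat_lit 1743, nat_lit 881, nat_lit 78, nat_lit 1180, nat_lit 1322, nat_lit 1907, nat_lit 2044, nat_lit 1136, nat_lit 224, nat_lit 225, nat_lit 1414, nat_lit 1227, nat_lit 1842, nat_lit 780, nat_lit 86, nat_lit 87, nat_lit 1003, nat_lit 698, nat_lit 765, nat_lit 887, nat_lit 1816, nat_lit 753, nat_lit 1839, nat_lit 109, nat_lit 307, nat_lit 1146, nat_lit 1484, nat_lit 340])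
    (by decide +kernel)

theorem nsq (hD : Cl D) (hc : ∀ g : G, ∀ x ∈ D, g * x * g⁻¹ ∈ D) (b : Base D τ s d0 64561751654400) (g : G) : g * g ∉ D := by
  refine (mod hD b).nsq hc rfl (gens_of b k0) k1 k2 rfl (hT b) (b.card ▸ by norm_num) (fun g hg H => ?_)
    (by decide +kernel) g
  have e := b.x.eqs (Es := (Γ.map Prod.fst).map fun w => (w ++ [nat_lit 22, nat_lit 8, nat_lit 23], [nat_lit 22, nat_lit 8, nat_lit 23] ++ w)) (by decide +kernel)
  have c : closure {g | g ∈ (Γ.map Prod.fst).map (E s)} ≤ centralizer {E s [nat_lit 22, nat_lit 8, nat_lit 23]} :=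
    (closure_le _).2 fun g hg => by
      obtain ⟨w, hw, rfl⟩ := List.mem_map.1 hg
      simpa [E, ev_append, mem_centralizer_singleton_iff, mul_assoc] using e _ (List.mem_map_of_mem hw)
  have := (Nat.card_eq_one_iff_unique.1 (le_antisymm (jcu7 b) Nat.card_pos)).1
  refine congrArg Subtype.val (this.elim (⟨g, mem_Cen.2 ⟨mem_top _, fun w hw => ?_⟩⟩ : Cen ⊤ s ([nat_lit 22, nat_lit 8, nat_lit 23] :: W)) 1)
  rcases List.mem_cons.1 hw with rfl | hw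
  · exact mem_centralizer_singleton_iff.1 (c hg)
  · obtain ⟨i, hi, e⟩ := (fam_vals s W).ge (List.mem_map_of_mem hw)
    exact e ▸ H i hi

end Cfsg.Agent.Fischer.J22
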