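import Cfsg.Agent.Fischer.JD
import Cfsg.Agent.FiC.F23.D0

/-!
A base of the Fischer group.
-/

set_option autoImplicit false
set_option maxRecDepth 100000
set_option linter.unusedSectionVars false

namespace Cfsg.Agent.Fischer.J23
open Cfsg.Agent.Comp Cfsg.Agent.FiC Cfsg.Agent.FiC.F23 Cfsg.Agent.Fischer.JB Subgroup

variable {G : Type*} [Group G] [Finite G] {D : Set G} {τ s : ℕ → G}

/-- data -/
noncomputable def W : List (List Nat) :=
  [[nat_lit 20], [nat_lit 0], [nat_lit 4], [nat_lit 16], [nat_lit 8], [nat_lit 12], [nat_lit 45, nat_lit 18, nat_lit 44], [nat_lit 59, nat_lit 14, nat_lit 58], [nat_lit 28, nat_lit 8, nat_lit 29], [nat_lit 44, nat_lit 18, nat_lit 45], [nat_lit 46, nat_lit 16, nat_lit 47], [nat_lit 42, nat_lit 16, nat_lit 43], [nat_lit 45, nat_lit 12, nat_lit 44], [nat_lit 44, nat_lit 12, nat_lit 45], [nat_lit 14, nat_lit 23, nat_lit 10, nat_lit 22, nat_lit 15], [nat_lit 62, nat_lit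 50, nat_lit 6, nat_lit 51, nat_lit 63], [nat_lit 45, nat_lit 34, nat_lit 10, nat_lit 35, nat_lit 44], [nat_lit 10, nat_lit 26, nat_lit 6, nat_lit 27, nat_lit 11], [nat_lit 18, nat_lit 22, nat_lit 2, nat_lit 23, nat_lit 19], [nat_lit 62, nat_lit 64, nat_lit 4, nat_lit 65, nat_lit 63], [nat_lit 55, nat_lit 41, nat_lit 8, nat_lit 40, nat_lit 54], [nat_lit 42, nat_lit 29, nat_lit 2, nat_lit 28, nat_lit 43], [nat_lit 53, nat_lit 36, nat_lit 6, nat_lit 37, nat_lit 52]]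

/-- data -/
noncomputable def c' : List Nat :=
  [nat_lit 2, nat_lit 4, nat_lit 8, nat_lit 16, nat_lit 32, nat_lit 64, nat_lit 128, nat_lit 256, nat_lit 512, nat_lit 1024, nat_lit 1307, nat_lit 1905, nat_lit 1862, nat_lit 758, nat_lit 697, nat_lit 430, nat_lit 469, nat_lit 971, nat_lit 1251, nat_lit 1583, nat_lit 1148, nat_lit 1948]

/-- data -/
noncomputable def Γ : List (List Nat × List Nat) :=
  [([nat_lit 13, nat_lit 19, nat_lit 52, nat_lit 55, nat_lit 46, nat_lit 53, nat_lit 15, nat_lit 51, nat_lit 15], [nat_lit 15, nat_lit 1, nat_lit 2, nat_lit 6, nat_lit 4, nat_lit 10, nat_lit 3, nat_lit 13, nat_lit 8, nat_lit 16, nat_lit 5, nat_lit 18, nat_lit 20, nat_lit 7, nat_lit 14, nat_lit 0, nat_lit 9, nat_lit 19, nat_lit 11, nat_lit 17, nat_lit 12, nat_lit 21, nat_lit 22]), ([nat_lit 13, nat_lit 55, nat_lit 46, nat_lit 17, nat_lit 53, nat_lit 42, nat_lit 53, nat_lit 39, nat_lit 40, nat_lit 39],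 [nat_lit 0, nat_lit 1, nat_lit 5, nat_lit 16, nat_lit 12, nat_lit 2, nat_lit 11, nat_lit 7, nat_lit 8, nat_lit 19, nat_lit 22, nat_lit 6, nat_lit 4, nat_lit 13, nat_lit 20, nat_lit 15, nat_lit 3, nat_lit 18, nat_lit 17, nat_lit 9, nat_lit 14, nat_lit 21, nat_lit 10]), ([nat_lit 41, nat_lit 48, nat_lit 30, nat_lit 30, nat_lit 36, nat_lit 42, nat_lit 42, nat_lit 44, nat_lit 52, nat_lit 50, nat_lit 55], [nat_lit 0, nat_lit 18, nat_lit 9, nat_lit 1, nat_lit 20, nat_lit 11, nat_lit 10, nat_lit 16, nat_lit 8, nat_lit 5, nat_lit 19, nat_lit 2, nat_lit 14, nat_lit 3, nat_lit 12, nat_lit 15, nat_lit 21, nat_lit 7, nat_lit 13, nat_lit 22, nat_lit 4, nat_lit 17, nat_lit 6])]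

/-- data -/
noncomputable def H : List (List Nat × List Nat) :=
  [([nat_lit 49, nat_lit 45, nat_lit 54, nat_lit 42, nat_lit 54, nat_lit 7, nat_lit 31, nat_lit 39, nat_lit 41], [nat_lit 0, nat_lit 14, nat_lit 21, nat_lit 18, nat_lit 19, nat_lit 12, nat_lit 8, nat_lit 4, nat_lit 5, nat_lit 3, nat_lit 15, nat_lit 13, nat_lit 1, nat_lit 11, nat_lit 10, nat_lit 6, nat_lit 9, nat_lit 16, nat_lit 2, nat_lit 20, nat_lit 7, nat_lit 22, nat_lit 17]), ([nat_lit 36, nat_lit 48, nat_lit 36, nat_lit 43, nat_lit 55, nat_lit 10, nat_lit 52, nat_lit 46, nat_lit 16, nat_lit 54], [nat_lit 0, nat_lit 1, nat_lit 21, nat_lit 8, nat_lit 17, nat_lit 16, nat_lit 7, nat_lit 18, nat_lit 9, nat_lit 3, nat_lit 14, nat_lit 5, nat_lit 2, nat_lit 10, nat_lit 13, nat_lit 15, nat_lit 11, nat_lit 19, nat_lit 6, nat_lit 4, nat_lit 20, nat_lit 12, nat_lit 22])]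

/-- data -/
noncomputable def L : List (List Nat) :=
  [[nat_lit 0, nat_lit 1, nat_lit 2, nat_lit 3, nat_lit 4, nat_lit 5, nat_lit 6, nat_lit 7, nat_lit 8, nat_lit 9, nat_lit 10, nat_lit 11, nat_lit 12, nat_lit 13, nat_lit 14, nat_lit 15, nat_lit 16, nat_lit 17, nat_lit 18, nat_lit 19, nat_lit 20, nat_lit 21, nat_lit 22], [nat_lit 15, nat_lit 19, nat_lit 3, nat_lit 21, nat_lit 12, nat_lit 17, nat_lit 10, nat_lit 6, nat_lit 8, nat_lit 5, nat_lit 18, nat_lit 22, nat_lit 14, nat_lit 9, nat_lit 20, nat_lit 0, nat_lit 1, nat_lit 7, nat_lit 13, nat_lit 2, nat_lit 4, nat_lit 11, nat_lit 16], [nat_lit 15, nat_lit 2, nat_lit 1, nat_lit 3, nat_lit 4, nat_lit 7, nat_lit 6, nat_lit 5, nat_lit 8, nat_lit 9, nat_lit 13, nat_lit 19, nat_lit 20, nat_lit 10, nat_lit 14, nat_lit 0, nat_lit 16, nat_lit 18, nat_lit 17, nat_lit 11, nat_lit 12, nat_lit 22, nat_lit 21], [nat_lit 0, nat_lit 1, nat_lit 5, nat_lit 16,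 nat_lit 12, nat_lit 2, nat_lit 11, nat_lit 7, nat_lit 8, nat_lit 19, nat_lit 22, nat_lit 6, nat_lit 4, nat_lit 13, nat_lit 20, nat_lit 15, nat_lit 3, nat_lit 18, nat_lit 17, nat_lit 9, nat_lit 14, nat_lit 21, nat_lit 10], [nat_lit 0, nat_lit 2, nat_lit 21, nat_lit 11, nat_lit 14, nat_lit 7, nat_lit 18, nat_lit 10, nat_lit 8, nat_lit 17, nat_lit 13, nat_lit 16, nat_lit 20, nat_lit 5, nat_lit 4, nat_lit 15, nat_lit 19, nat_lit 6, nat_lit 9, nat_lit 3, nat_lit 12, nat_lit 22, nat_lit 1], [nat_lit 0, nat_lit 11, nat_lit 3, nat_lit 22, nat_lit 20, nat_lit 18, nat_lit 13, nat_lit 6, nat_lit 8, nat_lit 7, nat_lit 17, nat_lit 21, nat_lit 14, nat_lit 9, nat_lit 12, nat_lit 15, nat_lit 2, nat_lit 5, nat_lit 10, nat_lit 1, nat_lit 4, nat_lit 19, nat_lit 16], [nat_lit 15, nat_lit 9, nat_lit 16, nat_lit 21, nat_lit 4, nat_lit 18, nat_lit 22, nat_lit 11, nat_lit 8, nat_lit 2, nat_lit 17, nat_lit 10, nat_lit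 20, nat_lit 19, nat_lit 14, nat_lit 0, nat_lit 1, nat_lit 7, nat_lit 13, nat_lit 5, nat_lit 12, nat_lit 6, nat_lit 3], [nat_lit 0, nat_lit 3, nat_lit 19, nat_lit 21, nat_lit 12, nat_lit 6, nat_lit 10, nat_lit 17, nat_lit 8, nat_lit 5, nat_lit 9, nat_lit 2, nat_lit 4, nat_lit 18, nat_lit 20, nat_lit 15, nat_lit 1, nat_lit 13, nat_lit 7, nat_lit 22, nat_lit 14, nat_lit 16, nat_lit 11], [nat_lit 15, nat_lit 5, nat_lit 1, nat_lit 16, nat_lit 12, nat_lit 7, nat_lit 11, nat_lit 2, nat_lit 8, nat_lit 19, nat_lit 13, nat_lit 9, nat_lit 14, nat_lit 22, nat_lit 20, nat_lit 0, nat_lit 3, nat_lit 17, nat_lit 18, nat_lit 6, nat_lit 4, nat_lit 10, nat_lit 21], [nat_lit 15, nat_lit 19, nat_lit 17, nat_lit 1, nat_lit 14, nat_lit 3, nat_lit 22, nat_lit 6, nat_lit 8, nat_lit 2, nat_lit 16, nat_lit 10, nat_lit 12, nat_lit 9, nat_lit 4, nat_lit 0, nat_lit 21, nat_lit 13, nat_lit 7, nat_lit 5, nat_lit 20, nat_lit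 11, nat_lit 18], [nat_lit 15, nat_lit 2, nat_lit 7, nat_lit 16, nat_lit 20, nat_lit 1, nat_lit 19, nat_lit 5, nat_lit 8, nat_lit 11, nat_lit 21, nat_lit 6, nat_lit 4, nat_lit 10, nat_lit 12, nat_lit 0, nat_lit 3, nat_lit 17, nat_lit 18, nat_lit 9, nat_lit 14, nat_lit 22, nat_lit 13], [nat_lit 15, nat_lit 3, nat_lit 11, nat_lit 22, nat_lit 20, nat_lit 6, nat_lit 13, nat_lit 18, nat_lit 8, nat_lit 7, nat_lit 9, nat_lit 1, nat_lit 4, nat_lit 17, nat_lit 12, nat_lit 0, nat_lit 2, nat_lit 10, nat_lit 5, nat_lit 21, nat_lit 14, nat_lit 16, nat_lit 19], [nat_lit 15, nat_lit 1, nat_lit 22, nat_lit 19, nat_lit 14, nat_lit 5, nat_lit 17, nat_lit 13, nat_lit 8, nat_lit 18, nat_lit 10, nat_lit 16, nat_lit 12, nat_lit 7, nat_lit 4, nat_lit 0, nat_lit 11, nat_lit 6, nat_lit 9, nat_lit 3, nat_lit 20, nat_lit 21, nat_lit 2], [nat_lit 0, nat_lit 5, nat_lit 21, nat_lit 6, nat_lit 20, nat_lit 7, nat_lit 17, nat_lit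 22, nat_lit 8, nat_lit 18, nat_lit 13, nat_lit 3, nat_lit 14, nat_lit 2, nat_lit 12, nat_lit 15, nat_lit 9, nat_lit 11, nat_lit 19, nat_lit 16, nat_lit 4, nat_lit 10, nat_lit 1], [nat_lit 15, nat_lit 22, nat_lit 21, nat_lit 16, nat_lit 4, nat_lit 13, nat_lit 9, nat_lit 10, nat_lit 8, nat_lit 6, nat_lit 7, nat_lit 11, nat_lit 20, nat_lit 5, nat_lit 14, nat_lit 0, nat_lit 3, nat_lit 17, nat_lit 18, nat_lit 19, nat_lit 12, nat_lit 2, nat_lit 1], [nat_lit 0, nat_lit 6, nat_lit 16, nat_lit 10, nat_lit 14, nat_lit 17, nat_lit 13, nat_lit 11, nat_lit 8, nat_lit 7, nat_lit 18, nat_lit 21, nat_lit 20, nat_lit 19, nat_lit 4, nat_lit 15, nat_lit 5, nat_lit 2, nat_lit 22, nat_lit 1, nat_lit 12, nat_lit 9, nat_lit 3], [nat_lit 0, nat_lit 5, nat_lit 1, nat_lit 11, nat_lit 12, nat_lit 13, nat_lit 16, nat_lit 22, nat_lit 8, nat_lit 3, nat_lit 7, nat_lit 18, nat_lit 4, nat_lit 2, nat_lit 20, nat_lit 15, nat_lit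 19, nat_lit 6, nat_lit 9, nat_lit 17, nat_lit 14, nat_lit 10, nat_lit 21], [nat_lit 0, nat_lit 9, nat_lit 16, nat_lit 22, nat_lit 4, nat_lit 17, nat_lit 21, nat_lit 19, nat_lit 8, nat_lit 1, nat_lit 18, nat_lit 13, nat_lit 12, nat_lit 11, nat_lit 14, nat_lit 15, nat_lit 2, nat_lit 5, nat_lit 10, nat_lit 7, nat_lit 20, nat_lit 6, nat_lit 3], [nat_lit 15, nat_lit 21, nat_lit 2, nat_lit 11, nat_lit 14, nat_lit 10, nat_lit 18, nat_lit 7, nat_lit 8, nat_lit 17, nat_lit 5, nat_lit 3, nat_lit 12, nat_lit 13, nat_lit 4, nat_lit 0, nat_lit 19, nat_lit 9, nat_lit 6, nat_lit 16, nat_lit 20, nat_lit 1, nat_lit 22], [nat_lit 0, nat_lit 16, nat_lit 9, nat_lit 21, nat_lit 4, nat_lit 11, nat_lit 22, nat_lit 18, nat_lit 8, nat_lit 2, nat_lit 19, nat_lit 5, nat_lit 12, nat_lit 17, nat_lit 14, nat_lit 15, nat_lit 1, nat_lit 13, nat_lit 7, nat_lit 10, nat_lit 20, nat_lit 3, nat_lit 6], [nat_lit 0, nat_lit 17, nat_lit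 19, nat_lit 1, nat_lit 14, nat_lit 6, nat_lit 22, nat_lit 3, nat_lit 8, nat_lit 2, nat_lit 9, nat_lit 5, nat_lit 20, nat_lit 16, nat_lit 4, nat_lit 15, nat_lit 21, nat_lit 7, nat_lit 13, nat_lit 10, nat_lit 12, nat_lit 18, nat_lit 11], [nat_lit 0, nat_lit 7, nat_lit 2, nat_lit 16, nat_lit 20, nat_lit 5, nat_lit 19, nat_lit 1, nat_lit 8, nat_lit 11, nat_lit 10, nat_lit 9, nat_lit 14, nat_lit 21, nat_lit 12, nat_lit 15, nat_lit 3, nat_lit 18, nat_lit 17, nat_lit 6, nat_lit 4, nat_lit 13, nat_lit 22], [nat_lit 0, nat_lit 2, nat_lit 7, nat_lit 19, nat_lit 20, nat_lit 21, nat_lit 16, nat_lit 10, nat_lit 8, nat_lit 3, nat_lit 1, nat_lit 18, nat_lit 14, nat_lit 5, nat_lit 12, nat_lit 15, nat_lit 11, nat_lit 9, nat_lit 6, nat_lit 17, nat_lit 4, nat_lit 22, nat_lit 13], [nat_lit 0, nat_lit 11, nat_lit 18, nat_lit 2, nat_lit 14, nat_lit 3, nat_lit 21, nat_lit 6, nat_lit 8, nat_lit 1, nat_lit 16, nat_lit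 13, nat_lit 20, nat_lit 9, nat_lit 4, nat_lit 15, nat_lit 22, nat_lit 10, nat_lit 5, nat_lit 7, nat_lit 12, nat_lit 19, nat_lit 17], [nat_lit 15, nat_lit 9, nat_lit 18, nat_lit 1, nat_lit 20, nat_lit 16, nat_lit 10, nat_lit 11, nat_lit 8, nat_lit 5, nat_lit 3, nat_lit 22, nat_lit 4, nat_lit 19, nat_lit 12, nat_lit 0, nat_lit 21, nat_lit 13, nat_lit 7, nat_lit 2, nat_lit 14, nat_lit 6, nat_lit 17], [nat_lit 0, nat_lit 3, nat_lit 6, nat_lit 1, nat_lit 4, nat_lit 19, nat_lit 2, nat_lit 17, nat_lit 8, nat_lit 22, nat_lit 11, nat_lit 10, nat_lit 12, nat_lit 18, nat_lit 14, nat_lit 15, nat_lit 21, nat_lit 7, nat_lit 13, nat_lit 5, nat_lit 20, nat_lit 16, nat_lit 9], [nat_lit 15, nat_lit 5, nat_lit 7, nat_lit 3, nat_lit 14, nat_lit 1, nat_lit 9, nat_lit 2, nat_lit 8, nat_lit 6, nat_lit 21, nat_lit 11, nat_lit 12, nat_lit 22, nat_lit 4, nat_lit 0, nat_lit 16, nat_lit 18, nat_lit 17, nat_lit 19, nat_lit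 20, nat_lit 10, nat_lit 13], [nat_lit 0, nat_lit 21, nat_lit 22, nat_lit 16, nat_lit 4, nat_lit 10, nat_lit 9, nat_lit 13, nat_lit 8, nat_lit 6, nat_lit 5, nat_lit 19, nat_lit 12, nat_lit 7, nat_lit 14, nat_lit 15, nat_lit 3, nat_lit 18, nat_lit 17, nat_lit 11, nat_lit 20, nat_lit 1, nat_lit 2], [nat_lit 15, nat_lit 16, nat_lit 6, nat_lit 10, nat_lit 14, nat_lit 11, nat_lit 13, nat_lit 17, nat_lit 8, nat_lit 7, nat_lit 19, nat_lit 1, nat_lit 12, nat_lit 18, nat_lit 4, nat_lit 0, nat_lit 5, nat_lit 22, nat_lit 2, nat_lit 21, nat_lit 20, nat_lit 3, nat_lit 9], [nat_lit 0, nat_lit 19, nat_lit 16, nat_lit 2, nat_lit 20, nat_lit 17, nat_lit 7, nat_lit 9, nat_lit 8, nat_lit 13, nat_lit 18, nat_lit 1, nat_lit 14, nat_lit 6, nat_lit 12, nat_lit 15, nat_lit 22, nat_lit 10, nat_lit 5, nat_lit 21, nat_lit 4, nat_lit 11, nat_lit 3], [nat_lit 15, nat_lit 1, nat_lit 10, nat_lit 9, nat_lit 20, nat_lit 2, nat_lit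 18, nat_lit 13, nat_lit 8, nat_lit 17, nat_lit 22, nat_lit 3, nat_lit 4, nat_lit 7, nat_lit 12, nat_lit 0, nat_lit 6, nat_lit 11, nat_lit 19, nat_lit 16, nat_lit 14, nat_lit 21, nat_lit 5], [nat_lit 15, nat_lit 17, nat_lit 11, nat_lit 10, nat_lit 4, nat_lit 6, nat_lit 7, nat_lit 16, nat_lit 8, nat_lit 13, nat_lit 9, nat_lit 21, nat_lit 20, nat_lit 3, nat_lit 14, nat_lit 0, nat_lit 5, nat_lit 22, nat_lit 2, nat_lit 1, nat_lit 12, nat_lit 18, nat_lit 19], [nat_lit 15, nat_lit 7, nat_lit 22, nat_lit 6, nat_lit 12, nat_lit 5, nat_lit 18, nat_lit 21, nat_lit 8, nat_lit 17, nat_lit 10, nat_lit 3, nat_lit 14, nat_lit 1, nat_lit 20, nat_lit 0, nat_lit 9, nat_lit 19, nat_lit 11, nat_lit 16, nat_lit 4, nat_lit 13, nat_lit 2], [nat_lit 0, nat_lit 16, nat_lit 11, nat_lit 1, nat_lit 12, nat_lit 9, nat_lit 5, nat_lit 18, nat_lit 8, nat_lit 10, nat_lit 6, nat_lit 22, nat_lit 4, nat_lit 17, nat_lit 20, nat_lit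 15, nat_lit 21, nat_lit 7, nat_lit 13, nat_lit 2, nat_lit 14, nat_lit 3, nat_lit 19], [nat_lit 15, nat_lit 10, nat_lit 21, nat_lit 3, nat_lit 12, nat_lit 13, nat_lit 19, nat_lit 22, nat_lit 8, nat_lit 11, nat_lit 7, nat_lit 6, nat_lit 14, nat_lit 2, nat_lit 20, nat_lit 0, nat_lit 16, nat_lit 18, nat_lit 17, nat_lit 9, nat_lit 4, nat_lit 5, nat_lit 1], [nat_lit 15, nat_lit 10, nat_lit 1, nat_lit 18, nat_lit 20, nat_lit 7, nat_lit 9, nat_lit 22, nat_lit 8, nat_lit 6, nat_lit 13, nat_lit 11, nat_lit 4, nat_lit 2, nat_lit 12, nat_lit 0, nat_lit 17, nat_lit 3, nat_lit 16, nat_lit 19, nat_lit 14, nat_lit 5, nat_lit 21], [nat_lit 15, nat_lit 6, nat_lit 16, nat_lit 13, nat_lit 14, nat_lit 18, nat_lit 10, nat_lit 19, nat_lit 8, nat_lit 5, nat_lit 17, nat_lit 22, nat_lit 12, nat_lit 11, nat_lit 4, nat_lit 0, nat_lit 7, nat_lit 1, nat_lit 21, nat_lit 2, nat_lit 20, nat_lit 9, nat_lit 3], [nat_lit 15, nat_lit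 17, nat_lit 19, nat_lit 22, nat_lit 14, nat_lit 9, nat_lit 1, nat_lit 16, nat_lit 8, nat_lit 21, nat_lit 6, nat_lit 13, nat_lit 12, nat_lit 3, nat_lit 4, nat_lit 0, nat_lit 2, nat_lit 10, nat_lit 5, nat_lit 7, nat_lit 20, nat_lit 18, nat_lit 11], [nat_lit 15, nat_lit 7, nat_lit 2, nat_lit 19, nat_lit 20, nat_lit 10, nat_lit 16, nat_lit 21, nat_lit 8, nat_lit 3, nat_lit 5, nat_lit 17, nat_lit 4, nat_lit 1, nat_lit 12, nat_lit 0, nat_lit 11, nat_lit 6, nat_lit 9, nat_lit 18, nat_lit 14, nat_lit 13, nat_lit 22], [nat_lit 0, nat_lit 2, nat_lit 1, nat_lit 6, nat_lit 4, nat_lit 13, nat_lit 3, nat_lit 10, nat_lit 8, nat_lit 16, nat_lit 7, nat_lit 17, nat_lit 12, nat_lit 5, nat_lit 14, nat_lit 15, nat_lit 9, nat_lit 11, nat_lit 19, nat_lit 18, nat_lit 20, nat_lit 22, nat_lit 21], [nat_lit 0, nat_lit 19, nat_lit 3, nat_lit 10, nat_lit 12, nat_lit 18, nat_lit 21, nat_lit 9, nat_lit 8, nat_lit 1, nat_lit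 17, nat_lit 13, nat_lit 4, nat_lit 6, nat_lit 20, nat_lit 15, nat_lit 5, nat_lit 2, nat_lit 22, nat_lit 7, nat_lit 14, nat_lit 11, nat_lit 16], [nat_lit 0, nat_lit 22, nat_lit 1, nat_lit 19, nat_lit 14, nat_lit 13, nat_lit 17, nat_lit 5, nat_lit 8, nat_lit 18, nat_lit 7, nat_lit 3, nat_lit 20, nat_lit 10, nat_lit 4, nat_lit 15, nat_lit 11, nat_lit 9, nat_lit 6, nat_lit 16, nat_lit 12, nat_lit 2, nat_lit 21], [nat_lit 15, nat_lit 21, nat_lit 5, nat_lit 6, nat_lit 20, nat_lit 22, nat_lit 17, nat_lit 7, nat_lit 8, nat_lit 18, nat_lit 2, nat_lit 16, nat_lit 4, nat_lit 13, nat_lit 12, nat_lit 0, nat_lit 9, nat_lit 19, nat_lit 11, nat_lit 3, nat_lit 14, nat_lit 1, nat_lit 10], [nat_lit 15, nat_lit 1, nat_lit 5, nat_lit 11, nat_lit 12, nat_lit 22, nat_lit 16, nat_lit 13, nat_lit 8, nat_lit 3, nat_lit 2, nat_lit 17, nat_lit 14, nat_lit 7, nat_lit 20, nat_lit 0, nat_lit 19, nat_lit 9, nat_lit 6, nat_lit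 18, nat_lit 4, nat_lit 21, nat_lit 10], [nat_lit 15, nat_lit 16, nat_lit 9, nat_lit 22, nat_lit 4, nat_lit 19, nat_lit 21, nat_lit 17, nat_lit 8, nat_lit 1, nat_lit 11, nat_lit 7, nat_lit 20, nat_lit 18, nat_lit 14, nat_lit 0, nat_lit 2, nat_lit 10, nat_lit 5, nat_lit 13, nat_lit 12, nat_lit 3, nat_lit 6], [nat_lit 15, nat_lit 18, nat_lit 11, nat_lit 2, nat_lit 14, nat_lit 6, nat_lit 21, nat_lit 3, nat_lit 8, nat_lit 1, nat_lit 9, nat_lit 7, nat_lit 12, nat_lit 16, nat_lit 4, nat_lit 0, nat_lit 22, nat_lit 5, nat_lit 10, nat_lit 13, nat_lit 20, nat_lit 17, nat_lit 19], [nat_lit 0, nat_lit 18, nat_lit 9, nat_lit 1, nat_lit 20, nat_lit 11, nat_lit 10, nat_lit 16, nat_lit 8, nat_lit 5, nat_lit 19, nat_lit 2, nat_lit 14, nat_lit 3, nat_lit 12, nat_lit 15, nat_lit 21, nat_lit 7, nat_lit 13, nat_lit 22, nat_lit 4, nat_lit 17, nat_lit 6], [nat_lit 15, nat_lit 6, nat_lit 3, nat_lit 1, nat_lit 4, nat_lit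 17, nat_lit 2, nat_lit 19, nat_lit 8, nat_lit 22, nat_lit 18, nat_lit 5, nat_lit 20, nat_lit 11, nat_lit 14, nat_lit 0, nat_lit 21, nat_lit 13, nat_lit 7, nat_lit 10, nat_lit 12, nat_lit 9, nat_lit 16], [nat_lit 0, nat_lit 7, nat_lit 5, nat_lit 3, nat_lit 14, nat_lit 2, nat_lit 9, nat_lit 1, nat_lit 8, nat_lit 6, nat_lit 22, nat_lit 19, nat_lit 20, nat_lit 21, nat_lit 4, nat_lit 15, nat_lit 16, nat_lit 17, nat_lit 18, nat_lit 11, nat_lit 12, nat_lit 13, nat_lit 10], [nat_lit 15, nat_lit 3, nat_lit 6, nat_lit 2, nat_lit 4, nat_lit 11, nat_lit 1, nat_lit 18, nat_lit 8, nat_lit 21, nat_lit 19, nat_lit 13, nat_lit 20, nat_lit 17, nat_lit 14, nat_lit 0, nat_lit 22, nat_lit 5, nat_lit 10, nat_lit 7, nat_lit 12, nat_lit 16, nat_lit 9], [nat_lit 0, nat_lit 5, nat_lit 7, nat_lit 9, nat_lit 14, nat_lit 21, nat_lit 3, nat_lit 22, nat_lit 8, nat_lit 16, nat_lit 1, nat_lit 17, nat_lit 20, nat_lit 2, nat_lit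 4, nat_lit 15, nat_lit 6, nat_lit 19, nat_lit 11, nat_lit 18, nat_lit 12, nat_lit 10, nat_lit 13], [nat_lit 15, nat_lit 22, nat_lit 13, nat_lit 3, nat_lit 20, nat_lit 21, nat_lit 11, nat_lit 10, nat_lit 8, nat_lit 19, nat_lit 1, nat_lit 9, nat_lit 4, nat_lit 5, nat_lit 12, nat_lit 0, nat_lit 16, nat_lit 18, nat_lit 17, nat_lit 6, nat_lit 14, nat_lit 2, nat_lit 7], [nat_lit 0, nat_lit 6, nat_lit 17, nat_lit 5, nat_lit 20, nat_lit 16, nat_lit 21, nat_lit 11, nat_lit 8, nat_lit 1, nat_lit 3, nat_lit 13, nat_lit 14, nat_lit 19, nat_lit 12, nat_lit 15, nat_lit 10, nat_lit 22, nat_lit 2, nat_lit 7, nat_lit 4, nat_lit 9, nat_lit 18], [nat_lit 0, nat_lit 5, nat_lit 13, nat_lit 19, nat_lit 4, nat_lit 1, nat_lit 18, nat_lit 22, nat_lit 8, nat_lit 17, nat_lit 21, nat_lit 16, nat_lit 12, nat_lit 2, nat_lit 14, nat_lit 15, nat_lit 11, nat_lit 9, nat_lit 6, nat_lit 3, nat_lit 20, nat_lit 10, nat_lit 7], [nat_lit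 0, nat_lit 9, nat_lit 17, nat_lit 2, nat_lit 12, nat_lit 16, nat_lit 13, nat_lit 19, nat_lit 8, nat_lit 7, nat_lit 3, nat_lit 21, nat_lit 4, nat_lit 11, nat_lit 20, nat_lit 15, nat_lit 22, nat_lit 10, nat_lit 5, nat_lit 1, nat_lit 14, nat_lit 6, nat_lit 18], [nat_lit 15, nat_lit 21, nat_lit 10, nat_lit 19, nat_lit 12, nat_lit 2, nat_lit 3, nat_lit 7, nat_lit 8, nat_lit 16, nat_lit 22, nat_lit 18, nat_lit 14, nat_lit 13, nat_lit 20, nat_lit 0, nat_lit 11, nat_lit 6, nat_lit 9, nat_lit 17, nat_lit 4, nat_lit 1, nat_lit 5], [nat_lit 0, nat_lit 17, nat_lit 6, nat_lit 21, nat_lit 20, nat_lit 19, nat_lit 5, nat_lit 3, nat_lit 8, nat_lit 10, nat_lit 11, nat_lit 22, nat_lit 14, nat_lit 16, nat_lit 12, nat_lit 15, nat_lit 1, nat_lit 13, nat_lit 7, nat_lit 2, nat_lit 4, nat_lit 18, nat_lit 9], [nat_lit 15, nat_lit 11, nat_lit 16, nat_lit 1, nat_lit 12, nat_lit 18, nat_lit 5, nat_lit 9, nat_lit 8, nat_lit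 10, nat_lit 17, nat_lit 2, nat_lit 14, nat_lit 6, nat_lit 20, nat_lit 0, nat_lit 21, nat_lit 13, nat_lit 7, nat_lit 22, nat_lit 4, nat_lit 19, nat_lit 3], [nat_lit 0, nat_lit 21, nat_lit 10, nat_lit 3, nat_lit 12, nat_lit 22, nat_lit 19, nat_lit 13, nat_lit 8, nat_lit 11, nat_lit 2, nat_lit 9, nat_lit 4, nat_lit 7, nat_lit 20, nat_lit 15, nat_lit 16, nat_lit 17, nat_lit 18, nat_lit 6, nat_lit 14, nat_lit 1, nat_lit 5], [nat_lit 0, nat_lit 1, nat_lit 10, nat_lit 18, nat_lit 20, nat_lit 22, nat_lit 9, nat_lit 7, nat_lit 8, nat_lit 6, nat_lit 2, nat_lit 19, nat_lit 14, nat_lit 13, nat_lit 12, nat_lit 15, nat_lit 17, nat_lit 16, nat_lit 3, nat_lit 11, nat_lit 4, nat_lit 21, nat_lit 5], [nat_lit 0, nat_lit 16, nat_lit 6, nat_lit 13, nat_lit 14, nat_lit 19, nat_lit 10, nat_lit 18, nat_lit 8, nat_lit 5, nat_lit 11, nat_lit 2, nat_lit 20, nat_lit 17, nat_lit 4, nat_lit 15, nat_lit 7, nat_lit 21, nat_lit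 1, nat_lit 22, nat_lit 12, nat_lit 3, nat_lit 9], [nat_lit 0, nat_lit 9, nat_lit 3, nat_lit 5, nat_lit 14, nat_lit 18, nat_lit 7, nat_lit 19, nat_lit 8, nat_lit 13, nat_lit 17, nat_lit 1, nat_lit 20, nat_lit 11, nat_lit 4, nat_lit 15, nat_lit 10, nat_lit 22, nat_lit 2, nat_lit 21, nat_lit 12, nat_lit 6, nat_lit 16], [nat_lit 0, nat_lit 19, nat_lit 18, nat_lit 5, nat_lit 4, nat_lit 3, nat_lit 13, nat_lit 9, nat_lit 8, nat_lit 7, nat_lit 16, nat_lit 21, nat_lit 12, nat_lit 6, nat_lit 14, nat_lit 15, nat_lit 10, nat_lit 22, nat_lit 2, nat_lit 1, nat_lit 20, nat_lit 11, nat_lit 17], [nat_lit 0, nat_lit 2, nat_lit 13, nat_lit 9, nat_lit 12, nat_lit 1, nat_lit 17, nat_lit 10, nat_lit 8, nat_lit 18, nat_lit 21, nat_lit 3, nat_lit 4, nat_lit 5, nat_lit 20, nat_lit 15, nat_lit 6, nat_lit 19, nat_lit 11, nat_lit 16, nat_lit 14, nat_lit 22, nat_lit 7], [nat_lit 0, nat_lit 7, nat_lit 22, nat_lit 18, nat_lit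 12, nat_lit 10, nat_lit 6, nat_lit 1, nat_lit 8, nat_lit 9, nat_lit 5, nat_lit 11, nat_lit 4, nat_lit 21, nat_lit 20, nat_lit 15, nat_lit 17, nat_lit 16, nat_lit 3, nat_lit 19, nat_lit 14, nat_lit 13, nat_lit 2], [nat_lit 0, nat_lit 18, nat_lit 19, nat_lit 13, nat_lit 4, nat_lit 6, nat_lit 5, nat_lit 16, nat_lit 8, nat_lit 10, nat_lit 9, nat_lit 22, nat_lit 12, nat_lit 3, nat_lit 14, nat_lit 15, nat_lit 7, nat_lit 21, nat_lit 1, nat_lit 2, nat_lit 20, nat_lit 17, nat_lit 11], [nat_lit 15, nat_lit 18, nat_lit 6, nat_lit 22, nat_lit 12, nat_lit 11, nat_lit 7, nat_lit 3, nat_lit 8, nat_lit 13, nat_lit 19, nat_lit 21, nat_lit 14, nat_lit 16, nat_lit 20, nat_lit 0, nat_lit 2, nat_lit 10, nat_lit 5, nat_lit 1, nat_lit 4, nat_lit 17, nat_lit 9], [nat_lit 15, nat_lit 7, nat_lit 10, nat_lit 11, nat_lit 4, nat_lit 2, nat_lit 17, nat_lit 21, nat_lit 8, nat_lit 18, nat_lit 22, nat_lit 16, nat_lit 20, nat_lit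 1, nat_lit 14, nat_lit 0, nat_lit 19, nat_lit 9, nat_lit 6, nat_lit 3, nat_lit 12, nat_lit 13, nat_lit 5], [nat_lit 15, nat_lit 16, nat_lit 19, nat_lit 2, nat_lit 20, nat_lit 9, nat_lit 7, nat_lit 17, nat_lit 8, nat_lit 13, nat_lit 6, nat_lit 21, nat_lit 4, nat_lit 18, nat_lit 12, nat_lit 0, nat_lit 22, nat_lit 5, nat_lit 10, nat_lit 1, nat_lit 14, nat_lit 3, nat_lit 11], [nat_lit 0, nat_lit 18, nat_lit 11, nat_lit 21, nat_lit 14, nat_lit 9, nat_lit 2, nat_lit 16, nat_lit 8, nat_lit 22, nat_lit 6, nat_lit 10, nat_lit 20, nat_lit 3, nat_lit 4, nat_lit 15, nat_lit 1, nat_lit 13, nat_lit 7, nat_lit 5, nat_lit 12, nat_lit 17, nat_lit 19], [nat_lit 0, nat_lit 13, nat_lit 22, nat_lit 3, nat_lit 20, nat_lit 10, nat_lit 11, nat_lit 21, nat_lit 8, nat_lit 19, nat_lit 5, nat_lit 6, nat_lit 14, nat_lit 1, nat_lit 12, nat_lit 15, nat_lit 16, nat_lit 17, nat_lit 18, nat_lit 9, nat_lit 4, nat_lit 7, nat_lit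 2], [nat_lit 0, nat_lit 13, nat_lit 2, nat_lit 17, nat_lit 12, nat_lit 5, nat_lit 9, nat_lit 21, nat_lit 8, nat_lit 6, nat_lit 10, nat_lit 19, nat_lit 4, nat_lit 1, nat_lit 20, nat_lit 15, nat_lit 18, nat_lit 3, nat_lit 16, nat_lit 11, nat_lit 14, nat_lit 7, nat_lit 22], [nat_lit 15, nat_lit 22, nat_lit 1, nat_lit 17, nat_lit 14, nat_lit 7, nat_lit 19, nat_lit 10, nat_lit 8, nat_lit 11, nat_lit 13, nat_lit 6, nat_lit 12, nat_lit 5, nat_lit 4, nat_lit 0, nat_lit 18, nat_lit 16, nat_lit 3, nat_lit 9, nat_lit 20, nat_lit 2, nat_lit 21], [nat_lit 0, nat_lit 10, nat_lit 1, nat_lit 9, nat_lit 20, nat_lit 13, nat_lit 18, nat_lit 2, nat_lit 8, nat_lit 17, nat_lit 7, nat_lit 16, nat_lit 14, nat_lit 22, nat_lit 12, nat_lit 15, nat_lit 6, nat_lit 19, nat_lit 11, nat_lit 3, nat_lit 4, nat_lit 5, nat_lit 21], [nat_lit 15, nat_lit 11, nat_lit 3, nat_lit 13, nat_lit 20, nat_lit 17, nat_lit 22, nat_lit 9, nat_lit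 8, nat_lit 2, nat_lit 18, nat_lit 10, nat_lit 4, nat_lit 6, nat_lit 12, nat_lit 0, nat_lit 7, nat_lit 1, nat_lit 21, nat_lit 5, nat_lit 14, nat_lit 19, nat_lit 16], [nat_lit 15, nat_lit 18, nat_lit 9, nat_lit 10, nat_lit 20, nat_lit 19, nat_lit 1, nat_lit 3, nat_lit 8, nat_lit 21, nat_lit 11, nat_lit 13, nat_lit 4, nat_lit 16, nat_lit 12, nat_lit 0, nat_lit 5, nat_lit 22, nat_lit 2, nat_lit 7, nat_lit 14, nat_lit 17, nat_lit 6], [nat_lit 0, nat_lit 6, nat_lit 3, nat_lit 2, nat_lit 4, nat_lit 18, nat_lit 1, nat_lit 11, nat_lit 8, nat_lit 21, nat_lit 17, nat_lit 7, nat_lit 12, nat_lit 19, nat_lit 14, nat_lit 15, nat_lit 22, nat_lit 10, nat_lit 5, nat_lit 13, nat_lit 20, nat_lit 9, nat_lit 16], [nat_lit 15, nat_lit 7, nat_lit 5, nat_lit 9, nat_lit 14, nat_lit 22, nat_lit 3, nat_lit 21, nat_lit 8, nat_lit 16, nat_lit 2, nat_lit 18, nat_lit 12, nat_lit 1, nat_lit 4, nat_lit 0, nat_lit 6, nat_lit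 11, nat_lit 19, nat_lit 17, nat_lit 20, nat_lit 13, nat_lit 10], [nat_lit 15, nat_lit 3, nat_lit 19, nat_lit 10, nat_lit 12, nat_lit 9, nat_lit 21, nat_lit 18, nat_lit 8, nat_lit 1, nat_lit 6, nat_lit 7, nat_lit 14, nat_lit 17, nat_lit 20, nat_lit 0, nat_lit 5, nat_lit 22, nat_lit 2, nat_lit 13, nat_lit 4, nat_lit 16, nat_lit 11], [nat_lit 15, nat_lit 1, nat_lit 2, nat_lit 6, nat_lit 4, nat_lit 10, nat_lit 3, nat_lit 13, nat_lit 8, nat_lit 16, nat_lit 5, nat_lit 18, nat_lit 20, nat_lit 7, nat_lit 14, nat_lit 0, nat_lit 9, nat_lit 19, nat_lit 11, nat_lit 17, nat_lit 12, nat_lit 21, nat_lit 22], [nat_lit 15, nat_lit 2, nat_lit 21, nat_lit 18, nat_lit 14, nat_lit 13, nat_lit 11, nat_lit 5, nat_lit 8, nat_lit 19, nat_lit 7, nat_lit 9, nat_lit 12, nat_lit 10, nat_lit 4, nat_lit 0, nat_lit 17, nat_lit 3, nat_lit 16, nat_lit 6, nat_lit 20, nat_lit 22, nat_lit 1], [nat_lit 0, nat_lit 11, nat_lit 17,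 nat_lit 10, nat_lit 4, nat_lit 16, nat_lit 7, nat_lit 6, nat_lit 8, nat_lit 13, nat_lit 3, nat_lit 1, nat_lit 12, nat_lit 9, nat_lit 14, nat_lit 15, nat_lit 5, nat_lit 2, nat_lit 22, nat_lit 21, nat_lit 20, nat_lit 19, nat_lit 18], [nat_lit 0, nat_lit 22, nat_lit 7, nat_lit 6, nat_lit 12, nat_lit 21, nat_lit 18, nat_lit 5, nat_lit 8, nat_lit 17, nat_lit 1, nat_lit 16, nat_lit 4, nat_lit 10, nat_lit 20, nat_lit 15, nat_lit 9, nat_lit 11, nat_lit 19, nat_lit 3, nat_lit 14, nat_lit 2, nat_lit 13], [nat_lit 0, nat_lit 19, nat_lit 17, nat_lit 22, nat_lit 14, nat_lit 16, nat_lit 1, nat_lit 9, nat_lit 8, nat_lit 21, nat_lit 3, nat_lit 7, nat_lit 20, nat_lit 6, nat_lit 4, nat_lit 15, nat_lit 2, nat_lit 5, nat_lit 10, nat_lit 13, nat_lit 12, nat_lit 11, nat_lit 18], [nat_lit 15, nat_lit 17, nat_lit 6, nat_lit 5, nat_lit 20, nat_lit 11, nat_lit 21, nat_lit 16, nat_lit 8, nat_lit 1, nat_lit 19, nat_lit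 7, nat_lit 4, nat_lit 3, nat_lit 12, nat_lit 0, nat_lit 10, nat_lit 2, nat_lit 22, nat_lit 13, nat_lit 14, nat_lit 18, nat_lit 9], [nat_lit 15, nat_lit 13, nat_lit 5, nat_lit 19, nat_lit 4, nat_lit 22, nat_lit 18, nat_lit 1, nat_lit 8, nat_lit 17, nat_lit 2, nat_lit 3, nat_lit 20, nat_lit 21, nat_lit 14, nat_lit 0, nat_lit 11, nat_lit 6, nat_lit 9, nat_lit 16, nat_lit 12, nat_lit 7, nat_lit 10], [nat_lit 15, nat_lit 17, nat_lit 9, nat_lit 2, nat_lit 12, nat_lit 19, nat_lit 13, nat_lit 16, nat_lit 8, nat_lit 7, nat_lit 11, nat_lit 1, nat_lit 14, nat_lit 3, nat_lit 20, nat_lit 0, nat_lit 22, nat_lit 5, nat_lit 10, nat_lit 21, nat_lit 4, nat_lit 18, nat_lit 6], [nat_lit 0, nat_lit 10, nat_lit 21, nat_lit 19, nat_lit 12, nat_lit 7, nat_lit 3, nat_lit 2, nat_lit 8, nat_lit 16, nat_lit 13, nat_lit 17, nat_lit 4, nat_lit 22, nat_lit 20, nat_lit 15, nat_lit 11, nat_lit 9, nat_lit 6, nat_lit 18, nat_lit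 14, nat_lit 5, nat_lit 1], [nat_lit 15, nat_lit 6, nat_lit 17, nat_lit 21, nat_lit 20, nat_lit 3, nat_lit 5, nat_lit 19, nat_lit 8, nat_lit 10, nat_lit 16, nat_lit 2, nat_lit 4, nat_lit 11, nat_lit 12, nat_lit 0, nat_lit 1, nat_lit 7, nat_lit 13, nat_lit 22, nat_lit 14, nat_lit 9, nat_lit 18], [nat_lit 15, nat_lit 16, nat_lit 11, nat_lit 5, nat_lit 12, nat_lit 6, nat_lit 1, nat_lit 17, nat_lit 8, nat_lit 21, nat_lit 9, nat_lit 13, nat_lit 14, nat_lit 18, nat_lit 20, nat_lit 0, nat_lit 10, nat_lit 2, nat_lit 22, nat_lit 7, nat_lit 4, nat_lit 3, nat_lit 19], [nat_lit 15, nat_lit 10, nat_lit 13, nat_lit 16, nat_lit 14, nat_lit 21, nat_lit 6, nat_lit 22, nat_lit 8, nat_lit 9, nat_lit 1, nat_lit 19, nat_lit 12, nat_lit 2, nat_lit 4, nat_lit 0, nat_lit 3, nat_lit 17, nat_lit 18, nat_lit 11, nat_lit 20, nat_lit 5, nat_lit 7], [nat_lit 15, nat_lit 10, nat_lit 7, nat_lit 17, nat_lit 4, nat_lit 1, nat_lit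 11, nat_lit 22, nat_lit 8, nat_lit 19, nat_lit 21, nat_lit 9, nat_lit 20, nat_lit 2, nat_lit 14, nat_lit 0, nat_lit 18, nat_lit 16, nat_lit 3, nat_lit 6, nat_lit 12, nat_lit 5, nat_lit 13], [nat_lit 15, nat_lit 6, nat_lit 18, nat_lit 7, nat_lit 12, nat_lit 16, nat_lit 22, nat_lit 19, nat_lit 8, nat_lit 2, nat_lit 3, nat_lit 10, nat_lit 14, nat_lit 11, nat_lit 20, nat_lit 0, nat_lit 13, nat_lit 21, nat_lit 1, nat_lit 5, nat_lit 4, nat_lit 9, nat_lit 17], [nat_lit 0, nat_lit 22, nat_lit 13, nat_lit 11, nat_lit 20, nat_lit 1, nat_lit 3, nat_lit 5, nat_lit 8, nat_lit 16, nat_lit 21, nat_lit 17, nat_lit 14, nat_lit 10, nat_lit 12, nat_lit 15, nat_lit 19, nat_lit 6, nat_lit 9, nat_lit 18, nat_lit 4, nat_lit 2, nat_lit 7], [nat_lit 15, nat_lit 21, nat_lit 22, nat_lit 9, nat_lit 4, nat_lit 5, nat_lit 16, nat_lit 7, nat_lit 8, nat_lit 3, nat_lit 10, nat_lit 17, nat_lit 20, nat_lit 13, nat_lit 14, nat_lit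 0, nat_lit 6, nat_lit 11, nat_lit 19, nat_lit 18, nat_lit 12, nat_lit 1, nat_lit 2], [nat_lit 15, nat_lit 11, nat_lit 18, nat_lit 21, nat_lit 14, nat_lit 16, nat_lit 2, nat_lit 9, nat_lit 8, nat_lit 22, nat_lit 3, nat_lit 5, nat_lit 12, nat_lit 6, nat_lit 4, nat_lit 0, nat_lit 1, nat_lit 7, nat_lit 13, nat_lit 10, nat_lit 20, nat_lit 19, nat_lit 17], [nat_lit 15, nat_lit 19, nat_lit 18, nat_lit 13, nat_lit 4, nat_lit 16, nat_lit 5, nat_lit 6, nat_lit 8, nat_lit 10, nat_lit 3, nat_lit 2, nat_lit 20, nat_lit 9, nat_lit 14, nat_lit 0, nat_lit 7, nat_lit 1, nat_lit 21, nat_lit 22, nat_lit 12, nat_lit 11, nat_lit 17], [nat_lit 15, nat_lit 2, nat_lit 13, nat_lit 17, nat_lit 12, nat_lit 21, nat_lit 9, nat_lit 5, nat_lit 8, nat_lit 6, nat_lit 1, nat_lit 11, nat_lit 14, nat_lit 10, nat_lit 20, nat_lit 0, nat_lit 18, nat_lit 16, nat_lit 3, nat_lit 19, nat_lit 4, nat_lit 22, nat_lit 7], [nat_lit 0, nat_lit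 1, nat_lit 22, nat_lit 17, nat_lit 14, nat_lit 10, nat_lit 19, nat_lit 7, nat_lit 8, nat_lit 11, nat_lit 5, nat_lit 9, nat_lit 20, nat_lit 13, nat_lit 4, nat_lit 15, nat_lit 18, nat_lit 3, nat_lit 16, nat_lit 6, nat_lit 12, nat_lit 21, nat_lit 2], [nat_lit 0, nat_lit 3, nat_lit 11, nat_lit 13, nat_lit 20, nat_lit 9, nat_lit 22, nat_lit 17, nat_lit 8, nat_lit 2, nat_lit 6, nat_lit 5, nat_lit 14, nat_lit 18, nat_lit 12, nat_lit 15, nat_lit 7, nat_lit 21, nat_lit 1, nat_lit 10, nat_lit 4, nat_lit 16, nat_lit 19], [nat_lit 15, nat_lit 5, nat_lit 21, nat_lit 17, nat_lit 20, nat_lit 13, nat_lit 6, nat_lit 2, nat_lit 8, nat_lit 9, nat_lit 7, nat_lit 19, nat_lit 4, nat_lit 22, nat_lit 12, nat_lit 0, nat_lit 18, nat_lit 16, nat_lit 3, nat_lit 11, nat_lit 14, nat_lit 10, nat_lit 1], [nat_lit 15, nat_lit 9, nat_lit 3, nat_lit 7, nat_lit 14, nat_lit 17, nat_lit 5, nat_lit 11, nat_lit 8, nat_lit 10, nat_lit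 18, nat_lit 2, nat_lit 12, nat_lit 19, nat_lit 4, nat_lit 0, nat_lit 13, nat_lit 21, nat_lit 1, nat_lit 22, nat_lit 20, nat_lit 6, nat_lit 16], [nat_lit 15, nat_lit 11, nat_lit 17, nat_lit 7, nat_lit 4, nat_lit 3, nat_lit 10, nat_lit 9, nat_lit 8, nat_lit 5, nat_lit 16, nat_lit 22, nat_lit 20, nat_lit 6, nat_lit 14, nat_lit 0, nat_lit 13, nat_lit 21, nat_lit 1, nat_lit 2, nat_lit 12, nat_lit 19, nat_lit 18], [nat_lit 15, nat_lit 3, nat_lit 9, nat_lit 5, nat_lit 14, nat_lit 19, nat_lit 7, nat_lit 18, nat_lit 8, nat_lit 13, nat_lit 11, nat_lit 21, nat_lit 12, nat_lit 17, nat_lit 4, nat_lit 0, nat_lit 10, nat_lit 2, nat_lit 22, nat_lit 1, nat_lit 20, nat_lit 16, nat_lit 6], [nat_lit 0, nat_lit 7, nat_lit 10, nat_lit 17, nat_lit 4, nat_lit 22, nat_lit 11, nat_lit 1, nat_lit 8, nat_lit 19, nat_lit 2, nat_lit 6, nat_lit 12, nat_lit 21, nat_lit 14, nat_lit 15, nat_lit 18, nat_lit 3, nat_lit 16, nat_lit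 9, nat_lit 20, nat_lit 13, nat_lit 5], [nat_lit 15, nat_lit 13, nat_lit 2, nat_lit 9, nat_lit 12, nat_lit 10, nat_lit 17, nat_lit 1, nat_lit 8, nat_lit 18, nat_lit 5, nat_lit 16, nat_lit 14, nat_lit 21, nat_lit 20, nat_lit 0, nat_lit 6, nat_lit 11, nat_lit 19, nat_lit 3, nat_lit 4, nat_lit 7, nat_lit 22], [nat_lit 0, nat_lit 17, nat_lit 9, nat_lit 13, nat_lit 12, nat_lit 11, nat_lit 2, nat_lit 3, nat_lit 8, nat_lit 22, nat_lit 19, nat_lit 10, nat_lit 4, nat_lit 16, nat_lit 20, nat_lit 15, nat_lit 7, nat_lit 21, nat_lit 1, nat_lit 5, nat_lit 14, nat_lit 18, nat_lit 6], [nat_lit 0, nat_lit 13, nat_lit 10, nat_lit 16, nat_lit 14, nat_lit 22, nat_lit 6, nat_lit 21, nat_lit 8, nat_lit 9, nat_lit 2, nat_lit 11, nat_lit 20, nat_lit 1, nat_lit 4, nat_lit 15, nat_lit 3, nat_lit 18, nat_lit 17, nat_lit 19, nat_lit 12, nat_lit 7, nat_lit 5], [nat_lit 0, nat_lit 6, nat_lit 18, nat_lit 22, nat_lit 12, nat_lit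 3, nat_lit 7, nat_lit 11, nat_lit 8, nat_lit 13, nat_lit 16, nat_lit 1, nat_lit 4, nat_lit 19, nat_lit 20, nat_lit 15, nat_lit 2, nat_lit 5, nat_lit 10, nat_lit 21, nat_lit 14, nat_lit 9, nat_lit 17], [nat_lit 15, nat_lit 13, nat_lit 22, nat_lit 11, nat_lit 20, nat_lit 5, nat_lit 3, nat_lit 1, nat_lit 8, nat_lit 16, nat_lit 10, nat_lit 18, nat_lit 4, nat_lit 21, nat_lit 12, nat_lit 0, nat_lit 19, nat_lit 9, nat_lit 6, nat_lit 17, nat_lit 14, nat_lit 7, nat_lit 2], [nat_lit 0, nat_lit 13, nat_lit 5, nat_lit 18, nat_lit 4, nat_lit 2, nat_lit 19, nat_lit 21, nat_lit 8, nat_lit 11, nat_lit 22, nat_lit 9, nat_lit 12, nat_lit 1, nat_lit 14, nat_lit 15, nat_lit 17, nat_lit 16, nat_lit 3, nat_lit 6, nat_lit 20, nat_lit 7, nat_lit 10], [nat_lit 0, nat_lit 16, nat_lit 19, nat_lit 7, nat_lit 20, nat_lit 6, nat_lit 2, nat_lit 18, nat_lit 8, nat_lit 22, nat_lit 9, nat_lit 10, nat_lit 14, nat_lit 17, nat_lit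 12, nat_lit 15, nat_lit 13, nat_lit 1, nat_lit 21, nat_lit 5, nat_lit 4, nat_lit 3, nat_lit 11], [nat_lit 0, nat_lit 21, nat_lit 2, nat_lit 18, nat_lit 14, nat_lit 5, nat_lit 11, nat_lit 13, nat_lit 8, nat_lit 19, nat_lit 10, nat_lit 6, nat_lit 20, nat_lit 7, nat_lit 4, nat_lit 15, nat_lit 17, nat_lit 16, nat_lit 3, nat_lit 9, nat_lit 12, nat_lit 1, nat_lit 22], [nat_lit 15, nat_lit 18, nat_lit 19, nat_lit 5, nat_lit 4, nat_lit 9, nat_lit 13, nat_lit 3, nat_lit 8, nat_lit 7, nat_lit 6, nat_lit 1, nat_lit 20, nat_lit 16, nat_lit 14, nat_lit 0, nat_lit 10, nat_lit 2, nat_lit 22, nat_lit 21, nat_lit 12, nat_lit 17, nat_lit 11], [nat_lit 0, nat_lit 22, nat_lit 21, nat_lit 9, nat_lit 4, nat_lit 7, nat_lit 16, nat_lit 5, nat_lit 8, nat_lit 3, nat_lit 13, nat_lit 18, nat_lit 12, nat_lit 10, nat_lit 14, nat_lit 15, nat_lit 6, nat_lit 19, nat_lit 11, nat_lit 17, nat_lit 20, nat_lit 2, nat_lit 1], [nat_lit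 0, nat_lit 11, nat_lit 16, nat_lit 5, nat_lit 12, nat_lit 17, nat_lit 1, nat_lit 6, nat_lit 8, nat_lit 21, nat_lit 18, nat_lit 7, nat_lit 4, nat_lit 9, nat_lit 20, nat_lit 15, nat_lit 10, nat_lit 22, nat_lit 2, nat_lit 13, nat_lit 14, nat_lit 19, nat_lit 3], [nat_lit 15, nat_lit 22, nat_lit 7, nat_lit 18, nat_lit 12, nat_lit 1, nat_lit 6, nat_lit 10, nat_lit 8, nat_lit 9, nat_lit 21, nat_lit 19, nat_lit 14, nat_lit 5, nat_lit 20, nat_lit 0, nat_lit 17, nat_lit 3, nat_lit 16, nat_lit 11, nat_lit 4, nat_lit 2, nat_lit 13], [nat_lit 0, nat_lit 10, nat_lit 7, nat_lit 11, nat_lit 4, nat_lit 21, nat_lit 17, nat_lit 2, nat_lit 8, nat_lit 18, nat_lit 1, nat_lit 3, nat_lit 12, nat_lit 22, nat_lit 14, nat_lit 15, nat_lit 19, nat_lit 6, nat_lit 9, nat_lit 16, nat_lit 20, nat_lit 5, nat_lit 13], [nat_lit 0, nat_lit 9, nat_lit 18, nat_lit 10, nat_lit 20, nat_lit 3, nat_lit 1, nat_lit 19, nat_lit 8, nat_lit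 21, nat_lit 16, nat_lit 7, nat_lit 14, nat_lit 11, nat_lit 12, nat_lit 15, nat_lit 5, nat_lit 2, nat_lit 22, nat_lit 13, nat_lit 4, nat_lit 6, nat_lit 17], [nat_lit 0, nat_lit 18, nat_lit 6, nat_lit 7, nat_lit 12, nat_lit 19, nat_lit 22, nat_lit 16, nat_lit 8, nat_lit 2, nat_lit 11, nat_lit 5, nat_lit 4, nat_lit 3, nat_lit 20, nat_lit 15, nat_lit 13, nat_lit 1, nat_lit 21, nat_lit 10, nat_lit 14, nat_lit 17, nat_lit 9], [nat_lit 0, nat_lit 10, nat_lit 13, nat_lit 6, nat_lit 14, nat_lit 1, nat_lit 16, nat_lit 2, nat_lit 8, nat_lit 3, nat_lit 21, nat_lit 18, nat_lit 20, nat_lit 22, nat_lit 4, nat_lit 15, nat_lit 9, nat_lit 11, nat_lit 19, nat_lit 17, nat_lit 12, nat_lit 5, nat_lit 7], [nat_lit 15, nat_lit 9, nat_lit 17, nat_lit 13, nat_lit 12, nat_lit 3, nat_lit 2, nat_lit 11, nat_lit 8, nat_lit 22, nat_lit 16, nat_lit 5, nat_lit 14, nat_lit 19, nat_lit 20, nat_lit 0, nat_lit 7, nat_lit 1, nat_lit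 21, nat_lit 10, nat_lit 4, nat_lit 6, nat_lit 18], [nat_lit 0, nat_lit 3, nat_lit 9, nat_lit 7, nat_lit 14, nat_lit 11, nat_lit 5, nat_lit 17, nat_lit 8, nat_lit 10, nat_lit 19, nat_lit 22, nat_lit 20, nat_lit 18, nat_lit 4, nat_lit 15, nat_lit 13, nat_lit 1, nat_lit 21, nat_lit 2, nat_lit 12, nat_lit 16, nat_lit 6], [nat_lit 15, nat_lit 5, nat_lit 13, nat_lit 18, nat_lit 4, nat_lit 21, nat_lit 19, nat_lit 2, nat_lit 8, nat_lit 11, nat_lit 1, nat_lit 6, nat_lit 20, nat_lit 22, nat_lit 14, nat_lit 0, nat_lit 17, nat_lit 3, nat_lit 16, nat_lit 9, nat_lit 12, nat_lit 10, nat_lit 7], [nat_lit 15, nat_lit 19, nat_lit 16, nat_lit 7, nat_lit 20, nat_lit 18, nat_lit 2, nat_lit 6, nat_lit 8, nat_lit 22, nat_lit 17, nat_lit 5, nat_lit 4, nat_lit 9, nat_lit 12, nat_lit 0, nat_lit 13, nat_lit 21, nat_lit 1, nat_lit 10, nat_lit 14, nat_lit 11, nat_lit 3], [nat_lit 0, nat_lit 17, nat_lit 11, nat_lit 7, nat_lit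 4, nat_lit 9, nat_lit 10, nat_lit 3, nat_lit 8, nat_lit 5, nat_lit 6, nat_lit 2, nat_lit 12, nat_lit 16, nat_lit 14, nat_lit 15, nat_lit 13, nat_lit 1, nat_lit 21, nat_lit 22, nat_lit 20, nat_lit 18, nat_lit 19], [nat_lit 0, nat_lit 21, nat_lit 5, nat_lit 17, nat_lit 20, nat_lit 2, nat_lit 6, nat_lit 13, nat_lit 8, nat_lit 9, nat_lit 22, nat_lit 11, nat_lit 14, nat_lit 7, nat_lit 12, nat_lit 15, nat_lit 18, nat_lit 3, nat_lit 16, nat_lit 19, nat_lit 4, nat_lit 1, nat_lit 10], [nat_lit 15, nat_lit 13, nat_lit 10, nat_lit 6, nat_lit 14, nat_lit 2, nat_lit 16, nat_lit 1, nat_lit 8, nat_lit 3, nat_lit 22, nat_lit 17, nat_lit 12, nat_lit 21, nat_lit 4, nat_lit 0, nat_lit 9, nat_lit 19, nat_lit 11, nat_lit 18, nat_lit 20, nat_lit 7, nat_lit 5]]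

/-- data -/
noncomputable def Q : List (List Nat × List Nat × Nat) :=
  [([nat_lit 15, nat_lit 2, nat_lit 1, nat_lit 3, nat_lit 4, nat_lit 7, nat_lit 6, nat_lit 5, nat_lit 8, nat_lit 9, nat_lit 13, nat_lit 19, nat_lit 20, nat_lit 10, nat_lit 14, nat_lit 0, nat_lit 16, nat_lit 18, nat_lit 17, nat_lit 11, nat_lit 12, nat_lit 22, nat_lit 21], [nat_lit 696, nat_lit 6, nat_lit 6, nat_lit 0, nat_lit 0, nat_lit 160, nat_lit 0, nat_lit 160, nat_lit 0, nat_lit 0, nat_lit 838], nat_lit 12), ([nat_lit 0, nat_lit 1, nat_lit 5, nat_lit 16, nat_lit 12, nat_lit 2, nat_lit 11, nat_lit 7, nat_lit 8, nat_lit 19, nat_lit 22, nat_lit 6, nat_lit 4, nat_lit 13, nat_lit 20, nat_lit 15, nat_lit 3, nat_lit 18, nat_lit 17, nat_lit 9, nat_lit 14, nat_lit 21, nat_lit 10], [nat_lit 0, nat_lit 0, nat_lit 36, nat_lit 422, nat_lit 1889, nat_lit 36, nat_lit 1371, nat_lit 0, nat_lit 0, nat_lit 1763, nat_lit 924], nat_lit 16),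 ([nat_lit 15, nat_lit 1, nat_lit 22, nat_lit 19, nat_lit 14, nat_lit 5, nat_lit 17, nat_lit 13, nat_lit 8, nat_lit 18, nat_lit 10, nat_lit 16, nat_lit 12, nat_lit 7, nat_lit 4, nat_lit 0, nat_lit 11, nat_lit 6, nat_lit 9, nat_lit 3, nat_lit 20, nat_lit 21, nat_lit 2], [nat_lit 696, nat_lit 0, nat_lit 1944, nat_lit 1259, nat_lit 742, nat_lit 0, nat_lit 405, nat_lit 1990, nat_lit 0, nat_lit 459, nat_lit 0], nat_lit 12), ([nat_lit 15, nat_lit 22, nat_lit 21, nat_lit 16, nat_lit 4, nat_lit 13, nat_lit 9, nat_lit 10, nat_lit 8, nat_lit 6, nat_lit 7, nat_lit 11, nat_lit 20, nat_lit 5, nat_lit 14, nat_lit 0, nat_lit 3, nat_lit 17, nat_lit 18, nat_lit 19, nat_lit 12, nat_lit 2, nat_lit 1], [nat_lit 696, nat_lit 1950, nat_lit 1144, nat_lit 422, nat_lit 0, nat_lit 1894, nat_lit 576, nat_lit 1152, nat_lit 0, nat_lit 576, nat_lit 1152], nat_lit 12), ([nat_lit 0, nat_lit 9, nat_lit 16, nat_lit 22, nat_lit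 4, nat_lit 17, nat_lit 21, nat_lit 19, nat_lit 8, nat_lit 1, nat_lit 18, nat_lit 13, nat_lit 12, nat_lit 11, nat_lit 14, nat_lit 15, nat_lit 2, nat_lit 5, nat_lit 10, nat_lit 7, nat_lit 20, nat_lit 6, nat_lit 3], [nat_lit 0, nat_lit 514, nat_lit 426, nat_lit 1940, nat_lit 0, nat_lit 501, nat_lit 1084, nat_lit 1123, nat_lit 0, nat_lit 514, nat_lit 1995], nat_lit 16), ([nat_lit 15, nat_lit 21, nat_lit 2, nat_lit 11, nat_lit 14, nat_lit 10, nat_lit 18, nat_lit 7, nat_lit 8, nat_lit 17, nat_lit 5, nat_lit 3, nat_lit 12, nat_lit 13, nat_lit 4, nat_lit 0, nat_lit 19, nat_lit 9, nat_lit 6, nat_lit 16, nat_lit 20, nat_lit 1, nat_lit 22], [nat_lit 696, nat_lit 1150, nat_lit 0, nat_lit 1299, nat_lit 742, nat_lit 1056, nat_lit 907, nat_lit 0, nat_lit 0, nat_lit 981, nat_lit 1056], nat_lit 12), ([nat_lit 0, nat_lit 16, nat_lit 9, nat_lit 21, nat_lit 4, nat_lit 11, nat_lit 22, nat_lit 18, nat_lit 8, nat_lit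 2, nat_lit 19, nat_lit 5, nat_lit 12, nat_lit 17, nat_lit 14, nat_lit 15, nat_lit 1, nat_lit 13, nat_lit 7, nat_lit 10, nat_lit 20, nat_lit 3, nat_lit 6], [nat_lit 0, nat_lit 428, nat_lit 516, nat_lit 1140, nat_lit 0, nat_lit 1339, nat_lit 2012, nat_lit 843, nat_lit 0, nat_lit 516, nat_lit 227], nat_lit 16), ([nat_lit 0, nat_lit 7, nat_lit 2, nat_lit 16, nat_lit 20, nat_lit 5, nat_lit 19, nat_lit 1, nat_lit 8, nat_lit 11, nat_lit 10, nat_lit 9, nat_lit 14, nat_lit 21, nat_lit 12, nat_lit 15, nat_lit 3, nat_lit 18, nat_lit 17, nat_lit 6, nat_lit 4, nat_lit 13, nat_lit 22], [nat_lit 0, nat_lit 130, nat_lit 0, nat_lit 422, nat_lit 1599, nat_lit 0, nat_lit 1187, nat_lit 130, nat_lit 0, nat_lit 1819, nat_lit 0], nat_lit 16), ([nat_lit 0, nat_lit 3, nat_lit 6, nat_lit 1, nat_lit 4, nat_lit 19, nat_lit 2, nat_lit 17, nat_lit 8, nat_lit 22, nat_lit 11, nat_lit 10, nat_lit 12, nat_lit 18, nat_lit 14,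 nat_lit 15, nat_lit 21, nat_lit 7, nat_lit 13, nat_lit 5, nat_lit 20, nat_lit 16, nat_lit 9], [nat_lit 0, nat_lit 10, nat_lit 68, nat_lit 10, nat_lit 0, nat_lit 1219, nat_lit 68, nat_lit 341, nat_lit 0, nat_lit 1436, nat_lit 283], nat_lit 16), ([nat_lit 15, nat_lit 5, nat_lit 7, nat_lit 3, nat_lit 14, nat_lit 1, nat_lit 9, nat_lit 2, nat_lit 8, nat_lit 6, nat_lit 21, nat_lit 11, nat_lit 12, nat_lit 22, nat_lit 4, nat_lit 0, nat_lit 16, nat_lit 18, nat_lit 17, nat_lit 19, nat_lit 20, nat_lit 10, nat_lit 13], [nat_lit 696, nat_lit 34, nat_lit 132, nat_lit 0, nat_lit 742, nat_lit 34, nat_lit 576, nat_lit 132, nat_lit 0, nat_lit 576, nat_lit 124], nat_lit 12), ([nat_lit 0, nat_lit 21, nat_lit 22, nat_lit 16, nat_lit 4, nat_lit 10, nat_lit 9, nat_lit 13, nat_lit 8, nat_lit 6, nat_lit 5, nat_lit 19, nat_lit 12, nat_lit 7, nat_lit 14, nat_lit 15, nat_lit 3, nat_lit 18, nat_lit 17, nat_lit 11, nat_lit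 20, nat_lit 1, nat_lit 2], [nat_lit 0, nat_lit 1150, nat_lit 1944, nat_lit 422, nat_lit 0, nat_lit 1056, nat_lit 576, nat_lit 1990, nat_lit 0, nat_lit 576, nat_lit 1056], nat_lit 36), ([nat_lit 0, nat_lit 2, nat_lit 1, nat_lit 6, nat_lit 4, nat_lit 13, nat_lit 3, nat_lit 10, nat_lit 8, nat_lit 16, nat_lit 7, nat_lit 17, nat_lit 12, nat_lit 5, nat_lit 14, nat_lit 15, nat_lit 9, nat_lit 11, nat_lit 19, nat_lit 18, nat_lit 20, nat_lit 22, nat_lit 21], [nat_lit 0, nat_lit 6, nat_lit 6, nat_lit 72, nat_lit 0, nat_lit 1894, nat_lit 72, nat_lit 1152, nat_lit 0, nat_lit 942, nat_lit 1152], nat_lit 20), ([nat_lit 0, nat_lit 7, nat_lit 5, nat_lit 3, nat_lit 14, nat_lit 2, nat_lit 9, nat_lit 1, nat_lit 8, nat_lit 6, nat_lit 22, nat_lit 19, nat_lit 20, nat_lit 21, nat_lit 4, nat_lit 15, nat_lit 16, nat_lit 17, nat_lit 18, nat_lit 11, nat_lit 12, nat_lit 13, nat_lit 10], [nat_lit 0, nat_lit 130, nat_lit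 36, nat_lit 0, nat_lit 742, nat_lit 36, nat_lit 576, nat_lit 130, nat_lit 0, nat_lit 576, nat_lit 924], nat_lit 20), ([nat_lit 0, nat_lit 5, nat_lit 13, nat_lit 19, nat_lit 4, nat_lit 1, nat_lit 18, nat_lit 22, nat_lit 8, nat_lit 17, nat_lit 21, nat_lit 16, nat_lit 12, nat_lit 2, nat_lit 14, nat_lit 15, nat_lit 11, nat_lit 9, nat_lit 6, nat_lit 3, nat_lit 20, nat_lit 10, nat_lit 7], [nat_lit 0, nat_lit 34, nat_lit 1858, nat_lit 1259, nat_lit 0, nat_lit 34, nat_lit 907, nat_lit 1820, nat_lit 0, nat_lit 981, nat_lit 124], nat_lit 20), ([nat_lit 0, nat_lit 21, nat_lit 10, nat_lit 3, nat_lit 12, nat_lit 22, nat_lit 19, nat_lit 13, nat_lit 8, nat_lit 11, nat_lit 2, nat_lit 9, nat_lit 4, nat_lit 7, nat_lit 20, nat_lit 15, nat_lit 16, nat_lit 17, nat_lit 18, nat_lit 6, nat_lit 14, nat_lit 1, nat_lit 5], [nat_lit 0, nat_lit 1150, nat_lit 1028, nat_lit 0, nat_lit 1889, nat_lit 1980, nat_lit 1187, nat_lit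 1990, nat_lit 0, nat_lit 1819, nat_lit 1028], nat_lit 16), ([nat_lit 0, nat_lit 1, nat_lit 10, nat_lit 18, nat_lit 20, nat_lit 22, nat_lit 9, nat_lit 7, nat_lit 8, nat_lit 6, nat_lit 2, nat_lit 19, nat_lit 14, nat_lit 13, nat_lit 12, nat_lit 15, nat_lit 17, nat_lit 16, nat_lit 3, nat_lit 11, nat_lit 4, nat_lit 21, nat_lit 5], [nat_lit 0, nat_lit 0, nat_lit 1028, nat_lit 963, nat_lit 1599, nat_lit 1980, nat_lit 576, nat_lit 0, nat_lit 0, nat_lit 576, nat_lit 1028], nat_lit 16), ([nat_lit 0, nat_lit 19, nat_lit 18, nat_lit 5, nat_lit 4, nat_lit 3, nat_lit 13, nat_lit 9, nat_lit 8, nat_lit 7, nat_lit 16, nat_lit 21, nat_lit 12, nat_lit 6, nat_lit 14, nat_lit 15, nat_lit 10, nat_lit 22, nat_lit 2, nat_lit 1, nat_lit 20, nat_lit 11, nat_lit 17], [nat_lit 0, nat_lit 1249, nat_lit 975, nat_lit 40, nat_lit 0, nat_lit 40, nat_lit 1798, nat_lit 640, nat_lit 0, nat_lit 640, nat_lit 1454], nat_lit 16),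 ([nat_lit 0, nat_lit 7, nat_lit 22, nat_lit 18, nat_lit 12, nat_lit 10, nat_lit 6, nat_lit 1, nat_lit 8, nat_lit 9, nat_lit 5, nat_lit 11, nat_lit 4, nat_lit 21, nat_lit 20, nat_lit 15, nat_lit 17, nat_lit 16, nat_lit 3, nat_lit 19, nat_lit 14, nat_lit 13, nat_lit 2], [nat_lit 0, nat_lit 130, nat_lit 1944, nat_lit 963, nat_lit 1889, nat_lit 1056, nat_lit 0, nat_lit 130, nat_lit 0, nat_lit 0, nat_lit 1056], nat_lit 16), ([nat_lit 0, nat_lit 18, nat_lit 19, nat_lit 13, nat_lit 4, nat_lit 6, nat_lit 5, nat_lit 16, nat_lit 8, nat_lit 10, nat_lit 9, nat_lit 22, nat_lit 12, nat_lit 3, nat_lit 14, nat_lit 15, nat_lit 7, nat_lit 21, nat_lit 1, nat_lit 2, nat_lit 20, nat_lit 17, nat_lit 11], [nat_lit 0, nat_lit 969, nat_lit 1255, nat_lit 1870, nat_lit 0, nat_lit 96, nat_lit 96, nat_lit 302, nat_lit 0, nat_lit 1536, nat_lit 1536], nat_lit 16), ([nat_lit 0, nat_lit 13, nat_lit 22, nat_lit 3, nat_lit 20,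 nat_lit 10, nat_lit 11, nat_lit 21, nat_lit 8, nat_lit 19, nat_lit 5, nat_lit 6, nat_lit 14, nat_lit 1, nat_lit 12, nat_lit 15, nat_lit 16, nat_lit 17, nat_lit 18, nat_lit 9, nat_lit 4, nat_lit 7, nat_lit 2], [nat_lit 0, nat_lit 1860, nat_lit 1944, nat_lit 0, nat_lit 1599, nat_lit 1056, nat_lit 1371, nat_lit 1276, nat_lit 0, nat_lit 1763, nat_lit 1056], nat_lit 16), ([nat_lit 0, nat_lit 13, nat_lit 2, nat_lit 17, nat_lit 12, nat_lit 5, nat_lit 9, nat_lit 21, nat_lit 8, nat_lit 6, nat_lit 10, nat_lit 19, nat_lit 4, nat_lit 1, nat_lit 20, nat_lit 15, nat_lit 18, nat_lit 3, nat_lit 16, nat_lit 11, nat_lit 14, nat_lit 7, nat_lit 22], [nat_lit 0, nat_lit 1860, nat_lit 0, nat_lit 477, nat_lit 1889, nat_lit 0, nat_lit 576, nat_lit 1276, nat_lit 0, nat_lit 576, nat_lit 0], nat_lit 16), ([nat_lit 0, nat_lit 6, nat_lit 3, nat_lit 2, nat_lit 4, nat_lit 18, nat_lit 1, nat_lit 11, nat_lit 8, nat_lit 21,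 nat_lit 17, nat_lit 7, nat_lit 12, nat_lit 19, nat_lit 14, nat_lit 15, nat_lit 22, nat_lit 10, nat_lit 5, nat_lit 13, nat_lit 20, nat_lit 9, nat_lit 16], [nat_lit 0, nat_lit 66, nat_lit 12, nat_lit 12, nat_lit 0, nat_lit 1003, nat_lit 66, nat_lit 1435, nat_lit 0, nat_lit 1660, nat_lit 1493], nat_lit 16), ([nat_lit 15, nat_lit 1, nat_lit 2, nat_lit 6, nat_lit 4, nat_lit 10, nat_lit 3, nat_lit 13, nat_lit 8, nat_lit 16, nat_lit 5, nat_lit 18, nat_lit 20, nat_lit 7, nat_lit 14, nat_lit 0, nat_lit 9, nat_lit 19, nat_lit 11, nat_lit 17, nat_lit 12, nat_lit 21, nat_lit 22], [nat_lit 696, nat_lit 0, nat_lit 0, nat_lit 72, nat_lit 0, nat_lit 1056, nat_lit 72, nat_lit 1990, nat_lit 0, nat_lit 942, nat_lit 1056], nat_lit 12), ([nat_lit 0, nat_lit 11, nat_lit 17, nat_lit 10, nat_lit 4, nat_lit 16, nat_lit 7, nat_lit 6, nat_lit 8, nat_lit 13, nat_lit 3, nat_lit 1, nat_lit 12, nat_lit 9, nat_lit 14, nat_lit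 15, nat_lit 5, nat_lit 2, nat_lit 22, nat_lit 21, nat_lit 20, nat_lit 19, nat_lit 18], [nat_lit 0, nat_lit 1305, nat_lit 465, nat_lit 1032, nat_lit 0, nat_lit 398, nat_lit 192, nat_lit 192, nat_lit 0, nat_lit 1350, nat_lit 1032], nat_lit 16), ([nat_lit 15, nat_lit 10, nat_lit 13, nat_lit 16, nat_lit 14, nat_lit 21, nat_lit 6, nat_lit 22, nat_lit 8, nat_lit 9, nat_lit 1, nat_lit 19, nat_lit 12, nat_lit 2, nat_lit 4, nat_lit 0, nat_lit 3, nat_lit 17, nat_lit 18, nat_lit 11, nat_lit 20, nat_lit 5, nat_lit 7], [nat_lit 696, nat_lit 1026, nat_lit 1858, nat_lit 422, nat_lit 742, nat_lit 1116, nat_lit 0, nat_lit 1820, nat_lit 0, nat_lit 0, nat_lit 1026], nat_lit 12), ([nat_lit 15, nat_lit 21, nat_lit 22, nat_lit 9, nat_lit 4, nat_lit 5, nat_lit 16, nat_lit 7, nat_lit 8, nat_lit 3, nat_lit 10, nat_lit 17, nat_lit 20, nat_lit 13, nat_lit 14, nat_lit 0, nat_lit 6, nat_lit 11, nat_lit 19, nat_lit 18, nat_lit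 12, nat_lit 1, nat_lit 2], [nat_lit 696, nat_lit 1150, nat_lit 1944, nat_lit 520, nat_lit 0, nat_lit 0, nat_lit 494, nat_lit 0, nat_lit 0, nat_lit 520, nat_lit 0], nat_lit 12), ([nat_lit 0, nat_lit 1, nat_lit 22, nat_lit 17, nat_lit 14, nat_lit 10, nat_lit 19, nat_lit 7, nat_lit 8, nat_lit 11, nat_lit 5, nat_lit 9, nat_lit 20, nat_lit 13, nat_lit 4, nat_lit 15, nat_lit 18, nat_lit 3, nat_lit 16, nat_lit 6, nat_lit 12, nat_lit 21, nat_lit 2], [nat_lit 0, nat_lit 0, nat_lit 1944, nat_lit 477, nat_lit 742, nat_lit 1056, nat_lit 1187, nat_lit 0, nat_lit 0, nat_lit 1819, nat_lit 1056], nat_lit 20), ([nat_lit 0, nat_lit 7, nat_lit 10, nat_lit 17, nat_lit 4, nat_lit 22, nat_lit 11, nat_lit 1, nat_lit 8, nat_lit 19, nat_lit 2, nat_lit 6, nat_lit 12, nat_lit 21, nat_lit 14, nat_lit 15, nat_lit 18, nat_lit 3, nat_lit 16, nat_lit 9, nat_lit 20, nat_lit 13, nat_lit 5], [nat_lit 0, nat_lit 130, nat_lit 1028,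 nat_lit 477, nat_lit 0, nat_lit 1980, nat_lit 1371, nat_lit 130, nat_lit 0, nat_lit 1763, nat_lit 1028], nat_lit 28), ([nat_lit 0, nat_lit 13, nat_lit 10, nat_lit 16, nat_lit 14, nat_lit 22, nat_lit 6, nat_lit 21, nat_lit 8, nat_lit 9, nat_lit 2, nat_lit 11, nat_lit 20, nat_lit 1, nat_lit 4, nat_lit 15, nat_lit 3, nat_lit 18, nat_lit 17, nat_lit 19, nat_lit 12, nat_lit 7, nat_lit 5], [nat_lit 0, nat_lit 1860, nat_lit 1028, nat_lit 422, nat_lit 742, nat_lit 1980, nat_lit 0, nat_lit 1276, nat_lit 0, nat_lit 0, nat_lit 1028], nat_lit 20), ([nat_lit 0, nat_lit 13, nat_lit 5, nat_lit 18, nat_lit 4, nat_lit 2, nat_lit 19, nat_lit 21, nat_lit 8, nat_lit 11, nat_lit 22, nat_lit 9, nat_lit 12, nat_lit 1, nat_lit 14, nat_lit 15, nat_lit 17, nat_lit 16, nat_lit 3, nat_lit 6, nat_lit 20, nat_lit 7, nat_lit 10], [nat_lit 0, nat_lit 1860, nat_lit 36, nat_lit 963, nat_lit 0, nat_lit 36, nat_lit 1187, nat_lit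 1276, nat_lit 0, nat_lit 1819, nat_lit 924], nat_lit 28), ([nat_lit 0, nat_lit 21, nat_lit 2, nat_lit 18, nat_lit 14, nat_lit 5, nat_lit 11, nat_lit 13, nat_lit 8, nat_lit 19, nat_lit 10, nat_lit 6, nat_lit 20, nat_lit 7, nat_lit 4, nat_lit 15, nat_lit 17, nat_lit 16, nat_lit 3, nat_lit 9, nat_lit 12, nat_lit 1, nat_lit 22], [nat_lit 0, nat_lit 1150, nat_lit 0, nat_lit 963, nat_lit 742, nat_lit 0, nat_lit 1371, nat_lit 1990, nat_lit 0, nat_lit 1763, nat_lit 0], nat_lit 20), ([nat_lit 0, nat_lit 22, nat_lit 21, nat_lit 9, nat_lit 4, nat_lit 7, nat_lit 16, nat_lit 5, nat_lit 8, nat_lit 3, nat_lit 13, nat_lit 18, nat_lit 12, nat_lit 10, nat_lit 14, nat_lit 15, nat_lit 6, nat_lit 19, nat_lit 11, nat_lit 17, nat_lit 20, nat_lit 2, nat_lit 1], [nat_lit 0, nat_lit 1950, nat_lit 1144, nat_lit 520, nat_lit 0, nat_lit 160, nat_lit 494, nat_lit 160, nat_lit 0, nat_lit 520, nat_lit 838], nat_lit 20), ([nat_lit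 0, nat_lit 10, nat_lit 7, nat_lit 11, nat_lit 4, nat_lit 21, nat_lit 17, nat_lit 2, nat_lit 8, nat_lit 18, nat_lit 1, nat_lit 3, nat_lit 12, nat_lit 22, nat_lit 14, nat_lit 15, nat_lit 19, nat_lit 6, nat_lit 9, nat_lit 16, nat_lit 20, nat_lit 5, nat_lit 13], [nat_lit 0, nat_lit 1026, nat_lit 132, nat_lit 1299, nat_lit 0, nat_lit 1116, nat_lit 405, nat_lit 132, nat_lit 0, nat_lit 459, nat_lit 1026], nat_lit 20), ([nat_lit 0, nat_lit 17, nat_lit 11, nat_lit 7, nat_lit 4, nat_lit 9, nat_lit 10, nat_lit 3, nat_lit 8, nat_lit 5, nat_lit 6, nat_lit 2, nat_lit 12, nat_lit 16, nat_lit 14, nat_lit 15, nat_lit 13, nat_lit 1, nat_lit 21, nat_lit 22, nat_lit 20, nat_lit 18, nat_lit 19], [nat_lit 0, nat_lit 471, nat_lit 1311, nat_lit 136, nat_lit 0, nat_lit 544, nat_lit 1088, nat_lit 136, nat_lit 0, nat_lit 544, nat_lit 1088], nat_lit 16), ([nat_lit 0, nat_lit 21, nat_lit 5, nat_lit 17, nat_lit 20, nat_lit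 2, nat_lit 6, nat_lit 13, nat_lit 8, nat_lit 9, nat_lit 22, nat_lit 11, nat_lit 14, nat_lit 7, nat_lit 12, nat_lit 15, nat_lit 18, nat_lit 3, nat_lit 16, nat_lit 19, nat_lit 4, nat_lit 1, nat_lit 10], [nat_lit 0, nat_lit 1150, nat_lit 36, nat_lit 477, nat_lit 1599, nat_lit 36, nat_lit 0, nat_lit 1990, nat_lit 0, nat_lit 0, nat_lit 924], nat_lit 16)]

/-- data -/
noncomputable def Ms : List (List Nat) :=
  [[nat_lit 1, nat_lit 758, nat_lit 1148, nat_lit 971, nat_lit 1251, nat_lit 1905, nat_lit 256, nat_lit 16, nat_lit 32, nat_lit 8, nat_lit 697], [nat_lit 1, nat_lit 2, nat_lit 1148, nat_lit 256, nat_lit 469, nat_lit 430, nat_lit 128, nat_lit 971, nat_lit 512, nat_lit 8, nat_lit 758]]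

theorem jcu1 (b : Base D τ s d0 4089470473293004800) : CU ⊤ s [[nat_lit 47, nat_lit 40, nat_lit 8, nat_lit 41, nat_lit 46], [nat_lit 12], [nat_lit 8], [nat_lit 4], [nat_lit 0], [nat_lit 20]] 2048 :=
  CU.down b.x le_rfl (zcu19 b) (nat_lit 31) [[nat_lit 16], [nat_lit 50], [nat_lit 52], [nat_lit 44, nat_lit 47, nat_lit 53, nat_lit 8, nat_lit 54]] [nat_lit 47, nat_lit 40, nat_lit 8, nat_lit 41, nat_lit 46] [nat_lit 0, nat_lit 1, nat_lit 2, nat_lit 2, nat_lit 3, nat_lit 2, nat_lit 2] (nat_lit 48) 2048 (by decide +kernel)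

theorem jcu2 (b : Base D τ s d0 4089470473293004800) : CU ⊤ s [[nat_lit 20], [nat_lit 0], [nat_lit 4], [nat_lit 16], [nat_lit 8], [nat_lit 12], [nat_lit 45, nat_lit 18, nat_lit 44], [nat_lit 59, nat_lit 14, nat_lit 58], [nat_lit 28, nat_lit 8, nat_lit 29], [nat_lit 44, nat_lit 18, nat_lit 45], [nat_lit 46, nat_lit 16, nat_lit 47], [nat_lit 42, nat_lit 16, nat_lit 43], [nat_lit 45, nat_lit 12, nat_lit 44], [nat_lit 44, nat_lit 12, nat_lit 45], [nat_lit 14, nat_lit 23, nat_lit 10, nat_lit 22, nat_lit 15], [nat_lit 62, nat_lit 50, nat_lit 6, nat_lit 51, nat_lit 63], [nat_lit 45, nat_lit 34, nat_lit 10, nat_lit 35, nat_lit 44], [nat_lit 10, nat_lit 26, nat_lit 6, nat_lit 27, nat_lit 11], [nat_lit 18, nat_lit 22, nat_lit 2, nat_lit 23, nat_lit 19], [nat_lit 62, nat_lit 64, nat_lit 4, nat_lit 65, nat_lit 63], [nat_lit 55, nat_lit 41, nat_lit 8, nat_lit 40, nat_lit 54], [nat_lit 42, nat_lit 29, nat_lit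 2, nat_lit 28, nat_lit 43], [nat_lit 53, nat_lit 36, nat_lit 6, nat_lit 37, nat_lit 52]] 2048 :=
  CU.mono b.x le_rfl (jcu1 b) [[nat_lit 20], [nat_lit 0], [nat_lit 4], [nat_lit 16], [nat_lit 8], [nat_lit 12], [nat_lit 45, nat_lit 18, nat_lit 44], [nat_lit 59, nat_lit 14, nat_lit 58], [nat_lit 28, nat_lit 8, nat_lit 29], [nat_lit 44, nat_lit 18, nat_lit 45], [nat_lit 46, nat_lit 16, nat_lit 47], [nat_lit 42, nat_lit 16, nat_lit 43], [nat_lit 45, nat_lit 12, nat_lit 44], [nat_lit 44, nat_lit 12, nat_lit 45], [nat_lit 14, nat_lit 23, nat_lit 10, nat_lit 22, nat_lit 15], [nat_lit 62, nat_lit 50, nat_lit 6, nat_lit 51, nat_lit 63], [nat_lit 45, nat_lit 34, nat_lit 10, nat_lit 35, nat_lit 44], [nat_lit 10, nat_lit 26, nat_lit 6, nat_lit 27, nat_lit 11], [nat_lit 18, nat_lit 22, nat_lit 2, nat_lit 23, nat_lit 19], [nat_lit 62, nat_lit 64, nat_lit 4, nat_lit 65, nat_lit 63], [nat_lit 55, nat_lit 41,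 nat_lit 8, nat_lit 40, nat_lit 54], [nat_lit 42, nat_lit 29, nat_lit 2, nat_lit 28, nat_lit 43], [nat_lit 53, nat_lit 36, nat_lit 6, nat_lit 37, nat_lit 52]] [nat_lit 53, nat_lit 40, nat_lit 45, nat_lit 55, nat_lit 46, nat_lit 55, nat_lit 53, nat_lit 16, nat_lit 12] [[nat_lit 8], [nat_lit 12], [nat_lit 6], [nat_lit 4], [nat_lit 2], [nat_lit 0]] (by decide +kernel)

theorem jge3 (b : Base D τ s d0 4089470473293004800) : GE s [[nat_lit 20]] 2 :=
  GE.step b.x (GE.base []) _ [] (nat_lit 3511) [nat_lit 0] (nat_lit 2) 2 (by decide +kernel)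

theorem jge4 (b : Base D τ s d0 4089470473293004800) : GE s [[nat_lit 20], [nat_lit 0], [nat_lit 4], [nat_lit 16], [nat_lit 8], [nat_lit 12], [nat_lit 45, nat_lit 18, nat_lit 44], [nat_lit 59, nat_lit 14, nat_lit 58], [nat_lit 28, nat_lit 8, nat_lit 29], [nat_lit 44, nat_lit 18, nat_lit 45], [nat_lit 46, nat_lit 16, nat_lit 47], [nat_lit 42, nat_lit 16, nat_lit 43], [nat_lit 45, nat_lit 12, nat_lit 44], [nat_lit 44, nat_lit 12, nat_lit 45], [nat_lit 14, nat_lit 23, nat_lit 10, nat_lit 22, nat_lit 15], [nat_lit 62, nat_lit 50, nat_lit 6, nat_lit 51, nat_lit 63], [nat_lit 45, nat_lit 34, nat_lit 10, nat_lit 35, nat_lit 44], [nat_lit 10, nat_lit 26, nat_lit 6, nat_lit 27, nat_lit 11], [nat_lit 18, nat_lit 22, nat_lit 2, nat_lit 23, nat_lit 19], [nat_lit 62, nat_lit 64, nat_lit 4, nat_lit 65, nat_lit 63], [nat_lit 55, nat_lit 41, nat_lit 8, nat_lit 40, nat_lit 54], [nat_lit 42, nat_lit 29, nat_lit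 2, nat_lit 28, nat_lit 43], [nat_lit 53, nat_lit 36, nat_lit 6, nat_lit 37, nat_lit 52]] 2048 :=
  GE.step b.x (jge3 b) _ [] (nat_lit 164) [nat_lit 1, nat_lit 2, nat_lit 3, nat_lit 4, nat_lit 5, nat_lit 6, nat_lit 7, nat_lit 8, nat_lit 9, nat_lit 10] (nat_lit 1024) 2048 (by decide +kernel)

theorem jge5 (b : Base D τ s d0 4089470473293004800) : GE s [[nat_lit 12], [nat_lit 55, nat_lit 60, nat_lit 59, nat_lit 38, nat_lit 34, nat_lit 36, nat_lit 43, nat_lit 12, nat_lit 10, nat_lit 54, nat_lit 44, nat_lit 52, nat_lit 54, nat_lit 18], [nat_lit 44, nat_lit 39, nat_lit 43, nat_lit 31, nat_lit 28, nat_lit 45, nat_lit 16, nat_lit 34, nat_lit 10, nat_lit 55, nat_lit 47, nat_lit 53, nat_lit 16, nat_lit 54, nat_lit 12]] 16 :=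
  GE.step b.x (GE.base []) _ [] (nat_lit 32) [nat_lit 0, nat_lit 1, nat_lit 2, nat_lit 1, nat_lit 2] (nat_lit 16) 16 (by decide +kernel)

theorem jge6 (b : Base D τ s d0 4089470473293004800) : GE s [[nat_lit 20], [nat_lit 0], [nat_lit 4], [nat_lit 16], [nat_lit 8], [nat_lit 12], [nat_lit 45, nat_lit 18, nat_lit 44], [nat_lit 59, nat_lit 14, nat_lit 58], [nat_lit 28, nat_lit 8, nat_lit 29], [nat_lit 44, nat_lit 18, nat_lit 45], [nat_lit 46, nat_lit 16, nat_lit 47], [nat_lit 13, nat_lit 19, nat_lit 52, nat_lit 55, nat_lit 46, nat_lit 53, nat_lit 15, nat_lit 51, nat_lit 15], [nat_lit 13, nat_lit 55, nat_lit 46, nat_lit 17, nat_lit 53, nat_lit 42, nat_lit 53, nat_lit 39, nat_lit 40, nat_lit 39], [nat_lit 41, nat_lit 48, nat_lit 30, nat_lit 30, nat_lit 36, nat_lit 42, nat_lit 42, nat_lit 44, nat_lit 52, nat_lit 50, nat_lit 55]] 262144 :=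
  GE.step b.x (jge5 b) _ [([nat_lit 55, nat_lit 60, nat_lit 59, nat_lit 38, nat_lit 34, nat_lit 36, nat_lit 43, nat_lit 12, nat_lit 10, nat_lit 54, nat_lit 44, nat_lit 52, nat_lit 54, nat_lit 18], [nat_lit 1, nat_lit 25, nat_lit 22, nat_lit 2, nat_lit 24, nat_lit 8, nat_lit 0]), ([nat_lit 44, nat_lit 39, nat_lit 43, nat_lit 31, nat_lit 28, nat_lit 45, nat_lit 16, nat_lit 34, nat_lit 10, nat_lit 55, nat_lit 47, nat_lit 53, nat_lit 16, nat_lit 54, nat_lit 12], [nat_lit 9, nat_lit 27, nat_lit 16, nat_lit 28, nat_lit 28, nat_lit 2])] (nat_lit 3534) [nat_lit 0, nat_lit 1, nat_lit 2, nat_lit 3, nat_lit 4, nat_lit 6, nat_lit 7, nat_lit 8, nat_lit 9, nat_lit 10, nat_lit 11, nat_lit 12, nat_lit 13, nat_lit 11, nat_lit 13] (nat_lit 16384) 262144 (by decide +kernel)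

theorem mod (hD : Cl D) (b : Base D τ s d0 4089470473293004800) : Mod D (vals s W) W.length 11 (1 :: c') :=
  mod_of b hD (by decide +kernel) (jge4 b) (jcu2 b)

theorem k0 : Γ.all (inOK d0 W) = true := by decide +kernel

theorem k1 : cloOK W.length (Γ.map Prod.snd) L = true := by decide +kernel

theorem k2 : invOK (1 :: c') W.length 11 L Q = true := by decide +kernel

theorem k3 : pairOK 11 Q = true := by decide +kernel

theorem hT (b : Base D τ s d0 4089470473293004800) : 2 ^ (7 + 11) ≤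
    Nat.card (closure (fam (vals s W) W.length ∪ {g | g ∈ (Γ.map Prod.fst).map (E s)})) :=
  ge_of (jge6 b) (by decide +kernel)

theorem bs (hD : Cl D) (b : Base D τ s d0 4089470473293004800) : BS D (fam (vals s W) W.length) (E s [20]) 23 11 :=
  bs_of b (mod hD b) k0 k1 k2 k3 rfl (hT b) (by norm_num)
    (O6 := (nat_lit 0x4022000100008401080000441101002022800420042401400028100180000400040010880010020020080101008040010028000040002408004288000208001800000180024010000014200180000801002040008002040084000208208080110080882020040080420000800402001411010081080000110008001080101140040080108208208020040201004080080021000010008400410000800802001421400400040180028420200020000810040042020080001020080014001011401204000208208204008144000204001000402804020000120004001080101140040200804200001020040018001011418000001000181140081011401141440))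
    (O7 := (nat_lit 0x8011000200004802040000882202001011400810081802800014200240000800080020440020010010040202004080020014000080001804008144000104002400000240018020000028100240000402001080004001080048000104104040220040441010080040810000400801002822020042040000220004002040202280080040204104104010080102008040040012000020004800820000400401002812800800080240014810100010000420080081010040002010040028002022802108000104104108004288000108002000801408010000210008002040202280080100408100002010080024002022824000002000242280042022802282880))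
    (O14 := (nat_lit 0xf3fccfffcffff33fcf3ffff30ccfcffcfcc0ff3cff3c3f03fffc3cffc3ffff3fff3ffcf33ffcffcffcff3fcfcff3f3ffcffc3ffff3fffc3f3ff3033fffcf3ffc3fffffc3ffc3fcfffffc3cffc3ffff3fcffcf3fff3ffcf3ff33fffcf30f3f3fccff3f330fcff3ff3f3cffff3ff3fcffc0ccfcff3cf3ffffccfff3ffcf3fcfcc0ff3ff3fcf3cf30f3fcff3fcfcff3f3ff3ffccffffcfff33ff3cffff3ff3fcffc3c03ff3fff3fc3ffc03cfcfffcffff3cff3ff3cfcff3fffcfcff3ffc3ffcfcc0fccf3fffcf0cf3cf3ff3033fffcf3ffcfff3fc3f3fcffffccfff3ffcf3fcfcc0ff3fcff3f3cffffcfcff3ffc3ffcfcc0c3fffffcfffc3cc0ff3cfcc0fcc0c000))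
    (by decide +kernel) (H := H) (Ms := Ms) (sw := ([nat_lit 57, nat_lit 20, nat_lit 0, nat_lit 56, nat_lit 38, nat_lit 30, nat_lit 35, nat_lit 48, nat_lit 6, nat_lit 46, nat_lit 41, nat_lit 53, nat_lit 20, nat_lit 12], [nat_lit 1, nat_lit 5, nat_lit 22, nat_lit 9, nat_lit 12, nat_lit 15, nat_lit 4, nat_lit 18, nat_lit 11, nat_lit 0, nat_lit 6, nat_lit 3, nat_lit 7, nat_lit 14, nat_lit 16, nat_lit 10, nat_lit 17, nat_lit 20, nat_lit 19, nat_lit 8, nat_lit 13, nat_lit 2, nat_lit 21])) (q := [nat_lit 0, nat_lit 2, nat_lit 0, nat_lit 4, nat_lit 2]) (by decide +kernel)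
    (t2 := [nat_lit 4, nat_lit 1516, nat_lit 1517, nat_lit 2048, nat_lit 3724, nat_lit 1394, nat_lit 2615, nat_lit 128, nat_lit 129, nat_lit 64, nat_lit 65, nat_lit 513, nat_lit 256, nat_lit 257, nat_lit 3811, nat_lit 1024, nat_lit 32, nat_lit 33, nat_lit 8, nat_lit 2502, nat_lit 2296]) (t3 := [nat_lit 6, nat_lit 1518, nat_lit 1519, nat_lit 2050, nat_lit 3726, nat_lit 1392, nat_lit 2613, nat_lit 130, nat_lit 131, nat_lit 66, nat_lit 67, nat_lit 515, nat_lit 258, nat_lit 259, nat_lit 3809, nat_lit 1026, nat_lit 34, nat_lit 35, nat_lit 10, nat_lit 2500, nat_lit 2298])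
    (t6 := [nat_lit 12, nat_lit 13, nat_lit 3348, nat_lit 3349, nat_lit 2300, nat_lit 2301, nat_lit 1848, nat_lit 110, nat_lit 111, nat_lit 2772, nat_lit 2773, nat_lit 3814, nat_lit 1752, nat_lit 1753, nat_lit 2610, nat_lit 2611, nat_lit 2056, nat_lit 2986, nat_lit 2987, nat_lit 436, nat_lit 1512, nat_lit 1513, nat_lit 988, nat_lit 989, nat_lit 3252, nat_lit 3253, nat_lit 2912, nat_lit 2913, nat_lit 68, nat_lit 69, nat_lit 3466, nat_lit 3467, nat_lit 1582, nat_lit 1583, nat_lit 3114, nat_lit 3115, nat_lit 2460, nat_lit 2461, nat_lit 3564, nat_lit 3720, nat_lit 3721, nat_lit 1536, nat_lit 1537, nat_lit 2871, nat_lit 3294, nat_lit 3295, nat_lit 1362, nat_lit 566, nat_lit 567, nat_lit 2831, nat_lit 856, nat_lit 4024, nat_lit 4025, nat_lit 2960, nat_lit 2961, nat_lit 1152, nat_lit 1153, nat_lit 3908, nat_lit 3909, nat_lit 1118, nat_lit 1119, nat_lit 3756, nat_lit 3536, nat_lit 2438, nat_lit 2439,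 nat_lit 3442, nat_lit 3443, nat_lit 4059, nat_lit 80, nat_lit 81, nat_lit 1040, nat_lit 2006, nat_lit 768, nat_lit 769, nat_lit 3422, nat_lit 3423, nat_lit 2374, nat_lit 3070, nat_lit 1452, nat_lit 3716, nat_lit 3717, nat_lit 492, nat_lit 493, nat_lit 426, nat_lit 427, nat_lit 3640, nat_lit 3641, nat_lit 132, nat_lit 133, nat_lit 1402, nat_lit 272, nat_lit 273, nat_lit 3596, nat_lit 3597, nat_lit 1330, nat_lit 1138, nat_lit 1139, nat_lit 2483, nat_lit 701, nat_lit 1522, nat_lit 158, nat_lit 3788, nat_lit 3789, nat_lit 2421, nat_lit 348, nat_lit 1926, nat_lit 3819, nat_lit 96, nat_lit 97, nat_lit 918, nat_lit 919, nat_lit 288, nat_lit 289, nat_lit 3016, nat_lit 3678, nat_lit 3679, nat_lit 2742, nat_lit 1762, nat_lit 1763, nat_lit 719, nat_lit 248, nat_lit 3740, nat_lit 3741, nat_lit 796, nat_lit 797, nat_lit 3526, nat_lit 3527, nat_lit 906, nat_lit 907, nat_lit 2222, nat_lit 2028, nat_lit 2029,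 nat_lit 260, nat_lit 261, nat_lit 2168, nat_lit 2169, nat_lit 1974, nat_lit 1975, nat_lit 1430, nat_lit 2305, nat_lit 3682, nat_lit 160, nat_lit 161, nat_lit 3158, nat_lit 3159, nat_lit 640, nat_lit 641, nat_lit 2176, nat_lit 2177, nat_lit 2908, nat_lit 136, nat_lit 1088, nat_lit 1089, nat_lit 2288, nat_lit 2289, nat_lit 1828, nat_lit 1829, nat_lit 246, nat_lit 24, nat_lit 2534, nat_lit 1084, nat_lit 264, nat_lit 320, nat_lit 321, nat_lit 3212, nat_lit 3213, nat_lit 1398, nat_lit 1509, nat_lit 3489, nat_lit 2786, nat_lit 3150, nat_lit 48, nat_lit 2715, nat_lit 2668, nat_lit 930, nat_lit 931, nat_lit 2113, nat_lit 2700, nat_lit 1484, nat_lit 1485, nat_lit 3384, nat_lit 3385, nat_lit 4066, nat_lit 811, nat_lit 517, nat_lit 3014, nat_lit 3015, nat_lit 2552, nat_lit 1260, nat_lit 1261, nat_lit 371, nat_lit 2808, nat_lit 3827, nat_lit 1984, nat_lit 1985, nat_lit 1562, nat_lit 41, nat_lit 3950, nat_lit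 1433, nat_lit 852, nat_lit 2264, nat_lit 2265, nat_lit 3778, nat_lit 1226, nat_lit 3073, nat_lit 1389, nat_lit 1652, nat_lit 192, nat_lit 193, nat_lit 1687, nat_lit 2582, nat_lit 3843, nat_lit 318, nat_lit 1713, nat_lit 454, nat_lit 1002, nat_lit 2872, nat_lit 2873, nat_lit 37, nat_lit 1056, nat_lit 2081, nat_lit 2330, nat_lit 3961, nat_lit 520, nat_lit 3199, nat_lit 1032, nat_lit 1532, nat_lit 1815, nat_lit 2519, nat_lit 3172])
    (t7 := [nat_lit 14, nat_lit 15, nat_lit 3350, nat_lit 3351, nat_lit 2302, nat_lit 2303, nat_lit 1850, nat_lit 108, nat_lit 109, nat_lit 2774, nat_lit 2775, nat_lit 3812, nat_lit 1754, nat_lit 1755, nat_lit 2608, nat_lit 2609, nat_lit 2058, nat_lit 2984, nat_lit 2985, nat_lit 438, nat_lit 1514, nat_lit 1515, nat_lit 990, nat_lit 991, nat_lit 3254, nat_lit 3255, nat_lit 2914, nat_lit 2915, nat_lit 70, nat_lit 71, nat_lit 3464, nat_lit 3465, nat_lit 1580, nat_lit 1581,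 nat_lit 3112, nat_lit 3113, nat_lit 2462, nat_lit 2463, nat_lit 3566, nat_lit 3722, nat_lit 3723, nat_lit 1538, nat_lit 1539, nat_lit 2869, nat_lit 3292, nat_lit 3293, nat_lit 1360, nat_lit 564, nat_lit 565, nat_lit 2829, nat_lit 858, nat_lit 4026, nat_lit 4027, nat_lit 2962, nat_lit 2963, nat_lit 1154, nat_lit 1155, nat_lit 3910, nat_lit 3911, nat_lit 1116, nat_lit 1117, nat_lit 3758, nat_lit 3538, nat_lit 2436, nat_lit 2437, nat_lit 3440, nat_lit 3441, nat_lit 4057, nat_lit 82, nat_lit 83, nat_lit 1042, nat_lit 2004, nat_lit 770, nat_lit 771, nat_lit 3420, nat_lit 3421, nat_lit 2372, nat_lit 3068, nat_lit 1454, nat_lit 3718, nat_lit 3719, nat_lit 494, nat_lit 495, nat_lit 424, nat_lit 425, nat_lit 3642, nat_lit 3643, nat_lit 134, nat_lit 135, nat_lit 1400, nat_lit 274, nat_lit 275, nat_lit 3598, nat_lit 3599, nat_lit 1328, nat_lit 1136, nat_lit 1137, nat_lit 2481, nat_lit 703, nat_lit 1520,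 nat_lit 156, nat_lit 3790, nat_lit 3791, nat_lit 2423, nat_lit 350, nat_lit 1924, nat_lit 3817, nat_lit 98, nat_lit 99, nat_lit 916, nat_lit 917, nat_lit 290, nat_lit 291, nat_lit 3018, nat_lit 3676, nat_lit 3677, nat_lit 2740, nat_lit 1760, nat_lit 1761, nat_lit 717, nat_lit 250, nat_lit 3742, nat_lit 3743, nat_lit 798, nat_lit 799, nat_lit 3524, nat_lit 3525, nat_lit 904, nat_lit 905, nat_lit 2220, nat_lit 2030, nat_lit 2031, nat_lit 262, nat_lit 263, nat_lit 2170, nat_lit 2171, nat_lit 1972, nat_lit 1973, nat_lit 1428, nat_lit 2307, nat_lit 3680, nat_lit 162, nat_lit 163, nat_lit 3156, nat_lit 3157, nat_lit 642, nat_lit 643, nat_lit 2178, nat_lit 2179, nat_lit 2910, nat_lit 138, nat_lit 1090, nat_lit 1091, nat_lit 2290, nat_lit 2291, nat_lit 1830, nat_lit 1831, nat_lit 244, nat_lit 26, nat_lit 2532, nat_lit 1086, nat_lit 266, nat_lit 322, nat_lit 323, nat_lit 3214, nat_lit 3215, nat_lit 1396,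 nat_lit 1511, nat_lit 3491, nat_lit 2784, nat_lit 3148, nat_lit 50, nat_lit 2713, nat_lit 2670, nat_lit 928, nat_lit 929, nat_lit 2115, nat_lit 2702, nat_lit 1486, nat_lit 1487, nat_lit 3386, nat_lit 3387, nat_lit 4064, nat_lit 809, nat_lit 519, nat_lit 3012, nat_lit 3013, nat_lit 2554, nat_lit 1262, nat_lit 1263, nat_lit 369, nat_lit 2810, nat_lit 3825, nat_lit 1986, nat_lit 1987, nat_lit 1560, nat_lit 43, nat_lit 3948, nat_lit 1435, nat_lit 854, nat_lit 2266, nat_lit 2267, nat_lit 3776, nat_lit 1224, nat_lit 3075, nat_lit 1391, nat_lit 1654, nat_lit 194, nat_lit 195, nat_lit 1685, nat_lit 2580, nat_lit 3841, nat_lit 316, nat_lit 1715, nat_lit 452, nat_lit 1000, nat_lit 2874, nat_lit 2875, nat_lit 39, nat_lit 1058, nat_lit 2083, nat_lit 2328, nat_lit 3963, nat_lit 522, nat_lit 3197, nat_lit 1034, nat_lit 1534, nat_lit 1813, nat_lit 2517, nat_lit 3174])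
    (t14 := [nat_lit 28, nat_lit 29, nat_lit 2690, nat_lit 2691, nat_lit 2812, nat_lit 2813, nat_lit 1840, nat_lit 1841, nat_lit 238, nat_lit 239, nat_lit 2708, nat_lit 2709, nat_lit 2790, nat_lit 3616, nat_lit 3617, nat_lit 556, nat_lit 557, nat_lit 2098, nat_lit 2099, nat_lit 2312, nat_lit 1352, nat_lit 1353, nat_lit 744, nat_lit 745, nat_lit 1528, nat_lit 1529, nat_lit 3300, nat_lit 3301, nat_lit 598, nat_lit 599, nat_lit 1170, nat_lit 1171, nat_lit 3926, nat_lit 2848, nat_lit 2849, nat_lit 1092, nat_lit 1093, nat_lit 3498, nat_lit 3499, nat_lit 1578, nat_lit 1579, nat_lit 3106, nat_lit 3107, nat_lit 3484, nat_lit 3485, nat_lit 3342, nat_lit 2682, nat_lit 2683, nat_lit 3208, nat_lit 3209, nat_lit 1450, nat_lit 1451, nat_lit 1038, nat_lit 1039, nat_lit 3290, nat_lit 3291, nat_lit 1370, nat_lit 1412, nat_lit 1413, nat_lit 786, nat_lit 787, nat_lit 2456, nat_lit 2457, nat_lit 3284, nat_lit 3285,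 nat_lit 1488, nat_lit 1489, nat_lit 2846, nat_lit 2847, nat_lit 840, nat_lit 1662, nat_lit 1663, nat_lit 2106, nat_lit 2107, nat_lit 364, nat_lit 365, nat_lit 3905, nat_lit 3238, nat_lit 3239, nat_lit 1620, nat_lit 3520, nat_lit 3521, nat_lit 2454, nat_lit 2455, nat_lit 2132, nat_lit 2133, nat_lit 3450, nat_lit 3451, nat_lit 3041, nat_lit 3994, nat_lit 3995, nat_lit 3076, nat_lit 780, nat_lit 781, nat_lit 3542, nat_lit 3543, nat_lit 3334, nat_lit 3335, nat_lit 2286, nat_lit 1772, nat_lit 1773, nat_lit 3418, nat_lit 3419, nat_lit 446, nat_lit 447, nat_lit 2012, nat_lit 2013, nat_lit 1666, nat_lit 1667, nat_lit 2036, nat_lit 2037, nat_lit 404, nat_lit 2108, nat_lit 2109, nat_lit 2435, nat_lit 3066, nat_lit 3067, nat_lit 1444, nat_lit 1445, nat_lit 2884, nat_lit 2885, nat_lit 2010, nat_lit 3986, nat_lit 3987, nat_lit 3204, nat_lit 3205, nat_lit 1658, nat_lit 3572, nat_lit 3573, nat_lit 3608, nat_lit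 3609, nat_lit 984, nat_lit 985, nat_lit 3260, nat_lit 2576, nat_lit 3996, nat_lit 3997, nat_lit 1334, nat_lit 2890, nat_lit 2891, nat_lit 1872, nat_lit 1873, nat_lit 3272, nat_lit 3273, nat_lit 2464, nat_lit 2465, nat_lit 54, nat_lit 55, nat_lit 1322, nat_lit 1323, nat_lit 380, nat_lit 2538, nat_lit 2539, nat_lit 1204, nat_lit 1205, nat_lit 3338, nat_lit 3339, nat_lit 2150, nat_lit 2151, nat_lit 1932, nat_lit 2159, nat_lit 3472, nat_lit 3473, nat_lit 142, nat_lit 143, nat_lit 3445, nat_lit 2922, nat_lit 2923, nat_lit 3032, nat_lit 3033, nat_lit 560, nat_lit 172, nat_lit 173, nat_lit 620, nat_lit 621, nat_lit 3392, nat_lit 3393, nat_lit 2145, nat_lit 3354, nat_lit 3355, nat_lit 1228, nat_lit 1229, nat_lit 3020, nat_lit 358, nat_lit 359, nat_lit 4034, nat_lit 4035, nat_lit 1552, nat_lit 2854, nat_lit 2855, nat_lit 594, nat_lit 595, nat_lit 1298, nat_lit 1838, nat_lit 1839, nat_lit 117, nat_lit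 90, nat_lit 91, nat_lit 1590, nat_lit 1591, nat_lit 3258, nat_lit 3259, nat_lit 888, nat_lit 3930, nat_lit 3931, nat_lit 3446, nat_lit 3447, nat_lit 3610, nat_lit 3611, nat_lit 1320, nat_lit 3612, nat_lit 3613, nat_lit 1314, nat_lit 1315, nat_lit 1022, nat_lit 1023, nat_lit 150, nat_lit 151, nat_lit 1384, nat_lit 1385, nat_lit 655, nat_lit 1272, nat_lit 2072, nat_lit 2073, nat_lit 540, nat_lit 541, nat_lit 408, nat_lit 409, nat_lit 2636, nat_lit 2820, nat_lit 1004, nat_lit 1005, nat_lit 2866, nat_lit 2867, nat_lit 1062, nat_lit 1063, nat_lit 676, nat_lit 677, nat_lit 3456, nat_lit 3457, nat_lit 3478, nat_lit 2958, nat_lit 2959, nat_lit 778, nat_lit 779, nat_lit 3548, nat_lit 3549, nat_lit 2309, nat_lit 730, nat_lit 376, nat_lit 377, nat_lit 3928, nat_lit 3929, nat_lit 3732, nat_lit 3733, nat_lit 208, nat_lit 209, nat_lit 3006, nat_lit 3007, nat_lit 428, nat_lit 268, nat_lit 269, nat_lit 3286,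 nat_lit 3287, nat_lit 3462, nat_lit 3463, nat_lit 2188, nat_lit 2189, nat_lit 2934, nat_lit 2935, nat_lit 2476, nat_lit 2477, nat_lit 190, nat_lit 3512, nat_lit 3513, nat_lit 2704, nat_lit 2705, nat_lit 1976, nat_lit 1977, nat_lit 1308, nat_lit 3940, nat_lit 3941, nat_lit 3556, nat_lit 3557, nat_lit 212, nat_lit 213, nat_lit 362, nat_lit 3862, nat_lit 3863, nat_lit 2558, nat_lit 2559, nat_lit 152, nat_lit 2764, nat_lit 2765, nat_lit 3702, nat_lit 1694, nat_lit 1695, nat_lit 3806, nat_lit 3807, nat_lit 3600, nat_lit 3601, nat_lit 1747, nat_lit 2646, nat_lit 2647, nat_lit 2672, nat_lit 2673, nat_lit 2976, nat_lit 2977, nat_lit 310, nat_lit 311, nat_lit 1306, nat_lit 1307, nat_lit 2606, nat_lit 2607, nat_lit 2192, nat_lit 486, nat_lit 487, nat_lit 2736, nat_lit 1252, nat_lit 746, nat_lit 747, nat_lit 1894, nat_lit 1895, nat_lit 2531, nat_lit 1076, nat_lit 1990, nat_lit 1991, nat_lit 2362, nat_lit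 2363, nat_lit 1494, nat_lit 2358, nat_lit 2359, nat_lit 1374, nat_lit 1375, nat_lit 1956, nat_lit 1957, nat_lit 1184, nat_lit 2258, nat_lit 2259, nat_lit 754, nat_lit 398, nat_lit 399, nat_lit 2470, nat_lit 2471, nat_lit 3054, nat_lit 3055, nat_lit 1468, nat_lit 1469, nat_lit 456, nat_lit 457, nat_lit 3500, nat_lit 2091, nat_lit 1164, nat_lit 1165, nat_lit 4044, nat_lit 4045, nat_lit 30, nat_lit 31, nat_lit 154, nat_lit 2638, nat_lit 2822, nat_lit 2823, nat_lit 270, nat_lit 271, nat_lit 4000, nat_lit 4001, nat_lit 2548, nat_lit 2549, nat_lit 4036, nat_lit 4037, nat_lit 2206, nat_lit 2207, nat_lit 120, nat_lit 121, nat_lit 774, nat_lit 4077, nat_lit 3976, nat_lit 2650, nat_lit 2588, nat_lit 2589, nat_lit 3860, nat_lit 3861, nat_lit 2754, nat_lit 2755, nat_lit 3836, nat_lit 3406, nat_lit 3407, nat_lit 3182, nat_lit 1733, nat_lit 254, nat_lit 255, nat_lit 2128, nat_lit 2129, nat_lit 2716, nat_lit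 2880, nat_lit 2881, nat_lit 3128, nat_lit 3129, nat_lit 956, nat_lit 957, nat_lit 3691, nat_lit 1710, nat_lit 1711, nat_lit 1858, nat_lit 874, nat_lit 875, nat_lit 1338, nat_lit 1339, nat_lit 2564, nat_lit 2565, nat_lit 3972, nat_lit 3973, nat_lit 2202, nat_lit 2203, nat_lit 2924, nat_lit 2925, nat_lit 802, nat_lit 803, nat_lit 2762, nat_lit 639, nat_lit 975, nat_lit 2154, nat_lit 2155, nat_lit 3481, nat_lit 1166, nat_lit 1167, nat_lit 4046, nat_lit 1368, nat_lit 1369, nat_lit 760, nat_lit 761, nat_lit 2932, nat_lit 2933, nat_lit 92, nat_lit 1109, nat_lit 3630, nat_lit 3631, nat_lit 1778, nat_lit 1779, nat_lit 3380, nat_lit 3381, nat_lit 3946, nat_lit 3947, nat_lit 684, nat_lit 685, nat_lit 876, nat_lit 877, nat_lit 2662, nat_lit 2663, nat_lit 3088, nat_lit 3089, nat_lit 78, nat_lit 79, nat_lit 1162, nat_lit 896, nat_lit 897, nat_lit 2092, nat_lit 2093, nat_lit 326, nat_lit 491, nat_lit 2616,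 nat_lit 2617, nat_lit 164, nat_lit 165, nat_lit 748, nat_lit 1240, nat_lit 1241, nat_lit 3028, nat_lit 3029, nat_lit 2738, nat_lit 2739, nat_lit 1994, nat_lit 1995, nat_lit 1688, nat_lit 1689, nat_lit 1419, nat_lit 3736, nat_lit 88, nat_lit 4094, nat_lit 4095, nat_lit 1914, nat_lit 1915, nat_lit 1132, nat_lit 1133, nat_lit 2806, nat_lit 2418, nat_lit 3438, nat_lit 3439, nat_lit 1220, nat_lit 1221, nat_lit 2892, nat_lit 2893, nat_lit 126, nat_lit 127, nat_lit 2256, nat_lit 2257, nat_lit 4078, nat_lit 4079, nat_lit 832, nat_lit 833, nat_lit 2398, nat_lit 692, nat_lit 693, nat_lit 1020, nat_lit 1021, nat_lit 1102, nat_lit 1103, nat_lit 2472, nat_lit 2473, nat_lit 182, nat_lit 1409, nat_lit 794, nat_lit 795, nat_lit 3796, nat_lit 3797, nat_lit 1232, nat_lit 2974, nat_lit 2975, nat_lit 1594, nat_lit 3932, nat_lit 3933, nat_lit 3452, nat_lit 482, nat_lit 483, nat_lit 2744, nat_lit 228, nat_lit 234,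 nat_lit 235, nat_lit 1638, nat_lit 1639, nat_lit 2402, nat_lit 216, nat_lit 217, nat_lit 3486, nat_lit 3487, nat_lit 3340, nat_lit 3341, nat_lit 698, nat_lit 699, nat_lit 886, nat_lit 910, nat_lit 911, nat_lit 2988, nat_lit 2989, nat_lit 2428, nat_lit 476, nat_lit 1016, nat_lit 1017, nat_lit 2859, nat_lit 3754, nat_lit 3820, nat_lit 3821, nat_lit 982, nat_lit 983, nat_lit 1106, nat_lit 1107, nat_lit 3674, nat_lit 3675, nat_lit 296, nat_lit 297, nat_lit 3030, nat_lit 3031, nat_lit 3588, nat_lit 3589, nat_lit 1458, nat_lit 753, nat_lit 3689, nat_lit 2939, nat_lit 3361, nat_lit 3955, nat_lit 372, nat_lit 373, nat_lit 1082, nat_lit 1083, nat_lit 3379, nat_lit 912, nat_lit 3772, nat_lit 3773, nat_lit 3845, nat_lit 2541, nat_lit 1268, nat_lit 1269, nat_lit 3274, nat_lit 2688, nat_lit 2689, nat_lit 2815, nat_lit 3437, nat_lit 1734, nat_lit 1735, nat_lit 252, nat_lit 253, nat_lit 1660, nat_lit 3383,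 nat_lit 3944, nat_lit 3945, nat_lit 3781, nat_lit 1216, nat_lit 1217, nat_lit 524, nat_lit 525, nat_lit 392, nat_lit 393, nat_lit 3084, nat_lit 3085, nat_lit 1074, nat_lit 1075, nat_lit 3570, nat_lit 3571, nat_lit 3602, nat_lit 2123, nat_lit 2574, nat_lit 2575, nat_lit 1422, nat_lit 1423, nat_lit 3936, nat_lit 3937, nat_lit 4090, nat_lit 4091, nat_lit 1212, nat_lit 1213, nat_lit 4016, nat_lit 4017, nat_lit 2832, nat_lit 2833, nat_lit 1913, nat_lit 1134, nat_lit 2515, nat_lit 946, nat_lit 947, nat_lit 2692, nat_lit 2693, nat_lit 2505, nat_lit 3921, nat_lit 1609, nat_lit 4004, nat_lit 2824, nat_lit 3078, nat_lit 3079, nat_lit 1200, nat_lit 1201, nat_lit 3505, nat_lit 3056, nat_lit 3057, nat_lit 1318, nat_lit 1319, nat_lit 970, nat_lit 971, nat_lit 3247, nat_lit 293, nat_lit 2544, nat_lit 1664, nat_lit 1665, nat_lit 3652, nat_lit 3728, nat_lit 3729, nat_lit 4031, nat_lit 2970, nat_lit 1690, nat_lit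 1691, nat_lit 3798, nat_lit 3799, nat_lit 223, nat_lit 488, nat_lit 750, nat_lit 751, nat_lit 1902, nat_lit 2078, nat_lit 2079, nat_lit 3606, nat_lit 3607, nat_lit 3874, nat_lit 3875, nat_lit 3696, nat_lit 2468, nat_lit 62, nat_lit 63, nat_lit 2356, nat_lit 2357, nat_lit 2732, nat_lit 3552, nat_lit 2450, nat_lit 2542, nat_lit 2543, nat_lit 1270, nat_lit 444, nat_lit 445, nat_lit 3618, nat_lit 3619, nat_lit 2570, nat_lit 2571, nat_lit 3854, nat_lit 76, nat_lit 1160, nat_lit 1161, nat_lit 1120, nat_lit 1121, nat_lit 498, nat_lit 499, nat_lit 2728, nat_lit 2020, nat_lit 3838, nat_lit 3839, nat_lit 964, nat_lit 965, nat_lit 2780, nat_lit 2781, nat_lit 3686, nat_lit 1682, nat_lit 1683, nat_lit 3670, nat_lit 3671, nat_lit 2640, nat_lit 2641, nat_lit 2040, nat_lit 2041, nat_lit 284, nat_lit 285, nat_lit 756, nat_lit 2044, nat_lit 1012, nat_lit 1013, nat_lit 2979, nat_lit 2794, nat_lit 2795, nat_lit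 608, nat_lit 662, nat_lit 663, nat_lit 416, nat_lit 2861, nat_lit 3738, nat_lit 3739, nat_lit 923, nat_lit 3626, nat_lit 686, nat_lit 687, nat_lit 2160, nat_lit 2161, nat_lit 924, nat_lit 2228, nat_lit 2229, nat_lit 2955, nat_lit 2400, nat_lit 2401, nat_lit 324, nat_lit 325, nat_lit 2336, nat_lit 2337, nat_lit 3390, nat_lit 3391, nat_lit 3708, nat_lit 3709, nat_lit 2124, nat_lit 2125, nat_lit 396, nat_lit 2726, nat_lit 3426, nat_lit 3427, nat_lit 2104, nat_lit 2105, nat_lit 2443, nat_lit 2592, nat_lit 2593, nat_lit 2074, nat_lit 622, nat_lit 623, nat_lit 1506, nat_lit 1507, nat_lit 3953, nat_lit 2658, nat_lit 2659, nat_lit 2334, nat_lit 584, nat_lit 3546, nat_lit 3492, nat_lit 3493, nat_lit 2568, nat_lit 2569, nat_lit 3590, nat_lit 3591, nat_lit 1456, nat_lit 1457, nat_lit 3376, nat_lit 3714, nat_lit 202, nat_lit 305, nat_lit 2557, nat_lit 1199, nat_lit 4038, nat_lit 4039, nat_lit 2204, nat_lit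 996, nat_lit 1645, nat_lit 2088, nat_lit 2089, nat_lit 2494, nat_lit 1670, nat_lit 3852, nat_lit 3853, nat_lit 420, nat_lit 421, nat_lit 2917, nat_lit 3475, nat_lit 3461, nat_lit 1786, nat_lit 1787, nat_lit 355, nat_lit 4042, nat_lit 4043, nat_lit 2276, nat_lit 1286, nat_lit 1287, nat_lit 1634, nat_lit 410, nat_lit 411, nat_lit 200, nat_lit 201, nat_lit 3550, nat_lit 3551, nat_lit 1248, nat_lit 628, nat_lit 908, nat_lit 909, nat_lit 2212, nat_lit 3522, nat_lit 3523, nat_lit 2453, nat_lit 2135, nat_lit 2710, nat_lit 1258, nat_lit 1259, nat_lit 3152, nat_lit 1340, nat_lit 1341, nat_lit 3958, nat_lit 3959, nat_lit 2664, nat_lit 960, nat_lit 961, nat_lit 3116, nat_lit 1600, nat_lit 2603, nat_lit 2200, nat_lit 2201, nat_lit 3370, nat_lit 1566, nat_lit 3346, nat_lit 3347, nat_lit 2294, nat_lit 2295, nat_lit 3835, nat_lit 972, nat_lit 2406, nat_lit 2407, nat_lit 335, nat_lit 1196, nat_lit 1197, nat_lit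 2138, nat_lit 2139, nat_lit 286, nat_lit 287, nat_lit 2953, nat_lit 1569, nat_lit 206, nat_lit 505, nat_lit 3170, nat_lit 3171, nat_lit 2039, nat_lit 2546, nat_lit 3191, nat_lit 448, nat_lit 449, nat_lit 1406, nat_lit 1407, nat_lit 1381, nat_lit 1722, nat_lit 2368, nat_lit 2369, nat_lit 962, nat_lit 1526, nat_lit 1527, nat_lit 1127, nat_lit 2928, nat_lit 1870, nat_lit 994, nat_lit 995, nat_lit 378, nat_lit 379, nat_lit 236, nat_lit 237, nat_lit 2656, nat_lit 2396, nat_lit 2397, nat_lit 1611, nat_lit 4007, nat_lit 2826, nat_lit 2827, nat_lit 3574, nat_lit 967, nat_lit 2782, nat_lit 2783, nat_lit 3684, nat_lit 933, nat_lit 3315, nat_lit 588, nat_lit 3412, nat_lit 3413, nat_lit 3324, nat_lit 3325, nat_lit 2776, nat_lit 2777, nat_lit 3694, nat_lit 2166, nat_lit 2167, nat_lit 3329, nat_lit 3650, nat_lit 3651, nat_lit 2035, nat_lit 414, nat_lit 415, nat_lit 3658, nat_lit 2084, nat_lit 2085, nat_lit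 2322, nat_lit 3878, nat_lit 3879, nat_lit 3705, nat_lit 551, nat_lit 3915, nat_lit 3430, nat_lit 340, nat_lit 341, nat_lit 2118, nat_lit 2386, nat_lit 2387, nat_lit 1728, nat_lit 1729, nat_lit 645, nat_lit 1146, nat_lit 2440, nat_lit 2441, nat_lit 2594, nat_lit 548, nat_lit 549, nat_lit 3122, nat_lit 830, nat_lit 735, nat_lit 233, nat_lit 2270, nat_lit 1846, nat_lit 1847, nat_lit 2856, nat_lit 2857, nat_lit 3563, nat_lit 1530, nat_lit 1531, nat_lit 3137, nat_lit 186, nat_lit 705, nat_lit 1952, nat_lit 1953, nat_lit 1420, nat_lit 1421, nat_lit 3096, nat_lit 2352, nat_lit 2353, nat_lit 1080, nat_lit 1081, nat_lit 2016, nat_lit 2017, nat_lit 593, nat_lit 1296, nat_lit 1297, nat_lit 3628, nat_lit 3629, nat_lit 180, nat_lit 181, nat_lit 764, nat_lit 765, nat_lit 3646, nat_lit 3647, nat_lit 2174, nat_lit 2175, nat_lit 3388, nat_lit 3389, nat_lit 4074, nat_lit 4075, nat_lit 3000, nat_lit 3001, nat_lit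 2210, nat_lit 2211, nat_lit 2163, nat_lit 3336, nat_lit 3337, nat_lit 2626, nat_lit 2627, nat_lit 4082, nat_lit 4083, nat_lit 1882, nat_lit 1018, nat_lit 1474, nat_lit 1475, nat_lit 1425, nat_lit 2936, nat_lit 2937, nat_lit 2388, nat_lit 3822, nat_lit 980, nat_lit 992, nat_lit 102, nat_lit 103, nat_lit 199, nat_lit 3424, nat_lit 3425, nat_lit 2930, nat_lit 1868, nat_lit 1869, nat_lit 4032, nat_lit 4033, nat_lit 3302, nat_lit 3303, nat_lit 596, nat_lit 3528, nat_lit 3529, nat_lit 2326, nat_lit 2327, nat_lit 2068, nat_lit 1014, nat_lit 2536, nat_lit 1845, nat_lit 657, nat_lit 1548, nat_lit 1549, nat_lit 184, nat_lit 185, nat_lit 2694, nat_lit 462, nat_lit 851, nat_lit 2380, nat_lit 2025, nat_lit 1476, nat_lit 1811, nat_lit 3143, nat_lit 177, nat_lit 2619, nat_lit 2184, nat_lit 2185, nat_lit 2723, nat_lit 1823, nat_lit 4054, nat_lit 4055, nat_lit 1854, nat_lit 1855, nat_lit 101, nat_lit 2284, nat_lit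 2272, nat_lit 1892, nat_lit 56, nat_lit 3047, nat_lit 3372, nat_lit 3373, nat_lit 2127, nat_lit 2566, nat_lit 2156, nat_lit 2157, nat_lit 1681, nat_lit 3668, nat_lit 1472, nat_lit 1473, nat_lit 2274, nat_lit 3278, nat_lit 3279, nat_lit 3968, nat_lit 3969, nat_lit 631, nat_lit 652, nat_lit 2862, nat_lit 2863, nat_lit 1230, nat_lit 3220, nat_lit 3221, nat_lit 464, nat_lit 2879, nat_lit 2181, nat_lit 3062, nat_lit 1668, nat_lit 1669, nat_lit 3660, nat_lit 3661, nat_lit 3893, nat_lit 2842, nat_lit 612, nat_lit 613, nat_lit 670, nat_lit 986, nat_lit 3262, nat_lit 3263, nat_lit 3316, nat_lit 3317, nat_lit 2590, nat_lit 2674, nat_lit 2675, nat_lit 3081, nat_lit 1180, nat_lit 1181, nat_lit 532, nat_lit 280, nat_lit 4050, nat_lit 4051, nat_lit 1626, nat_lit 1627, nat_lit 1741, nat_lit 2920, nat_lit 197, nat_lit 3530, nat_lit 3531, nat_lit 2324, nat_lit 204, nat_lit 507, nat_lit 3169, nat_lit 1836, nat_lit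 2834, nat_lit 1824, nat_lit 1825, nat_lit 1048, nat_lit 1596, nat_lit 1597, nat_lit 2416, nat_lit 2628, nat_lit 3086, nat_lit 3087, nat_lit 1072, nat_lit 3568, nat_lit 3569, nat_lit 169, nat_lit 1100, nat_lit 3774, nat_lit 2070, nat_lit 3735, nat_lit 3594, nat_lit 3595, nat_lit 360, nat_lit 361, nat_lit 2585, nat_lit 3869, nat_lit 1890, nat_lit 1891, nat_lit 282, nat_lit 3276, nat_lit 1502, nat_lit 1910, nat_lit 1911, nat_lit 3404, nat_lit 3180, nat_lit 1050, nat_lit 2724, nat_lit 2725, nat_lit 801, nat_lit 2761, nat_lit 1332, nat_lit 1333, nat_lit 1311, nat_lit 3957, nat_lit 2666, nat_lit 2905, nat_lit 2467, nat_lit 52, nat_lit 53, nat_lit 1206, nat_lit 1207, nat_lit 1355, nat_lit 3535, nat_lit 2333, nat_lit 3095, nat_lit 884, nat_lit 1179, nat_lit 3202, nat_lit 3203, nat_lit 432, nat_lit 2076, nat_lit 3604, nat_lit 1150, nat_lit 2768, nat_lit 726, nat_lit 727, nat_lit 104, nat_lit 105, nat_lit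 558, nat_lit 2801, nat_lit 1944, nat_lit 650, nat_lit 651, nat_lit 1730, nat_lit 1731, nat_lit 3146, nat_lit 2720, nat_lit 3432, nat_lit 3433, nat_lit 3971, nat_lit 1978, nat_lit 500, nat_lit 3224, nat_lit 580, nat_lit 2018, nat_lit 2019, nat_lit 1804, nat_lit 3267, nat_lit 1482, nat_lit 3477, nat_lit 3470, nat_lit 3471, nat_lit 1908, nat_lit 1274, nat_lit 1275, nat_lit 2993, nat_lit 1900, nat_lit 1142, nat_lit 224, nat_lit 901, nat_lit 1351, nat_lit 2152, nat_lit 2153, nat_lit 3482, nat_lit 3483, nat_lit 2096, nat_lit 2097, nat_lit 534, nat_lit 306, nat_lit 307, nat_lit 3035, nat_lit 1223, nat_lit 3712, nat_lit 542, nat_lit 460, nat_lit 2383, nat_lit 2026, nat_lit 2027, nat_lit 1545, nat_lit 950, nat_lit 2522, nat_lit 818, nat_lit 819, nat_lit 2756, nat_lit 2757, nat_lit 1726, nat_lit 1727, nat_lit 3856, nat_lit 3857, nat_lit 1820, nat_lit 1821, nat_lit 618, nat_lit 674, nat_lit 2208, nat_lit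 2209, nat_lit 3176, nat_lit 826, nat_lit 827, nat_lit 2392, nat_lit 2393, nat_lit 1479, nat_lit 1964, nat_lit 1965, nat_lit 3533, nat_lit 3711, nat_lit 1612, nat_lit 1285, nat_lit 2137, nat_lit 4011, nat_lit 2864, nat_lit 2865, nat_lit 807, nat_lit 3234, nat_lit 3235, nat_lit 2318, nat_lit 3022, nat_lit 1068, nat_lit 1069, nat_lit 3368, nat_lit 3369, nat_lit 2918, nat_lit 2919, nat_lit 2681, nat_lit 1696, nat_lit 1194, nat_lit 2998, nat_lit 2999, nat_lit 301, nat_lit 3876, nat_lit 2573, nat_lit 2819, nat_lit 1721, nat_lit 1364, nat_lit 1365, nat_lit 625, nat_lit 1372, nat_lit 1373, nat_lit 1958, nat_lit 1414, nat_lit 2492, nat_lit 2493, nat_lit 4070, nat_lit 4071, nat_lit 3850, nat_lit 1636, nat_lit 1637, nat_lit 2262, nat_lit 2263, nat_lit 1542, nat_lit 2876, nat_lit 2877, nat_lit 3942, nat_lit 3624, nat_lit 3766, nat_lit 3767, nat_lit 1860, nat_lit 1816, nat_lit 1817, nat_lit 3027, nat_lit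 690, nat_lit 1971, nat_lit 1438, nat_lit 1439, nat_lit 511, nat_lit 1158, nat_lit 3189, nat_lit 2506, nat_lit 3344, nat_lit 3345, nat_lit 714, nat_lit 603, nat_lit 615, nat_lit 668, nat_lit 902, nat_lit 2086, nat_lit 1078, nat_lit 1448, nat_lit 1449, nat_lit 3288, nat_lit 1834, nat_lit 1852, nat_lit 1792, nat_lit 3308, nat_lit 2131, nat_lit 733, nat_lit 468, nat_lit 469, nat_lit 713, nat_lit 2366, nat_lit 388, nat_lit 1703, nat_lit 170, nat_lit 3978, nat_lit 3979, nat_lit 836, nat_lit 2424, nat_lit 2968, nat_lit 2969, nat_lit 1584, nat_lit 2771, nat_lit 242, nat_lit 3395, nat_lit 697, nat_lit 1931, nat_lit 2364, nat_lit 3663, nat_lit 220, nat_lit 3558, nat_lit 1808, nat_lit 1809, nat_lit 1498, nat_lit 1499, nat_lit 1175, nat_lit 3934, nat_lit 3935, nat_lit 1898, nat_lit 1776, nat_lit 3924, nat_lit 3374, nat_lit 1305, nat_lit 1784, nat_lit 3886, nat_lit 591, nat_lit 1981, nat_lit 1748, nat_lit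 1749, nat_lit 2652, nat_lit 2686, nat_lit 2687, nat_lit 1266, nat_lit 2241, nat_lit 572, nat_lit 573, nat_lit 1551, nat_lit 4018, nat_lit 1410, nat_lit 3052, nat_lit 570, nat_lit 571, nat_lit 3761, nat_lit 347, nat_lit 2252, nat_lit 1833, nat_lit 502, nat_lit 45, nat_lit 3966, nat_lit 1505, nat_lit 3645, nat_lit 3330, nat_lit 3331, nat_lit 2032, nat_lit 2643, nat_lit 1124, nat_lit 1125, nat_lit 1802, nat_lit 1803, nat_lit 2311, nat_lit 1878, nat_lit 3916, nat_lit 1618, nat_lit 1619, nat_lit 374, nat_lit 375, nat_lit 1717, nat_lit 61, nat_lit 2888, nat_lit 2957, nat_lit 3449, nat_lit 2797, nat_lit 4062, nat_lit 3004, nat_lit 2478, nat_lit 3104, nat_lit 2249, nat_lit 1343, nat_lit 1889, nat_lit 4081, nat_lit 1880, nat_lit 3508, nat_lit 3509, nat_lit 3655, nat_lit 3802, nat_lit 4060, nat_lit 4061, nat_lit 3359, nat_lit 3248, nat_lit 3829, nat_lit 2718, nat_lit 2719, nat_lit 1896, nat_lit 1242,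 nat_lit 1243, nat_lit 1919, nat_lit 2894, nat_lit 1366, nat_lit 1954, nat_lit 1955, nat_lit 2649, nat_lit 2845, nat_lit 1744, nat_lit 1357, nat_lit 658, nat_lit 2094, nat_lit 2851, nat_lit 1095, nat_lit 568, nat_lit 3698, nat_lit 586, nat_lit 1826, nat_lit 2753, nat_lit 3502, nat_lit 3503, nat_lit 2526, nat_lit 3132, nat_lit 948, nat_lit 949, nat_lit 3140, nat_lit 661, nat_lit 2803, nat_lit 2948, nat_lit 2750, nat_lit 2758, nat_lit 1247, nat_lit 3039, nat_lit 1500, nat_lit 934, nat_lit 935, nat_lit 3130, nat_lit 58, nat_lit 1254, nat_lit 1255, nat_lit 1218, nat_lit 2886, nat_lit 2887, nat_lit 2966, nat_lit 1751, nat_lit 3264, nat_lit 2321, nat_lit 1758, nat_lit 1104, nat_lit 2014, nat_lit 1946, nat_lit 3576, nat_lit 1993, nat_lit 2943, nat_lit 1572, nat_lit 3090, nat_lit 3231, nat_lit 2046, nat_lit 330, nat_lit 331, nat_lit 2395, nat_lit 2991, nat_lit 1774, nat_lit 333, nat_lit 3768, nat_lit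 1999, nat_lit 1724, nat_lit 3984, nat_lit 3458, nat_lit 3459, nat_lit 4014, nat_lit 739, nat_lit 402, nat_lit 2587, nat_lit 4002, nat_lit 1096, nat_lit 339, nat_lit 672, nat_lit 1917, nat_lit 2214, nat_lit 2219, nat_lit 707, nat_lit 1405, nat_lit 2278, nat_lit 3237, nat_lit 3110, nat_lit 1492, nat_lit 2525, nat_lit 3693, nat_lit 3849])
    (by decide +kernel)

end Cfsg.Agent.Fischer.J23
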