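import Cfsg.Agent.FiC.Glu2
import Cfsg.Agent.Fischer.Loc

/-!
Elementary abelian groups with a basis: elements are bit vectors, automorphisms are lists of
vectors.
-/

set_option autoImplicit false

namespace Cfsg.Agent.Fischer.JB

open Cfsg.Agent.Comp Cfsg.Agent.FiC Subgroup

variable {G : Type*} [Group G]

/-- the product of the members selected by the bits -/
def pr : List G → ℕ → G
  | [], _ => 1
  | x :: l, v => x ^ (v % 2) * pr l (v / 2)

theorem pr_zero (l : List G) : pr l 0 = 1 := by
  induction l with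
  | nil => rfl
  | cons x l ih => simp [pr, ih]

theorem pr_mem {l : List G} {H : Subgroup G} (h : ∀ x ∈ l, x ∈ H) (v : ℕ) : pr l v ∈ H := by
  induction l generalizing v with
  | nil => exact H.one_mem
  | cons x l ih =>
    exact mul_mem (pow_mem (h x (by simp)) _) (ih (fun y hy => h y (by simp [hy])) _)

theorem pr_conj (g : G) (l : List G) (v : ℕ) :
    g * pr l v * g⁻¹ = pr (l.map fun x => g * x * g⁻¹) v := by
  induction l generalizing v with
  | nil => simp [pr]
  | cons x l ih => simp only [List.map_cons, pr, ← ih, conj_pow]; group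

/-- commuting elements of order at most two -/
def El (l : List G) : Prop := ∀ x ∈ l, x * x = 1 ∧ ∀ y ∈ l, Commute x y

theorem xor_mod (u v : ℕ) : (u ^^^ v) % 2 = (u % 2 + v % 2) % 2 := by
  have := @Nat.xor_mod_two_eq_one u v
  omega

theorem El.xor {l : List G} (h : El l) (u v : ℕ) : pr l (u ^^^ v) = pr l u * pr l v := by
  induction l generalizing u v with
  | nil => simp [pr]
  | cons x l ih =>
    have c : ∀ w, Commute x (pr l w) := fun w => (mem_centralizer_singleton_iff.1
      (pr_mem (fun y hy => mem_centralizer_singleton_iff.2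
        ((h x (by simp)).2 y (by simp [hy])).symm) w)).symm
    have o : x ^ 2 = 1 := by rw [pow_two, (h x (by simp)).1]
    simp only [pr]
    rw [Nat.xor_div_two, ih fun y hy => ⟨(h y (by simp [hy])).1, fun z hz =>
      (h y (by simp [hy])).2 z (by simp [hz])⟩, xor_mod, ← pow_eq_pow_mod _ o, pow_add,
      mul_assoc, mul_assoc, ← mul_assoc (x ^ (v % 2)), ((c _).pow_left _).eq, mul_assoc]

theorem El.sq {l : List G} (h : El l) (v : ℕ) : pr l v * pr l v = 1 := by
  rw [← h.xor, Nat.xor_self, pr_zero]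

theorem exists_pr {l : List G} {x : G} (hx : x ∈ l) : ∃ v < 2 ^ l.length, pr l v = x := by
  induction l with
  | nil => simp at hx
  | cons y l ih =>
    rw [List.length_cons, pow_succ]
    rcases List.mem_cons.1 hx with rfl | hx
    · exact ⟨1, by have := Nat.one_le_two_pow (n := l.length); omega, by simp [pr, pr_zero]⟩
    · obtain ⟨v, hv, e⟩ := ih hx
      exact ⟨2 * v, by omega, by simp [pr, e]⟩

/-- the linear map with the given images of the basis -/
noncomputable def app (M : List Nat) : Nat → Nat :=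
  @List.rec Nat (fun _ => Nat → Nat) (fun _ => nat_lit 0) (fun x _ ih v =>
    Nat.xor (Nat.mul (Nat.mod v (nat_lit 2)) x) (frcN (Nat.div v (nat_lit 2)) ih)) M

theorem app_cons (x : ℕ) (M : List ℕ) (v : ℕ) :
    app (x :: M) v = (v % 2 * x) ^^^ app M (v / 2) := by
  rw [← frcN_eq (v / 2) (app M)]; rfl

theorem El.app {l : List G} (h : El l) (M : List ℕ) (v : ℕ) :
    pr (M.map (pr l)) v = pr l (app M v) := by
  induction M generalizing v with
  | nil => exact (pr_zero l).symm
  | cons x M ih =>
    rw [app_cons, h.xor, List.map_cons, pr, ih]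
    rcases Nat.mod_two_eq_zero_or_one v with e | e <;> simp [e, pr_zero]

theorem app_lt {M : List ℕ} {r : ℕ} (h : ∀ x ∈ M, x < 2 ^ r) (v : ℕ) : app M v < 2 ^ r := by
  induction M generalizing v with
  | nil => exact Nat.two_pow_pos r
  | cons x M ih =>
    rw [app_cons]
    refine Nat.xor_lt_two_pow ?_ (ih (fun y hy => h y (by simp [hy])) _)
    rcases Nat.mod_two_eq_zero_or_one v with e | e <;> simp [e, h x]

theorem app_zip {f : ℕ → ℕ → ℕ} (h0 : f 0 0 = 0)
    (hf : ∀ a b a' b', f (a ^^^ a') (b ^^^ b') = f a b ^^^ f a' b') {M N : List ℕ}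
    (hl : M.length = N.length) (v : ℕ) : app (List.zipWith f M N) v = f (app M v) (app N v) := by
  induction M generalizing N v with
  | nil =>
    obtain rfl := List.length_eq_zero_iff.1 hl.symm
    exact h0.symm
  | cons x M ih =>
    obtain ⟨y, N, rfl⟩ := List.exists_cons_of_length_eq_add_one hl.symm
    rw [List.zipWith_cons_cons, app_cons, app_cons, app_cons, ih (Nat.succ_injective hl), hf]
    rcases Nat.mod_two_eq_zero_or_one v with e | e <;> simp [e, h0]

/-- the number of vectors with image `y` -/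
noncomputable def cnt (M : List Nat) : Nat → Nat :=
  @List.rec Nat (fun _ => Nat → Nat)
    (fun y => @Nat.rec (fun _ => Nat) (nat_lit 1) (fun _ _ => nat_lit 0) y)
    (fun x _ ih y => Nat.add (ih y) (frcN (Nat.xor y x) ih)) M

theorem sum_two (f : ℕ → ℕ) (n : ℕ) :
    ∑ i ∈ Finset.range (n * 2), f i = ∑ i ∈ Finset.range n, (f (2 * i) + f (2 * i + 1)) := by
  induction n with
  | zero => rfl
  | succ n ih =>
    rw [show (n + 1) * 2 = n * 2 + 1 + 1 by ring, Finset.sum_range_succ, Finset.sum_range_succ, ih,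
      Finset.sum_range_succ, mul_comm n, add_assoc]

theorem cnt_eq (M : List ℕ) (y : ℕ) :
    cnt M y = ((Finset.range (2 ^ M.length)).filter fun v => app M v = y).card := by
  rw [Finset.card_filter]
  induction M generalizing y with
  | nil => cases y <;> simp [cnt, app] <;> rfl
  | cons x M ih =>
    have e : cnt (x :: M) y = cnt M y + frcN (y ^^^ x) (cnt M) := rfl
    rw [e, frcN_eq, ih, ih, List.length_cons, pow_succ, sum_two, Finset.sum_add_distrib]
    congr 1 <;> refine Finset.sum_congr rfl fun v _ => ?_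
    · simp [app_cons]
    · rw [app_cons, Nat.mul_add_mod, show (2 * v + 1) / 2 = v by omega]
      refine if_congr ⟨fun e => ?_, fun e => ?_⟩ rfl rfl
      · simp [e, Nat.xor_comm y, ← Nat.xor_assoc]
      · simp [← e, Nat.xor_comm x, Nat.xor_assoc]

/-- the number of `i < n` with `p i` -/
noncomputable def cntP (p : Nat → Bool) (n : Nat) : Nat → Nat :=
  @Nat.rec (fun _ => Nat → Nat) (fun a => a) (fun i ih a =>
    @Bool.rec (fun _ => Nat) (ih a) (frcN (Nat.succ a) ih) (p i)) n

theorem cntP_eq (p : ℕ → Bool) (n a : ℕ) :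
    cntP p n a = ((Finset.range n).filter fun i => p i = true).card + a := by
  induction n generalizing a with
  | zero => simp [cntP]
  | succ n ih =>
    have e : cntP p (n + 1) a =
      @Bool.rec (fun _ => Nat) (cntP p n a) (frcN (a + 1) (cntP p n)) (p n) := rfl
    rw [e, Finset.range_add_one, Finset.filter_insert]
    cases p n
    · simp [ih]
    · simp [frcN_eq, ih]; omega

/-- the set grown along a tree -/
noncomputable def growT (Ms : List (List Nat)) (k : Nat) (tr : List Nat) : Nat → Nat :=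
  @List.rec Nat (fun _ => Nat → Nat) (fun S => S) (fun e _ ih S =>
    @Bool.rec (fun _ => Nat) (nat_lit 0)
      (frcN (Nat.lor S (pt (app (nth [] Ms (Nat.mod e k)) (Nat.div e k)))) ih)
      (Nat.testBit S (Nat.div e k))) tr

theorem growT_sub {Ms : List (List ℕ)} (h0 : 0 < Ms.length) {P : ℕ → Prop}
    (hP : ∀ M ∈ Ms, ∀ v, P v → P (app M v)) (tr : List ℕ) {S : ℕ} (hS : ∀ v, S.testBit v → P v)
    {v : ℕ} (hv : (growT Ms Ms.length tr S).testBit v) : P v := by
  induction tr generalizing S with
  | nil => exact hS v hv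
  | cons e tr ih =>
    have e1 : growT Ms Ms.length (e :: tr) S = @Bool.rec (fun _ => Nat) 0
      (frcN (S ||| pt (app (nth [] Ms (e % Ms.length)) (e / Ms.length))) (growT Ms Ms.length tr))
      (S.testBit (e / Ms.length)) := rfl
    rw [e1] at hv
    cases h1 : S.testBit (e / Ms.length) <;> rw [h1] at hv
    · simp at hv
    · refine ih (fun w hw => ?_) (frcN_eq _ _ ▸ hv)
      rw [Nat.testBit_or, Bool.or_eq_true, testBit_pt, decide_eq_true_iff] at hw
      rcases hw with hw | rfl
      · exact hS w hw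
      · refine hP _ ?_ _ (hS _ h1)
        rw [nth_eq, List.getD_eq_getElem _ _ (Nat.mod_lt _ h0)]
        exact List.getElem_mem _

/-! ### permutations as lists -/

/-- composition -/
noncomputable def cmp (σ π : List Nat) : List Nat := π.map (nth (nat_lit 0) σ)

/-- the matrix of a permutation -/
noncomputable def mat (c : List Nat) (r : Nat) (σ : List Nat) : List Nat :=
  (σ.take r).map (nth (nat_lit 0) c)

/-- conjugation by `g` permutes the family as the list `σ` does -/
def InL (b : ℕ → G) (m : ℕ) (g : G) (σ : List ℕ) : Prop :=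
  σ.length = m ∧ ∀ i < m, nth 0 σ i < m ∧ g * b i * g⁻¹ = b (nth 0 σ i)

theorem nth_map (f : ℕ → ℕ) {l : List ℕ} {i : ℕ} (h : i < l.length) :
    nth 0 (l.map f) i = f (nth 0 l i) := by
  simp [nth_eq, List.getD_eq_getElem?_getD, List.getElem?_eq_getElem h]

theorem nth_range {m i : ℕ} (h : i < m) : nth 0 (List.range m) i = i := by
  simp [nth_eq, List.getD_eq_getElem?_getD, h]

theorem ext_nth {σ π : List ℕ} {m : ℕ} (h1 : σ.length = m) (h2 : π.length = m)
    (h : ∀ i < m, nth 0 σ i = nth 0 π i) : σ = π :=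
  List.ext_getElem (h1.trans h2.symm) fun i a b => by
    have := h i (h1 ▸ a)
    rwa [nth_eq, nth_eq, List.getD_eq_getElem _ _ a, List.getD_eq_getElem _ _ b] at this

namespace InL
variable {b : ℕ → G} {m : ℕ} {g h : G} {σ π : List ℕ}

theorem mul (a : InL b m g σ) (a' : InL b m h π) : InL b m (g * h) (cmp σ π) :=
  ⟨(List.length_map _).trans a'.1, fun i hi => by
    rw [show cmp σ π = π.map (nth 0 σ) from rfl, nth_map _ (a'.1 ▸ hi)]
    refine ⟨(a.2 _ (a'.2 i hi).1).1, ?_⟩
    rw [← (a.2 _ (a'.2 i hi).1).2, ← (a'.2 i hi).2]; group⟩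

theorem id (hg : ∀ i < m, Commute g (b i)) : InL b m g (List.range m) :=
  ⟨List.length_range, fun i hi => by
    rw [nth_range hi, (hg i hi).eq, mul_inv_cancel_right]; exact ⟨hi, rfl⟩⟩

theorem unique (hi : TInj b m) (a : InL b m g σ) (a' : InL b m g π) : σ = π :=
  ext_nth a.1 a'.1 fun i h => hi _ (a.2 i h).1 _ (a'.2 i h).1 ((a.2 i h).2.symm.trans (a'.2 i h).2)

theorem comm (a : InL b m g (List.range m)) {i : ℕ} (hi : i < m) : Commute g (b i) := by
  have := (a.2 i hi).2
  rw [nth_range hi] at this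
  exact mul_inv_eq_iff_eq_mul.1 this

theorem ns (hi : TInj b m) (a : InL b m g σ) : g ∈ NS b m :=
  mem_NS_of hi fun j hj => ⟨_, (a.2 j hj).1, (a.2 j hj).2⟩

end InL

/-- orbits and kernel of the action on the family -/
theorem card_le [Finite G] {b : ℕ → G} {m : ℕ} (hi : TInj b m) {E : Subgroup G} (L : List (List ℕ))
    (hL : ∀ g ∈ E, ∃ σ ∈ L, InL b m g σ) {k : ℕ}
    (hk : {g | g ∈ E ∧ ∀ i < m, Commute g (b i)}.ncard ≤ k) : Nat.card E ≤ L.length * k := by
  have hE : E ≤ NS b m := fun g hg => (hL g hg).elim fun _ h => h.2.ns hi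
  let f := (rho hi).comp (inclusion hE)
  have hf : ∀ g : E, Ind b m g (f g) := fun g => ind_rho hi (inclusion hE g)
  rw [← f.ker.card_mul_index, index_ker, mul_comm]
  refine Nat.mul_le_mul ?_ (le_trans (le_of_eq ?_) hk)
  · refine le_trans ?_ (List.toFinset_card_le L)
    rw [← Set.ncard_coe_finset]
    refine Set.ncard_le_ncard_of_injOn (s := (f.range : Set (Equiv.Perm ℕ)))
      (fun σ => (List.range m).map σ) ?_ ?_ (Finset.finite_toSet _)
    · rintro _ ⟨g, rfl⟩
      obtain ⟨σ, h1, h2⟩ := hL g g.2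
      have : InL b m g ((List.range m).map (f g)) := ⟨by simp, fun i h => by
        rw [nth_map _ (by simpa using h), nth_range h]
        exact ⟨(hf g).lt h, (hf g).conj i h⟩⟩
      exact List.mem_toFinset.2 (InL.unique hi h2 this ▸ h1)
    · rintro _ ⟨g, rfl⟩ _ ⟨g', rfl⟩ e
      ext i
      by_cases h : i < m
      · exact List.map_inj_left.1 e i (List.mem_range.2 h)
      · rw [(hf g).bd i (not_lt.1 h), (hf g').bd i (not_lt.1 h)]
  · refine Eq.trans (Set.ncard_image_of_injective (f.ker : Set E) Subtype.val_injective).symm ?_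
    congr 1
    ext g
    constructor
    · rintro ⟨g, hg, rfl⟩
      exact ⟨g.2, fun i h => ((hf g).commute_iff hi h).2 (by rw [show f g = 1 from hg]; rfl)⟩
    · rintro ⟨h1, h2⟩
      refine ⟨⟨g, h1⟩, (hf ⟨g, h1⟩).unique hi ⟨one_mem _, fun i h => ?_⟩, rfl⟩
      rw [show ((⟨g, h1⟩ : E) : G) = g from rfl, (h2 i h).eq, mul_inv_cancel_right]; rfl

end Cfsg.Agent.Fischer.JB
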