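import Cfsg.Agent.Fischer.JA

/-!
Bases of commuting transpositions: the Thompson subgroup of a Sylow 2-subgroup and fusion in it.
-/

set_option autoImplicit false

namespace Cfsg.Agent.Fischer.JB

open Cfsg.Agent.Comp Cfsg.Agent.FiC Subgroup

variable {G : Type*} [Group G]

/-- the members of the family -/
def fam (b : ℕ → G) (m : ℕ) : Set G := b '' {i | i < m}

/-- the basis -/
def bl (b : ℕ → G) (r : ℕ) : List G := (List.range r).map b

/-- equality of lists -/
noncomputable def leq (a : List Nat) : List Nat → Bool :=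
  @List.rec Nat (fun _ => List Nat → Bool)
    (fun b => @List.rec Nat (fun _ => Bool) true (fun _ _ _ => false) b)
    (fun x _ ih b => @List.rec Nat (fun _ => Bool) false
      (fun y b _ => band (Nat.beq x y) (ih b)) b) a

theorem leq_iff {a b : List ℕ} : leq a b = true ↔ a = b := by
  induction a generalizing b with
  | nil => cases b <;> simp [leq]
  | cons x a ih =>
    cases b with
    | nil => simp [leq]
    | cons y b =>
      have e : leq (x :: a) (y :: b) = band (Nat.beq x y) (leq a b) := rfl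
      rw [e, band_eq, ih, Nat.beq_eq, List.cons_eq_cons]

/-- the matrix of the commutator map -/
noncomputable def dm (c : List Nat) (m r : Nat) (σ : List Nat) : List Nat :=
  List.zipWith Nat.xor (mat c r σ) (mat c r (List.range m))

/-- the list is closed under the generators -/
noncomputable def cloOK (m : Nat) (Γ L : List (List Nat)) : Bool :=
  L.any (leq (List.range m)) && L.all fun u => Γ.all fun g => L.any (leq (cmp g u))

/-- the involutions of the list with their data -/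
noncomputable def invOK (c : List Nat) (m r : Nat) (L : List (List Nat))
    (Q : List (List Nat × List Nat × Nat)) : Bool :=
  (L.all fun u => !leq (cmp u u) (List.range m) || leq u (List.range m) || Q.any fun q => leq q.1 u) &&
  Q.all fun q => leq q.2.1 (dm c m r q.1) && Nat.blt (2 * cnt q.2.1 0) (2 ^ r) &&
    Nat.blt (Q.filter fun p => leq (cmp q.1 p.1) (cmp p.1 q.1)).length q.2.2

/-- pairs of involutions -/
noncomputable def pairOK (r : Nat) (Q : List (List Nat × List Nat × Nat)) : Bool :=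
  @List.rec (List Nat × List Nat × Nat) (fun _ => Bool) true (fun q Q ih =>
    band (lall (fun p => Nat.blt (Nat.mul (min q.2.2 p.2.2) (cnt (List.zipWith
      (fun a b => Nat.xor a (Nat.shiftLeft b r)) q.2.1 p.2.1) (nat_lit 0))) (Nat.pow (nat_lit 2) r)) Q)
      ih) Q

/-- a model of a base -/
structure Mod (D : Set G) (b : ℕ → G) (m r : ℕ) (c : List ℕ) : Prop where
  cl : Cl D
  mem : ∀ i < m, b i ∈ D
  inj : TInj b m
  com : ∀ i < m, ∀ j < m, Commute (b i) (b j)
  rm : r ≤ m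
  code : ∀ i < m, nth 0 c i < 2 ^ r ∧ b i = pr (bl b r) (nth 0 c i)
  card : 2 ^ r ≤ Nat.card (closure (fam b m))
  cent : Nat.card (centralizer (fam b m)) ≤ 2 ^ r
  max : ∀ x ∈ D, (∀ i < m, Commute (b i) x) → x ∈ fam b m

namespace Mod
variable {D : Set G} {b : ℕ → G} {m r : ℕ} {c : List ℕ} (h : Mod D b m r c)
include h

theorem el : El (bl b r) := by
  simp only [El, bl, List.forall_mem_map, List.mem_range]
  exact fun i hi => ⟨h.cl.sq (h.mem i (hi.trans_le h.rm)), fun j hj =>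
    h.com i (hi.trans_le h.rm) j (hj.trans_le h.rm)⟩

theorem prm (v : ℕ) : pr (bl b r) v ∈ closure (fam b m) := pr_mem (by
  simp only [bl, List.forall_mem_map, List.mem_range]
  exact fun i hi => subset_closure ⟨i, hi.trans_le h.rm, rfl⟩) v

theorem surj {a : G} (ha : a ∈ closure (fam b m)) : ∃ v < 2 ^ r, pr (bl b r) v = a := by
  induction ha using closure_induction with
  | mem x hx => obtain ⟨i, hi, rfl⟩ := hx; exact ⟨_, (h.code i hi).1, (h.code i hi).2.symm⟩
  | one => exact ⟨0, Nat.two_pow_pos r, pr_zero _⟩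
  | mul x y _ _ e1 e2 =>
    obtain ⟨u, hu, rfl⟩ := e1
    obtain ⟨v, hv, rfl⟩ := e2
    exact ⟨_, Nat.xor_lt_two_pow hu hv, h.el.xor u v⟩
  | inv x _ e =>
    obtain ⟨u, hu, rfl⟩ := e
    exact ⟨u, hu, eq_inv_of_mul_eq_one_left (h.el.sq u)⟩

theorem image : pr (bl b r) '' Set.Iio (2 ^ r) = closure (fam b m) :=
  Set.ext fun _ => ⟨fun ⟨v, _, e⟩ => e ▸ h.prm v, h.surj⟩

theorem card_eq : Nat.card (closure (fam b m)) = 2 ^ r := le_antisymm (by
  refine le_trans (le_of_eq (congrArg Set.ncard h.image.symm)) ?_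
  simpa using Set.ncard_image_le (f := pr (bl b r)) (Set.finite_Iio (2 ^ r))) h.card

theorem injOn {u v : ℕ} (hu : u < 2 ^ r) (hv : v < 2 ^ r) (e : pr (bl b r) u = pr (bl b r) v) :
    u = v := Set.injOn_of_ncard_image_eq (f := pr (bl b r)) (s := Set.Iio (2 ^ r))
  (by rw [h.image]; exact h.card_eq.trans (by simp)) (Set.finite_Iio _) hu hv e

theorem elem : IsElementaryAbelian 2 (closure (fam b m)) := elem_of_comm
  (by rintro _ ⟨i, hi, rfl⟩ _ ⟨j, hj, rfl⟩; exact h.com i hi j hj)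
  (by rintro _ ⟨i, hi, rfl⟩; rw [pow_two, h.cl.sq (h.mem i hi)])

theorem comA {a : G} (ha : a ∈ closure (fam b m)) {i : ℕ} (hi : i < m) : Commute a (b i) :=
  congrArg Subtype.val (h.elem.1.is_comm.comm ⟨a, ha⟩ ⟨b i, subset_closure ⟨i, hi, rfl⟩⟩)

theorem memA [Finite G] {g : G} (hg : ∀ i < m, Commute g (b i)) : g ∈ closure (fam b m) := by
  rw [eq_of_le_of_card_ge (K := centralizer (fam b m)) ?_ (h.cent.trans h.card)]
  · rintro _ ⟨i, hi, rfl⟩; exact (hg i hi).symm
  · rintro a ha _ ⟨i, hi, rfl⟩; exact (h.comA ha hi).symm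

section
variable {g : G} {σ : List ℕ} (a : InL b m g σ)
include a

theorem mat_eq : mat c r σ = (List.range r).map fun i => nth 0 c (nth 0 σ i) := by
  have := h.rm
  refine List.ext_getElem (by simp [mat, a.1, this]) fun i h1 h2 => ?_
  have h3 : i < σ.length := by simp at h2; rw [a.1]; omega
  simp [mat, nth_eq, List.getD_eq_getElem?_getD, List.getElem?_eq_getElem h3]

theorem act (v : ℕ) : g * pr (bl b r) v * g⁻¹ = pr (bl b r) (app (mat c r σ) v) := by
  rw [pr_conj, ← h.el.app, h.mat_eq a, List.map_map]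
  congr 1
  rw [bl, List.map_map]
  refine List.map_congr_left fun i hi => ?_
  have := a.2 i ((List.mem_range.1 hi).trans_le h.rm)
  exact this.2.trans (h.code _ this.1).2

theorem mat_lt (v : ℕ) : app (mat c r σ) v < 2 ^ r := app_lt (by
  rw [h.mat_eq a, List.forall_mem_map]
  exact fun i hi => (h.code _ (a.2 i ((List.mem_range.1 hi).trans_le h.rm)).1).1) v

theorem dm_len : (dm c m r σ).length = r := by
  simp [dm, h.mat_eq a, h.mat_eq (InL.id (g := 1) fun _ _ => Commute.one_left _)]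

theorem dm_eq (v : ℕ) : app (dm c m r σ) v < 2 ^ r ∧
    pr (bl b r) (app (dm c m r σ) v) = g * pr (bl b r) v * g⁻¹ * pr (bl b r) v := by
  have i1 : InL b m 1 (List.range m) := InL.id fun _ _ => Commute.one_left _
  rw [dm, app_zip (f := Nat.xor) rfl (fun a b a' b' => by
    simp only [Nat.xor_eq]; ac_rfl) (by simp [h.mat_eq a, h.mat_eq i1])]
  refine ⟨Nat.xor_lt_two_pow (h.mat_lt a v) (h.mat_lt i1 v), ?_⟩
  rw [Nat.xor_eq, h.el.xor, ← h.act a, ← h.act i1]; simp

theorem fix {v : ℕ} (e : Commute g (pr (bl b r) v)) : app (dm c m r σ) v = 0 :=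
  h.injOn (h.dm_eq a v).1 (Nat.two_pow_pos r) (by
    rw [(h.dm_eq a v).2, e.eq, mul_inv_cancel_right, h.el.sq, pr_zero])

theorem conjA {x : G} (hx : x ∈ closure (fam b m)) : g * x * g⁻¹ ∈ closure (fam b m) := by
  obtain ⟨v, -, rfl⟩ := h.surj hx
  rw [h.act a]; exact h.prm _

theorem left {x : G} (hx : x ∈ closure (fam b m)) : InL b m (x * g) σ :=
  ⟨a.1, fun i hi => ⟨(a.2 i hi).1, by
    calc _ = x * (g * b i * g⁻¹) * x⁻¹ := by group
      _ = _ := by rw [(a.2 i hi).2, (h.comA hx (a.2 i hi).1).eq, mul_inv_cancel_right]⟩⟩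

theorem DN (hg : g ∈ D) : g ∈ fam b m := h.max g hg fun i hi => by
  by_contra e
  refine h.cl.not_comm_op (h.mem i hi) hg e ?_
  have := (a.2 i hi).2
  rw [h.cl.inv hg] at this
  rw [this]
  exact h.com i hi _ (a.2 i hi).1

end

omit h in
theorem clo [Finite G] {S : Set G} {Γ L : List (List ℕ)} (hS : ∀ g ∈ S, ∃ σ ∈ Γ, InL b m g σ)
    (hc : cloOK m Γ L = true) {g : G} (hg : g ∈ closure S) : ∃ σ ∈ L, InL b m g σ := by
  simp only [cloOK, Bool.and_eq_true, List.any_eq_true, List.all_eq_true, leq_iff, exists_eq_right']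
    at hc
  rw [← mem_toSubmonoid, closure_toSubmonoid_of_finite] at hg
  induction hg using Submonoid.closure_induction_left with
  | one => exact ⟨_, hc.1, InL.id fun _ _ => Commute.one_left _⟩
  | mul_left x hx g _ ih =>
    obtain ⟨σ, h1, h2⟩ := hS x hx
    obtain ⟨π, h3, h4⟩ := ih
    exact ⟨_, hc.2 π h3 σ h1, h2.mul h4⟩

theorem split [Finite G] {S : Set G} {Γ : List (List ℕ)} (hS : ∀ g ∈ S, ∃ σ ∈ Γ, InL b m g σ)
    {g : G} (hg : g ∈ closure (fam b m ∪ S)) :
    ∃ x ∈ closure (fam b m), ∃ k ∈ closure S, g = x * k := by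
  rw [← mem_toSubmonoid, closure_toSubmonoid_of_finite] at hg
  induction hg using Submonoid.closure_induction_left with
  | one => exact ⟨1, one_mem _, 1, one_mem _, by simp⟩
  | mul_left y hy g _ ih =>
    obtain ⟨x, hx, k, hk, rfl⟩ := ih
    rcases hy with hy | hy
    · exact ⟨y * x, mul_mem (subset_closure hy) hx, k, hk, by group⟩
    · obtain ⟨σ, -, a⟩ := hS y hy
      exact ⟨_, h.conjA a hx, y * k, mul_mem (subset_closure hy) hk, by group⟩

theorem inT [Finite G] {S : Set G} {Γ L : List (List ℕ)} (hS : ∀ g ∈ S, ∃ σ ∈ Γ, InL b m g σ)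
    (hc : cloOK m Γ L = true) {g : G} (hg : g ∈ closure (fam b m ∪ S)) :
    ∃ σ ∈ L, InL b m g σ := by
  obtain ⟨x, hx, k, hk, rfl⟩ := h.split hS hg
  obtain ⟨σ, h1, h2⟩ := clo hS hc hk
  exact ⟨σ, h1, h.left h2 hx⟩

theorem ker_le [Finite G] {E : Subgroup G} {M : List ℕ} (hM : M.length = r)
    (H : ∀ v, pr (bl b r) v ∈ E → app M v = 0) :
    {g | g ∈ E ∧ ∀ i < m, Commute g (b i)}.ncard ≤ cnt M 0 := by
  rw [cnt_eq, hM, ← Set.ncard_coe_finset]
  refine le_trans (Set.ncard_le_ncard ?_ (Set.toFinite _))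
    (Set.ncard_image_le (f := pr (bl b r)) (Finset.finite_toSet _))
  intro g hg
  obtain ⟨v, hv, rfl⟩ := h.surj (h.memA hg.2)
  exact ⟨v, by simpa using ⟨hv, H v hg.1⟩, rfl⟩

theorem J [Finite G] {L : List (List ℕ)} {Q : List (List ℕ × List ℕ × ℕ)}
    (h1 : invOK c m r L Q = true) (h2 : pairOK r Q = true) {E : Subgroup G}
    (hE : ∀ g ∈ E, ∃ σ ∈ L, InL b m g σ) (el : IsElementaryAbelian 2 E)
    (hc : 2 ^ r ≤ Nat.card E) : E = closure (fam b m) := by
  simp only [invOK, Bool.and_eq_true, List.any_eq_true, List.all_eq_true, leq_iff, Bool.or_eq_true,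
    Bool.not_eq_true', ← Bool.not_eq_true, Nat.blt_eq] at h1
  have cm : ∀ g ∈ E, ∀ k ∈ E, Commute g k := fun g hg k hk =>
    congrArg Subtype.val (el.1.is_comm.comm ⟨g, hg⟩ ⟨k, hk⟩)
  have hQ : ∀ g ∈ E, InL b m g (List.range m) ∨ ∃ q ∈ Q, InL b m g q.1 := fun g hg => by
    obtain ⟨σ, a1, a2⟩ := hE g hg
    rcases h1.1 σ a1 with (e | rfl) | ⟨q, hq, rfl⟩
    · refine absurd ((a2.mul a2).unique h.inj (InL.id fun _ _ => ?_)) e
      rw [← pow_two, el.2 g hg]; exact Commute.one_left _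
    · exact Or.inl a2
    · exact Or.inr ⟨q, hq, a2⟩
  have hk : ∀ g ∈ E, ∀ q ∈ Q, InL b m g q.1 → ∀ k,
      {g | g ∈ E ∧ ∀ i < m, Commute g (b i)}.ncard ≤ k → Nat.card E ≤ q.2.2 * k :=
    fun g hg q hq a k hk => by
    refine (card_le h.inj (List.range m :: (Q.filter fun p =>
      leq (cmp q.1 p.1) (cmp p.1 q.1)).map Prod.fst) (fun x hx => ?_) hk).trans
      (Nat.mul_le_mul_right _ (by simpa using (h1.2 q hq).2))
    rcases hQ x hx with e | ⟨p, hp, e⟩
    · exact ⟨_, by simp, e⟩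
    · exact ⟨_, List.mem_cons_of_mem _ (List.mem_map_of_mem (List.mem_filter.2 ⟨hp, leq_iff.2
        ((a.mul e).unique h.inj ((cm g hg x hx).eq ▸ e.mul a))⟩)), e⟩
  by_cases c1 : ∀ g ∈ E, InL b m g (List.range m)
  · exact eq_of_le_of_card_ge (fun g hg => h.memA fun i hi => (c1 g hg).comm hi) (h.card_eq ▸ hc)
  exfalso
  push Not at c1
  obtain ⟨g, hg, n1⟩ := c1
  obtain ⟨q, hq, a⟩ := (hQ g hg).resolve_left n1
  by_cases c2 : ∀ x ∈ E, InL b m x (List.range m) ∨ InL b m x q.1
  · have := card_le h.inj [List.range m, q.1] (by simpa using c2)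
      (h.ker_le (h.dm_len a) fun v hv => h.fix a (cm g hg _ hv))
    rw [← (h1.2 q hq).1.1] at this
    exact absurd (hc.trans this) (not_le.2 (h1.2 q hq).1.2)
  push Not at c2
  obtain ⟨x, hx, n2, n3⟩ := c2
  obtain ⟨p, hp, a'⟩ := (hQ x hx).resolve_left n2
  have pw : Q.Pairwise fun q p => q ∈ Q → p ∈ Q → ∀ g ∈ E, ∀ x ∈ E, InL b m g q.1 → InL b m x p.1 →
      False := by
    refine List.Pairwise.imp (R := fun q p => min q.2.2 p.2.2 * cnt (List.zipWith
      (fun a b => a ^^^ (b <<< r)) q.2.1 p.2.1) 0 < 2 ^ r) ?_ ?_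
    · intro q p H hq hp g hg x hx a a'
      rw [(h1.2 q hq).1.1, (h1.2 p hp).1.1] at H
      have := h.ker_le (E := E) (M := List.zipWith (fun a b => a ^^^ (b <<< r)) (dm c m r q.1)
        (dm c m r p.1)) (by simp [h.dm_len a, h.dm_len a']) fun v hv => by
          rw [app_zip (by simp) (fun a b a' b' => by
            rw [Nat.shiftLeft_xor_distrib]; ac_rfl) ((h.dm_len a).trans (h.dm_len a').symm),
            h.fix a (cm g hg _ hv), h.fix a' (cm x hx _ hv)]
          simp
      refine absurd (hc.trans ?_) (not_le.2 H)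
      rcases min_cases q.2.2 p.2.2 with e | e <;> rw [e.1]
      exacts [hk g hg q hq a _ this, hk x hx p hp a' _ this]
    · clear hk hQ h1 hq hp
      induction Q with
      | nil => exact List.Pairwise.nil
      | cons q Q ih =>
        have := (band_eq _ _).1 h2
        exact List.Pairwise.cons (fun p hp => Nat.blt_eq.mp ((lall_eq _ _).1 this.1 p hp)) (ih this.2)
  haveI : Std.Symm fun q p : List ℕ × List ℕ × ℕ => q ∈ Q → p ∈ Q → ∀ g ∈ E, ∀ x ∈ E,
      InL b m g q.1 → InL b m x p.1 → False :=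
    ⟨fun _ _ H hp hq x hx g hg a' a => H hq hp g hg x hx a a'⟩
  exact pw.forall hq hp (fun e => n3 (e ▸ a')) hq hp g hg x hx a a'

end Mod

end Cfsg.Agent.Fischer.JB
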