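import Cfsg.Agent.Fischer.JB
import Cfsg.Agent.Inv.Pairs

/-!
The properties of a base that are used later, and their verification in a context.
-/

set_option autoImplicit false

namespace Cfsg.Agent.Fischer.JB

open Cfsg.Agent.Comp Cfsg.Agent.FiC Subgroup

variable {G : Type*} [Group G]

/-- a base `B` through `x` -/
structure BS (D B : Set G) (x : G) (m r : ℕ) : Prop where
  cl : Cl D
  sub : B ⊆ D
  x0 : x ∈ B
  ncard : B.ncard = m
  elem : IsElementaryAbelian 2 (closure B)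
  card : Nat.card (closure B) = 2 ^ r
  cent : ∀ g, (∀ y ∈ B, Commute g y) → g ∈ closure B
  syl : ∃ T : Sylow 2 G, closure B ≤ T ∧ (∀ y ∈ D, y ∈ T → y ∈ B) ∧
    ∀ E ≤ (T : Subgroup G), IsElementaryAbelian 2 E → 2 ^ r ≤ Nat.card E → E = closure B
  tr : ∀ y ∈ B, ∃ n, (∀ z ∈ B, n * z * n⁻¹ ∈ B) ∧ n * x * n⁻¹ = y
  fus : ∀ Δ : Set G, Δ ⊆ closure B → x ∈ Δ → (∀ g, Commute g x → g * g ∉ Δ) →
    (∀ g, Commute g x → ∀ a ∈ closure B, g * a * g⁻¹ ∈ closure B → (g * a * g⁻¹ ∈ Δ ↔ a ∈ Δ)) →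
    (∀ δ ∈ Δ, {a | a ∈ Δ ∧ a * δ ∈ Δ}.ncard = {a | a ∈ Δ ∧ a * x ∈ Δ}.ncard) →
    Δ = {x} ∨ Δ = B ∨ Δ = insert x ((x * ·) '' (B \ {x}))

/-- a set or nothing -/
noncomputable def opt (β : Bool) (S : Nat) : Nat := @Bool.rec (fun _ => Nat) (nat_lit 0) S β

theorem testBit_opt (β : Bool) (S v : ℕ) : (opt β S).testBit v = (β && S.testBit v) := by
  cases β <;> simp [opt]

/-- the number of members whose product with `t` is a member -/
noncomputable def ft (r M t : Nat) : Nat :=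
  cntP (fun v => band (Nat.testBit M v) (Nat.testBit M (Nat.xor v t))) (Nat.pow (nat_lit 2) r) (nat_lit 0)

/-- the possible unions of orbits -/
noncomputable def fusOK (r O2 O3 O6 O7 O14 : Nat) : Bool :=
  subS (ivl 0 (2 ^ r)) (pt 0 ||| pt 1 ||| O2 ||| O3 ||| O6 ||| O7 ||| O14) &&
  [true, false].all fun β2 => [true, false].all fun β3 => [true, false].all fun β7 =>
    [true, false].all fun β14 => (!β7 && !β14 && !(β2 && β3)) ||
      frc (pt 1 ||| opt β2 O2 ||| opt β3 O3 ||| opt β7 O7 ||| opt β14 O14) fun M =>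
        frc (ft r M 1) fun f => (β14 && ft r M 14 != f) || (β7 && ft r M 7 != f) ||
          (β3 && ft r M 3 != f) || (β2 && ft r M 2 != f)

/-- the set lies in the orbit of `t` -/
noncomputable def orbOK (Ms : List (List Nat)) (t : Nat) (tr : List Nat) (O : Nat) : Bool :=
  subS O (growT Ms Ms.length tr (pt t)) && Nat.testBit O t

/-- conjugate under the normaliser of the family and the centraliser of the first member -/
def Cj (b : ℕ → G) (m r t v : ℕ) : Prop := v < 2 ^ r ∧ ∃ g, Commute g (b 0) ∧ (∃ σ, InL b m g σ) ∧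
  g * pr (bl b r) t * g⁻¹ = pr (bl b r) v

namespace Mod
variable {D : Set G} {b : ℕ → G} {m r : ℕ} {c : List ℕ} (h : Mod D b m r c)
include h

theorem orb {Ms : List (List ℕ)} (h0 : 0 < Ms.length)
    (hM : ∀ M ∈ Ms, ∃ g σ, Commute g (b 0) ∧ InL b m g σ ∧ M = mat c r σ) {t O : ℕ} {tr : List ℕ}
    (ht : t < 2 ^ r) (hc : orbOK Ms t tr O = true) :
    O.testBit t = true ∧ ∀ v, O.testBit v = true → Cj b m r t v := by
  rw [orbOK, Bool.and_eq_true] at hc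
  refine ⟨hc.2, fun v hv => growT_sub h0 ?_ tr (fun w hw => ?_) (subS_iff hc.1 hv)⟩
  · rintro M hm w ⟨-, k, k1, ⟨π, k2⟩, k3⟩
    obtain ⟨g, σ, g1, g2, rfl⟩ := hM M hm
    exact ⟨h.mat_lt g2 w, g * k, g1.mul_left k1, ⟨_, g2.mul k2⟩, by rw [← h.act g2, ← k3]; group⟩
  · rw [testBit_pt, decide_eq_true_iff] at hw
    exact ⟨hw ▸ ht, 1, Commute.one_left _, ⟨_, InL.id fun _ _ => Commute.one_left _⟩, by simp [hw]⟩

theorem fam_iff (hl : c.length = m) {a : G} : a ∈ fam b m ↔ ∃ v ∈ c, pr (bl b r) v = a := by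
  constructor
  · rintro ⟨i, hi, rfl⟩
    refine ⟨_, ?_, (h.code i hi).2.symm⟩
    rw [nth_eq, List.getD_eq_getElem _ _ (hl ▸ hi)]
    exact List.getElem_mem _
  · rintro ⟨v, hv, rfl⟩
    obtain ⟨i, hi, rfl⟩ := List.getElem_of_mem hv
    refine ⟨i, hl ▸ hi, (h.code i (hl ▸ hi)).2.trans ?_⟩
    rw [nth_eq, List.getD_eq_getElem _ _ hi]

theorem bs [Finite G] {c' : List ℕ} (hc : c = 1 :: c') (hl : c.length = m) (r4 : 4 ≤ r)
    (n1 : 1 ∉ c') (c1 : b 1 = pr (bl b r) 2)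
    {S : Set G} {Γ L : List (List ℕ)} {Q : List (List ℕ × List ℕ × ℕ)}
    (hS : ∀ g ∈ S, ∃ σ ∈ Γ, InL b m g σ) (k1 : cloOK m Γ L = true) (k2 : invOK c m r L Q = true)
    (k3 : pairOK r Q = true) (hL : L.length = 2 ^ 7)
    (hT : 2 ^ (7 + r) ≤ Nat.card (closure (fam b m ∪ S))) (hG : ¬ 2 ^ (7 + r + 1) ∣ Nat.card G)
    {O6 O7 O14 : ℕ} (k4 : fusOK r (ptsS c') (ptsS (c'.map (1 ^^^ ·))) O6 O7 O14 = true)
    (hO : ∀ p ∈ [(2, ptsS c'), (3, ptsS (c'.map (1 ^^^ ·))), (6, O6), (7, O7), (14, O14)],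
      p.2.testBit p.1 = true ∧ ∀ v, p.2.testBit v = true → Cj b m r p.1 v)
    (sw : ∃ g, (∃ σ, InL b m g σ) ∧ g * b 0 * g⁻¹ = b 1)
    (sq : ∃ g, Commute g (b 0) ∧ g * g = pr (bl b r) 6) : BS D (fam b m) (b 0) m r := by
  have m0 : 0 < m := by have := h.rm; omega
  have b0 : b 0 = pr (bl b r) 1 := by rw [(h.code 0 m0).2, hc]; rfl
  have lt : ∀ t < 16, t < 2 ^ r := fun t ht =>
    ht.trans_le (Nat.pow_le_pow_right (n := 2) two_pos r4)
  have cfam : ∀ g σ, InL b m g σ → ∀ z ∈ fam b m, g * z * g⁻¹ ∈ fam b m := by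
    rintro g σ a _ ⟨i, hi, rfl⟩; exact ⟨_, (a.2 i hi).1, (a.2 i hi).2.symm⟩
  simp only [List.forall_mem_cons] at hO
  obtain ⟨o2, o3, o6, o7, o14, -⟩ := hO
  refine ⟨h.cl, ?_, ⟨0, m0, rfl⟩, ?_, h.elem, h.card_eq, fun g hg => h.memA fun i hi =>
    hg _ ⟨i, hi, rfl⟩, ?_, fun y hy => ?_, fun Δ d1 d2 d3 d4 d5 => ?_⟩
  · rintro _ ⟨i, hi, rfl⟩; exact h.mem i hi
  · exact (Set.InjOn.ncard_image fun i hi j hj => h.inj i hi j hj).trans (Set.ncard_Iio_nat m)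
  · have := card_le h.inj L (fun g => h.inT hS k1) (k := 2 ^ r) (by
      refine le_trans (Set.ncard_le_ncard (fun g hg => h.memA hg.2)) h.card_eq.le)
    rw [hL, ← pow_add] at this
    obtain ⟨T, hT⟩ := exists_sylow (IsPGroup.of_card (le_antisymm this hT)) hT hG
    refine ⟨T, hT ▸ closure_mono Set.subset_union_left, fun y hy e => ?_, fun E hE => ?_⟩
    · obtain ⟨σ, -, a⟩ := h.inT hS k1 (hT.le e)
      exact h.DN a hy
    · exact h.J k2 k3 fun g hg => h.inT hS k1 (hT ▸ hE hg)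
  · obtain ⟨v, hv, rfl⟩ := (h.fam_iff hl).1 hy
    rw [hc] at hv
    rcases List.mem_cons.1 hv with rfl | hv
    · exact ⟨1, by simp, by simp [b0]⟩
    · obtain ⟨-, g, -, ⟨σ, g1⟩, g2⟩ := o2.2 v ((testBit_ptsS _ _).2 hv)
      obtain ⟨k, ⟨π, k1⟩, k2⟩ := sw
      exact ⟨g * k, cfam _ _ (g1.mul k1), by rw [← g2, ← c1, ← k2]; group⟩
  classical
  have key : ∀ t v, Cj b m r t v → (pr (bl b r) v ∈ Δ ↔ pr (bl b r) t ∈ Δ) := by
    rintro t v ⟨-, g, g1, -, g2⟩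
    rw [← g2]
    exact d4 g g1 _ (h.prm t) (g2 ▸ h.prm v)
  simp only [fusOK, Bool.and_eq_true, List.all_eq_true, frc_eq] at k4
  have k5 := k4.2 (decide (pr (bl b r) 2 ∈ Δ)) (by simp [em]) (decide (pr (bl b r) 3 ∈ Δ))
    (by simp [em]) (decide (pr (bl b r) 7 ∈ Δ)) (by simp [em]) (decide (pr (bl b r) 14 ∈ Δ))
    (by simp [em])
  set M := pt 1 ||| opt (decide (pr (bl b r) 2 ∈ Δ)) (ptsS c') ||| opt (decide (pr (bl b r) 3 ∈ Δ))
    (ptsS (c'.map (1 ^^^ ·))) ||| opt (decide (pr (bl b r) 7 ∈ Δ)) O7 |||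
    opt (decide (pr (bl b r) 14 ∈ Δ)) O14 with hM
  have hM' : ∀ v, M.testBit v = true ↔ 1 = v ∨ pr (bl b r) 2 ∈ Δ ∧ (ptsS c').testBit v = true ∨
      pr (bl b r) 3 ∈ Δ ∧ (ptsS (c'.map (1 ^^^ ·))).testBit v = true ∨
      pr (bl b r) 7 ∈ Δ ∧ O7.testBit v = true ∨ pr (bl b r) 14 ∈ Δ ∧ O14.testBit v = true := by
    intro v
    simp only [hM, Nat.testBit_or, testBit_opt, testBit_pt, Bool.or_eq_true, Bool.and_eq_true,
      decide_eq_true_iff, or_assoc]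
  have mem : ∀ v < 2 ^ r, pr (bl b r) v ∈ Δ ↔ M.testBit v = true := by
    intro v hv
    rw [hM']
    constructor
    · intro e
      have := subS_iff k4.1 (j := v) (by simp [testBit_ivl, hv])
      simp only [Nat.testBit_or, testBit_pt, Bool.or_eq_true, decide_eq_true_iff, or_assoc] at this
      rcases this with rfl | rfl | e1 | e1 | e1 | e1 | e1
      · exact absurd (by simpa [pr_zero] using e) (d3 1 (Commute.one_left _))
      · exact Or.inl rfl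
      · exact Or.inr (Or.inl ⟨(key _ _ (o2.2 v e1)).1 e, e1⟩)
      · exact Or.inr (Or.inr (Or.inl ⟨(key _ _ (o3.2 v e1)).1 e, e1⟩))
      · obtain ⟨g, g1, g2⟩ := sq
        exact absurd (g2 ▸ (key _ _ (o6.2 v e1)).1 e) (d3 g g1)
      · exact Or.inr (Or.inr (Or.inr (Or.inl ⟨(key _ _ (o7.2 v e1)).1 e, e1⟩)))
      · exact Or.inr (Or.inr (Or.inr (Or.inr ⟨(key _ _ (o14.2 v e1)).1 e, e1⟩)))
    · rintro (rfl | e | e | e | e)
      exacts [b0 ▸ d2, (key _ _ (o2.2 v e.2)).2 e.1, (key _ _ (o3.2 v e.2)).2 e.1,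
        (key _ _ (o7.2 v e.2)).2 e.1, (key _ _ (o14.2 v e.2)).2 e.1]
  have cnt : ∀ t < 16, {a | a ∈ Δ ∧ a * pr (bl b r) t ∈ Δ}.ncard = ft r M t := fun t ht => by
    rw [ft, cntP_eq, ← Set.ncard_coe_finset, ← Set.InjOn.ncard_image (f := pr (bl b r))
      fun u hu v hv => h.injOn (by simpa using (Finset.mem_filter.1 hu).1)
        (by simpa using (Finset.mem_filter.1 hv).1)]
    refine Eq.trans (congrArg _ (Set.ext fun a => ⟨fun e => ?_, ?_⟩)) (add_zero _).symm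
    · obtain ⟨v, hv, rfl⟩ := h.surj (d1 e.1)
      refine ⟨v, Finset.mem_filter.2 ⟨Finset.mem_range.2 hv, (band_eq _ _).2 ⟨(mem v hv).1 e.1,
        (mem _ (Nat.xor_lt_two_pow hv (lt t ht))).1 (h.el.xor v t ▸ e.2)⟩⟩, rfl⟩
    · rintro ⟨v, hv, rfl⟩
      obtain ⟨h1, h2⟩ := Finset.mem_filter.1 hv
      have h3 : v < 2 ^ r := Finset.mem_range.1 h1
      rw [band_eq] at h2
      exact ⟨(mem v h3).2 h2.1, h.el.xor v t ▸ (mem _ (Nat.xor_lt_two_pow h3 (lt t ht))).2 h2.2⟩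
  have eq : ∀ t < 16, pr (bl b r) t ∈ Δ → ft r M t = ft r M 1 := fun t ht e => by
    rw [← cnt t ht, ← cnt 1 (by omega), d5 _ e, b0]
  simp only [Bool.or_eq_true, Bool.and_eq_true, Bool.not_eq_true', decide_eq_true_iff,
    decide_eq_false_iff_not, bne_iff_ne, Bool.and_eq_false_iff] at k5
  have k6 : (pr (bl b r) 7 ∉ Δ ∧ pr (bl b r) 14 ∉ Δ) ∧ (pr (bl b r) 2 ∉ Δ ∨ pr (bl b r) 3 ∉ Δ) := by
    rcases k5 with e | ((e | e) | e) | e
    exacts [e, absurd (eq _ (by omega) e.1) e.2, absurd (eq _ (by omega) e.1) e.2,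
      absurd (eq _ (by omega) e.1) e.2, absurd (eq _ (by omega) e.1) e.2]
  have mem' : ∀ a, a ∈ Δ ↔ a = b 0 ∨ pr (bl b r) 2 ∈ Δ ∧ (∃ v ∈ c', pr (bl b r) v = a) ∨
      pr (bl b r) 3 ∈ Δ ∧ ∃ v ∈ c', b 0 * pr (bl b r) v = a := fun a => by
    constructor
    · intro e
      obtain ⟨v, hv, rfl⟩ := h.surj (d1 e)
      rcases (hM' v).1 ((mem v hv).1 e) with rfl | e | e | e | e
      · exact Or.inl b0.symm
      · exact Or.inr (Or.inl ⟨e.1, v, (testBit_ptsS _ _).1 e.2, rfl⟩)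
      · obtain ⟨u, hu, rfl⟩ := List.mem_map.1 ((testBit_ptsS _ _).1 e.2)
        exact Or.inr (Or.inr ⟨e.1, u, hu, by rw [h.el.xor, b0]⟩)
      · exact absurd e.1 k6.1.1
      · exact absurd e.1 k6.1.2
    · rintro (rfl | ⟨e, v, hv, rfl⟩ | ⟨e, v, hv, rfl⟩)
      · exact d2
      · exact (key _ _ (o2.2 v ((testBit_ptsS _ _).2 hv))).2 e
      · rw [b0, ← h.el.xor]
        exact (key _ _ (o3.2 _ ((testBit_ptsS _ _).2 (List.mem_map_of_mem hv)))).2 e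
  by_cases e2 : pr (bl b r) 2 ∈ Δ
  · have e3 := k6.2.resolve_left (not_not.2 e2)
    refine Or.inr (Or.inl (Set.ext fun a => ?_))
    rw [mem', h.fam_iff hl, hc]
    simp [e2, e3, b0, eq_comm]
  by_cases e3 : pr (bl b r) 3 ∈ Δ
  · refine Or.inr (Or.inr (Set.ext fun a => ?_))
    rw [mem', Set.mem_insert_iff]
    refine or_congr_right ⟨?_, ?_⟩
    · rintro (e | ⟨-, v, hv, rfl⟩)
      · exact absurd e.1 e2
      · refine ⟨_, ⟨(h.fam_iff hl).2 ⟨v, by simp [hc, hv], rfl⟩, fun e => n1 ?_⟩, rfl⟩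
        rwa [← h.injOn (o2.2 v ((testBit_ptsS _ _).2 hv)).1 (lt 1 (by omega)) (e.trans b0)]
    · rintro ⟨y, ⟨h1, h2⟩, rfl⟩
      obtain ⟨v, hv, rfl⟩ := (h.fam_iff hl).1 h1
      rw [hc] at hv
      exact Or.inr ⟨e3, v, (List.mem_cons.1 hv).resolve_left fun e => h2 (e ▸ b0.symm), rfl⟩
  · exact Or.inl (Set.ext fun a => by rw [mem']; simp [e2, e3])

/-- no square is a transposition when the Sylow subgroup splits over the base group -/
theorem nsq [Finite G] (hD : ∀ g : G, ∀ x ∈ D, g * x * g⁻¹ ∈ D) (hl : c.length = m)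
    {S : Set G} {Γ L : List (List ℕ)} {Q : List (List ℕ × List ℕ × ℕ)}
    (hS : ∀ g ∈ S, ∃ σ ∈ Γ, InL b m g σ) (k1 : cloOK m Γ L = true) (k2 : invOK c m r L Q = true)
    (hL : L.length = 2 ^ 7)
    (hT : 2 ^ (7 + r) ≤ Nat.card (closure (fam b m ∪ S))) (hG : ¬ 2 ^ (7 + r + 1) ∣ Nat.card G)
    (hK : ∀ g ∈ closure S, (∀ i < m, Commute g (b i)) → g = 1)
    (k3 : (Q.all fun q => c.all fun v => Nat.beq (JB.cnt q.2.1 v) 0) = true) (g : G) : g * g ∉ D := by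
  intro hg
  have := card_le h.inj L (fun g => h.inT hS k1) (k := 2 ^ r) (by
    refine le_trans (Set.ncard_le_ncard (fun g hg => h.memA hg.2)) h.card_eq.le)
  rw [hL, ← pow_add] at this
  obtain ⟨T, hT⟩ := exists_sylow (IsPGroup.of_card (le_antisymm this hT)) hT hG
  obtain ⟨t, ht⟩ := Inv.exists_conj_le_sylow T (Inv.isPGroup_zpowers_of_pow (p := 2) (k := 2) (t := g)
    (by rw [← h.cl.sq hg]; simp [pow_succ, mul_assoc]))
  have h1 : t * g * t⁻¹ ∈ closure (fam b m ∪ S) := hT ▸ ht g (mem_zpowers g)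
  have h2 : t * g * t⁻¹ * (t * g * t⁻¹) ∈ D := by
    convert hD t _ hg using 1; group
  obtain ⟨π, -, a0⟩ := h.inT hS k1 (mul_mem h1 h1)
  have h3 := h.DN a0 h2
  obtain ⟨x, hx, k, hk, e⟩ := h.split hS h1
  rw [e] at h2 h3
  obtain ⟨σ, s1, a⟩ := clo hS k1 hk
  have e1 : x * k * (x * k) = x * (k * x * k⁻¹) * (k * k) := by group
  have h4 : k * k = 1 := hK _ (mul_mem hk hk) fun i hi => h.comA (by
    have := mul_mem (inv_mem (mul_mem hx (h.conjA a hx))) (e1 ▸ subset_closure h3)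
    rwa [inv_mul_cancel_left] at this) hi
  obtain ⟨v, hv, rfl⟩ := h.surj hx
  have e3 : pr (bl b r) v * (k * pr (bl b r) v * k⁻¹) = k * pr (bl b r) v * k⁻¹ * pr (bl b r) v :=
    congrArg Subtype.val (h.elem.1.is_comm.comm ⟨_, hx⟩ ⟨_, h.conjA a hx⟩)
  rw [e1, h4, mul_one, e3, ← (h.dm_eq a v).2] at h2 h3
  obtain ⟨w, hw, e2⟩ := (h.fam_iff hl).1 h3
  simp only [invOK, Bool.and_eq_true, List.any_eq_true, List.all_eq_true, leq_iff, Bool.or_eq_true,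
    Bool.not_eq_true', ← Bool.not_eq_true, Nat.blt_eq, Nat.beq_eq] at k2 k3
  rcases k2.1 σ s1 with (e | rfl) | ⟨q, hq, rfl⟩
  · exact e ((a.mul a).unique h.inj (InL.id fun _ _ => h4 ▸ Commute.one_left _))
  · rw [hK k hk fun i hi => a.comm hi] at a
    rw [h.fix a (Commute.one_left _), pr_zero] at h2
    exact tt_ne_one h.cl.tt h2 rfl
  · have := k3 q hq w hw
    rw [cnt_eq, (k2.2 q hq).1.1, h.dm_len a, Finset.card_eq_zero, Finset.filter_eq_empty_iff] at this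
    obtain ⟨i, hi, rfl⟩ := List.getElem_of_mem hw
    refine this (Finset.mem_range.2 hv) (h.injOn (h.dm_eq a v).1 ?_ e2.symm)
    have := (h.code i (hl ▸ hi)).1
    rwa [nth_eq, List.getD_eq_getElem _ _ hi] at this

end Mod

end Cfsg.Agent.Fischer.JB
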