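import Cfsg.Agent.Fischer.JC
import Cfsg.Agent.FiC.Tup

/-!
Verification of a base in a context.
-/

set_option autoImplicit false

namespace Cfsg.Agent.Fischer.JB

open Cfsg.Agent.Comp Cfsg.Agent.FiC Subgroup

variable {G : Type*} [Group G]

/-- the word for a bit vector -/
def prW : List (List ℕ) → ℕ → List ℕ
  | [], _ => []
  | w :: l, v => (if v % 2 = 1 then w else []) ++ prW l (v / 2)

theorem E_prW (s : ℕ → G) (l : List (List ℕ)) (v : ℕ) : E s (prW l v) = pr (l.map (E s)) v := by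
  induction l generalizing v with
  | nil => rfl
  | cons w l ih =>
    rw [prW, E, ev_append, List.map_cons, pr, ← ih]
    rcases Nat.mod_two_eq_zero_or_one v with e | e <;> simp [e]

theorem bl_vals (s : ℕ → G) {W : List (List ℕ)} {r : ℕ} (h : r ≤ W.length) :
    bl (vals s W) r = (W.take r).map (E s) := by
  refine List.ext_getElem (by simp [bl, h]) fun i h1 h2 => ?_
  have h3 : i < W.length := by simp [bl] at h1; omega
  simp [bl, vals, nth_eq, List.getD_eq_getElem?_getD, List.getElem?_eq_getElem h3]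

theorem fam_vals (s : ℕ → G) (W : List (List ℕ)) :
    fam (vals s W) W.length = {g | g ∈ W.map (E s)} := by
  ext g
  constructor
  · rintro ⟨i, hi, rfl⟩; exact List.mem_map_of_mem (nth_mem_list hi)
  · intro hg
    obtain ⟨w, hw, rfl⟩ := List.mem_map.1 hg
    obtain ⟨i, hi, rfl⟩ := List.getElem_of_mem hw
    exact ⟨i, hi, by rw [vals, nth_eq, List.getD_eq_getElem _ _ hi]⟩

/-- the word permutes the members as the list says -/
noncomputable def inOK (d : Dat) (W : List (List Nat)) (p : List Nat × List Nat) : Bool :=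
  Nat.beq p.2.length W.length && (List.range W.length).all fun i => Nat.blt (nth 0 p.2 i) W.length &&
    d.into p.1 [nth [] W i] [nth [] W (nth 0 p.2 i)]

theorem inL_of {τ s : ℕ → G} {M : Subgroup G} {d : Dat} (x : Cx τ s M d) {W : List (List ℕ)}
    {p : List ℕ × List ℕ} (h : inOK d W p = true) : InL (vals s W) W.length (E s p.1) p.2 := by
  simp only [inOK, Bool.and_eq_true, List.all_eq_true, List.mem_range, Nat.beq_eq, Nat.blt_eq] at h
  exact ⟨h.1, fun i hi => ⟨(h.2 i hi).1, by simpa [vals] using x.into (h.2 i hi).2⟩⟩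

/-- the checks of the model -/
noncomputable def modOK (d : Dat) (W : List (List Nat)) (r : Nat) (c : List Nat) : Bool :=
  Nat.ble r W.length && d.clique W (ivl (nat_lit 0) d.m) &&
    ((List.range W.length).all fun i => Nat.blt (nth 0 c i) (2 ^ r)) &&
    d.eqs ((List.range W.length).map fun i => (nth [] W i, prW (W.take r) (nth 0 c i))) &&
    d.ev W (comSE W.length) fun S => Nat.beq S 0

variable {D : Set G} {τ s : ℕ → G} {d : Dat} {n : ℕ}

theorem mod_of (b : Base D τ s d n) (hD : Cl D) {W : List (List ℕ)} {r : ℕ} {c : List ℕ}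
    (h : modOK d W r c = true) (ge : GE s W (2 ^ r)) (cu : CU ⊤ s W (2 ^ r)) :
    Mod D (vals s W) W.length r c := by
  simp only [modOK, Bool.and_eq_true, List.all_eq_true, List.mem_range, Nat.ble_eq, Nat.blt_eq] at h
  obtain ⟨⟨⟨⟨h1, h2⟩, h3⟩, h4⟩, h5⟩ := h
  obtain ⟨a1, a2, a3⟩ := b.clq_facts W h2 1
  simp only [one_mul, inv_one, mul_one] at a1 a2 a3
  have m : ∀ i < W.length, vals s W i ∈ W.map (E s) := fun i hi =>
    List.mem_map_of_mem (nth_mem_list hi)
  refine ⟨hD, fun i hi => a2 _ (m i hi), fun i hi j hj e => ?_, fun i hi j hj =>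
    a3 _ (m i hi) _ (m j hj), h1, fun i hi => ⟨h3 i hi, ?_⟩, ?_, ?_, fun x hx H => ?_⟩
  · refine (List.Nodup.getElem_inj_iff a1 (hi := by simpa using hi) (hj := by simpa using hj)).1 ?_
    simpa [vals, nth_eq, List.getD_eq_getElem?_getD, hi, hj] using e
  · rw [bl_vals s h1, ← E_prW]
    exact b.x.eqs h4 _ (List.mem_map_of_mem (List.mem_range.2 hi))
  · rwa [fam_vals, ← genW_closure]
  · rwa [fam_vals, ← Cen_top]
  · by_contra hn
    obtain ⟨j, hj, rfl⟩ := (b.mem x).1 hx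
    obtain ⟨S, e1, -, e2⟩ := b.x.ev h5
    have := (e2 j hj).2 ((sem_comSE _ _ _ _ _).2 fun i hi => ⟨H i hi, fun e => hn ⟨i, hi, e.symm⟩⟩)
    simp [Nat.eq_of_beq_eq_true e1] at this

theorem gens_of (b : Base D τ s d n) {W : List (List ℕ)} {Γ : List (List ℕ × List ℕ)}
    (h : Γ.all (inOK d W) = true) : ∀ g ∈ {g | g ∈ (Γ.map Prod.fst).map (E s)},
      ∃ σ ∈ Γ.map Prod.snd, InL (vals s W) W.length g σ := by
  intro g hg
  simp only [Set.mem_setOf_eq, List.map_map, List.mem_map] at hg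
  obtain ⟨p, hp, rfl⟩ := hg
  exact ⟨_, List.mem_map_of_mem hp, inL_of b.x (List.all_eq_true.1 h p hp)⟩

theorem ge_of [Finite G] {W V U : List (List ℕ)} {k : ℕ} (ge : GE s U k)
    (h : (U.all fun u => (W ++ V).any (leq u)) = true) :
    k ≤ Nat.card (closure (fam (vals s W) W.length ∪ {g | g ∈ V.map (E s)})) := by
  simp only [List.all_eq_true, List.any_eq_true, leq_iff, exists_eq_right', List.mem_append] at h
  refine le_trans ge (card_le_of_le (genW_le.2 fun w hw => subset_closure ?_))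
  rw [fam_vals]
  exact (h w hw).imp List.mem_map_of_mem List.mem_map_of_mem

/-- the checks of the base -/
noncomputable def bsOK (d : Dat) (W : List (List Nat)) (r : Nat) (c' : List Nat)
    (H : List (List Nat × List Nat)) (Ms : List (List Nat)) (sw : List Nat × List Nat)
    (q : List Nat) : Bool :=
  Nat.beq (c'.length + 1) W.length && Nat.ble 4 r && !c'.contains 1 && Nat.beq (nth 0 c' 0) 2 &&
    H.all (fun p => inOK d W p && Nat.beq (nth 0 p.2 0) 0) && Nat.blt 0 Ms.length &&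
    Ms.all (fun M => H.any fun p => leq M (mat (1 :: c') r p.2)) && inOK d W sw &&
    Nat.beq (nth 0 sw.2 0) 1 &&
    d.eqs [(q ++ nth [] W 0, nth [] W 0 ++ q), (q ++ q, prW (W.take r) 6)]

theorem bs_of [Finite G] (b : Base D τ s d n) {W : List (List ℕ)} {r : ℕ} {c' : List ℕ}
    (h : Mod D (vals s W) W.length r (1 :: c')) {Γ H : List (List ℕ × List ℕ)}
    {L Ms : List (List ℕ)} {Q : List (List ℕ × List ℕ × ℕ)} {sw : List ℕ × List ℕ} {q : List ℕ}
    (k0 : Γ.all (inOK d W) = true) (k1 : cloOK W.length (Γ.map Prod.snd) L = true)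
    (k2 : invOK (1 :: c') W.length r L Q = true) (k3 : pairOK r Q = true) (hL : L.length = 2 ^ 7)
    (hT : 2 ^ (7 + r) ≤
      Nat.card (closure (fam (vals s W) W.length ∪ {g | g ∈ (Γ.map Prod.fst).map (E s)})))
    (hG : ¬ 2 ^ (7 + r + 1) ∣ n) {O6 O7 O14 : ℕ}
    (k4 : fusOK r (ptsS c') (ptsS (c'.map (1 ^^^ ·))) O6 O7 O14 = true)
    (k5 : bsOK d W r c' H Ms sw q = true) {t2 t3 t6 t7 t14 : List ℕ}
    (k6 : (orbOK Ms 2 t2 (ptsS c') && orbOK Ms 3 t3 (ptsS (c'.map (1 ^^^ ·))) && orbOK Ms 6 t6 O6 &&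
      orbOK Ms 7 t7 O7 && orbOK Ms 14 t14 O14) = true) :
    BS D (fam (vals s W) W.length) (vals s W 0) W.length r := by
  simp only [bsOK, Bool.and_eq_true, List.all_eq_true, List.any_eq_true, Nat.ble_eq, Nat.blt_eq,
    Nat.beq_eq, leq_iff, Bool.not_eq_true', List.contains_eq_mem, decide_eq_false_iff_not] at k5 k6
  obtain ⟨⟨⟨⟨⟨⟨⟨⟨⟨a1, a2⟩, a3⟩, a4⟩, a5⟩, a6⟩, a7⟩, a8⟩, a9⟩, a10⟩ := k5
  have rm := h.rm
  have lt : ∀ t < 16, t < 2 ^ r := fun t ht =>
    ht.trans_le (Nat.pow_le_pow_right (n := 2) two_pos a2)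
  have hM : ∀ M ∈ Ms, ∃ g σ, Commute g (vals s W 0) ∧ InL (vals s W) W.length g σ ∧
      M = mat (1 :: c') r σ := fun M hm => by
    obtain ⟨p, hp, e⟩ := a7 M hm
    have a := inL_of b.x (a5 p hp).1
    have := (a.2 0 (by omega)).2
    rw [(a5 p hp).2] at this
    exact ⟨_, _, mul_inv_eq_iff_eq_mul.1 this, a, e⟩
  have a := inL_of b.x a8
  refine h.bs rfl a1 a2 a3 ((h.code 1 (by omega)).2.trans (congrArg _ a4)) (gens_of b k0) k1 k2 k3 hL
    hT (b.card ▸ hG) k4 ?_ ⟨_, ⟨_, a⟩, a9 ▸ (a.2 0 (by omega)).2⟩ ⟨E s q, ?_, ?_⟩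
  · simp only [List.forall_mem_cons]
    exact ⟨h.orb a6 hM (lt _ (by omega)) k6.1.1.1.1, h.orb a6 hM (lt _ (by omega)) k6.1.1.1.2,
      h.orb a6 hM (lt _ (by omega)) k6.1.1.2, h.orb a6 hM (lt _ (by omega)) k6.1.2,
      h.orb a6 hM (lt _ (by omega)) k6.2, by simp⟩
  · simpa [Commute, SemiconjBy, vals] using b.x.eqs a10 _ List.mem_cons_self
  · rw [bl_vals s rm, ← E_prW]
    simpa using b.x.eqs a10 _ (List.mem_cons_of_mem _ List.mem_cons_self)

end Cfsg.Agent.Fischer.JB
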