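import Cfsg.Agent.Fischer.JC
import Cfsg.Agent.Fischer.PM
import Cfsg.Agent.Transfer.ThompsonJ

/-!
Consequences of the existence of a base: fusion of an involution whose centraliser is that of a
transposition.
-/

set_option autoImplicit false

namespace Cfsg.Agent.Fischer.JB

open Subgroup Cfsg.Agent.Transfer

variable {G G' : Type*} [Group G] [Group G']

theorem thompson_of {P A : Subgroup G} {k : ℕ} (h1 : A ≤ P) (h2 : IsElementaryAbelian 2 A)
    (h3 : Nat.card A = k) (h4 : ∀ E ≤ P, IsElementaryAbelian 2 E → k ≤ Nat.card E → E = A) :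
    thompsonSubgroupOf 2 P = A :=
  le_antisymm (thompsonSubgroupOf_le_iff.2 fun E hE =>
    (h4 E hE.1 hE.2.1 (h3 ▸ hE.2.2 A h1 h2)).le) (le_thompsonSubgroupOf ⟨h1, h2, fun E e1 e2 =>
      (le_total _ _).elim id fun e => (h4 E e1 e2 (h3 ▸ e)) ▸ le_rfl⟩)

namespace BS
variable [Finite G] {D B : Set G} {x : G} {m r : ℕ} (h : BS D B x m r)
  (hc : ∀ g : G, ∀ y ∈ D, g * y * g⁻¹ ∈ D)
include h

theorem com {a b : G} (ha : a ∈ closure B) (hb : b ∈ closure B) : Commute a b := ea_comm h.elem ha hb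

theorem fix {g : G} (hg : g * x * g⁻¹ ∈ B) : ∃ k, Commute k x ∧ ∀ y,
    (g * y * g⁻¹ ∈ B ↔ k * y * k⁻¹ ∈ B) ∧ (g * y * g⁻¹ ∈ closure B ↔ k * y * k⁻¹ ∈ closure B) := by
  obtain ⟨n, n1, n2⟩ := h.tr _ hg
  have n3 := inv_mem (mem_normalizer_fintype n1)
  refine ⟨n⁻¹ * g, ?_, fun y => ?_⟩
  · show _ = _
    rw [← mul_inv_eq_iff_eq_mul, mul_assoc, mul_assoc, mul_inv_rev, ← mul_assoc x, ← mul_assoc g,
      ← mul_assoc g, ← n2]
    group
  · rw [show n⁻¹ * g * y * (n⁻¹ * g)⁻¹ = n⁻¹ * (g * y * g⁻¹) * n⁻¹⁻¹ by group]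
    exact ⟨mem_set_normalizer_iff.1 n3 _,
      mem_normalizer_iff.1 (normalizer_le_normalizer_closure B n3) _⟩

include hc

theorem clique {Z : Set G} (h1 : Z ⊆ D) (h2 : ∀ a ∈ Z, ∀ b ∈ Z, Commute a b) (h3 : x ∈ Z) :
    ∃ k, Commute k x ∧ ∀ z ∈ Z, k * z * k⁻¹ ∈ B := by
  obtain ⟨T, -, t2, -⟩ := h.syl
  obtain ⟨g, hg⟩ := Inv.exists_conj_le_sylow T (ea_isPGroup (FiC.elem_of_comm h2
    fun a ha => (pow_two a).trans (h.cl.sq (h1 ha))))
  have := fun z hz => t2 _ (hc g z (h1 hz)) (hg z (subset_closure hz))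
  obtain ⟨k, k1, k2⟩ := h.fix (this x h3)
  exact ⟨k, k1, fun z hz => (k2 z).1.1 (this z hz)⟩

theorem ea {E : Subgroup G} (h1 : ∀ a ∈ E, Commute a x) (h2 : IsElementaryAbelian 2 E)
    (h3 : 2 ^ r ≤ Nat.card E) : ∃ k, Commute k x ∧ ∀ a, a ∈ E ↔ k * a * k⁻¹ ∈ closure B := by
  obtain ⟨T, t1, t2, t3⟩ := h.syl
  obtain ⟨g, hg⟩ := Inv.exists_conj_le_sylow T (ea_isPGroup h2)
  have e := t3 (E.map (MulAut.conj g).toMonoidHom) (by rintro _ ⟨a, ha, rfl⟩; exact hg a ha)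
    (ea_map h2 _) (by rwa [card_map_of_injective (MulAut.conj g).injective])
  have e' : ∀ a, a ∈ E ↔ g * a * g⁻¹ ∈ closure B := fun a => by
    rw [← e]; exact (mem_map_iff_mem (MulAut.conj g).injective).symm
  obtain ⟨k, k1, k2⟩ := h.fix (t2 _ (hc g x (h.sub h.x0)) (t1 (h.cent _ fun y hy => by
    obtain ⟨a, ha, rfl⟩ := e.ge (subset_closure hy)
    exact (commute_conj_iff _ _ _).2 (h1 a ha).symm)))
  exact ⟨k, k1, fun a => (e' a).trans (k2 a).2⟩

/-- the conjugates of `d` in its centraliser -/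
theorem fusion [Finite G'] (nsq : ∀ g, g * g ≠ x)
    (inv : ∀ u, u * u = 1 → Commute u x →
      ∃ Z ⊆ D, (∀ a ∈ Z, ∀ b ∈ Z, Commute a b) ∧ x ∈ Z ∧ u ∈ closure Z)
    (cen : ∀ g, Commute g x → g ∈ closure (loc D x)) {H : Subgroup G}
    (hH : ∀ g, g ∈ H ↔ Commute g x) {d : G'} (ι : H →* G') (hι : Function.Injective ι)
    (hr : ∀ g, Commute g d → g ∈ ι.range) (hx : ∀ z : H, z.1 = x → ι z = d)
    (hn : ∃ g, Commute (g * d * g⁻¹) d ∧ g * d * g⁻¹ ≠ d) :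
    ∃ θ, FI (loc D x) (loc (conjugatesOf d) d) θ ∧
      ∀ g, Commute g d → g ∈ closure (insert d (loc (conjugatesOf d) d)) := by
  classical
  let φ : G → G' := fun g => if h : g ∈ H then ι ⟨g, h⟩ else 1
  have φι : ∀ g : H, φ g = ι g := fun g => dif_pos g.2
  have mul : ∀ {a b}, a ∈ H → b ∈ H → φ (a * b) = φ a * φ b := fun ha hb =>
    (φι (⟨_, ha⟩ * ⟨_, hb⟩)).trans ((map_mul ..).trans (by rw [← φι, ← φι]))
  have cj : ∀ {a b}, a ∈ H → b ∈ H → φ (a * b * a⁻¹) = φ a * φ b * (φ a)⁻¹ := fun ha hb =>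
    (φι (⟨_, ha⟩ * ⟨_, hb⟩ * ⟨_, ha⟩⁻¹)).trans (by rw [map_mul, map_mul, map_inv, ← φι, ← φι])
  have inj : ∀ {a b}, a ∈ H → b ∈ H → φ a = φ b → a = b := fun ha hb e =>
    congrArg Subtype.val (hι ((φι ⟨_, ha⟩).symm.trans (e.trans (φι ⟨_, hb⟩))))
  have surj : ∀ {g}, Commute g d → ∃ a ∈ H, φ a = g := fun hg => by
    obtain ⟨a, rfl⟩ := hr _ hg
    exact ⟨a, a.2, φι a⟩
  have xH : x ∈ H := (hH x).2 rfl
  have xD := h.sub h.x0
  have φx : φ x = d := (φι ⟨x, xH⟩).trans (hx _ rfl)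
  have φ1 : φ 1 = 1 := (φι 1).trans ι.map_one
  have cd : ∀ {a}, a ∈ H → Commute (φ a) d := fun ha => by
    show _ = _
    rw [← φx, ← mul ha xH, ← mul xH ha, ((hH _).1 ha).eq]
  have AH : closure B ≤ H := fun a ha => (hH a).2 (h.com ha (subset_closure h.x0))
  have d2 : d * d = 1 := by rw [← φx, ← mul xH xH, h.cl.sq xD, φ1]
  set X := conjugatesOf d
  have Xc : ∀ g y, g * y * g⁻¹ ∈ X ↔ y ∈ X := fun g y =>
    ⟨fun e => IsConj.trans e (isConj_iff.2 ⟨g, rfl⟩).symm, fun e => e.trans (isConj_iff.2 ⟨g, rfl⟩)⟩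
  have into : ∀ u ∈ H, φ u ∈ X → ∃ k ∈ H, k * u * k⁻¹ ∈ closure B := fun u hu e => by
    obtain ⟨Z, z1, z2, z3, z4⟩ := inv u (inj (mul_mem hu hu) (one_mem _) (by
      rw [mul hu hu, φ1, conjugatesOf_sq' d2 e])) ((hH u).1 hu)
    obtain ⟨k, k1, k2⟩ := h.clique hc z1 z2 z3
    refine ⟨k, (hH k).2 k1, (closure_le ((closure B).comap (MulAut.conj k).toMonoidHom)).2
      (fun z hz => subset_closure (k2 z hz)) z4⟩
  have key := h.fus {a | a ∈ closure B ∧ φ a ∈ X} (fun _ e => e.1)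
    ⟨subset_closure h.x0, φx ▸ IsConj.refl _⟩ (fun g hg e => by
      have gH := (hH g).2 hg
      obtain ⟨c, hc⟩ := isConj_iff.1 e.2
      rw [mul gH gH] at hc
      have e1 : c⁻¹ * φ g * c * (c⁻¹ * φ g * c) = d := by
        rw [show d = c⁻¹ * (c * d * c⁻¹) * c by group, hc]; group
      obtain ⟨a, ha, e2⟩ := surj (g := c⁻¹ * φ g * c) (e1 ▸ (Commute.refl _).mul_right rfl)
      exact nsq a (inj (mul_mem ha ha) xH (by rw [mul ha ha, e2, e1, φx])))
    (fun g hg a ha e => by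
      simp only [Set.mem_setOf_eq, ha, e, true_and, cj ((hH g).2 hg) (AH ha), Xc])
    (fun δ hδ => by
      obtain ⟨c, e0⟩ := isConj_iff.1 hδ.2
      let A' := ((closure B).subgroupOf H).map ι
      have mA : ∀ y, y ∈ A' ↔ ∃ a ∈ closure B, φ a = y := fun y =>
        ⟨fun ⟨a, h1, h2⟩ => ⟨a, h1, (φι a).trans h2⟩, fun ⟨a, h1, h2⟩ =>
          ⟨⟨a, AH h1⟩, h1, (φι _).symm.trans h2⟩⟩
      have cnt : ∀ t ∈ closure B, {a | a ∈ {a | a ∈ closure B ∧ φ a ∈ X} ∧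
          a * t ∈ {a | a ∈ closure B ∧ φ a ∈ X}}.ncard =
          {y | y ∈ A' ∧ y ∈ X ∧ y * φ t ∈ X}.ncard := fun t ht => by
        rw [← Set.InjOn.ncard_image (f := φ) fun a ha b hb => inj (AH ha.1.1) (AH hb.1.1)]
        congr 1
        ext y
        constructor
        · rintro ⟨a, ⟨h1, h2⟩, rfl⟩
          exact ⟨(mA _).2 ⟨a, h1.1, rfl⟩, h1.2, mul (AH h1.1) (AH ht) ▸ h2.2⟩
        · rintro ⟨h1, h2, h3⟩
          obtain ⟨a, ha, rfl⟩ := (mA y).1 h1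
          exact ⟨a, ⟨⟨ha, h2⟩, mul_mem ha ht, (mul (AH ha) (AH ht)).symm ▸ h3⟩, rfl⟩
      let ψ := (MulAut.conj c).toMonoidHom.comp ι
      have hψ : Function.Injective ψ := (MulAut.conj c).injective.comp hι
      have e1 : (A'.comap ψ).map ψ = A' := map_comap_eq_self fun y hy => by
        obtain ⟨a, ha, rfl⟩ := (mA y).1 hy
        obtain ⟨z, hz⟩ := hr (c⁻¹ * φ a * c) (by
          have : Commute (φ δ) (φ a) := by
            show _ = _
            rw [← mul (AH ha) (AH hδ.1), ← mul (AH hδ.1) (AH ha), (h.com ha hδ.1).eq]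
          rw [← e0, commute_conj_left_iff] at this
          exact this.symm)
        exact ⟨z, by simp [ψ, hz, mul_assoc]⟩
      obtain ⟨k, k1, k2⟩ := h.ea hc (E := (A'.comap ψ).map H.subtype)
        (by rintro _ ⟨a, -, rfl⟩; exact (hH _).1 a.2)
        (ea_map (ea_of_map ψ (by rw [(MonoidHom.ker_eq_bot_iff ψ).2 hψ, inf_bot_eq])
          (e1.symm ▸ ea_map (ea_of_map H.subtype (by simp)
            (by rw [map_subgroupOf_eq_of_le AH]; exact h.elem)) ι)) _)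
        (by rw [card_map_of_injective H.subtype_injective, ← card_map_of_injective hψ, e1,
          card_map_of_injective hι, ← card_map_of_injective H.subtype_injective,
          map_subgroupOf_eq_of_le AH, h.card])
      have kH := (hH k).2 k1
      have e2 : c * (φ k)⁻¹ * d * (c * (φ k)⁻¹)⁻¹ = φ δ := by
        rw [← e0, mul_assoc c, (cd kH).inv_left.eq]; group
      have e3 : ∀ y, y ∈ A' ↔ c * (φ k)⁻¹ * y * (c * (φ k)⁻¹)⁻¹ ∈ A' := by
        refine mem_normalizer_iff.1 (mem_normalizer_fintype fun y hy => ?_)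
        obtain ⟨a, ha, rfl⟩ := (mA y).1 hy
        obtain ⟨z, z1, z2⟩ := (k2 (k⁻¹ * a * k)).2 (by simpa [mul_assoc] using ha)
        have z3 : φ a = φ k * ι z * (φ k)⁻¹ := by
          rw [← φι, ← cj kH z.2, show z.1 = k⁻¹ * a * k from z2]; congr 1; group
        convert z1 using 1
        simp [ψ, z3, mul_assoc]
      rw [cnt δ hδ.1, cnt x (subset_closure h.x0), φx, ← e2,
        ← Set.ncard_image_of_injective _ (MulAut.conj (c * (φ k)⁻¹)).symm.injective]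
      congr 1
      ext y
      refine (Set.ext_iff.1 ((MulAut.conj (c * (φ k)⁻¹)).symm.toEquiv.image_eq_preimage_symm _)
        y).trans ?_
      show c * (φ k)⁻¹ * y * (c * (φ k)⁻¹)⁻¹ ∈ A' ∧ c * (φ k)⁻¹ * y * (c * (φ k)⁻¹)⁻¹ ∈ X ∧
        c * (φ k)⁻¹ * y * (c * (φ k)⁻¹)⁻¹ * (c * (φ k)⁻¹ * d * (c * (φ k)⁻¹)⁻¹) ∈ X ↔ _
      rw [← e3, Xc, conj_mul, Xc]; rfl)
  have lH : ∀ {y}, y ∈ loc D x → y ∈ H := fun hy => (hH _).2 hy.2.2.symm
  have toB : ∀ {y}, y ∈ loc D x → ∃ k ∈ H, k * y * k⁻¹ ∈ B \ {x} := fun {y} hy => by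
    obtain ⟨k, k1, k2⟩ := h.clique hc (Z := {x, y}) (by simpa [Set.insert_subset_iff, xD] using hy.1)
      (by simpa using ⟨hy.2.2, hy.2.2.symm⟩) (by simp)
    refine ⟨k, (hH k).2 k1, k2 y (by simp), fun e => hy.2.1 ?_⟩
    rw [Set.mem_singleton_iff, mul_inv_eq_iff_eq_mul, ← k1.eq, mul_right_inj] at e
    exact e
  have fin : ∀ ε ∈ ({1, x} : Set G), (∀ a, a ≠ x → (a ∈ closure B ∧ φ a ∈ X ↔ ε * a ∈ B \ {x})) →
      FI (loc D x) (loc X d) (fun y => φ (ε * y)) ∧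
        ∀ g, Commute g d → g ∈ closure (insert d (loc X d)) := fun ε hε H1 => by
    have ε2 : ∀ a, ε * (ε * a) = a := fun a => by
      rcases hε with rfl | rfl
      exacts [by simp, h.cl.cancel xD a]
    have εc : ∀ {a}, a ∈ H → Commute a ε := fun ha => by
      rcases hε with rfl | rfl
      exacts [Commute.one_right _, (hH _).1 ha]
    have εH : ε ∈ H := by
      rcases hε with rfl | rfl
      exacts [one_mem _, xH]
    have εk : ∀ {k}, k ∈ H → ∀ a, k * (ε * a) * k⁻¹ = ε * (k * a * k⁻¹) := fun hk a => by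
      rw [← mul_assoc, (εc hk).eq]; group
    have εx : ∀ {y}, y ∈ loc D x → ε * y ≠ x := fun hy e => by
      rcases hε with rfl | rfl
      · exact hy.2.1 (by simpa using e)
      · exact tt_ne_one h.cl.tt hy.1 (by simpa using e)
    have bij : Set.BijOn (fun y => φ (ε * y)) (loc D x) (loc X d) := by
      refine ⟨fun y hy => ⟨?_, fun e => εx hy (inj (mul_mem εH (lH hy)) xH (e.trans φx.symm)),
        (cd (mul_mem εH (lH hy))).symm⟩, fun a ha b hb e => mul_left_cancel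
          (inj (mul_mem εH (lH ha)) (mul_mem εH (lH hb)) e), fun y hy => ?_⟩
      · obtain ⟨k, k1, k2⟩ := toB hy
        have := ((H1 (ε * (k * y * k⁻¹)) (εx ⟨h.sub k2.1, k2.2,
          h.com (subset_closure h.x0) (subset_closure k2.1)⟩)).2 (by rwa [ε2])).2
        rwa [← εk k1, cj k1 (mul_mem εH (lH hy)), Xc] at this
      · obtain ⟨u, hu, rfl⟩ := surj hy.2.2.symm
        obtain ⟨k, k1, k2⟩ := into u hu hy.1
        have c1 := ((hH k).1 k1).eq
        have := (H1 _ fun e => hy.2.1 (by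
          rw [mul_inv_eq_iff_eq_mul, ← c1, mul_right_inj] at e; rw [e, φx])).1
          ⟨k2, by rw [cj k1 hu, Xc]; exact hy.1⟩
        rw [← εk k1] at this
        refine ⟨ε * u, ⟨by simpa [mul_assoc] using hc k⁻¹ _ (h.sub this.1), fun e => this.2 ?_,
          ((hH _).1 (mul_mem εH hu)).symm⟩, by simp only [ε2]⟩
        rw [e, c1]; simp
    have m2 : ∀ a ∈ loc D x, ∀ b ∈ loc D x, φ (ε * a) * φ (ε * b) = φ (a * b) := fun a ha b hb => by
      rw [← mul (mul_mem εH (lH ha)) (mul_mem εH (lH hb)), ← (εc (lH ha)).eq, mul_assoc, ε2]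
    have op : ∀ a ∈ loc D x, ∀ b ∈ loc D x,
        φ (ε * (a * b * a)) = φ (ε * a) * φ (ε * b) * φ (ε * a) := fun a ha b hb => by
      rw [m2 a ha b hb, ← mul (mul_mem (lH ha) (lH hb)) (mul_mem εH (lH ha)), ← mul_assoc (a * b),
        (εc (mul_mem (lH ha) (lH hb))).eq, mul_assoc ε]
    have pw : ∀ a ∈ H, ∀ n, φ (a ^ n) = φ a ^ n := fun a ha n =>
      (φι (⟨a, ha⟩ ^ n)).trans ((map_pow ..).trans (by rw [← φι]))
    refine ⟨⟨h.cl.loc x, ⟨⟨fun y hy => ?_, fun a ha b hb => ?_⟩, fun a ha b hb => ?_⟩, bij, op⟩,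
      fun g hg => ?_⟩
    · obtain ⟨c, rfl⟩ := isConj_iff.1 hy.1
      refine orderOf_two_of (conjugatesOf_sq' d2 hy.1) fun e => tt_ne_one h.cl.tt xD
        (inj xH (one_mem _) ?_)
      simpa [φx, φ1] using e
    · obtain ⟨a, ka, rfl⟩ := bij.2.2 ha
      obtain ⟨b, kb, rfl⟩ := bij.2.2 hb
      simp only [m2 a ka b kb, ← pw _ (mul_mem (lH ka) (lH kb))]
      exact (h.cl.tt.2 a ka.1 b kb.1).imp (fun e => by rw [e, φ1]) fun e => by rw [e, φ1]
    · obtain ⟨a, ka, rfl⟩ := bij.2.2 ha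
      obtain ⟨b, kb, rfl⟩ := bij.2.2 hb
      exact op a ka b kb ▸ bij.1 ((h.cl.loc x).op a ka b kb)
    · obtain ⟨u, hu, rfl⟩ := surj hg
      obtain ⟨z, z1, rfl⟩ := (closure_le (((closure (insert d (loc X d))).comap ι).map H.subtype)).2
        (fun y hy => ⟨⟨y, lH hy⟩, by
          have e1 : φ (ε * y) ∈ closure (insert d (loc X d)) := subset_closure (Or.inr (bij.1 hy))
          have e2 : φ ε ∈ closure (insert d (loc X d)) := by
            rcases hε with rfl | rfl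
            exacts [φ1 ▸ one_mem _, subset_closure (Or.inl φx)]
          rw [mul εH (lH hy), mul_mem_cancel_left e2] at e1
          exact (congrArg (· ∈ _) (φι ⟨y, lH hy⟩)).mp e1, rfl⟩) (cen u ((hH u).1 hu))
      exact (congrArg (· ∈ _) (φι z)).mpr z1
  rcases key with e | e | e
  · obtain ⟨g, g1, g2⟩ := hn
    obtain ⟨u, hu, e1⟩ := surj g1
    have e2 : φ u ∈ X := e1 ▸ (Xc g d).2 (IsConj.refl d)
    obtain ⟨k, k1, k2⟩ := into u hu e2
    have := e.le ⟨k2, by rw [cj k1 hu, Xc]; exact e2⟩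
    rw [Set.mem_singleton_iff, mul_inv_eq_iff_eq_mul, ← ((hH k).1 k1).eq, mul_right_inj] at this
    exact absurd (by rw [← e1, this, φx]) g2
  · exact ⟨_, fin 1 (by simp) fun a ha => by simpa [ha] using Set.ext_iff.1 e a⟩
  · refine ⟨_, fin x (by simp) fun a ha => (Set.ext_iff.1 e a).trans ?_⟩
    rw [Set.mem_insert_iff, or_iff_right ha]
    exact ⟨fun ⟨y, h1, h2⟩ => by rwa [← h2, h.cl.cancel xD], fun e => ⟨_, e, h.cl.cancel xD a⟩⟩

end BS

end Cfsg.Agent.Fischer.JB
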