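import Cfsg.Agent.Fischer.Loc
import Cfsg.Agent.Inv.ZStar
import Cfsg.Agent.Comp2.Sig1

/-!
A class of involutions with a closed part of 3-transpositions that contains its neighbours.
-/

set_option autoImplicit false

namespace Cfsg.Agent.Fischer

open Subgroup

variable {G : Type*} [Group G]

theorem dih_split [Finite G] {x y : G} (hx : x * x = 1) (hy : y * y = 1) :
    (∃ d ∈ zpowers (x * y), d * x * d⁻¹ = y) ∨ ∃ w, w * w = 1 ∧ w ≠ 1 ∧ Commute w x ∧ Commute w y ∧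
      ((∃ g, g * x * g⁻¹ = w * x) ∧ (∃ g, g * y * g⁻¹ = w * y) ∨
        (∃ g, g * y * g⁻¹ = w * x) ∧ ∃ g, g * x * g⁻¹ = w * y) := by
  refine (Inv.isConj_or_exists_central hx hy).imp_right ?_
  rintro ⟨w, ⟨k, rfl⟩, h1, h2, h3⟩
  have ix : x * (x * y) * x⁻¹ = (x * y)⁻¹ := by
    simp [inv_of_mul_self hx, inv_of_mul_self hy, cancel_of_mul_self hx, mul_assoc]
  have iy : y * (x * y) * y⁻¹ = (x * y)⁻¹ := by
    simp [inv_of_mul_self hx, inv_of_mul_self hy, mul_assoc, hy]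
  refine ⟨_, mul_self_of_orderOf_two h1, ne_one_of_orderOf_two h1, h2, h3, ?_⟩
  rcases Int.even_or_odd' k with ⟨j, rfl | rfl⟩
  · exact Or.inl ⟨⟨_, Inv.zpow_conj_of_inverts ix j⟩, ⟨_, Inv.zpow_conj_of_inverts iy j⟩⟩
  · refine Or.inr ⟨⟨_, (Inv.zpow_conj_of_inverts iy (j + 1)).trans ?_⟩,
      ⟨_, (Inv.zpow_conj_of_inverts ix j).trans ?_⟩⟩
    · show _ = (x * y) ^ (2 * j + 1) * x
      rw [show 2 * (j + 1) = 2 * j + 1 + 1 by ring, zpow_add_one _ (2 * j + 1)]
      simp only [mul_assoc, hy, mul_one]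
    · show _ = (x * y) ^ (2 * j + 1) * y
      rw [zpow_add_one]
      simp only [mul_assoc, hy, mul_one]

theorem exists_mem_of_odd {H : Subgroup G} (h2 : H.index = 2) {l : List G} (hl : Odd l.length)
    (h1 : l.prod = 1) : ∃ x ∈ l, x ∈ H := by
  by_contra hn
  have : ∀ l : List G, (∀ x ∈ l, x ∉ H) → (l.prod ∈ H ↔ Even l.length) := by
    intro l
    induction l with
    | nil => simp
    | cons a l ih =>
      intro h
      rw [List.prod_cons, mul_mem_iff_of_index_two h2, ih fun x hx => h x (by simp [hx]),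
        List.length_cons, Nat.even_add_one]
      have := h a (by simp)
      tauto
  exact Nat.not_even_iff_odd.2 hl ((this l fun x hx e => hn ⟨x, hx, e⟩).1 (h1 ▸ H.one_mem))

/-- a closed part `Δ` of a class `D` -/
structure Part (D Δ : Set G) : Prop where
  conj : ∀ g : G, ∀ x ∈ D, g * x * g⁻¹ ∈ D
  trans : ∀ x ∈ D, ∀ y ∈ D, ∃ g : G, g * x * g⁻¹ = y
  cl : Cl Δ
  sub : Δ ⊆ D
  loc : ∀ x ∈ Δ, ∀ y ∈ D, Commute x y → y ∈ Δ
  cent : ∀ x ∈ Δ, ∀ g, Commute g x → g ∈ closure Δ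
  tr : ∀ x ∈ Δ, ∀ y ∈ Δ, ∃ g ∈ closure Δ, g * x * g⁻¹ = y
  inv : ∀ u ∈ closure Δ, u * u = 1 → ∃ a ∈ Δ, Commute u a
  pair : ∃ a ∈ Δ, ∃ b ∈ Δ, a ≠ b ∧ Commute a b
  uf : ∀ a ∈ Δ, ∀ b ∈ Δ, ∀ c ∈ Δ, ∀ e ∈ Δ, a ≠ b → Commute a b → Commute c e → a * b = c * e →
    c = a ∨ c = b
  n12 : ∀ a ∈ Δ, ∀ b ∈ Δ, a ≠ b → Commute a b → a * b ∉ Δ
  h2 : ∀ a ∈ Δ, ∀ b ∈ Δ, a ≠ b → Commute a b → ∃ l : List G, Odd l.length ∧ l.prod = 1 ∧
    ∀ h ∈ l, h ∈ Δ ∧ Commute h a ∧ Commute h b ∧ ∀ k ∈ l, Commute h k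
  h3 : ∀ a ∈ Δ, ∀ b ∈ Δ, ∀ c ∈ Δ, a ≠ b → a ≠ c → b ≠ c → Commute a b → Commute a c → Commute b c →
    ∃ e ∈ Δ, Commute e (a * b * c) ∧ ∀ g ∈ closure Δ, g * (a * b) * g⁻¹ ≠ a * b * c * e

namespace Part
variable {D Δ : Set G} (h : Part D Δ)
include h

theorem mem_of_conj {g x : G} (hx : x ∈ Δ) (e : g * x * g⁻¹ ∈ Δ) : g ∈ closure Δ := by
  obtain ⟨k, hk, e'⟩ := h.tr _ e x hx
  have := h.cent x hx (k * g) (by
    show k * g * x = x * (k * g)
    rw [← mul_inv_eq_iff_eq_mul]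
    exact Eq.trans (by group) e')
  simpa using mul_mem (inv_mem hk) this

theorem sq {x : G} (hx : x ∈ D) : x * x = 1 := by
  obtain ⟨a, ha, -⟩ := h.pair
  obtain ⟨g, rfl⟩ := h.trans a (h.sub ha) x hx
  simp [mul_assoc, h.cl.cancel ha]

theorem mem_of_closure {x : G} (hx : x ∈ D) (e : x ∈ closure Δ) : x ∈ Δ := by
  obtain ⟨a, ha, c⟩ := h.inv x e (h.sq hx)
  exact h.loc a ha x hx c.symm

theorem cent2 [Finite G] {a b : G} (ha : a ∈ Δ) (hb : b ∈ Δ) (hab : a ≠ b) (c : Commute a b) {g : G}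
    (hg : Commute g (a * b)) : g ∈ closure Δ := by
  set z := a * b with hz
  have z2 : z * z = 1 := by simpa [pow_two] using sq_of_commute (h.cl.sq ha) (h.cl.sq hb) c
  have z1 : z ≠ 1 := fun e => hab (by rw [← h.cl.inv hb]; exact eq_inv_of_mul_eq_one_left e)
  have zK : z ∈ closure Δ := mul_mem (subset_closure ha) (subset_closure hb)
  let C := centralizer ({z} : Set G)
  have mC : ∀ {x}, x ∈ C ↔ Commute x z := mem_centralizer_singleton_iff
  let N := (zpowers z).subgroupOf C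
  have mN : ∀ x : C, x ∈ N ↔ x.1 = 1 ∨ x.1 = z := fun x => by
    rw [mem_subgroupOf, ← mem_powers_iff_mem_zpowers]
    constructor
    · rintro ⟨k, e⟩
      rw [← e]
      rcases Nat.even_or_odd' k with ⟨j, rfl | rfl⟩ <;> simp [pow_succ, pow_mul, z2]
    · rintro (e | e) <;> rw [e]
      exacts [one_mem _, Submonoid.mem_powers z]
  haveI : N.Normal := ⟨fun x hx y => by
    rw [mN] at hx ⊢
    refine hx.imp (fun e => by simp [e]) fun e => ?_
    simp [e, (mC.1 y.2).eq]⟩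
  let π := QuotientGroup.mk' N
  have πe : ∀ x y : C, π x = π y ↔ y.1 = x.1 ∨ y.1 = x.1 * z := fun x y => by
    rw [QuotientGroup.mk'_apply, QuotientGroup.mk'_apply, QuotientGroup.eq, mN]
    simp [inv_mul_eq_iff_eq_mul]
  let L := ((closure Δ).subgroupOf C).map π
  have hA : ∀ x : C, x.1 ∈ Δ → ∀ q, Commute q (π x) → q ∈ L := by
    intro x hx q hq
    obtain ⟨y, rfl⟩ : ∃ y, π y = q := QuotientGroup.mk'_surjective N q
    have e : π x = π (y * x * y⁻¹) := by
      rw [map_mul, map_mul, map_inv, hq.eq, mul_inv_cancel_right]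
    refine ⟨y, h.mem_of_conj (g := y.1) hx (h.loc _ hx _ (h.conj _ _ (h.sub hx)) ?_), rfl⟩
    rcases (πe _ _).1 e with e | e <;> rw [show y.1 * x.1 * y.1⁻¹ = _ from e]
    exact (Commute.refl _).mul_right (mC.1 x.2)
  have aC : a ∈ C := mC.2 ((Commute.refl a).mul_right c)
  have az : a * z = b := h.cl.cancel ha b
  have π1 : ∀ x : C, x.1 ∈ Δ → π x ≠ 1 := fun x hx e => by
    rcases (mN x).1 ((QuotientGroup.eq_one_iff x).1 e) with e | e <;> rw [e] at hx
    exacts [tt_ne_one h.cl.tt hx rfl, h.n12 a ha b hb hab c hx]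
  have π2 : ∀ x : C, x.1 ∈ Δ → π x * π x = 1 := fun x hx => by
    rw [← map_mul, show x * x = 1 from Subtype.ext (h.cl.sq hx), map_one]
  have iso : IsIsolatedInvolution (π ⟨a, aC⟩) := by
    refine ⟨orderOf_two_of (π2 _ ha) (π1 _ ha), fun q hq => ?_⟩
    obtain ⟨y, rfl⟩ : ∃ y, π y = q := QuotientGroup.mk'_surjective N q
    rw [← map_inv, ← map_mul, ← map_mul] at hq ⊢
    set e := y * ⟨a, aC⟩ * y⁻¹ with he
    have eD : e.1 ∈ D := h.conj _ _ (h.sub ha)
    have ez : e.1 * z ∈ D := by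
      have := h.conj y.1 _ (h.sub hb)
      rwa [← az, ← mul_assoc, mul_assoc _ z, ← (mC.1 y.2).inv_left.eq, ← mul_assoc] at this
    have := (πe (⟨a, aC⟩ * e) (e * ⟨a, aC⟩)).1 (by rw [map_mul, map_mul]; exact hq.eq)
    rcases this with e1 | e1
    · have ca : Commute a e.1 := e1.symm
      have := h.uf a ha b hb _ (h.loc a ha _ eD ca) _ (h.loc a ha _ ez (ca.mul_right (mC.1 aC))) hab
        c ((Commute.refl _).mul_right (mC.1 e.2)) (by rw [← mul_assoc, h.sq eD, one_mul])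
      exact ((πe _ _).2 (this.imp id fun e => e.trans az.symm)).symm
    · exfalso
      have e2 : e.1 * a * e.1⁻¹ = b := by
        rw [show e.1 * a = a * e.1 * z from e1, mul_assoc, mul_assoc, ← mul_assoc e.1, (mC.1 e.2).eq]
        simpa using az
      have eΔ := h.mem_of_closure eD (h.mem_of_conj ha (e2 ▸ hb))
      rw [h.cl.inv eΔ] at e2
      by_cases ca : Commute a e.1
      · exact hab (((h.cl.comm_iff eΔ a).1 ca.symm).symm.trans e2)
      · exact h.cl.not_comm_op ha eΔ ca (e2 ▸ c)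
  have hO : oddCore (C ⧸ N) ≤ L := by
    obtain ⟨l, l1, l2, l3⟩ := h.h2 a ha b hb hab c
    let l' : List C := l.pmap (fun x hx => ⟨x, hx⟩) fun x hx =>
      mC.2 ((l3 x hx).2.1.mul_right (l3 x hx).2.2.1)
    have m' : ∀ x ∈ l', x.1 ∈ l := fun x hx => by
      obtain ⟨y, hy, rfl⟩ := List.mem_pmap.1 hx; exact hy
    have p' : l'.prod = 1 := Subtype.ext (by
      rw [show (l'.prod).1 = C.subtype l'.prod from rfl, map_list_prod, List.map_pmap]
      simpa using l2)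
    let V := closure {q | q ∈ l'.map π}
    have cV : ∀ p ∈ {q | q ∈ l'.map π}, ∀ q ∈ {q | q ∈ l'.map π}, p * q = q * p := by
      simp only [Set.mem_setOf_eq, List.forall_mem_map]
      intro x hx y hy
      rw [← map_mul, ← map_mul]
      exact congrArg π (Subtype.ext ((l3 _ (m' x hx)).2.2.2 _ (m' y hy)))
    have iV : IsMulCommutative V := isMulCommutative_closure cV
    have eV : IsElementaryAbelian 2 V := ⟨iV, fun q hq => by
      induction hq using closure_induction with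
      | mem q hq =>
        obtain ⟨x, hx, rfl⟩ := List.mem_map.1 hq
        rw [pow_two, π2 x (l3 _ (m' x hx)).1]
      | one => simp
      | mul p q hp hq e1 e2 =>
        rw [Commute.mul_pow (congrArg Subtype.val (iV.is_comm.comm ⟨p, hp⟩ ⟨q, hq⟩)), e1, e2, one_mul]
      | inv p _ e => rw [inv_pow, e, inv_one]⟩
    have ll : l'.length = l.length := List.length_pmap
    refine Comp2.le_of_hyperplanes eV (fun e => ?_) le_normalizer_of_normal
      (by simpa [← even_iff_two_dvd] using Inv.odd_card_oddCore (G := C ⧸ N)) fun B _ hB => ?_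
    · obtain ⟨x, hx⟩ := List.exists_mem_of_length_pos (ll ▸ l1.pos)
      have : π x ∈ V := subset_closure (List.mem_map_of_mem hx)
      rw [e] at this
      exact π1 x (l3 _ (m' x hx)).1 this
    · let l'' : List V := (l'.map π).pmap (fun x hx => ⟨x, hx⟩) fun x hx => subset_closure hx
      obtain ⟨q, q1, q2⟩ := exists_mem_of_odd (H := B.subgroupOf V) hB (l := l'')
        (by rw [List.length_pmap, List.length_map, ll]; exact l1) (Subtype.ext (by
          rw [show (l''.prod).1 = V.subtype l''.prod from rfl, map_list_prod, List.map_pmap]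
          refine Eq.trans (congrArg List.prod ?_) ((map_list_prod π l').symm.trans (by rw [p', map_one]; rfl))
          simp))
      obtain ⟨y, hy, rfl⟩ := List.mem_pmap.1 q1
      obtain ⟨x, hx, rfl⟩ := List.mem_map.1 hy
      exact fun p hp => hA x (l3 _ (m' x hx)).1 p (hp.2 _ q2).symm
  obtain ⟨o, ho, k, hk, e⟩ := Inv.zstar_factor iso (π ⟨g, mC.2 hg⟩)
  obtain ⟨y, hy, e'⟩ : π ⟨g, mC.2 hg⟩ ∈ L := e ▸ mul_mem (hO ho) (hA _ ha k hk)
  rcases (πe _ _).1 e' with e | e <;> rw [show g = _ from e]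
  exacts [hy, mul_mem hy zK]

theorem conj2 [Finite G] {a b : G} (ha : a ∈ Δ) (hb : b ∈ Δ) (hab : a ≠ b) (c : Commute a b)
    {g x : G} (hx : x ∈ Δ) (hg : Commute x (g * (a * b) * g⁻¹)) : g ∈ closure Δ := by
  have := h.cent2 ha hb hab c (g := g⁻¹ * x * g) ((commute_conj_left_iff _ _ _).1 hg.symm).symm
  have m := h.conj g⁻¹ x (h.sub hx)
  rw [inv_inv] at m
  refine inv_mem_iff.1 (h.mem_of_conj hx ?_)
  rw [inv_inv]
  exact h.mem_of_closure m this

theorem odd [Finite G] {x e : G} (hx : x ∈ Δ) (he : e ∈ D) (hn : e ∉ Δ) :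
    ∃ d ∈ zpowers (x * e), d * x * d⁻¹ = e := by
  refine (dih_split (h.cl.sq hx) (h.sq he)).resolve_right ?_
  rintro ⟨w, w2, w1, c1, c2, H⟩
  have m : w * x ∈ D := by
    rcases H with ⟨⟨g, e⟩, -⟩ | ⟨⟨g, e⟩, -⟩ <;> rw [← e]
    exacts [h.conj g _ (h.sub hx), h.conj g _ he]
  have cx : Commute x (w * x) := c1.symm.mul_right (Commute.refl x)
  refine hn (h.mem_of_closure he (h.cent2 (h.loc x hx _ m cx) hx (fun e => w1 (by simpa using e))
    cx.symm ?_))
  rw [mul_assoc, h.cl.sq hx, mul_one]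
  exact c2.symm

theorem all [Finite G] : D ⊆ Δ := by
  intro e he
  by_contra hn
  obtain ⟨a, ha, b, hb, hab, c⟩ := h.pair
  have z2 : a * b * (a * b) = 1 := by
    simpa [pow_two] using sq_of_commute (h.cl.sq ha) (h.cl.sq hb) c
  have zK : a * b ∈ closure Δ := mul_mem (subset_closure ha) (subset_closure hb)
  have zD : a * b ∉ D := fun m => h.n12 a ha b hb hab c (h.mem_of_closure m zK)
  rcases dih_split z2 (h.sq he) with ⟨d, -, e1⟩ | ⟨w, w2, w1, c1, c2, H⟩
  · exact zD (by simpa [← e1, mul_assoc] using h.conj d⁻¹ e he)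
  rcases H with ⟨-, g, e1⟩ | ⟨⟨g, e1⟩, k, e2⟩
  · obtain ⟨t, rfl⟩ := h.trans a (h.sub ha) e he
    have m : t⁻¹ * (w * (t * a * t⁻¹)) * t⁻¹⁻¹ ∈ D := h.conj _ _ (e1 ▸ h.conj g _ he)
    have c3 : Commute (t⁻¹ * w * t) a := by
      have := (commute_conj_left_iff _ _ _).1 c2.symm
      exact this.symm
    have e3 : t⁻¹ * (w * (t * a * t⁻¹)) * t⁻¹⁻¹ = t⁻¹ * w * t * a := by group
    rw [e3] at m
    have cx : Commute a (t⁻¹ * w * t * a) := c3.symm.mul_right (Commute.refl a)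
    have mΔ := h.loc a ha _ m cx
    have ne : t⁻¹ * w * t * a ≠ a := fun e => w1 (by
      have e := mul_eq_right.1 e
      simpa [mul_assoc, inv_mul_eq_one] using e)
    have zt := h.cent2 mΔ ha ne cx.symm (g := t⁻¹ * (a * b) * t) (by
      rw [mul_assoc _ a, h.cl.sq ha, mul_one]
      simpa using (commute_conj_iff t⁻¹ _ _).2 c1.symm)
    obtain ⟨x, hx, cx⟩ := h.inv _ zt (by
      calc _ = t⁻¹ * (a * b * (a * b)) * t := by group
        _ = 1 := by rw [z2]; simp)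
    have := h.conj2 ha hb hab c hx (g := t⁻¹) (by simpa using cx.symm)
    exact hn (h.cl.conj_mem (inv_mem_iff.1 this) ha)
  · have cz : Commute (w * (a * b)) (a * b) := c1.mul_left (Commute.refl _)
    have mD : w * (a * b) ∈ D := e1 ▸ h.conj g e he
    have mΔ := h.mem_of_closure mD (h.cent2 ha hb hab c cz)
    obtain ⟨d1, d2⟩ := h.cl.comm_mul ha hb mΔ hab c cz
    have ew : a * b * (w * (a * b)) = w := by rw [← mul_assoc, ← c1.eq, mul_assoc, z2, mul_one]
    have n1 : a ≠ w * (a * b) := fun e3 => by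
      rw [← e3, mul_assoc, ← c.eq, h.cl.cancel ha] at ew
      exact hn (h.loc b hb e he (ew ▸ c2))
    have n2 : b ≠ w * (a * b) := fun e3 => by
      rw [← e3, mul_assoc, h.cl.sq hb, mul_one] at ew
      exact hn (h.loc a ha e he (ew ▸ c2))
    obtain ⟨x, hx, x1, x2⟩ := h.h3 a ha b hb _ mΔ hab n1 n2 c d1.symm d2.symm
    rw [ew] at x1 x2
    obtain ⟨d, hd, e3⟩ := h.odd hx he hn
    have cd : Commute d w := mem_centralizer_singleton_iff.1
      (zpowers_le.2 (mem_centralizer_singleton_iff.2 (x1.mul_left c2.symm)) hd)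
    have e4 : d⁻¹ * k * (a * b) * (d⁻¹ * k)⁻¹ = w * x := by
      calc _ = d⁻¹ * (k * (a * b) * k⁻¹) * d := by group
        _ = d⁻¹ * (w * d) * x := by rw [e2, ← e3]; group
        _ = _ := by rw [← cd.eq]; group
    exact x2 _ (h.conj2 ha hb hab c hx (e4 ▸ x1.mul_right (Commute.refl x))) e4

theorem top [Finite G] : closure Δ = ⊤ := by
  obtain ⟨a, ha, -⟩ := h.pair
  exact eq_top_iff.2 fun g _ => h.mem_of_conj ha (h.all (h.conj g a (h.sub ha)))

end Part

end Cfsg.Agent.Fischer
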