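import Cfsg.Agent.Fischer.JE
import Cfsg.Agent.Fischer.Whole
import Cfsg.Agent.Fischer.Cov
import Cfsg.Agent.FiC.Tup
import Cfsg.Agent.S0437

/-!
Classes of involutions that are locally a class of 3-transpositions.
-/

set_option autoImplicit false

namespace Cfsg.Agent.Fischer

open Subgroup Cfsg.Agent.Comp Cfsg.Agent.FiC

variable {G₀ G G₁ : Type*} [Group G₀] [Group G] [Group G₁]

/-- transfer of the model into a class of involutions -/
theorem PM.exists_part {s : ℕ → G₀} {L n k : ℕ} {T : List Net} {φ : G₀ →* Equiv.Perm ℕ} {x : G₀}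
    {U : List (List ℕ)} (h : PM s L n k T φ x U) {X : Set G}
    (hX : ∀ g : G, ∀ y ∈ X, g * y * g⁻¹ ∈ X) {s' : ℕ → G₀} {t : ℕ → G} {L' : ℕ}
    (htop : gen s' L' = ⊤) (hs : s' 0 ∈ conjugatesOf x) (ht : t 0 ∈ X) (o0 : orderOf (t 0) = 2)
    (hfun : ∀ p ∈ gen (fun j => (s' j, t j)) L', Commute p.1 (s' 0) → Commute p.2 (t 0))
    (hconj : ∀ j < L', ∃ p ∈ gen (fun j => (s' j, t j)) L', (s' j, t j) = p * (s' 0, t 0) * p⁻¹)
    {i₁ i₂ : ℕ} (l1 : i₁ < L') (l2 : i₂ < L') (c1 : s' i₁ ∈ loc (conjugatesOf x) (s' 0))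
    (c2 : ¬ Commute (s' 0) (s' i₂)) (n1 : t i₁ ≠ t 0) (n2 : t i₂ ≠ t 0)
    (o1 : Commute (t 0) (t i₁)) (o2 : (t 0 * t i₂) ^ 3 = 1)
    (hfin : (loc X (t 0)).Finite) (hval : (loc X (t 0)).ncard ≤ k) :
    ∃ Δ θ, FI (conjugatesOf x) Δ θ ∧ Δ ⊆ X ∧ ∀ v ∈ Δ, loc X v ⊆ Δ := by
  set K := gen (fun j => (s' j, t j)) L'
  have L0 : 0 < L' := by omega
  have lift : ∀ g, ∃ p ∈ K, p.1 = g := fun g => by
    have : g ∈ K.map (MonoidHom.fst G₀ G) := by
      rw [map_genW]; show g ∈ gen s' L'; rw [htop]; trivial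
    exact this
  let c : G₀ × G → G₀ × G := fun p => p * (s' 0, t 0) * p⁻¹
  have wd : ∀ p ∈ K, ∀ q ∈ K, (c p).1 = (c q).1 → (c p).2 = (c q).2 := fun p hp q hq e => by
    have e1 : p.1 * s' 0 * p.1⁻¹ = q.1 * s' 0 * q.1⁻¹ := e
    have e2 : q.2⁻¹ * p.2 * t 0 = t 0 * (q.2⁻¹ * p.2) :=
      hfun (q⁻¹ * p) (K.mul_mem (K.inv_mem hq) hp) (show q.1⁻¹ * p.1 * s' 0 = s' 0 * (q.1⁻¹ * p.1) by
        rw [mul_assoc, mul_inv_eq_iff_eq_mul.1 e1]; group)
    show p.2 * t 0 * p.2⁻¹ = q.2 * t 0 * q.2⁻¹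
    rw [show p.2 * t 0 * p.2⁻¹ = q.2 * (q.2⁻¹ * p.2 * t 0) * p.2⁻¹ by group, e2]; group
  have mD : ∀ p, (c p).1 ∈ conjugatesOf x := fun p => h.conj_mem p.1 hs
  have via : ∀ i < L', ∀ p ∈ K, ∀ g, g * s' 0 * g⁻¹ = s' 0 → g * s' i * g⁻¹ = (c p).1 →
      ∃ u, u * t 0 * u⁻¹ = t 0 ∧ u * t i * u⁻¹ = (c p).2 := fun i hi p hp g g1 g2 => by
    obtain ⟨q, hq, rfl⟩ := lift g
    obtain ⟨a, ha, e⟩ := hconj i hi
    have e1 : q * (s' i, t i) * q⁻¹ = c (q * a) := by rw [e]; simp only [c]; group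
    exact ⟨q.2, mul_inv_eq_iff_eq_mul.2 (hfun q hq (mul_inv_eq_iff_eq_mul.1 g1)),
      (congrArg Prod.snd e1).trans (wd _ (mul_mem hq ha) p hp ((congrArg Prod.fst e1).symm.trans g2))⟩
  have key0 : ∀ p ∈ K, (Commute (s' 0) (c p).1 → Commute (t 0) (c p).2 ∧
      ((c p).1 ≠ s' 0 → (c p).2 ≠ t 0)) ∧ (¬ Commute (s' 0) (c p).1 → (t 0 * (c p).2) ^ 3 = 1) :=
    fun p hp => by
    refine ⟨fun e => ?_, fun e => ?_⟩
    · by_cases e' : (c p).1 = s' 0
      · have := wd p hp 1 (one_mem _) (by simpa [c] using e')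
        exact ⟨by rw [this]; simp [c], fun e => absurd e' e⟩
      obtain ⟨g, g1, g2⟩ := h.trans2c hs c1 hs ⟨mD p, e', e⟩
      obtain ⟨u, u1, u2⟩ := via _ l1 p hp g g1 g2
      rw [← u2, ← u1, commute_conj_iff]
      exact ⟨o1, fun _ e => n1 (by simpa using e)⟩
    · obtain ⟨a, -, e1⟩ := hconj _ l2
      obtain ⟨g, g1, g2⟩ := h.trans2 hs ((congrArg (·.1 ∈ conjugatesOf x) e1).mpr (mD a))
        hs (mD p) c2 e
      obtain ⟨u, u1, u2⟩ := via _ l2 p hp g g1 g2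
      rw [← u2, ← u1, conj_mul, conj_pow, o2]; simp
  have key : ∀ p ∈ K, ∀ q ∈ K, (Commute (c p).1 (c q).1 → Commute (c p).2 (c q).2 ∧
      ((c q).1 ≠ (c p).1 → (c q).2 ≠ (c p).2)) ∧
      (¬ Commute (c p).1 (c q).1 → ((c p).2 * (c q).2) ^ 3 = 1) := fun p hp q hq => by
    have := key0 (p⁻¹ * q) (mul_mem (inv_mem hp) hq)
    rw [show c q = p * c (p⁻¹ * q) * p⁻¹ by simp only [c]; group]
    generalize c (p⁻¹ * q) = w at this
    simp only [c, Prod.fst_mul, Prod.snd_mul, Prod.fst_inv, Prod.snd_inv, commute_conj_iff, conj_mul,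
      conj_pow, ne_eq, mul_left_inj, mul_right_inj, conj_eq_one_iff]
    exact this
  let Δ : Set G := {y | ∃ p ∈ K, y = (c p).2}
  have sub : Δ ⊆ X := by rintro _ ⟨p, -, rfl⟩; exact hX _ _ ht
  have sq : ∀ y ∈ Δ, y * y = 1 := by
    rintro _ ⟨p, -, rfl⟩
    simp [c, mul_assoc, cancel_of_mul_self (mul_self_of_orderOf_two o0)]
  have cjΔ : ∀ p ∈ K, ∀ y ∈ Δ, p.2 * y * p.2⁻¹ ∈ Δ := by
    rintro p hp _ ⟨q, hq, rfl⟩
    exact ⟨p * q, mul_mem hp hq, by simp [c, mul_assoc]⟩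
  have cl : Cl Δ := by
    refine ⟨⟨fun y hy => orderOf_two_of (sq y hy) ?_, fun a ha b hb => ?_⟩, fun a ha b hb => ?_⟩
    · obtain ⟨p, -, rfl⟩ := hy
      simpa [c] using ne_one_of_orderOf_two o0
    · have s1 := sq a ha
      have s2 := sq b hb
      obtain ⟨p, hp, rfl⟩ := ha
      obtain ⟨q, hq, rfl⟩ := hb
      exact (em _).imp (fun e => sq_of_commute s1 s2 ((key p hp q hq).1 e).1) (key p hp q hq).2
    · have s1 := inv_of_mul_self (sq a ha)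
      obtain ⟨p, hp, rfl⟩ := ha
      simpa only [s1] using cjΔ (c p) (mul_mem (mul_mem hp (letter_mem_gen L0)) (inv_mem hp)) b hb
  have ex : ∀ d ∈ conjugatesOf x, ∃ p ∈ K, d = (c p).1 := fun d hd => by
    obtain ⟨g, rfl⟩ := h.trans' hs hd
    obtain ⟨p, hp, rfl⟩ := lift g
    exact ⟨p, hp, rfl⟩
  have cn : Conn Δ := by
    rintro S hS ⟨y, hy⟩ hc _ ⟨q, hq, rfl⟩
    obtain ⟨p, hp, rfl⟩ := hS hy
    obtain ⟨a, ha, e1, e2⟩ := h.conn {d | ∃ p ∈ K, d = (c p).1 ∧ (c p).2 ∈ S}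
      (by rintro _ ⟨p, -, rfl, -⟩; exact mD p) ⟨_, p, hp, rfl, hy⟩ (by
        rintro _ ⟨p, hp, rfl, e⟩ d hd
        obtain ⟨q, hq, rfl⟩ := ex d hd.1
        have := (key p hp q hq).1 hd.2.2
        exact ⟨q, hq, rfl, hc _ e ⟨⟨q, hq, rfl⟩, this.2 hd.2.1, this.1⟩⟩) (mD q)
    exact wd q hq a ha e1 ▸ e2
  have ls : loc Δ (t 0) ⊆ loc X (t 0) := fun y hy => ⟨sub hy.1, hy.2⟩
  obtain ⟨θ, e, he⟩ := h.exists_fi cl cn htop hs (fun j hj => by
      obtain ⟨p, hp, e⟩ := hconj j hj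
      exact ⟨p, hp, congrArg Prod.snd e⟩) hfun hconj l1 l2 c1 c2 n1 n2 (hfin.subset ls)
    ((Set.ncard_le_ncard ls hfin).trans hval)
  have l0 := Set.eq_of_subset_of_ncard_le ls (by
    rw [← he 0 L0, ← (e.loc hs).ncard, h.ncard_loc hs, he 0 L0]; exact hval) hfin
  refine ⟨Δ, θ, e, sub, ?_⟩
  rintro _ ⟨p, hp, rfl⟩ y hy
  have := cjΔ p hp _ (l0.ge (show p.2⁻¹ * y * p.2⁻¹⁻¹ ∈ loc X (t 0) from
    ⟨hX _ y hy.1, fun e => hy.2.1 (by simp [c, ← e, mul_assoc]), by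
      simpa using (commute_conj_left_iff _ _ _).1 hy.2.2⟩)).1
  simpa [mul_assoc] using this

theorem Part.map {D : Set G₀} (h : Part D D) {X : Set G} (f : G₀ →* G) (hf : Function.Injective f)
    (conj : ∀ g : G, ∀ x ∈ X, g * x * g⁻¹ ∈ X) (trans : ∀ x ∈ X, ∀ y ∈ X, ∃ g : G, g * x * g⁻¹ = y)
    (cl : Cl (f '' D)) (sub : f '' D ⊆ X) (loc : ∀ x ∈ f '' D, ∀ y ∈ X, Commute x y → y ∈ f '' D)
    (cent : ∀ x ∈ f '' D, ∀ g, Commute g x → g ∈ closure (f '' D)) : Part X (f '' D) := by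
  have ne : ∀ {a b}, f a ≠ f b → a ≠ b := fun e e' => e (by rw [e'])
  refine ⟨conj, trans, cl, sub, loc, cent, ?_, ?_, ?_, ?_, ?_, ?_, ?_⟩ <;>
    simp only [Set.forall_mem_image, Set.exists_mem_image, ← MonoidHom.map_closure]
  · intro a ha b hb
    obtain ⟨g, hg, rfl⟩ := h.tr a ha b hb
    exact ⟨f g, ⟨g, hg, rfl⟩, by simp⟩
  · rintro _ ⟨u, hu, rfl⟩ e
    obtain ⟨a, ha, c⟩ := h.inv u hu (hf (by simpa using e))
    exact ⟨a, ha, c.map f⟩
  · obtain ⟨a, ha, b, hb, h1, h2⟩ := h.pair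
    exact ⟨a, ha, b, hb, hf.ne h1, h2.map f⟩
  · intro a ha b hb c hc e he h1 h2 h3 h4
    exact (h.uf a ha b hb c hc e he (ne h1) (h2.of_map hf) (h3.of_map hf)
      (hf (by simpa using h4))).imp (congrArg f) (congrArg f)
  · rintro a ha b hb h1 h2 ⟨c, hc, e⟩
    exact h.n12 a ha b hb (ne h1) (h2.of_map hf) (hf (e.trans (map_mul ..).symm) ▸ hc)
  · intro a ha b hb h1 h2
    obtain ⟨l, l1, l2, l3⟩ := h.h2 a ha b hb (ne h1) (h2.of_map hf)
    refine ⟨l.map f, by simpa using l1, by rw [← map_list_prod, l2, map_one], ?_⟩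
    simp only [List.forall_mem_map]
    exact fun y hy => ⟨⟨y, (l3 y hy).1, rfl⟩, (l3 y hy).2.1.map f, (l3 y hy).2.2.1.map f,
      fun z hz => ((l3 y hy).2.2.2 z hz).map f⟩
  · intro a ha b hb c hc h1 h2 h3 h4 h5 h6
    obtain ⟨e, he, e1, e2⟩ := h.h3 a ha b hb c hc (ne h1) (ne h2) (ne h3) (h4.of_map hf)
      (h5.of_map hf) (h6.of_map hf)
    refine ⟨e, he, by simpa using e1.map f, ?_⟩
    rintro _ ⟨g, hg, rfl⟩ e3
    exact e2 g hg (hf (by simpa using e3))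

/-- a class of involutions that is locally `Y` -/
structure LC (X : Set G) (Y : Set G₁) : Prop where
  conj : ∀ g : G, ∀ x ∈ X, g * x * g⁻¹ ∈ X
  trans : ∀ x ∈ X, ∀ y ∈ X, ∃ g : G, g * x * g⁻¹ = y
  ne : X.Nonempty
  ord : ∀ x ∈ X, orderOf x = 2
  fi : ∀ v ∈ X, ∃ θ, FI Y (loc X v) θ
  cent : ∀ v ∈ X, ∀ g, Commute g v → g ∈ closure (insert v (loc X v))
  zc : ∀ v ∈ X, ∀ z, Commute z v → (∀ y ∈ loc X v, Commute z y) → z = 1 ∨ z = v

theorem LC.of {d : G} (hd : orderOf d = 2) {Y : Set G₁} {θ : G₁ → G}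
    (e : FI Y (loc (conjugatesOf d) d) θ)
    (cent : ∀ g, Commute g d → g ∈ closure (insert d (loc (conjugatesOf d) d)))
    (zc : ∀ z, Commute z d → (∀ g, Commute g d → Commute z g) → z = 1 ∨ z = d) :
    LC (conjugatesOf d) Y := by
  have conj : ∀ g : G, ∀ x ∈ conjugatesOf d, g * x * g⁻¹ ∈ conjugatesOf d := fun g x hx =>
    IsConj.trans hx (isConj_iff.2 ⟨g, rfl⟩)
  have im : ∀ g, MulAut.conj g '' loc (conjugatesOf d) d = loc (conjugatesOf d) (g * d * g⁻¹) :=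
    fun g => by
    ext y
    constructor
    · rintro ⟨y, hy, rfl⟩
      exact ⟨conj g y hy.1, fun e => hy.2.1 (by simpa using e), (commute_conj_iff ..).2 hy.2.2⟩
    · intro hy
      exact ⟨g⁻¹ * y * g⁻¹⁻¹, ⟨conj _ y hy.1, fun e => hy.2.1 (by simp [← e, mul_assoc]), by
        simpa using (commute_conj_left_iff _ _ _).1 hy.2.2⟩, by simp [mul_assoc]⟩
  have cent' : ∀ v ∈ conjugatesOf d, ∀ g, Commute g v →
      g ∈ closure (insert v (loc (conjugatesOf d) v)) := fun v hv g hg => by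
    obtain ⟨c, rfl⟩ := isConj_iff.1 hv
    rw [← im, ← MulAut.conj_apply, ← Set.image_insert_eq]
    exact (MonoidHom.map_closure (MulAut.conj c).toMonoidHom _).le
      ⟨_, cent _ ((commute_conj_left_iff ..).1 hg.symm).symm, by simp [mul_assoc]⟩
  refine ⟨conj, fun x hx y hy => isConj_iff.1 (IsConj.trans (IsConj.symm hx) hy), ⟨d, IsConj.refl d⟩,
    fun x hx => ?_, fun v hv => ?_, cent', fun v hv z h1 h2 => ?_⟩
  · obtain ⟨c, rfl⟩ := isConj_iff.1 hx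
    exact ((MulAut.conj c).orderOf_eq d).trans hd
  · obtain ⟨c, rfl⟩ := isConj_iff.1 hv
    exact ⟨_, im c ▸ e.comp (e.cl.fi_hom (MulAut.conj c).toMonoidHom
      (MulAut.conj c).injective.injOn fun x hx => by simpa using tt_ne_one e.cl.tt hx)⟩
  · have h3 : ∀ g, Commute g v → Commute z g := fun g hg => mem_centralizer_singleton_iff.1
      ((closure_le (centralizer {z})).2 (fun y hy => mem_centralizer_singleton_iff.2
        (hy.elim (fun e => e ▸ h1.symm) fun e => (h2 y e).symm)) (cent' v hv g hg)) |>.symm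
    obtain ⟨c, rfl⟩ := isConj_iff.1 hv
    refine (zc (c⁻¹ * z * c) ((commute_conj_left_iff ..).1 h1.symm).symm fun g hg =>
      ((commute_conj_left_iff ..).1 (h3 _ ((commute_conj_iff ..).2 hg)).symm).symm).imp
        (fun e => ?_) fun e => ?_
    · rw [← conj_eq_one_iff (a := c⁻¹), inv_inv, e]
    · rw [← e]; group

theorem LC.iso [Finite G] {X : Set G} {Y : Set G₁} (h : LC X Y) {D : Set G₀} (P : Part D D)
    (ht : closure D = ⊤) (hz : center G₀ = ⊥) (nc : ∀ a ∈ D, ∃ b ∈ D, ¬ Commute a b) {Δ : Set G}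
    {θ : G₀ → G} (e : FI D Δ θ) (sub : Δ ⊆ X) (hl : ∀ v ∈ Δ, loc X v ⊆ Δ) :
    ∃ f : G₀ ≃* G, f '' D = X := by
  obtain ⟨η, e', e1, e2⟩ := e.exists_symm
  obtain ⟨π, p1, p2, p3⟩ := e'.exists_hom ht hz
  have p4 : Function.Injective π := (injective_iff_map_eq_one π).2 fun g hg => by
    obtain ⟨a, ha, -⟩ := P.pair
    have H := (p2 g).1 hg
    refine Subtype.ext ((h.zc _ (sub (e.mem ha)) g (H _ (e.mem ha))
      fun y hy => H y (hl _ (e.mem ha) hy)).resolve_right fun e3 => ?_)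
    obtain ⟨b, hb, c⟩ := nc a ha
    exact c ((e.comm ha hb).1 (e3 ▸ H _ (e.mem hb)))
  let f := (closure Δ).subtype.comp (MulEquiv.ofBijective π ⟨p4, p1⟩).symm.toMonoidHom
  have f1 : Function.Injective f := Subtype.val_injective.comp (MulEquiv.injective _)
  have f2 : f '' D = Δ := (Set.image_congr fun a ha => (congrArg Subtype.val
    ((MulEquiv.symm_apply_eq (MulEquiv.ofBijective π ⟨p4, p1⟩)).2
      ((e1 a ha).symm.trans (p3 _ (e.mem ha)).symm)) : f a = θ a)).trans e.bij.image_eq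
  have Q := P.map f f1 h.conj h.trans (f2 ▸ e.cl) (f2 ▸ sub) (f2 ▸ fun x hx y hy c =>
    (em (y = x)).elim (fun e => e ▸ hx) fun e => hl x hx ⟨hy, e, c⟩) (f2 ▸ fun x hx g hg =>
      closure_mono (Set.insert_subset hx (hl x hx)) (h.cent x (sub hx) g hg))
  refine ⟨MulEquiv.ofBijective f ⟨f1, ?_⟩, Set.Subset.antisymm Q.sub Q.all⟩
  rw [← MonoidHom.range_eq_top, MonoidHom.range_eq_map, ← ht, MonoidHom.map_closure, Q.top]

/-- the centraliser of an involution as a double cover -/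
theorem dc_of {d : G} (hd : orderOf d = 2) (hq : IsQuasisimple (centralizer ({d} : Set G)))
    [((zpowers d).subgroupOf (centralizer ({d} : Set G))).Normal] {Q : Type*} [Group Q]
    (e : centralizer ({d} : Set G) ⧸ (zpowers d).subgroupOf (centralizer ({d} : Set G)) ≃* Q) :
    DC (e.toMonoidHom.comp (QuotientGroup.mk' _))
      (⟨d, mem_centralizer_singleton_iff.2 rfl⟩ : centralizer ({d} : Set G)) := by
  refine ⟨hq.1, e.surjective.comp (QuotientGroup.mk'_surjective _), fun x => ?_,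
    fun e => ne_one_of_orderOf_two hd (congrArg Subtype.val e),
    fun x => Subtype.ext (mem_centralizer_singleton_iff.1 x.2)⟩
  rw [MonoidHom.comp_apply, MulEquiv.coe_toMonoidHom, EmbeddingLike.map_eq_one_iff,
    QuotientGroup.mk'_apply, QuotientGroup.eq_one_iff, mem_subgroupOf, Subtype.ext_iff,
    Subtype.ext_iff]
  constructor
  · rintro ⟨k, e⟩
    rw [← e]
    have : d ^ (2 : ℤ) = 1 := by rw [zpow_two, mul_self_of_orderOf_two hd]
    rcases Int.even_or_odd' k with ⟨j, rfl | rfl⟩ <;> simp [zpow_add, zpow_mul, this]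
  · rintro (e | e) <;> rw [e]
    exacts [one_mem _, mem_zpowers d]

/-- the local structure from a double cover -/
theorem lc_of [Finite G] [Finite G₀] {D B : Set G₀} {x : G₀} {m r : ℕ} (h : JB.BS D B x m r)
    (hc : ∀ g : G₀, ∀ y ∈ D, g * y * g⁻¹ ∈ D) (nsq : ∀ g, g * g ≠ x)
    (inv : ∀ u, u * u = 1 → Commute u x →
      ∃ Z ⊆ D, (∀ a ∈ Z, ∀ b ∈ Z, Commute a b) ∧ x ∈ Z ∧ u ∈ closure Z)
    (cen : closure (loc D x) = centralizer {x}) {d : G} (hd : orderOf d = 2) {Q : Type*} [Group Q]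
    (hQ : center Q = ⊥) {ξ : centralizer ({d} : Set G) →* Q} {z : centralizer ({d} : Set G)}
    (hz : z.1 = d) (dc : DC ξ z) (e : centralizer ({d} : Set G) ≃* closure (loc D x))
    (he : (e z).1 = x) (hn : ∃ g, g * d * g⁻¹ ∈ centralizer ({d} : Set G) ∧ g * d * g⁻¹ ≠ d) :
    LC (conjugatesOf d) (loc D x) := by
  obtain ⟨θ, h1, h2⟩ := h.fusion hc nsq inv (fun g hg => cen.ge (mem_centralizer_singleton_iff.2 hg))
    (H := closure (loc D x)) (fun g => cen ▸ mem_centralizer_singleton_iff)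
    ((centralizer {d}).subtype.comp e.symm.toMonoidHom) (Subtype.val_injective.comp e.symm.injective)
    (fun g hg => ⟨e ⟨g, mem_centralizer_singleton_iff.2 hg⟩, by simp⟩)
    (fun y hy => by rw [show y = e z from Subtype.ext (hy.trans he.symm)]; simpa using hz)
    (hn.imp fun g hg => ⟨mem_centralizer_singleton_iff.1 hg.1, hg.2⟩)
  refine LC.of hd h1 h2 fun w h3 h4 => ((dc.ker ⟨w, mem_centralizer_singleton_iff.2 h3⟩).1 ?_).imp
    (congrArg Subtype.val) fun e => (congrArg Subtype.val e).trans hz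
  rw [← mem_bot, ← hQ, mem_center_iff]
  intro q
  obtain ⟨g, rfl⟩ := dc.surj q
  rw [← map_mul, ← map_mul]
  exact congrArg ξ (Subtype.ext (h4 g (mem_centralizer_singleton_iff.1 g.2)).symm)

end Cfsg.Agent.Fischer
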