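import Cfsg.Agent.Fischer.JF
import Cfsg.Agent.FiC.Glu2

/-!
The properties of the models that are used to identify a class of involutions.
-/

set_option autoImplicit false

namespace Cfsg.Agent.Fischer

open Subgroup Cfsg.Agent.Comp Cfsg.Agent.FiC

variable {G : Type*} [Group G] {D : Set G} {τ s : ℕ → G} {d : Dat} {n : ℕ}

/-- an involution is a product of commuting transpositions -/
theorem inv_of (b : Base D τ s d n) (hD : Cl D) {u v w : List ℕ}
    (k : d.clique [w, v, u] (ivl (nat_lit 0) d.m) = true)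
    (cls : ∀ y : G, y ^ 2 = 1 → GoodR s [u, v ++ u, w ++ v ++ u] y) {x : G} (hx : x ∈ D) (y : G)
    (hy : y * y = 1) (c : Commute y x) :
    ∃ Z ⊆ D, (∀ a ∈ Z, ∀ b ∈ Z, Commute a b) ∧ x ∈ Z ∧ y ∈ closure Z := by
  have key : ∀ Z ⊆ D, (∀ a ∈ Z, ∀ b ∈ Z, Commute a b) → (∀ a ∈ Z, Commute x a) → y ∈ closure Z →
      ∃ Z ⊆ D, (∀ a ∈ Z, ∀ b ∈ Z, Commute a b) ∧ x ∈ Z ∧ y ∈ closure Z := fun Z z1 z2 z3 z4 =>
    ⟨insert x Z, Set.insert_subset hx z1, by
      simp only [Set.forall_mem_insert]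
      exact ⟨⟨rfl, z3⟩, fun a ha => ⟨(z3 a ha).symm, z2 a ha⟩⟩, Set.mem_insert .., closure_mono
        (Set.subset_insert ..) z4⟩
  rcases cls y ((pow_two y).trans hy) with rfl | ⟨r, hr, g, e⟩
  · exact key ∅ (by simp) (by simp) (by simp) (one_mem _)
  obtain ⟨a1, a2, a3⟩ := b.clq_facts _ k g⁻¹
  have e' : y = g⁻¹ * E s r * g⁻¹⁻¹ := by rw [← e]; group
  simp only [List.map_cons, List.map_nil, List.nodup_cons, List.mem_cons, List.not_mem_nil, or_false,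
    not_or, forall_eq_or_imp, forall_eq] at a1 a2 a3 hr
  rcases hr with rfl | rfl | rfl <;> simp only [E, ev_append, ← conj_mul] at e' a1 a2 a3
  · exact key {y} (by simp [e' ▸ a2.2.2]) (by simp) (by simp [c.symm]) (subset_closure rfl)
  · have := hD.comm_mul a2.2.1 a2.2.2 hx a1.2.1 a3.2.1.2.2 (e' ▸ c.symm)
    exact key {_, _} (Set.insert_subset a2.2.1 (Set.singleton_subset_iff.2 a2.2.2))
      (by simp only [Set.forall_mem_insert, Set.mem_singleton_iff, forall_eq]; tauto)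
      (by simp only [Set.forall_mem_insert, Set.mem_singleton_iff, forall_eq]; exact this)
      (e' ▸ mul_mem (subset_closure (by simp)) (subset_closure (by simp)))
  · have := (S0437.result hD.tt a2.1 a2.2.1 a2.2.2 hx a1.1.1 a1.1.2 a1.2.1 a3.1.2.1 a3.1.2.2
      a3.2.1.2.2).1 (e' ▸ c.symm)
    exact key {_, _, _}
      (Set.insert_subset a2.1 (Set.insert_subset a2.2.1 (Set.singleton_subset_iff.2 a2.2.2)))
      (by simp only [Set.forall_mem_insert, Set.mem_singleton_iff, forall_eq]; tauto)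
      (by simp only [Set.forall_mem_insert, Set.mem_singleton_iff, forall_eq]; exact this)
      (e' ▸ mul_mem (mul_mem (subset_closure (by simp)) (subset_closure (by simp)))
        (subset_closure (by simp)))

theorem part_of (b : Base D τ s d n) (hD : Cl D) (ht : closure D = ⊤) {u v w h4 h5 h6 h7 : List ℕ}
    {W : List (List ℕ)} (t1 : TrU D s [u]) (t2 : ∀ τ s, Base D τ s d n → TrU D s [v, u])
    (t3 : ∀ τ s, Base D τ s d n → TrU D s [w, v, u])
    (cls : ∀ y : G, y ^ 2 = 1 → GoodR s [u, v ++ u, w ++ v ++ u] y)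
    (c2 : ∀ τ s, Base D τ s d n → Cen ⊤ s [[v, u].flatten] = genW (sv s) W)
    (n12 : ∀ τ (s : ℕ → G), Base D τ s d n → NC ⊤ s [u] [v ++ u])
    (n23 : ∀ τ (s : ℕ → G), Base D τ s d n → NC ⊤ s [v ++ u] [w ++ v ++ u])
    (k1 : d.ps [v, u] (invZ (dbl d.T) W) = true)
    (k2 : d.clique [w, v, u, h4, h5, h6, h7] (ivl (nat_lit 0) d.m) = true)
    (k3 : d.eqs [(w ++ v ++ u ++ h4, h5 ++ h6 ++ h7)] = true) : Part D D := by
  have tr : ∀ x ∈ D, ∃ g, x = g * E s u * g⁻¹ := fun x hx => by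
    simpa using t1 [x] (by simp) rfl (by simpa using hx) (by simp)
  have tr' : ∀ x ∈ D, ∀ y ∈ D, ∃ g, g * x * g⁻¹ = y := fun x hx y hy => by
    obtain ⟨g, rfl⟩ := tr x hx
    obtain ⟨k, rfl⟩ := tr y hy
    exact ⟨k * g⁻¹, by group⟩
  have F := fun τ s (b : Base D τ s d n) => b.clq_facts _ k2 1
  simp only [one_mul, inv_one, mul_one] at F
  have e3 : ∀ τ s, Base D τ s d n → E s w * E s v * E s u * E s h4 = E s h5 * E s h6 * E s h7 :=
    fun τ s b => by simpa only [E, ev_append] using b.x.eq1 _ _ k3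
  have F' := F
  simp only [List.map_cons, List.map_nil, List.nodup_cons, List.mem_cons, List.not_mem_nil, or_false,
    not_or, forall_eq_or_imp, forall_eq] at F'
  refine ⟨b.conj_mem, tr', hD, le_rfl, fun _ _ _ h _ => h, fun _ _ _ _ => ht ▸ mem_top _,
    fun x hx y hy => (tr' x hx y hy).imp fun g h => ⟨ht ▸ mem_top _, h⟩, fun y _ hy => ?_,
    ⟨_, (F' _ _ b).2.1.2.1, _, (F' _ _ b).2.1.2.2.1, (F' _ _ b).1.2.1.1, (F' _ _ b).2.2.2.1.2.2.1⟩,
    fun a ha a' ha' c hc e he h1 h2 h3 h4 => ?_, fun a ha a' ha' h1 h2 h3 => ?_,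
    fun a ha a' ha' h1 h2 => ?_, fun a ha a' ha' c hc h1 h2 h3 c1 c2 c3 => ?_⟩
  · obtain ⟨-, a2, a3⟩ := F' _ _ b
    rcases cls y ((pow_two y).trans hy) with rfl | ⟨r, hr, g, e⟩
    · exact ⟨_, a2.1, Commute.one_left _⟩
    refine ⟨g⁻¹ * E s u * g⁻¹⁻¹, b.conj_mem _ a2.2.2.1, ?_⟩
    rw [← commute_conj_iff g, e, show g * (g⁻¹ * E s u * g⁻¹⁻¹) * g⁻¹ = E s u by group]
    simp only [List.mem_cons, List.not_mem_nil, or_false] at hr
    rcases hr with rfl | rfl | rfl <;> simp only [E, ev_append] at a3 ⊢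
    exacts [rfl, a3.2.1.2.2.1.mul_left rfl, (a3.1.2.2.1.mul_left a3.2.1.2.2.1).mul_left rfl]
  · obtain ⟨τ', s', b', rfl, rfl⟩ := b.wlog2 (t2 _ _ b) ha ha' h1 h2
    have ne : c ≠ e := fun e' => h1 (by
      rw [e', hD.sq he] at h4; rw [← hD.inv ha']; exact eq_inv_of_mul_eq_one_left h4)
    obtain ⟨g, hg, e1⟩ := b'.same_prod (t2 _ _ b') (c2 _ _ b') [c, e] (by simpa using ne) rfl
      (by simp [hc, he]) (by simp [h3, h3.symm]) (by simp [h4])
    have := b'.x.inv_ps _ _ k1 hg (E s' v) (by simp)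
    simp only [List.map_cons, List.cons.injEq] at e1
    simpa [← e1.1] using this
  · obtain ⟨τ', s', b', rfl, rfl⟩ := b.wlog2 (t2 _ _ b) ha ha' h1 h2
    obtain ⟨g, e⟩ := tr' _ ha' _ h3
    exact (n12 _ _ b').not_conj g (by simpa only [E, ev_append] using e)
  · obtain ⟨τ', s', b', rfl, rfl⟩ := b.wlog2 (t2 _ _ b) ha ha' h1 h2
    obtain ⟨-, a2, a3⟩ := F _ _ b'
    refine ⟨_, ⟨3, rfl⟩, ?_, fun h hh =>
      ⟨a2 h hh, a3 h hh _ (by simp), a3 h hh _ (by simp), a3 h hh⟩⟩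
    obtain ⟨-, a2, a3⟩ := F' _ _ b'
    have c57 := a3.2.2.2.2.1.2.2.2.2.2.2
    have c56 := a3.2.2.2.2.1.2.2.2.2.2.1
    have c67 := a3.2.2.2.2.2.1.2.2.2.2.2.2
    have := sq_of_commute (by simpa [pow_two] using sq_of_commute (hD.sq a2.2.2.2.2.1) (hD.sq a2.2.2.2.2.2.1) c56)
      (hD.sq a2.2.2.2.2.2.2) (c57.mul_left c67)
    rw [pow_two] at this
    nth_rewrite 1 [← e3 _ _ b'] at this
    simpa [mul_assoc] using this
  · obtain ⟨τ', s', b', rfl, rfl, rfl⟩ := b.wlog3 (t3 _ _ b) ha ha' hc h1 h2 h3 c1 c2 c3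
    obtain ⟨a1, a2, a3⟩ := F' _ _ b'
    refine ⟨E s' h4, a2.2.2.2.1, (a3.2.2.2.1.1.mul_right a3.2.2.2.1.2.1).mul_right a3.2.2.2.1.2.2.1,
      fun g _ e => ?_⟩
    obtain ⟨k, e1⟩ := t2 _ _ b' [E s' w, E s' v] (by simpa using h1) rfl (by simp [ha, ha'])
      (by simp [c1, c1.symm])
    obtain ⟨k', e2⟩ := t3 _ _ b' [E s' h5, E s' h6, E s' h7] (by simp only [List.nodup_cons]; simp [a1])
      rfl (by simp [a2]) (by simp [a3])
    simp only [List.map_cons, List.cons.injEq] at e1 e2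
    rw [e3 _ _ b', congrArg₂ (· * ·) e1.1 e1.2.1, e2.1, e2.2.1, e2.2.2.1] at e
    refine (n23 _ _ b').not_conj (k'⁻¹ * g * k) ?_
    simp only [E, ev_append, conj_mul] at e ⊢
    rw [← mul_right_inj k', ← mul_left_inj k'⁻¹, ← e]; group

end Cfsg.Agent.Fischer
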