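import Cfsg.Agent.Fischer.M22C

/-!
The generators in a locally unitary set of involutions.
-/

set_option autoImplicit false

namespace Cfsg.Agent.Fischer.U6

open Cfsg.Agent.Herm Module Cfsg.Agent.Comp

variable {F V : Type*} [Field F] [AddCommGroup V] [Module F V] {σ : F →+* F}
  {B : V →ₛₗ[σ] V →ₗ[F] F} {G : Type*} [Group G]

/-- the generators -/
theorem exists_gens' (S : Sp B) {X : Set G} (hX : ∀ {x}, x ∈ X → x * x = 1) (hL : LocU B X) (hne : X.Nonempty) :
    ∃ t : ℕ → G, (∀ k < 9, t k ∈ X) ∧ Sat t M22Tc.R ∧ t 1 ≠ t 0 ∧ t 2 ≠ t 0 := by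
  haveI := S.finite
  haveI := S.fd
  have hB := S.hB
  obtain ⟨r, hr⟩ := hne
  obtain ⟨p, hp⟩ := hL r hr
  obtain ⟨ω, i, h, d, w, a, b, q, oa, ob, aa, bb, ab⟩ := exists_q4 S
  -- a first view from `r`
  have v1 := q.view S hp oa ob aa bb ab one_ne_zero
  have ia : Is B a := ⟨ne_zero_of_b (B := B) (y := b) (by rw [ab]; exact one_ne_zero), aa⟩
  have ib : Is B b := ⟨ne_zero_of_b' (B := B) (x := a) (by rw [ab]; exact one_ne_zero), bb⟩
  have ie : Is B (ω • i + w) := by simpa [L8, vec, io] using (v1.pt 6 (by omega)).1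
  have mA : p a ∈ loc X r := hp.mem _ ia
  have mB : p b ∈ loc X r := hp.mem _ ib
  have nab : ¬ Commute (p a) (p b) := v1.ncom S hp 7 5 (by decide)
  have la : ∀ k < 8, Commute (p a) ([p i, p h, p d, p w, p (ω • i + w + (1 : F) • a), p b,
      p (ω • i + w), p a].getD k 1) → k ≠ 7 → k ≠ 4 → [p i, p h, p d, p w, p (ω • i + w + (1 : F) • a),
      p b, p (ω • i + w), p a].getD k 1 ∈ loc X (p a) := by
    intro k hk hc n7 n4
    refine ⟨(v1.mem S hp (w := []) (j := k) (by simpa using hk)).1, fun e => ?_, hc⟩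
    interval_cases k
    · exact v1.ncom S hp 0 1 (by decide) (e ▸ v1.com S hp 7 1 (by decide))
    · exact v1.ncom S hp 1 0 (by decide) (e ▸ v1.com S hp 7 0 (by decide))
    · exact v1.ncom S hp 2 1 (by decide) (e ▸ v1.com S hp 7 1 (by decide))
    · exact v1.ncom S hp 3 1 (by decide) (e ▸ v1.com S hp 7 1 (by decide))
    · exact n4 rfl
    · exact nab hc
    · exact v1.ncom S hp 6 2 (by decide) (e ▸ v1.com S hp 7 2 (by decide))
    · exact n7 rfl
  have mi : p i ∈ loc X (p a) := la 0 (by omega) (v1.com S hp 7 0 (by decide)) (by omega) (by omega)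
  have mh : p h ∈ loc X (p a) := la 1 (by omega) (v1.com S hp 7 1 (by decide)) (by omega) (by omega)
  have md : p d ∈ loc X (p a) := la 2 (by omega) (v1.com S hp 7 2 (by decide)) (by omega) (by omega)
  have mw : p w ∈ loc X (p a) := la 3 (by omega) (v1.com S hp 7 3 (by decide)) (by omega) (by omega)
  have me : p (ω • i + w) ∈ loc X (p a) :=
    la 6 (by omega) (v1.com S hp 7 6 (by decide)) (by omega) (by omega)
  have mr : r ∈ loc X (p a) := loc_symm hr mA
  have cr : ∀ k < 8, Commute ([p i, p h, p d, p w, p (ω • i + w + (1 : F) • a), p b,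
      p (ω • i + w), p a].getD k 1) r := fun k hk =>
    (v1.mem S hp (w := []) (j := k) (by simpa using hk)).2.2.symm
  have r4 : R4 (p i) (p h) (p d) (p w) := ⟨v1.ncom S hp 0 1 (by decide), v1.ncom S hp 1 2 (by decide),
    v1.ncom S hp 2 3 (by decide), v1.ncom S hp 1 3 (by decide), v1.com S hp 0 2 (by decide),
    v1.com S hp 0 3 (by decide), fun e => by
      have := (v1.comm_iff S hp (w := []) (j := 2) (w' := [1]) (j' := 3) (by decide) (by decide)).1 e
      revert this; decide⟩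
  have bi : Commute (p b) (p i) := v1.com S hp 5 0 (by decide)
  have bh : Commute (p b) (p h) := v1.com S hp 5 1 (by decide)
  have bd : Commute (p b) (p d) := v1.com S hp 5 2 (by decide)
  have bw : Commute (p b) (p w) := v1.com S hp 5 3 (by decide)
  have be : Commute (p b) (p (ω • i + w)) := v1.com S hp 5 6 (by decide)
  -- the view from `a`
  obtain ⟨p', hp'⟩ := hL _ mA.1
  obtain ⟨ω', i', h', d', w', q', ⟨i1, i2⟩, ⟨h1, h2⟩, ⟨d1, d2⟩, ⟨w1, w2⟩⟩ := hp'.q4 S mi mh md mw r4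
  obtain ⟨e', e1, e2, e3⟩ := hp'.scale S d1 me (by rw [d2]; exact v1.ncom S hp 2 6 (by decide))
  obtain ⟨ρ, ρ1, ρ2⟩ := hp'.surj r mr
  have oρ : O4 B i' h' d' w' ρ := by
    refine ⟨(hp'.comm i1 ρ1 S).1 ?_, (hp'.comm h1 ρ1 S).1 ?_, (hp'.comm d1 ρ1 S).1 ?_,
      (hp'.comm w1 ρ1 S).1 ?_⟩ <;> rw [ρ2]
    · rw [i2]; exact cr 0 (by omega)
    · rw [h2]; exact cr 1 (by omega)
    · rw [d2]; exact cr 2 (by omega)
    · rw [w2]; exact cr 3 (by omega)
  obtain ⟨z, oz, zz, ρz⟩ := q'.partner S oρ ρ1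
  obtain ⟨a1, a2, a3, a4⟩ := q'.v0 S
  have ie' : B i' e' = 0 := (hp'.comm i1 e1 S).1 (by rw [i2, e2]; exact v1.com S hp 0 6 (by decide))
  have he' : B h' e' = 0 := (hp'.comm h1 e1 S).1 (by rw [h2, e2]; exact v1.com S hp 1 6 (by decide))
  have we' : B w' e' = 0 := (hp'.comm w1 e1 S).1 (by rw [w2, e2]; exact v1.com S hp 3 6 (by decide))
  have ρe' : B ρ e' = 0 := (hp'.comm ρ1 e1 S).1 (by rw [ρ2, e2]; exact (cr 6 (by omega)).symm)
  have ee : e' = ω' • i' + w' + B z e' • ρ := by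
    rw [← sub_eq_zero]
    refine (q'.gram S oρ oz ρ1.2 zz ρz).eq_zero hB q'.om S.hn N6_dual fun j hj => ?_
    interval_cases j <;> simp only [List.getD_cons_zero, List.getD_cons_succ] <;>
      rw [map_sub, map_add]
    · simp [a1, ie', oρ.1]
    · simp [a2, he', oρ.2.1]
    · simp [a3, e3, oρ.2.2.1]
    · simp [a4, we', oρ.2.2.2]
    · simp [ρe', ρ1.2, hB.zero_symm oρ.1, hB.zero_symm oρ.2.2.2]
    · simp [hB.zero_symm oz.1, hB.zero_symm oz.2.2.2, hB.one_symm ρz]
  have hl : B z e' ≠ 0 := by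
    intro e
    rw [e, zero_smul, add_zero] at ee
    have := lemB' S hL mA.1 mB.1 nab hp' i1 w1 e1 q'.iw (a := ω') (b := 1) (by rw [ee, one_smul])
      (by rw [i2, w2]; exact fun e => v1.ncom S hp 3 2 (by decide) (e ▸ v1.com S hp 0 2 (by decide)))
      (by rw [i2, e2]; exact fun e => v1.ncom S hp 6 2 (by decide) (e ▸ v1.com S hp 0 2 (by decide)))
      (by rw [i2]; exact bi) (by rw [w2]; exact bw) (by rw [e2]; exact be)
    rw [w2, e2] at this
    exact v1.ncom S hp 3 1 (by decide) (this ▸ v1.com S hp 6 1 (by decide))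
  have v2 := q'.view S hp' oρ oz ρ1.2 zz ρz hl
  rw [← ee, i2, h2, d2, w2, e2, ρ2] at v2
  set f := p' z with hf
  set c := p' (ω' • i' + w') with hc
  have mf : f ∈ loc X (p a) := v2.mem S hp' (w := []) (j := 5) (by decide)
  have mc : c ∈ loc X (p a) := v2.mem S hp' (w := []) (j := 6) (by decide)
  have br : Commute (p b) r := mB.2.2.symm
  have bf : Commute (p b) f := by
    obtain ⟨p'', hp''⟩ := hL _ mi.1
    obtain ⟨y, y1, y2, y3⟩ := lemA S hp'' (loc_symm mA.1 mi) (y := p b) (z := f)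
      ⟨mB.1, fun e => r4.ih (e ▸ bh), bi.symm⟩ nab
      ⟨⟨mf.1, fun e => v2.ncom S hp' 0 1 (by decide) (e ▸ v2.com S hp' 5 1 (by decide)),
        v2.com S hp' 0 5 (by decide)⟩, mf.2⟩
    obtain ⟨ζ, ζ1, rfl⟩ := hp'.surj y ⟨y1.1.1, y1.2⟩
    have iz : Is B z := ⟨ne_zero_of_b' (B := B) (x := ρ) (by rw [ρz]; exact one_ne_zero), zz⟩
    obtain ⟨α, β, e⟩ := lin S i1 iz ζ1 oz.1 fun s hs s1 s2 => by
      rw [← hp'.comm hs ζ1 S]
      by_cases e : p' s = p i
      · rw [e]; exact y1.1.2.2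
      · exact y3 _ ⟨(hp'.mem s hs).1, e, by rw [← i2]; exact ((hp'.comm hs i1 S).2 s1).symm⟩
          (hp'.mem s hs).2.2.symm ((hp'.comm hs iz S).2 s2)
    have hβ : β ≠ 0 := by
      rintro rfl
      exact y1.1.2.1 (by rw [← i2]; exact hp'.eq_of_smul i1 ζ1 (c := α) (by simpa using e))
    have hσ : σ (B z e') ≠ 0 := by simpa using hl
    obtain ⟨γ, hγ⟩ := exists_io S.hF hB.toInv q'.om (α * (β * σ (B z e'))⁻¹)
    have eζ : p' ζ = p' (vec ω' (fun k => [i', h', d', w', e', (σ (B z e'))⁻¹ • z].getD k 0) 0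
        [γ, .z, .z, .z, .z, .o]) := by
      refine hp'.eq_of_smul (v2.gram.is q'.om (unit 4) (by cases γ <;> decide)) ζ1
        (c := β * σ (B z e')) ?_
      rw [vec, ← hγ]
      simp only [List.getD_cons_zero, List.getD_cons_succ, vec, io, one_smul, zero_smul, add_zero,
        zero_add, e, smul_add, smul_smul]
      congr 2 <;> field_simp
    have v3 := v2.extend (Y := X) S [γ, .z, .z, .z, .z, .o] (unit 4) (by cases γ <;> decide)
    rw [← eζ] at v3
    have hA : ∀ k ∈ [0, 1, 2, 3, 4, 7, 8], Commute (p b) ((fun k => if k = 8 then p' ζ else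
        [p i, p h, p d, p w, p (ω • i + w), f, c, r].getD k 1) k) := by
      simp [bi, bh, bd, bw, be, br, y2]
    cases γ
    · rw [eζ] at y2
      have := (v2.pt 5 (by omega)).2
      simp only [L8, List.getD_cons_zero, List.getD_cons_succ] at this
      rwa [this] at y2
    · exact (v3.col S hL mA.1 mB.1 nab hp' hA [] 0 [] 3 [1, 8, 7, 4, 8, 3] 1 .w .w (unit 2) (unit 2)
        [.z, .o, .v] (by decide)).elim
    · exact (v3.col S hL mA.1 mB.1 nab hp' hA [] 3 [] 4 [8, 1, 2, 3, 1, 8, 4] 2 .v .o (unit 5)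
        (unit 5) (unit 1) (by decide)).elim
    · exact (v3.col S hL mA.1 mB.1 nab hp' hA [] 0 [] 3 [1, 8, 7, 4, 8, 1] 0 .w .w (unit 2) (unit 2)
        [.z, .o, .v] (by decide)).elim
  -- the point `c` seen from `r`
  obtain ⟨c', c1, c2⟩ := hp.surj c ⟨mc.1, fun e => v2.ncom S hp' 6 2 (by decide)
    (e ▸ v2.com S hp' 7 2 (by decide)), v2.com S hp' 7 6 (by decide)⟩
  have ic : Is B (ω' • i' + w') := by simpa [L8, vec, io] using (v2.pt 6 (by omega)).1
  obtain ⟨α, β, e⟩ := lin S ia ie c1 ((hp.comm ia ie S).1 me.2.2) fun s hs s1 s2 => by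
    rw [← hp.comm hs c1 S, c2]
    by_cases e : p s = p a
    · rw [e]; exact mc.2.2
    · obtain ⟨s', s3, s4⟩ := hp'.surj (p s) ⟨(hp.mem s hs).1, e, ((hp.comm hs ia S).2 s1).symm⟩
      have t1 := (hp'.comm s3 ρ1 S).1 (by rw [s4, ρ2]; exact (hp.mem s hs).2.2.symm)
      have t2 := (hp'.comm s3 e1 S).1 (by rw [s4, e2]; exact (hp.comm hs ie S).2 s2)
      rw [ee, map_add, map_smul, t1] at t2
      rw [← s4, hp'.comm s3 ic S]; simpa using t2
  have hβ : β ≠ 0 := by
    rintro rfl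
    exact mc.2.1 (by rw [← c2]; exact hp.eq_of_smul ia c1 (c := α) (by simpa using e))
  have hα : α ≠ 0 := by
    rintro rfl
    have : c = p (ω • i + w) := by rw [← c2]; exact hp.eq_of_smul ie c1 (c := β) (by simpa using e)
    exact v2.ncom S hp' 4 5 (by decide) (this ▸ v2.com S hp' 6 5 (by decide))
  have v4 := q.view S hp oa ob aa bb ab (l := β⁻¹ * α) (by simp [hα, hβ])
  have ec : p (ω • i + w + (β⁻¹ * α) • a) = c := by
    rw [← c2]
    refine hp.eq_of_smul c1 (by simpa [L8, vec, io] using (v4.pt 4 (by omega)).1) (c := β⁻¹) ?_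
    rw [e, smul_add, smul_smul, smul_smul, inv_mul_cancel₀ hβ, one_smul, add_comm]
  rw [ec] at v4
  refine ⟨fun k => [p a, p b, c, p d, p (ω • i + w), f, p h, p i, p w, r].getD k 1, fun k hk => ?_,
    fun w hw => ?_, fun e => nab (by rw [show p b = p a from e]), mc.2.1⟩
  · interval_cases k
    exacts [mA.1, mB.1, mc.1, md.1, me.1, mf.1, mh.1, mi.1, mw.1]
  · rcases R_sub w hw with e | e | rfl | rfl
    · exact sat_map (v2.sat S hp' Rc_ok) (fun k hk => by interval_cases k <;> rfl) w e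
    · exact sat_map (v4.sat S hp Rc_ok) (fun k hk => by interval_cases k <;> rfl) w e
    · simpa [sq, mul_assoc] using sq_of_commute (hX mA.1) (hX mf.1) mf.2.2
    · simpa [sq, mul_assoc] using sq_of_commute (hX mB.1) (hX mf.1) bf

end Cfsg.Agent.Fischer.U6
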