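import Cfsg.Agent.Fischer.JG
import Cfsg.Agent.Fischer.M22D
import Cfsg.Agent.Fischer.L23

/-!
A closed part of a class of involutions that is locally the class of `2 · U₆(2)` or `2 · Fi₂₂`.
-/

set_option autoImplicit false
set_option maxRecDepth 100000
set_option synthInstance.maxSize 1024

namespace Cfsg.Agent.Fischer

open Cfsg.Agent.Comp Cfsg.Agent.Fischer.U6

variable {G : Type*} [Group G]

theorem PM.part_of_pres {G₀ : Type} [Group G₀] {s : ℕ → G₀} {L n k : ℕ} {T : List Net}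
    {U : List (List ℕ)} {φ : G₀ →* Equiv.Perm ℕ} {x : G₀}
    (h : PM s L n k T φ x U) {R : List (List ℕ)} (hp : IsPres s L R)
    (hR : ∀ w ∈ R, ∀ y ∈ w, y < L) {X : Set G} (hX : ∀ g : G, ∀ y ∈ X, g * y * g⁻¹ ∈ X)
    {t : ℕ → G} (hs : Sat t R) (ht : t 0 ∈ X) (o0 : orderOf (t 0) = 2) (par : List ℕ)
    (tr : treeOK R L par = true) {i₁ i₂ : ℕ} (l1 : i₁ < L) (l2 : i₂ < L)
    (c1 : s i₁ ∈ loc (conjugatesOf x) (s 0)) (c2 : ¬ Commute (s 0) (s i₂)) (n1 : t i₁ ≠ t 0)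
    (n2 : t i₂ ≠ t 0) (hfin : (loc X (t 0)).Finite) (hval : (loc X (t 0)).ncard ≤ k) :
    ∃ Δ θ, FI (conjugatesOf x) Δ θ ∧ Δ ⊆ X ∧ ∀ v ∈ Δ, loc X v ⊆ Δ := by
  have L0 : 0 < L := by omega
  obtain ⟨ψ, hψ, -⟩ := hp.lift hR t hs
  refine h.exists_part hX hp.top (h.s_mem L0) ht o0 (fun p hp' c => ?_) (conj_of_tree (fun w hw =>
    Prod.ext ((map_ev _ (MonoidHom.fst G₀ G) w).trans (hp.sat w hw))
      ((map_ev _ (MonoidHom.snd G₀ G) w).trans (hs w hw))) par tr) l1 l2 c1 c2 n1 n2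
    (hψ 0 L0 ▸ hψ _ l1 ▸ c1.2.2.map ψ) ?_ hfin hval
  · have le : gen (fun j => (s j, t j)) L ≤
        MonoidHom.eqLocus (ψ.comp (MonoidHom.fst G₀ G)) (MonoidHom.snd G₀ G) :=
      gen_le.2 fun j hj => hψ j hj
    exact hψ 0 L0 ▸ (show ψ p.1 = p.2 from le hp') ▸ c.map ψ
  · rw [← hψ 0 L0, ← hψ _ l2, ← map_mul, ← map_pow, tt_cube h.cl.tt (h.s_mem L0) (h.s_mem l2) c2,
      map_one]

theorem sat_cox' {t : ℕ → G} {L : ℕ} (sq : ∀ j < L, t j * t j = 1)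
    (br : ∀ i < L, ∀ j < L, ¬ Commute (t i) (t j) → t i * t j * t i = t j * t i * t j)
    {E : List (ℕ × ℕ)} (h : ∀ i < L, ∀ j < L, Commute (t i) (t j) ↔ ¬ ((i, j) ∈ E ∨ (j, i) ∈ E))
    {R : List (List ℕ)} (hc : coxOK R L E = true) : Sat t R := by
  intro r hr
  simp only [coxOK, List.all_eq_true, List.any_eq_true, List.mem_range, Bool.or_eq_true,
    Bool.and_eq_true, decide_eq_true_eq, Bool.not_eq_true', decide_eq_false_iff_not] at hc
  obtain ⟨i, hi, j, hj, (rfl | ⟨rfl, e⟩) | ⟨rfl, e⟩⟩ := hc r hr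
  · simpa using sq i hi
  · simpa [pow_two, mul_assoc] using sq_of_commute (sq i hi) (sq j hj) ((h i hi j hj).2 e)
  · rw [show ev t [i, j, i, j, i, j] = (t i * t j * t i) * (t j * t i * t j) by simp [mul_assoc],
      br i hi j hj fun c => (h i hi j hj).1 c e]
    simp only [mul_assoc, cancel_of_mul_self (sq i hi), cancel_of_mul_self (sq j hj), sq j hj]

/-- the common neighbours of two non-commuting transpositions -/
theorem mu22_of' (hU : M22.U22) {X : Set G} (hL : Loc22 X) {x y : G} (hx : x ∈ X)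
    (hy : y ∈ X) (hxy : ¬ Commute x y) : Mu22 (loc X x) {m | m ∈ loc X x ∧ Commute y m} := by
  obtain ⟨F, _, σ, B, S, hU⟩ := hU
  have mx : ∀ {v}, v ∈ {m | m ∈ loc X x ∧ Commute y m} → x ∈ loc X v ∧ y ∈ loc X v := fun hv =>
    ⟨loc_symm hx hv.1, hy, fun e => hxy (e ▸ hv.1.2.2), hv.2.symm⟩
  have uc : ∀ {v v'}, v ∈ {m | m ∈ loc X x ∧ Commute y m} → v' ∈ {m | m ∈ loc X x ∧ Commute y m} →
      v' ∈ loc (loc X x) v → (∃ p, UC B (loc (loc X v) v') p) ∧ x ∈ loc (loc X v) v' ∧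
        y ∈ loc (loc X v) v' := fun hv hv' h1 => by
    obtain ⟨θ, e⟩ := hL _ hv.1.1
    exact ⟨hU.fi e _ ⟨h1.1.1, h1.2⟩, ⟨(mx hv).1, (mx hv').1.2⟩, (mx hv).2, (mx hv').2.2⟩
  refine ⟨fun _ h => h.1, fun a ha b hb => ⟨(hL x hx).elim (fun _ e => e.cl.op a ha.1 b hb.1),
    (ha.2.mul_right hb.2).mul_right ha.2⟩, fun v hv v' hv' h1 z hz => ?_,
    fun v hv v' hv' r hr r' hr' h1 h2 h3 H => ?_, fun v hv => ?_⟩
  · obtain ⟨⟨p, hp⟩, m1, m2⟩ := uc hv hv' h1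
    obtain ⟨z', k1, k2, k3⟩ := lemA S hp m1 m2 hxy (z := z)
      ⟨⟨⟨hz.1.1.1, hz.1.2⟩, hz.2⟩, hz.1.1.2⟩
    refine ⟨z', ⟨⟨k1.1.1.1, k1.2⟩, k2⟩, k1.1.1.2.1, k1.1.2.1, fun t ht c1 c2 c3 => ?_⟩
    by_cases e1 : t = v
    · exact e1 ▸ k1.1.1.2.2
    by_cases e2 : t = v'
    · exact e2 ▸ k1.1.2.2
    exact k3 t ⟨⟨ht.1, e1, c1.symm⟩, e2, c2.symm⟩ ht.2.2.symm c3
  · obtain ⟨⟨p, hp⟩, m1, m2⟩ := uc hv hv' h1
    refine lemB S hp m1 m2 hxy ⟨⟨h2.1.1.1, h2.1.2⟩, h2.2⟩ ⟨⟨h3.1.1.1, h3.1.2⟩, h3.2⟩ hr.1.2.2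
      hr.2 hr'.2 fun t ht c1 c2 => ?_
    by_cases e : t = x
    · exact e ▸ hr'.1.2.2
    exact H t ⟨ht.1.1, e, c1.symm⟩ ht.1.2.2.symm ht.2.2.symm c2
  · obtain ⟨θ, e⟩ := hL _ hv.1.1
    obtain ⟨η, e, e1, e2⟩ := F22.pm.view e (mx hv).1 (mx hv).2 hxy F22.tpm F22.tpm F22.nab
    have m : ∀ q ∈ [76, 21, 22, 345, 28, 84], F22.tp q ∈ F22.D ∧
        η (F22.tp q) ∈ {m | m ∈ loc X x ∧ Commute y m} ∩ loc (loc X x) v := fun q hq => by
      obtain ⟨h1, h2⟩ := (by decide : ∀ q ∈ [76, 21, 22, 345, 28, 84], q < 3510 ∧ q ≠ 0) q hq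
      have k1 := e.mem (F22.tpm h1)
      have k2 : η (F22.tp q) ∈ loc X x := ⟨k1.1, e1 ▸ e.ne (F22.tpm h1) F22.tpm
        fun e => h2 (F22.pm.tp_inj h1 (by decide) e),
        e1 ▸ (e.comm F22.tpm (F22.tpm h1)).2 (F22.tup_com 0 (by simp) q hq)⟩
      exact ⟨F22.tpm h1, ⟨k2, e2 ▸ (e.comm F22.tpm (F22.tpm h1)).2
        (F22.tup_com 695 (by simp) q hq)⟩, k2, k1.2⟩
    exact ⟨_, (m 76 (by simp)).2, _, (m 21 (by simp)).2, _, (m 22 (by simp)).2, _,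
      (m 345 (by simp)).2, _, (m 28 (by simp)).2, _, (m 84 (by simp)).2,
      (e.r6 F22.tpm F22.tpm F22.tpm F22.tpm F22.tpm F22.tpm).2 F22.tup⟩

namespace F22
open Cfsg.Agent.Comp.Fi22

theorem core' {X : Set G} (h : LC X (loc D x0)) :
    ∃ Δ θ, FI D Δ θ ∧ Δ ⊆ X ∧ ∀ v ∈ Δ, loc X v ⊆ Δ := by
  obtain ⟨F, _, σ, B, S, hU⟩ := u22
  have hL : LocU B X := fun v hv => (h.fi v hv).elim fun _ e => (hU _ pm.x_mem).elim fun _ hp =>
    ⟨_, hp.fi e⟩
  obtain ⟨t, ht, hs, n1, n2⟩ := exists_gens' S (fun hx => mul_self_of_orderOf_two (h.ord _ hx)) hL h.ne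
  have hst : Sat (fun j => (s' j, t j)) M22Tc.R := fun w hw => Prod.ext
    ((map_ev _ (MonoidHom.fst Cfsg.Spor.Fi22 G) w).trans (sat' w hw))
    ((map_ev _ (MonoidHom.snd Cfsg.Spor.Fi22 G) w).trans (hs w hw))
  obtain ⟨p, hp⟩ := hL _ (ht 0 (by omega))
  exact pm.exists_part h.conj top' pm.x_mem (ht 0 (by omega)) (h.ord _ (ht 0 (by omega)))
    (fun p hp hc => by
      have := le_of_relIndex (S := (Subgroup.centralizer {s' 0}).comap (MonoidHom.fst _ G))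
        (genW_le_gen (by decide)) (fun q hq => by
          have := Subgroup.mem_centralizer_singleton_iff.1 (com_W hst hq)
          exact Subgroup.mem_centralizer_singleton_iff.2 (congrArg Prod.fst this))
        (M22Tc.index _ _ hst) (by
          rw [Subgroup.relIndex_comap, map_genW]
          show Subgroup.relIndex _ (gen s' 9) = _
          rw [top', Subgroup.relIndex_top_right, ← stab.1]
          congr 1
          ext g
          rw [stab.2, pm.cent, Subgroup.mem_centralizer_singleton_iff]; rfl)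
        ⟨Subgroup.mem_centralizer_singleton_iff.2 (show p.1 * s' 0 = s' 0 * p.1 from hc), hp⟩
      exact congrArg Prod.snd (Subgroup.mem_centralizer_singleton_iff.1 (com_W hst this)))
    (conj_of_tree hst [0, 0, 1, 2, 3, 4, 3, 6, 3] (by decide +kernel))
    (i₁ := 2) (i₂ := 1) (by omega) (by omega) (by
      rw [s'0, pm.loc_x]
      exact ⟨36, by simp, (pm.isPt_spec (a := ([], 2)) (by decide +kernel)).2.symm.trans
        (ev_single s 2).symm⟩)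
    (by
      rw [s'0, show s' 1 = tpt phi (ev s b0) 695 from (ev_single s 1).trans
        (pm.isPt_spec (a := ([], 1)) (by decide +kernel)).2, pm.comm0 (by omega)]
      omega) n2 n1 (Subgroup.mem_centralizer_singleton_iff.1
        (com_W hs (ev_single t 2 ▸ ev_mem_genW (by decide)))).symm
    (by simpa [pow_succ, mul_assoc] using hs [0, 1, 0, 1, 0, 1] (by decide +kernel))
    (hp.ncard_le S).1 (hp.ncard_le S).2

end F22

namespace F23
open Cfsg.Agent.Comp.Fi23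

theorem core' {X : Set G} {Y : Set Cfsg.Spor.Fi23} (h : LC X Y) {κ : Cfsg.Spor.Fi22 → Cfsg.Spor.Fi23}
    (hκ : FI F22.D Y κ) : ∃ Δ θ, FI D Δ θ ∧ Δ ⊆ X ∧ ∀ v ∈ Δ, loc X v ⊆ Δ := by
  have hL : Loc22 X := fun v hv => (h.fi v hv).elim fun _ e => ⟨_, hκ.comp e⟩
  have hU := F22.u22
  have m : ∀ j < 9, Fi22.s j ∈ F22.D := fun j hj => F22.pm.s_mem hj
  obtain ⟨w, hw⟩ := h.ne
  obtain ⟨θ, e⟩ := hL w hw
  have hx := e.mem (m 0 (by omega))
  obtain ⟨y, hy, hxy⟩ := F22.pm.ncomm_fi e hx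
  generalize θ (Fi22.s 0) = x at hx hxy
  have hw' := loc_symm hw hx
  obtain ⟨θ, e⟩ := hL x hx.1
  obtain ⟨η, e, H⟩ := F22.an hU (mu22_of' hU hL hx.1 hy.1 hxy) e ⟨w, hw', hy.2.2.symm⟩
  have ng : ¬ Commute y (η (Fi22.s 6)) := fun c => by
    obtain ⟨u, hu, c'⟩ := hL.far hx.1 hy.1 hxy hw' hy.2.2.symm
    refine c' (F22.pm.cent_of_letters e (fun j hj => ?_) (by omega) u hu)
    by_cases j6 : j = 6
    · rwa [j6]
    · exact (H j ((by decide : ∀ j < 9, j ≠ 6 → j ∈ [0, 1, 2, 3, 4, 5, 7, 8]) j hj j6)).2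
  let t : ℕ → G := fun j => if j = 7 then y else η (Fi22.s (dn.getD j 0))
  have l : ∀ j < 10, dn.getD j 0 < 9 := by decide
  have ty : ∀ j < 10, j ≠ 7 → (Commute y (t j) ↔ j ≠ 6) := fun j hj j7 => by
    simp only [t, if_neg j7]
    by_cases j6 : j = 6
    · subst j6; exact iff_of_false ng (by simp)
    · simpa [j6] using (H _ ((by decide : ∀ j < 10, j ≠ 7 → j ≠ 6 →
        dn.getD j 0 ∈ [0, 1, 2, 3, 4, 5, 7, 8]) j hj j7 j6)).2
  obtain ⟨θ, e0⟩ := hL _ (e.mem (m 0 (by omega))).1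
  have h0 : ∀ i < 10, ∀ j < 10, Commute (t i) (t j) ↔ ¬ ((i, j) ∈ E ∨ (j, i) ∈ E) := fun i hi j hj => by
    by_cases i7 : i = 7 <;> by_cases j7 : j = 7
    · subst i7 j7; exact iff_of_true (Commute.refl _) (by decide)
    · subst i7
      exact (ty j hj j7).trans ((by decide : ∀ j < 10, j ≠ 7 →
        (j ≠ 6 ↔ ¬ ((7, j) ∈ E ∨ (j, 7) ∈ E))) j hj j7)
    · subst j7
      exact Commute.symm_iff.trans ((ty i hi i7).trans ((by decide : ∀ j < 10, j ≠ 7 →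
        (j ≠ 6 ↔ ¬ ((j, 7) ∈ E ∨ (7, j) ∈ E))) i hi i7))
    · simp only [t, if_neg i7, if_neg j7]
      rw [e.comm (m _ (l i hi)) (m _ (l j hj)), F22.cox _ (l i hi) _ (l j hj)]
      exact (decide_eq_decide.1 ((by decide +kernel : ∀ i < 10, ∀ j < 10, i ≠ 7 → j ≠ 7 →
        decide ((dn.getD i 0, dn.getD j 0) ∈ F22.E ∨ (dn.getD j 0, dn.getD i 0) ∈ F22.E) =
          decide ((i, j) ∈ E ∨ (j, i) ∈ E)) i hi j hj i7 j7)).not
  have tl : ∀ j < 10, j ≠ 7 → t j ∈ loc X x := fun j hj j7 => by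
    simpa only [t, if_neg j7] using e.mem (m _ (l j hj))
  have tX : ∀ j < 10, t j ∈ X := fun j hj => by
    by_cases j7 : j = 7
    · simpa [t, j7] using hy.1
    · exact (tl j hj j7).1
  have b6 : y ∈ loc X (t 0) ∧ t 6 ∈ loc X (t 0) :=
    ⟨⟨hy.1, fun e => hxy (e ▸ (tl 0 (by omega) (by omega)).2.2),
      ((ty 0 (by omega) (by omega)).2 (by omega)).symm⟩, tX 6 (by omega),
      e.ne (m 6 (by omega)) (m 0 (by omega)) (F22.s_ne 6 (by omega) 0 (by omega) (by omega)),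
      (h0 0 (by omega) 6 (by omega)).2 (by decide)⟩
  refine pm.part_of_pres pres (by decide +kernel) h.conj (t := t) (fun r hr => ?_) (tX 0 (by omega))
    (h.ord _ (tX 0 (by omega))) [0, 0, 1, 2, 3, 4, 5, 6, 3, 8] (by decide +kernel) (i₁ := 2) (i₂ := 1)
    (by omega) (by omega) ⟨pm.s_mem (by omega), s_ne 2 (by omega) 0 (by omega) (by omega),
      (cox 0 (by omega) 2 (by omega)).2 (by decide)⟩
    (fun c => (cox 0 (by omega) 1 (by omega)).1 c (by decide))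
    (e.ne (m 2 (by omega)) (m 0 (by omega)) (F22.s_ne 2 (by omega) 0 (by omega) (by omega)))
    (fun e => (h0 0 (by omega) 1 (by omega)).1 (e ▸ Commute.refl _) (by decide))
    (e0.bij.image_eq ▸ F22.pm.finite.image _) (e0.ncard.symm.trans F22.pm.ncard).le
  by_cases hl : r.length ≤ 6
  · refine sat_cox' (fun i hi => mul_self_of_orderOf_two (h.ord _ (tX i hi))) (fun i hi j hj c => ?_)
      h0 (R := R.filter fun r => r.length ≤ 6) (by decide +kernel) r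
      (List.mem_filter.2 ⟨hr, by simpa using hl⟩)
    by_cases i7 : i = 7 <;> by_cases j7 : j = 7
    · exact absurd (by rw [i7, j7]) c
    · subst i7
      obtain rfl := not_not.1 (mt (ty j hj j7).2 c)
      exact e0.cl.braid b6.1 b6.2 c
    · subst j7
      obtain rfl := not_not.1 (mt (ty i hi i7).2 fun e => c e.symm)
      exact e0.cl.braid b6.2 b6.1 c
    · exact e.cl.braid (tl i hi i7) (tl j hj j7) c
  · obtain ⟨r1, r2⟩ := (by decide +kernel : ∀ r ∈ [wpow [3, 2, 1, 3, 4, 5, 3, 8, 9] 10,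
      wpow [0, 1, 2, 3, 4, 5, 8] 9], (r.map fun j => dn.getD j 0) ∈ Fi22.R ∧
        ∀ j ∈ r, j < 10 ∧ j ≠ 7 ∧ j ≠ 6) r
        ((by decide +kernel : ∀ r ∈ R, 6 < r.length → r ∈ _) r hr (by omega))
    have g := e.ev_mem_grp (s := fun j => Fi22.s (dn.getD j 0)) (t := t) (w := r) fun j hj =>
      ⟨m _ (l j (r2 j hj).1), if_neg (r2 j hj).2.1⟩
    have c : ∀ z, (∀ j ∈ r, Commute z (t j)) → Commute (ev t r) z := fun z hz =>
      Subgroup.mem_centralizer_singleton_iff.1 (ev_mem fun j hj =>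
        Subgroup.mem_centralizer_singleton_iff.2 (hz j hj).symm)
    refine (h.zc x hx.1 _ (c x fun j hj => (tl j (r2 j hj).1 (r2 j hj).2.1).2.2)
      (e.cent g fun d _ => ?_)).resolve_right fun e1 =>
        hxy (e1 ▸ c y fun j hj => (ty j (r2 j hj).1 (r2 j hj).2.1).2 (r2 j hj).2.2)
    rw [← ev_map, Fi22.pres.sat _ r1]; exact Commute.one_left d

end F23

end Cfsg.Agent.Fischer
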