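import Cfsg.Agent.Fischer.JG
import Cfsg.Agent.Fischer.JD

/-!
The Thompson subgroups of the Sylow 2-subgroups from a base.
-/

set_option autoImplicit false

namespace Cfsg.Agent.Fischer.JB

open Subgroup Cfsg.Agent.Transfer Cfsg.Agent.Comp Cfsg.Agent.FiC

variable {G : Type*} [Group G] [Finite G] {D B : Set G} {x : G} {m r : ℕ}

theorem BS.uniq (h : BS D B x m r) {P E E' : Subgroup G} (hP : IsPGroup 2 P) (h1 : E ≤ P)
    (h2 : IsElementaryAbelian 2 E) (h3 : 2 ^ r ≤ Nat.card E) (h1' : E' ≤ P)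
    (h2' : IsElementaryAbelian 2 E') (h3' : 2 ^ r ≤ Nat.card E') : E = E' := by
  obtain ⟨T, -, -, t3⟩ := h.syl
  obtain ⟨g, hg⟩ := Inv.exists_conj_le_sylow T hP
  have e := fun E (h1 : E ≤ P) h2 (h3 : 2 ^ r ≤ Nat.card E) => t3 (E.map (MulAut.conj g).toMonoidHom)
    (by rintro _ ⟨a, ha, rfl⟩; exact hg a (h1 ha)) (ea_map h2 _)
    (by rwa [card_map_of_injective (MulAut.conj g).injective])
  exact map_injective (MulAut.conj g).injective ((e E h1 h2 h3).trans (e E' h1' h2' h3').symm)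

theorem BS.syl' (h : BS D B x m r) (hc : ∀ g : G, ∀ y ∈ D, g * y * g⁻¹ ∈ D) (T : Sylow 2 G) :
    IsElementaryAbelian 2 (closure {y | y ∈ D ∧ y ∈ (T : Subgroup G)}) ∧
      Nat.card (closure {y | y ∈ D ∧ y ∈ (T : Subgroup G)}) = 2 ^ r := by
  obtain ⟨T₀, t1, t2, -⟩ := h.syl
  obtain ⟨g, rfl⟩ := MulAction.exists_smul_eq G T₀ T
  have : {y | y ∈ D ∧ y ∈ ((g • T₀ : Sylow 2 G) : Subgroup G)} = (MulAut.conj g).toMonoidHom '' B := by
    ext y
    constructor
    · rintro ⟨h1, z, h2, rfl⟩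
      exact ⟨z, t2 z (by simpa [mul_assoc] using hc g⁻¹ _ h1) h2, rfl⟩
    · rintro ⟨z, hz, rfl⟩
      exact ⟨hc g z (h.sub hz), z, t1 (subset_closure hz), rfl⟩
  rw [this, ← MonoidHom.map_closure, card_map_of_injective (MulAut.conj g).injective]
  exact ⟨ea_map h.elem _, h.card⟩

theorem BS.thompson (h : BS D B x m r) {P A : Subgroup G} (hP : IsPGroup 2 P) (h1 : A ≤ P)
    (h2 : IsElementaryAbelian 2 A) (h3 : Nat.card A = 2 ^ r) : thompsonSubgroupOf 2 P = A :=
  thompson_of h1 h2 h3 fun _ e1 e2 e3 => h.uniq hP e1 e2 e3 h1 h2 h3.ge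

/-- the Thompson subgroup of a Sylow 2-subgroup of the centraliser of a transposition -/
theorem thompson_cent {τ s : ℕ → G} {d : Dat} {n : ℕ} (b : Base (conjugatesOf x) τ s d n)
    {W : List (List ℕ)} {u : List ℕ} (hu : x = E s u) (H : ∀ τ s, Base (conjugatesOf x) τ s d n →
      BS (conjugatesOf x) (fam (vals s W) W.length) (E s u) m r)
    (S : Sylow 2 (centralizer ({x} : Set G))) (A : Subgroup G)
    (hA : A = (thompsonSubgroupOf 2 (S : Subgroup (centralizer ({x} : Set G)))).map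
      (centralizer ({x} : Set G)).subtype) :
    IsElementaryAbelian 2 A ∧ Nat.card A = 2 ^ r ∧ Set.ncard {y : G | y ∈ A ∧ IsConj x y} = m ∧
      ∀ y ∈ A, ∀ z ∈ A, IsConj x y → IsConj x z → ∃ n ∈ normalizer (A : Set G), n * y * n⁻¹ = z := by
  have h0 := H _ _ b
  obtain ⟨k, hk⟩ := Inv.exists_conj_le_sylow S ((ea_isPGroup h0.elem).comap_of_injective
    (centralizer ({x} : Set G)).subtype Subtype.val_injective)
  obtain ⟨τ', s', b', e⟩ := b.conj' k
  have h := H _ _ b'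
  generalize hB : fam (vals s' W) W.length = B at h
  have e1 : A = closure B := by
    rw [hA, map_thompsonSubgroupOf_of_injective _ Subtype.val_injective]
    refine h.thompson (S.2.map _) ((closure_le _).2 ?_) h.elem h.card
    rw [← hB]
    rintro _ ⟨i, hi, rfl⟩
    have m : vals s W i ∈ closure (fam (vals s W) W.length) := subset_closure ⟨i, hi, rfl⟩
    exact ⟨_, hk ⟨_, mem_centralizer_singleton_iff.2 (hu ▸ h0.com m (subset_closure h0.x0))⟩ m,
      (e _).symm⟩
  have e2 : {y : G | y ∈ closure B ∧ IsConj x y} = B := by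
    obtain ⟨T, t1, t2, -⟩ := h.syl
    exact Set.ext fun y => ⟨fun e => t2 y e.2 (t1 e.1), fun e => ⟨subset_closure e, h.sub e⟩⟩
  rw [e1, e2]
  refine ⟨h.elem, h.card, h.ncard, fun y hy z hz c1 c2 => ?_⟩
  obtain ⟨a, a1, rfl⟩ := h.tr y (e2.le ⟨hy, c1⟩)
  obtain ⟨c, c1, rfl⟩ := h.tr z (e2.le ⟨hz, c2⟩)
  exact ⟨c * a⁻¹, normalizer_le_normalizer_closure B (mul_mem (mem_normalizer_fintype c1)
    (inv_mem (mem_normalizer_fintype a1))), by group⟩

omit [Finite G] in
/-- involutions lift when the central involution is not a square -/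
theorem lifts {d : G} (hd : orderOf d = 2) (hq : IsQuasisimple (centralizer ({d} : Set G)))
    [((zpowers d).subgroupOf (centralizer ({d} : Set G))).Normal] (h : ∀ g, g * g ≠ d) :
    (∀ x : centralizer ({d} : Set G) ⧸ (zpowers d).subgroupOf (centralizer ({d} : Set G)),
      orderOf x = 2 → ∃ y : centralizer ({d} : Set G), orderOf y = 2 ∧ QuotientGroup.mk y = x) ∧
      ¬ ∃ g : G, g ^ 2 = d := by
  refine ⟨fun x hx => ?_, fun ⟨g, e⟩ => h g ((pow_two g).symm.trans e)⟩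
  obtain ⟨y, rfl⟩ := QuotientGroup.mk_surjective x
  refine ⟨y, orderOf_two_of ((((dc_of hd hq (MulEquiv.refl _)).ker (y * y)).1
    (mul_self_of_orderOf_two hx)).resolve_right fun e => h y (congrArg Subtype.val e))
    fun e => ne_one_of_orderOf_two hx (by rw [e]; rfl), rfl⟩

end Cfsg.Agent.Fischer.JB
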