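import Cfsg.Agent.Fischer.JH
import Cfsg.Agent.Fischer.JK
import Cfsg.Agent.Fischer.J22
import Cfsg.Agent.Fischer.O22
import Cfsg.Agent.FiC.F22.T
import Cfsg.Agent.FiC.F22.C2

/-!
`Fi₂₂` is determined by the centraliser of a transposition.
-/

set_option autoImplicit false
set_option maxRecDepth 100000

namespace Cfsg.Agent.Fischer

open Cfsg.Agent.Comp Cfsg.Agent.FiC Subgroup

variable {G : Type*} [Group G]

theorem class_of_iso {G₀ : Type*} [Group G₀] {D : Set G₀} (hD : Cl D) (ht : closure D = ⊤)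
    (hz : center G₀ = ⊥) {d : G} (f : G₀ ≃* G) (hf : f '' D = conjugatesOf d) :
    FI D (conjugatesOf d) f ∧ center G = ⊥ ∧ IsThreeTranspositionClass (conjugatesOf d) := by
  have e : FI D (conjugatesOf d) f := hf ▸ hD.fi_hom f.toMonoidHom f.injective.injOn
    fun x hx => by simpa using tt_ne_one hD.tt hx
  refine ⟨e, by rw [← Orth.map_center_equiv f, hz, Subgroup.map_bot], e.cl.tt, ⟨d, IsConj.refl d, rfl⟩, ?_⟩
  rw [← hf]
  exact (MonoidHom.map_closure f.toMonoidHom D).symm.trans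
    (ht ▸ map_top_of_surjective _ f.surjective)

namespace F22
open Cfsg.Agent.Comp.Fi22

theorem base_at {x : Cfsg.Spor.Fi22} (hx : x ∈ D) :
    ∃ τ s, Base D τ s FiC.F22.d0 64561751654400 ∧ x = FiC.E s [0] := by
  haveI := card.1
  obtain ⟨τ, s, b, -⟩ := FiC.F22.base0
  rw [← D_eq] at b
  exact b.wlog1 (FiC.F22.tr1 b) hx

theorem part : Part D D := by
  haveI := card.1
  obtain ⟨τ, s, b, -⟩ := base_at pm.x_mem
  exact part_of b pm.cl pm.closure (u := [0]) (v := [4]) (w := [8]) (h4 := [14]) (h5 := [41, 16, 40])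
    (h6 := [6, 18, 2, 19, 7]) (h7 := [18, 48, 10, 49, 19]) (FiC.F22.tr1 b) (fun _ _ => FiC.F22.tr2)
    (fun _ _ => FiC.F22.tr3) (fun _ => FiC.F22.cls2 b) (fun _ _ b => (FiC.F22.c2b b).1)
    (fun _ _ => FiC.F22.nc12) (fun _ _ => FiC.F22.nc23) (by decide +kernel) (by decide +kernel)
    (by decide +kernel)

theorem inv {x : Cfsg.Spor.Fi22} (hx : x ∈ D) (y : Cfsg.Spor.Fi22) (hy : y * y = 1)
    (c : Commute y x) : ∃ Z ⊆ D, (∀ a ∈ Z, ∀ b ∈ Z, Commute a b) ∧ x ∈ Z ∧ y ∈ closure Z := by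
  haveI := card.1
  obtain ⟨τ, s, b, -⟩ := base_at pm.x_mem
  exact inv_of b pm.cl (u := [0]) (v := [4]) (w := [8]) (by decide +kernel)
    (fun _ => FiC.F22.cls2 b) hx y hy c

theorem nsq (g : Cfsg.Spor.Fi22) : g * g ∉ D := by
  haveI := card.1
  obtain ⟨τ, s, b, -⟩ := base_at pm.x_mem
  exact J22.nsq pm.cl b.conj_mem b g

theorem main [Finite G] {d : G} (hd : orderOf d = 2) (hq : IsQuasisimple (centralizer ({d} : Set G)))
    [((zpowers d).subgroupOf (centralizer ({d} : Set G))).Normal] {K : Type} [Field K] [Fintype K]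
    (hK : Fintype.card K = 4)
    (e : centralizer ({d} : Set G) ⧸ (zpowers d).subgroupOf (centralizer ({d} : Set G)) ≃* PSU 6 K 2)
    (hn : ∃ g, g * d * g⁻¹ ∈ centralizer ({d} : Set G) ∧ g * d * g⁻¹ ≠ d) :
    ∃ f : Cfsg.Spor.Fi22 ≃* G, f '' D = conjugatesOf d := by
  haveI := card.1
  have dc := dc_of hd hq e
  obtain ⟨f, hf⟩ := cover hK dc
  obtain ⟨τ, s, b, hx⟩ := base_at pm.x_mem
  have hF : Nat.card K = 2 ^ 2 := by rw [Nat.card_eq_fintype_card, hK]; rfl
  haveI := (sp_std hF).simple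
  haveI : IsSimpleGroup (PSU 6 K 2) := (Orth.quotCenterEquiv (Herm.toSUG hF 6)).isSimpleGroup
  have bs := J22.bs pm.cl b
  rw [← hx] at bs
  have h := lc_of bs b.conj_mem (fun g e => nsq g (e ▸ pm.x_mem)) (inv pm.x_mem)
    closure_loc hd ((Normal.eq_bot_or_eq_top inferInstance).resolve_right fun e' => by
      haveI := dc.perfQ
      exact Group.IsPerfect.not_isSolvable (PSU 6 K 2) (isSolvable_of_comm fun a b =>
        mem_center_iff.1 (e' ▸ mem_top b) a)) rfl dc f (congrArg Subtype.val hf) hn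
  obtain ⟨Δ, θ, e1, e2, e3⟩ := core' h
  exact h.iso part pm.closure pm.center (fun _ => pm.exists_ncomm) e1 e2 e3

end F22

end Cfsg.Agent.Fischer
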