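import Cfsg.Agent.Fischer.JM
import Cfsg.Agent.Fischer.J23
import Cfsg.Agent.Fischer.O23
import Cfsg.Agent.FiC.F23.T
import Cfsg.Agent.FiC.F23.C2

/-!
`Fi₂₃` is determined by the centraliser of a transposition.
-/

set_option autoImplicit false
set_option maxRecDepth 100000

namespace Cfsg.Agent.Fischer.F23

open Cfsg.Agent.Comp Cfsg.Agent.FiC Subgroup Cfsg.Agent.Comp.Fi23

variable {G : Type*} [Group G]

theorem base_at {x : Cfsg.Spor.Fi23} (hx : x ∈ D) :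
    ∃ τ s, Base D τ s FiC.F23.d0 4089470473293004800 ∧ x = FiC.E s [20] := by
  haveI := card.1
  obtain ⟨τ, s, b, -⟩ := FiC.F23.base0
  rw [← D_eq] at b
  exact b.wlog1 (FiC.F23.tr1 b) hx

theorem part : Part D D := by
  haveI := card.1
  obtain ⟨τ, s, b, -⟩ := base_at pm.x_mem
  exact part_of b pm.cl pm.closure (u := [20]) (v := [0]) (w := [4]) (h4 := [8]) (h5 := [12])
    (h6 := [45, 12, 44]) (h7 := [44, 12, 45]) (FiC.F23.tr1 b) (fun _ _ => FiC.F23.tr2)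
    (fun _ _ => FiC.F23.tr3) (fun _ => FiC.F23.cls2 b) (fun _ _ b => (FiC.F23.c2b b).1)
    (fun _ _ => FiC.F23.nc12) (fun _ _ => FiC.F23.nc23) (by decide +kernel) (by decide +kernel)
    (by decide +kernel)

theorem inv {x : Cfsg.Spor.Fi23} (hx : x ∈ D) (y : Cfsg.Spor.Fi23) (hy : y * y = 1)
    (c : Commute y x) : ∃ Z ⊆ D, (∀ a ∈ Z, ∀ b ∈ Z, Commute a b) ∧ x ∈ Z ∧ y ∈ closure Z := by
  haveI := card.1
  obtain ⟨τ, s, b, -⟩ := base_at pm.x_mem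
  exact inv_of b pm.cl (u := [20]) (v := [0]) (w := [4]) (by decide +kernel)
    (fun _ => FiC.F23.cls2 b) hx y hy c

theorem nsq0 (g : Cfsg.Spor.Fi23) : g * g ≠ tp 0 := fun e => by
  obtain ⟨κ, π, e1, -, dc, e2⟩ := exists_dc
  let y : H1 := ⟨g, closure_loc.ge (mem_centralizer_singleton_iff.2
    (e ▸ (Commute.refl g).mul_right rfl))⟩
  have y2 : y * y = z1 := Subtype.ext e
  have h1 : π y * π y = 1 := by rw [← map_mul, y2, (dc.ker _).2 (Or.inr rfl)]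
  obtain ⟨Z, z1', z2, z3⟩ : ∃ Z ⊆ F22.D, (∀ a ∈ Z, ∀ b ∈ Z, Commute a b) ∧ π y ∈ closure Z := by
    obtain ⟨a, ha, c⟩ := F22.part.inv _ (F22.pm.closure ▸ mem_top (π y)) h1
    obtain ⟨Z, a1, a2, -, a3⟩ := F22.inv ha _ h1 c
    exact ⟨Z, a1, a2, a3⟩
  obtain ⟨u, u1, u2⟩ := (closure_le ((closure {u : H1 | u.1 ∈ κ '' Z}).map π)).2 (fun a ha =>
    ⟨⟨κ a, subset_closure (e1.mem (z1' ha))⟩, subset_closure ⟨a, ha, rfl⟩, e2 a (z1' ha) _ rfl⟩) z3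
  have u3 := (elem_of_comm (p := 2) (S := {u : H1 | u.1 ∈ κ '' Z}) (by
    rintro ⟨_, _⟩ ⟨a, ha, rfl⟩ ⟨_, _⟩ ⟨b, hb, rfl⟩
    exact Subtype.ext ((e1.comm (z1' ha) (z1' hb)).2 (z2 a ha b hb))) (by
    rintro ⟨_, _⟩ ⟨a, ha, rfl⟩
    exact Subtype.ext ((pow_two _).trans (e1.cl.sq (e1.mem (z1' ha)))))).2 u u1
  rcases (dc.ker (u⁻¹ * y)).1 (by rw [map_mul, map_inv, u2, inv_mul_cancel]) with e3 | e3 <;>
    rw [inv_mul_eq_iff_eq_mul] at e3 <;> rw [e3, ← pow_two] at y2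
  · exact dc.ne (by rw [← y2, mul_one, u3])
  · exact dc.ne (by rw [← y2, (dc.cen u).mul_pow, u3, one_mul, pow_two, dc.sq])

theorem nsq (g : Cfsg.Spor.Fi23) : g * g ∉ D := fun e => by
  obtain ⟨k, hk⟩ := pm.trans' e (tpm (i := 0))
  exact nsq0 (k * g * k⁻¹) (by rw [conj_mul, hk])

theorem main [Finite G] {d : G} (hd : orderOf d = 2) (hq : IsQuasisimple (centralizer ({d} : Set G)))
    [((zpowers d).subgroupOf (centralizer ({d} : Set G))).Normal]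
    (e : centralizer ({d} : Set G) ⧸ (zpowers d).subgroupOf (centralizer ({d} : Set G)) ≃*
      Cfsg.Spor.Fi22)
    (hn : ∃ g, g * d * g⁻¹ ∈ centralizer ({d} : Set G) ∧ g * d * g⁻¹ ≠ d) :
    ∃ f : Cfsg.Spor.Fi23 ≃* G, f '' D = conjugatesOf d := by
  haveI := card.1
  have dc := dc_of hd hq e
  obtain ⟨f, hf⟩ := cover dc
  obtain ⟨τ, s, b, hx⟩ := base_at (tpm (i := 0))
  have bs := J23.bs pm.cl b
  rw [← hx] at bs
  have h := lc_of bs b.conj_mem nsq0 (inv tpm) closure_loc hd F22.pm.center rfl dc f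
    (congrArg Subtype.val hf) hn
  obtain ⟨κ, hκ, -⟩ := fi_loc
  obtain ⟨Δ, θ, e1, e2, e3⟩ := core' h hκ
  exact h.iso part pm.closure pm.center (fun _ => pm.exists_ncomm) e1 e2 e3

theorem main' [Finite G] {d : G} (hd : orderOf d = 2) (hq : IsQuasisimple (centralizer ({d} : Set G)))
    [((zpowers d).subgroupOf (centralizer ({d} : Set G))).Normal]
    (ht : ∃ E : Set (centralizer ({d} : Set G) ⧸ (zpowers d).subgroupOf (centralizer ({d} : Set G))),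
      IsThreeTranspositionClass E ∧ IsOfTypeM22 _ E)
    (hn : ∃ g, g * d * g⁻¹ ∈ centralizer ({d} : Set G) ∧ g * d * g⁻¹ ≠ d) :
    ∃ f : Cfsg.Spor.Fi23 ≃* G, f '' D = conjugatesOf d := by
  obtain ⟨E, ⟨h1, ⟨x, -, rfl⟩, h2⟩, h3⟩ := ht
  obtain ⟨e, -⟩ := M22.iso ⟨h1, fun g _ hy => IsConj.trans hy (isConj_iff.2 ⟨g, rfl⟩), h2⟩ h3
  exact main hd hq e hn

end Cfsg.Agent.Fischer.F23
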