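import Cfsg.Agent.Fischer.QF
import Cfsg.Agent.FiC.F22.D0

set_option autoImplicit false
set_option maxRecDepth 100000
set_option linter.unusedSectionVars false

namespace Cfsg.Agent.FiC.F22
open Cfsg.Agent.Comp Cfsg.Agent.FiC

variable {G : Type*} [Group G] [Finite G] {D : Set G} {τ s : ℕ → G} {M : Subgroup G}

theorem k7pcu1 (b : Base D τ s d0 64561751654400) : CU ⊤ s [[nat_lit 53, nat_lit 16, nat_lit 52], [nat_lit 6], [nat_lit 2], [nat_lit 8], [nat_lit 4], [nat_lit 0]] 1 :=
  CU.down b.x le_rfl (zcu16 b) (nat_lit 31) [[nat_lit 12], [nat_lit 16], [nat_lit 42]] [nat_lit 53, nat_lit 16, nat_lit 52] [nat_lit 0, nat_lit 1, nat_lit 2, nat_lit 1] (nat_lit 12) 1 (by decide +kernel)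

theorem k7pcu2 (b : Base D τ s d0 64561751654400) : CU ⊤ s [[nat_lit 2], [nat_lit 4], [nat_lit 6], [nat_lit 8], [nat_lit 10], [nat_lit 12], [nat_lit 14], [nat_lit 16]] 1 :=
  CU.mono b.x le_rfl (k7pcu1 b) [[nat_lit 2], [nat_lit 4], [nat_lit 6], [nat_lit 8], [nat_lit 10], [nat_lit 12], [nat_lit 14], [nat_lit 16]] [nat_lit 0, nat_lit 2, nat_lit 4, nat_lit 6, nat_lit 8, nat_lit 10, nat_lit 43] [[nat_lit 12], [nat_lit 6], [nat_lit 2], [nat_lit 8], [nat_lit 4], [nat_lit 0]] (by decide +kernel)

noncomputable def k7pi : Net :=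
(Net.cons (nat_lit 0x68888e03acd98bdc831440e0272f3bae0ef720d2881c04e5e775c3bbdc834a207013979dd70eeedd260aa51a04a86161e5e7dd70eeedd2782a946812a18587978ddfdbae1f2acbf5693d05528d012a186c3cbc6efd3038eb83ca6f9b37f5693d05494680e2f1a8301cef0f2f1bdfa6096c0e40e57078290be7ef35955ecff553d048edc64494680e2f1a8300e7787978bdfa609660720e57078290be7ef32caaf67faa9e82476b1914a340738d41821cde1ee2f74c1681d60eae0f05217cfde64caabb3fea8f4123b6b191451a039c31a06921cda609eee06e8d410) (nat_lit 1755)
(Net.cons (nat_lit 0x390086121b23ceda209d6eab9e79a1fbe1b7cf3fb2ffd29e2d591923643b8abe343152963cccb59dec8be096e8235dad73ff781fc73a1069490aac81727d92225bd8422a00dc5d443b77de783bba1f5a962c8de1b4dcb8f575659e43faae5481a33017c22a1010f7977eb3e351000000000000000000000000000000000000000000000000000000000000000000000000000000000000000000000000000000000000000000000000000000000000000000000000000000000000000000000000000000000000000000000000000000000000000000000000000013484813bacbaa2e0aac81c66db55060890028860e316fec1a8053e82d932e3065826224613e2346efb18b0a3a304643c97e087253b06cd273cb9238c1fa813f068302e0d16ac58a12c538094ac995caa09a7805dc5d556c65470f3159ac724b56f49ce2440a51b44e8b76303d2)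 (nat_lit 878)
(Net.cons (nat_lit 0x2da8222db55593fb9bd12cf83eac4b0e6b57e89b69d248f9c96982d79720592e34f4dc85071c0eb4170426a9d53418777a619dfae46af0000000000000000000000000000000000000000000000000000000000000000000000000000000000000000000000000000000000000032a9dda80123828494b2085f9cc0b87195afbf75029cc57a6a8424b754e9de0f89c3e932c61e9eab0c4be8046bb8b96ccf72a3d96bfb7900000000000000000000000000000000000000000000000000000000000000000000000000000000000000000000000000000000000000b23a8f9900131c704161b0cc645084000812404c41151210584b22091402cd897455e4067815291e41c74a21620ee16695ff7199f3414000000000000000000000000000000000000000000000000000000000000000000000000000000000000000000000000000000000000002f5d9ce53fd17e0bd268420d1a19385026b03c9852d6a342e9abf5d09e3fd8b2cfafa7ff6ac00d3790d572b42c1b315dc357baa8341bb4) (nat_lit 439)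
(Net.cons (nat_lit 0x613410dbbc60964f03cd5d79c849737ddd2affe69677cb721a080740000000000000000000000000000000000000000000000000000000e902e546142ba6c800b07ca04f9cc7b3feb477abe3bd7d60a97a3540000000000000000000000000000000000000000000000000000001a97bc7201f62f747fc4419d08c77f78af111b20c5aa9ec98e2564000000000000000000000000000000000000000000000000000000001c408162ae3f3b7d17c24b037040c8d2192047601dc5d0bef7e66208000000000000000000000000000000000000000000000000000000239e4f404fa061a64a21155ea17f46f1bf0b164476a5e7501a98ba80000000000000000000000000000000000000000000000000000000aa5a5b0f246a2f309347e6712167847d025ee6c509eff08c06fdadc0000000000000000000000000000000000000000000000000000003496a29d177ecc09522e3dd9e1dcbf8380421449c1238a8b7084304000000000000000000000000000000000000000000000000000000062e77481d82b834cd7ea098843370492ff0912f0abb3a8e80497be4) (nat_lit 219)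
(Net.cons (nat_lit 0xe0c4d1c0310cead98b3516810750000000000000000000000000000db00a50578d336da7e47c63c04000000000000000000000000000032facd2bcc19461e6b3008f7a352000000000000000000000000000087110474b483140a32e16cffa1000000000000000000000000000026e41ed01ea49f1385556d8bdea80000000000000000000000000002b875ad081f820310e100ae22240000000000000000000000000000c60b02885297efd46ecc60715c68000000000000000000000000000086846e439f2efb5f361da696fa0000000000000000000000000001f398efcde97d9839937edc8f67400000000000000000000000000028bd5e1a6d53b803244c161121c800000000000000000000000000038b04f92d41116d25dd631a2ab340000000000000000000000000004ae55eb1a611f82396c99c4c5e0000000000000000000000000000066e7c694149a7864d64d058b60300000000000000000000000000009f26a90d5e7cd7c7b33aee7f10c0000000000000000000000000000cb43a18f4c1650f9118e0042a500000000000000000000000000001b8eeb07d698c3fbc08e95942a94) (nat_lit 110)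
(Net.cons (nat_lit 0x4a614fc5abc9e0000000000000009c12a2ab72a7500000000000000420f7d489364c000000000000007073a94833e1240000000000000159dafea40b6b300000000000000388053d3fc517e00000000000001da9f32f4e05cc00000000000000930b5110c1c8c80000000000000258ee1d266a10200000000000000a823d8910249080000000000000152da4a8f8b8fa000000000000009b7a156214ee680000000000000384764db8eb83c00000000000000ef05406a14f20000000000000004594a4da1ce32000000000000002dc6ff411615a400000000000000ab88a44e7d7498000000000000028cab0235ed168000000000000018480246feda0c00000000000000ef8cdd0d4632d000000000000002ac36aa2e8458d00000000000000b42aa66a252c20000000000000005f9418376e995000000000000012b3be4c866b100000000000000018a41698956a10000000000000006144684d482b8800000000000005e10f8492fd9d000000000000002695f90ae3c210000000000000007c676fd9d131a000000000000003a354ae8ddea2a0000000000000027c57e5459bb58000000000000037ac0ed23c432e) (nat_lit 55)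
(Net.cons (nat_lit 0x37739f80000000584f5d00000001f01839800000002680bb80000009777570000000110b31e8000000186790400000001ac593200000002b8b83c0000001005e41c00000018641d400000001353adc00000012cf0920000000073ca8a0000000581727f0000000190663c00000016f140ac000000014a57000000002b0820e0000000fcd63e2000000039424600000005516621000000003379cc0000000aff8000000000210651400000006fd0d1800000000407662000000091040600000001c29eda00000006eaf122000000008340500000000755e2b0000000d3a1e0c00000001793c1000000019b6db4000000072c2a69000000050a299800000035489c08000000670d5040000000826e09c0000000c16400c0000001c4908000000001231880000000006a695000000039125ec0000000423c58900000003af5c200000001707af9000000004f4c02000000001d181000000001576138000000040068c40000006f532820000000384b5d60000000845918000000004ba5ea00000006f18ce500000003261a880000000d5cf0e8000000082d2e500000003c2029400000008fee07000000024e430d8000000123c118) (nat_lit 27)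
(Net.cons (nat_lit 0x91000000e90002070000222a0007a8000013500005c4800087600001800003bf00005d5c0001e30000fe280008068000cf00000ba400039800002c920007858000401000008180004c880004610001038000016400007b000067080004db80005c6000006b00039e200032fa00058000007e8000018680001a2000109e000020100006000003f220003328000cb08000ee000001d4000315e000384600043f00005b5c00026080006080000f240000d6400021900000784000346400041080009000000faf00006ac000121400026080002c080005d9000049580008030001c9800038d80005290000b3000000138001082000111a0001d1200024a4000efc0000f1c0001590000175e0001e2000013000003fb800035b00001f80000db480010820001000000274400000500000c5400021200002c100004c4000259e0001f6400075c80004184000dcc000015800014120000c9400001880001b840005054000552400083700016020000eaa0001ee60000ef800044200003d8800022400013d100000600001548000232000030a000001e0000d6b00000fc0001fc1000324a0005ad800037c000001480004cf0001122000198e) (nat_lit 14)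
(Net.cons (nat_lit 0x1400a0014058011807c008808003300840260148000012002c00000000000040048039007001401b807c012004402d00a80200090008019003200c000c00d00840000128010010007000d0088020000006a019001002201e001801e8030014006c016002c0500050020000808001200100220158018017000e010006c0140000044008804a00d0048004000802801600640050080054002805c009004c01600e401901c0054017000003400b80100060018010807a01a004801800b0030010006801e008806c018805200d80400300090008002002600c802002e00b8030004004000f00f4019000006a01a807801300400380020020005008003a00b80000018020000009000800c800c00e005000800c8009006802800280500160050035001802a00440180198020001803c0380000004027008002a0004010009007800700000080090008010803600e00340380010033008805000080620040030021004001601a00200240068078002006000d00f4038003001b0048024012003001400c803a0024000002003000280f801a002801001680480158026031000005c00c00e002200a401c0158020017000a01000c0000007805a) (nat_lit 7)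
(Net.cons (nat_lit 0x2061438c1c00500002050008506100000e00102182050e080020030018182081870018200002000e102810410204003800a08004103050c1408200002020c004002000c100050c0040418207000020810300001000a1040a101030c0040c001860800288141050e102030000308141000c2000c00102001820608003040830010002000c2030010100104000800e140070c10000083850a0800210007041010108200001400708000081c0070804080180850a080011038008002050400000004061c000000050c10081102020400280080040e002050208200083840c084182040000201002000e141050c1040000104080018400201002000e0020c0000008042020820404081000030608003000028100043020c100000810502102000818002040880c3000408280001840400200100021400608101001828600101020010000042040400004141000400002003030a00204102820004284000820210106000000204408040081800406080840810200002020220708001820804008140020000000100000c18380100840c14282043040a08001080c4061010010280100010808200002040200383001820414206080010804304) (nat_lit 3)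
(Net.cons (nat_lit 0x1024408240000000481104880004080000011200401100000200080040891000002000080004000040811200480000800204080240000004480000880200408000080220000000048200080100000004008004890224102000080000410200000200080044800220400000000220008100090220480000000220008022000004001000400102081102080000012040800204408000080220000004011000001000080204008022000004481002048000080000040000000020400900000000008020001000080020000100000004480002401200480100400000480240010208000040090020810000091000482000000024480000000000000200000040002040002440100040800040810200800008800040800000002200890200400040010004409004000200481000800000810040000448010004080400100040000200000244000200000004000200090044010020401200801004001024000220088100010024080000880440102004891048000000881000102040001220400000000004000000001200008000811004001022081204401020048000480204801200112004000200010240010020410004001004000044000) (nat_lit 2)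
(Net.cons (nat_lit 0x15225492240814005009244895081089400091005409400481281000844a1214a012844a80248050804091204842204001025012804290224400010a810844a1004a042840284204912a10a9000108021089044a01242110050a10284102810a84284402250a81284488044a84281081500a012244a04020112214a04200400840204225020244890248800a4142210a81085080804a01220408054890004408024a840204814204010250890224400044205005028010004080088020a810a4802a4012050a04225089010a1508442942481128442910808022440225408210a91284088420a142a10895084810840a1528449024028240001202042840884220812850211025002240a102044a9044a840210011040142044881024100254091224490a408012a502101000100a1002014025009500509280420008042124420022440040000408408142009402440912844928040102210202540112a4481100214224800810802440812844890442002a10a11202042210891204942a50280081090840a142810800500902854a1424891024009402481005002044292100940250004200912204081204142250a10224400250a9) (nat_lit 1)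
(Net.cons (nat_lit 0x910640904409120008100489110048802201920000083000930000004009000c1132400001200010400903200012000803060c02404191040c1800480026408102088002000820049004080800400100408024018304913020099104412000c883040c0260818200441800888002049110088020441900208200481112400824000000408082000102088202011220810022480040c082200c800401930604180209820200981200110644981040c0020c88306409804c00004481802000104092060402040810204819200103244890120013024c0020001000440060801008081040491320091020091320002000881026488000418040802201810600800260020648912000c1240001002089800898006440102099222080830041004480022048804440022040880040802088006001064c08120088000c18106401020c0002404080000820244010020002604112244410004110004410044012000811100090040910048822409822208112401000000983040830640810040010444102044000600883264488040911020c0032099300009030440200000200881000182004810304093040c09024490064488024001060c01) (nat_lit 2)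
(Net.cons (nat_lit 0x60a0828e1c28600042000808400182840200406080000e04100001041c184000870a08300083000410280041000c00186080c20e183020c0008008207001c3000a30102141010000704081030008202101021408408002001c3000c0840e001820c042880c0040e003020800200002800e2040a08086041c300100010a0828018006000c102001810c084040c00a100020818000002850e0c2831c0030c180010e3010c0c0810c184001c20708000041c1810c10100102840c102010610100005020800e002010c1c001141000e000800830606042820008204101000c001181040400001001040e0c006080000000180040018008205002800e000041820402000020400000001001038008083840038502102820c1850c0c2050218308001020408080041020410286001830e0070010000080870818200182840800380002000810305060040410300000070a002020e081001020000002821008100182820c10302007080408c0828506180070018500043810020508142800c0020a10102081400c14004061c104040000c1c105043040a0020408005001810804286100050600200003840200186021860410200020410818385) (nat_lit 3)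
(Net.cons (nat_lit 0x4c025003004401b8074007009601a009402e010c00401000240210058000019800c038807801601380760184014028002803400c000500840130140084035004e0100028010010405801e0080000808406a01b002800001d00040124036030007c0130024040000406600000a60250054026018805b016002e000003401100000440108028005804400c010c02000680f002080800500124055014800c01b80ec021014806601a000a01e8030038802001d004806a01800c40098030022012005001a0094024014807300f0004038004000801c000700e802203f00ac01101600d400f00e801d004401800a0078023804403300280200170094032008c064001c0000080092009809403c00d001100900aa029802802600a805001e4018030008e02080d400801f8014001803802c010000602700ca008800c0040010071016000403900920080080033007000c03e003000a00c8050006003400f80140238074016012c00a03e00a8078000404300d805a02c00f601f00e40360130020025008802e801c00700bc01800100e803e8000032016806d0178014031809c02c0048028038008000a017800501f002202f008200000f8052) (nat_lit 7)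
(Net.cons (nat_lit 0xe3200001cd00026700002a1c00079980001244000150c0000d60000b8100031300007d2a0001e68000fe0c00081f00006d80000a840003941000041a0001dd40004034000291800051d80004e300017090000178000273800087fc000cfa00017d600000ff0002be0000327200012060003f400008d60000be6000109b000000300027c90001e220002308000831000025080011d4000319c00018c600060e80003edc0006a84000e428001e0080007740002052000038000011e600040c40009500000baf00023fd000024c00075580000604000d29000051480010f40001a9800010d80004b140004acc0000af8000101000150a00015400004d84000ece0000b920001f518001b0e000162400032520002ebe00069e000036840002b080012438000800000315c00002100000c7400023f80001110000cc200031ba0000d44000448c0005114000ce8000082900005068000462000011c0000d1a0005868000582c00073380012940002ef30001f46000263a00042100000f8400044d00019c9000086800001c800003420007c2c00020900004e64000cfc0000fe900022880005a9800067b000041f80009bd80014a40001386) (nat_lit 14)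
(Net.cons (nat_lit 0x77e25d10000000a0474580000000dd18ab00000002a420da80000005475134000000177f7be000000030d692000000000b9402a00000001bb783c00000011597d1400000008a25c38000000155311c000000118408b00000003f3408a80000005e2035a00000009b87dec000000194b4cbc0000002622d790000000750a62f0000000fc400e2000000018161a0000000570e4210000000c73c1d800000011fe0054000000006e5650000000655c05d000000007163a6000000024135a4000000763b4ff00000002ba01e200000008833d8000000005668a400000006939e340000000303e4000000001373fa5800000032aa864000000010b9b98000000250a96780000007e864840000000033d5cc000000041b042400000014c9cc100000003021c80000000022a4e3200000031b25e280000005236b9d0000000b2c48000000001307df8000000004b4a9a0000000028c262000000014b7530000000065268a400000012d269300000002adf32600000008df499c0000001d10cd5000000006ca17d0000000926d1b00000001d49c218000000086ae35000000001403320000001366e42c00000003e092f80000002a147d8) (nat_lit 27)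
(Net.cons (nat_lit 0x32038f33834818000000000000009d823aa1d9a3400000000000000405f29785a089800000000000007093a9193e2021000000000000005cbe76940beb300000000000000300481db045b5f000000000000001bdab220263f980000000000000250dc32089da4600000000000000148e9d11ba1a2800000000000002a6ec9924b494a00000000000000321e80c88b8bb00000000000000fa3504435c5f680000000000000746568f18a8a3100000000000000e7215e2276338c00000000000004105f8fb0ce37a00000000000003c5ead310529a700000000000000be18a0cf51a4900000000000000226a9063567a6f000000000000018491666f6d08000000000000000dd0ed5c557264000000000000002ad262a0c9c70d000000000000002c2bf77a6d203400000000000000ce841a775ebd5000000000000012a18e55966cb88000000000000018349f189d60d20000000000000016d44ad46986880000000000000545ef8c826d9a8000000000000006dbb29faab1e4000000000000001d75ff53cf7ad000000000000001e35c8597daeba00000000000000b1d57a46d1af14000000000000070ee20f315fbe2) (nat_lit 55)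
(Net.cons (nat_lit 0x790ccd177067d0b88f2f15890590000000000000000000000000000db00b5a576db2e11f047ca8c8c800000000000000000000000000037dbc62b25184608cff40aaa8fd3000000000000000000000000000087951674988f28063fa16cf6f5e00000000000000000000000000050c147038a24fc9a87455fe7de26000000000000000000000000000118f9a08655a0073cf221a1019680000000000000000000000000004a41679d0253cbffe6a660127f2c00000000000000000000000000082af07e6b03e282df5a15d382500000000000000000000000000000d7b97ecdd8519271f27cc8cd630000000000000000000000000000003c4a14294d024302155f15455e0000000000000000000000000002d082d89e71b169257fa2963a6000000000000000000000000000004af5def137429d63870a084e4e1800000000000000000000000000068f3c7d016cc7551e60e0dab0078000000000000000000000000000debef8618e25a1ffb0288edb1860000000000000000000000000000ca1800935ad41c0911ba484d88a8000000000000000000000000001a848bc0a20881d050bdd4540ab6) (nat_lit 110)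
(Net.cons (nat_lit 0x419416d315e418eb49485c38ca18575c723edf2743b09b0b0a4804c0000000000000000000000000000000000000000000000000000000782a6d475009b79024883c0343c0fd77f41e6abf6395f068a9ca3c600000000000000000000000000000000000000000000000000000017958a50312e3fb6fd50c1c004cc293829193f2047a89ae95ca035cc0000000000000000000000000000000000000000000000000000001d31fce2aadf335112c66e372042c0a28910d7601a4592ef73ec6700000000000000000000000000000000000000000000000000000000238a45116fc869845a61b58b43d46ec1df0b6e07fbaf74540f91d200000000000000000000000000000000000000000000000000000000e20d534f64e83f309e43867140462775437ec7a599a4e88d26bd6e4000000000000000000000000000000000000000000000000000000341ca24c037e7cba4aaf395945dcece8808354481905cb8dc9202ec000000000000000000000000000000000000000000000000000000065d4d88e4a08f3ccd3d8af08c5b226bff4058689f9d22de465cbbb5) (nat_lit 219)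
(Net.cons (nat_lit 0x45a82c1d1d14996f5ad1649d730ecf0fa5e7465078d26c6dbd418a9f9380c30aa4f4c984e314240d502a6cadf65402731a1f669a2e5be2000000000000000000000000000000000000000000000000000000000000000000000000000000000000000000000000000000000000015291d884265a204bce29d773d037c0b1fbb7f55a00ac51b0a212db78ff8940f83c331aaa51effbf08cf4072bb9ab978370be188f153a100000000000000000000000000000000000000000000000000000000000000000000000000000000000000000000000000000000000000903a8ce9031704600062b028557084010a025056664594f44d5b03d904028f0f6d15f5465801289c42efdb6379beff5775c5319afa250400000000000000000000000000000000000000000000000000000000000000000000000000000000000000000000000000000000000004de094e516c6ce90f870c7479a111d09a06f0f9c64e77945d1ee85d0fedf40736fbf84576f080eb3f85c32222812306a40db9cc9001236) (nat_lit 439)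
(Net.cons (nat_lit 0x52910c647823386da209d76af9ef9e0fa69d3cf6eb3ff4e16a5c93b21f413cab03631c3b69ddc77b92cdb4296682f5da5cb1f50125a08556c5b83ae81725dc093f83a23eba1947bec1cd7f6683b9e1c5792af8d6bb0dea18525688c45e2225100b1857ca383516f61abef7e256b000000000000000000000000000000000000000000000000000000000000000000000000000000000000000000000000000000000000000000000000000000000000000000000000000000000000000000000000000000000000000000000000000000000000000000000000000043590c53b6ca2a22aa20718b6ff45022c90364838c39638c188843e821e33e24622363a4c33e2346ccb4e28c9e307e23c95e824653b86cc9624bd699d8b2011f068313a1512e45a852cf52a909c294daad9a7041dd5e412cb5d54f22798e3a41624f95e600354b64acbf5329a5d) (nat_lit 878)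
(Net.cons (nat_lit 0x68888e03acd98bdc831440e0272f3bae0ef720d2881c04e5e775c3bbdc834a207013979dd70eeedd260aa51a04a86161e5e7dd70eeedd2782a946812a18587978ddfdbae1f2acbf5693d05528d012a186c3cbc6efd3038eb83ca6f9b37f5693e5494680e2f1a8301cef0f2f17bf4c12d81c8395c1e0a42f9fbcd6557b3fd54f4123b71914a340738d418073787b8bdd305a0720eae0f05217cfde65955d9fea8f4123b58c8a51a039c6a0c10e6f0f717ba60b40d60d51c285f3e99354f3fd1e8246dac64514680e70c681a21cda609eee06e8d4102eeee3f8a64dd0) (nat_lit 1755)
Net.nil)))))))))))))))))))))))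

noncomputable def k7n0 : Net :=
(Net.cons (nat_lit 0x7ffffefffeffb84e0f0f00c071c06064000000100000) (nat_lit 176)
(Net.cons (nat_lit 0xe23325bf2fd2c57ae424000000000000000000000000104716c10000000000000) (nat_lit 88)
(Net.cons (nat_lit 0x3c934a1e802000000000001ebe8d13628000000000002700ec128000000000000000000000000) (nat_lit 44)
(Net.cons (nat_lit 0xd2129000000fc210000002242c40000027c0020000012dcb0000002d08200000006440000000000000) (nat_lit 22)
(Net.cons (nat_lit 0xb0800740001340003b80012a800254000d00004f6001d800038c000d9000300001c800060000000000000) (nat_lit 11)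
(Net.cons (nat_lit 0x200300c0010200140480e016004080160080500480500004007019030000060000180600800000000000000) (nat_lit 5)
(Net.cons (nat_lit 0x40000000000020800040000200018c0100200410c000000001880100004608000043080004000000000000) (nat_lit 3)
(Net.cons (nat_lit 0x4800012104000010000200080101002004041002000000000100000000008002020000000000000000000) (nat_lit 1)
(Net.cons (nat_lit 0x49000024248410920002400100212424808082024048490001240400009010004041090000000000000000) (nat_lit 1)
(Net.cons (nat_lit 0x104a4901010504a0008292400801402005240490900000000940290004a0108002524000410000000000000) (nat_lit 1)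
(Net.cons (nat_lit 0x8438c300a000230871003002204218210c62084102318000071860102184608200043080004000000000000) (nat_lit 3)
(Net.cons (nat_lit 0x280300a01902003c0681f0160140c01602a0500780500206007019030044060000180600800000000000000) (nat_lit 5)
(Net.cons (nat_lit 0xb080068a001b640030a0010a800254000d0000476001d800038c000d9000700001c800060000000000000) (nat_lit 11)
(Net.cons (nat_lit 0xd01a9000002dca1c000002242c40000027c0020000012dcb0000002d08200000006440000000000000) (nat_lit 22)
(Net.cons (nat_lit 0xc9b4a9c8c2000000000000ebe8d136ac000000000002700ec128000000000000000000100000) (nat_lit 44)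
(Net.cons (nat_lit 0xe23325bf2fd2c57ae424000000000000000000000000104716c10000000000000) (nat_lit 88)
(Net.cons (nat_lit 0x7ffffefffeffb84e0f0f00c071c06064000000100000) (nat_lit 176)
Net.nil)))))))))))))))))

noncomputable def k7n1 : Net :=
(Net.cons (nat_lit 0x4081000036b93188f0d472f89f5d471221000000) (nat_lit 176)
(Net.cons (nat_lit 0x34a14464664d0e402e242000000000000000000000004675f0975f1be228000080) (nat_lit 88)
(Net.cons (nat_lit 0x42e84d1ec40000000000000757281b02000000000000007460919800000000000007049004d20) (nat_lit 44)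
(Net.cons (nat_lit 0x7f5e000000010b28000002964c0000002268c000000189c10000001a84c000000009002000003ac800) (nat_lit 22)
(Net.cons (nat_lit 0x24003100000c00050c001a4000000001b00000c2001420006000000400021600108000080000000003f0) (nat_lit 11)
(Net.cons (nat_lit 0x2004c048180200000401001a0300200a03a000070080040000000402c04c040110020600601000000008808) (nat_lit 5)
(Net.cons (nat_lit 0x4200200c000010020002104208010000020000000210020841041106008410001000004008000000001001) (nat_lit 3)
(Net.cons (nat_lit 0x400800010004000000000042404901002424000000000000010001002480001200400048080000000010001) (nat_lit 1)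
(Net.cons (nat_lit 0x841010020048010000202484809202024848000100008080820002404901002420800090104200000120002) (nat_lit 1)
(Net.cons (nat_lit 0x400a41492104040010000052424941202424240000800000010901212420041280424848490001000010909) (nat_lit 1)
(Net.cons (nat_lit 0x842002008200410c60802104208510000061004088214228841041184308510201001804008000008001001) (nat_lit 3)
(Net.cons (nat_lit 0x2004c0680b0300000401901a0700200e03a0000d00c0160000001403000c0c011012060060110000000880a) (nat_lit 5)
(Net.cons (nat_lit 0x24003100000d00054c001e4800010001b00004460014200060000000c0029600108000080000000003f0) (nat_lit 11)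
(Net.cons (nat_lit 0x7f5e000000210b38000002964c0000002268c000000189c10000001e835100000009002000003ac800) (nat_lit 22)
(Net.cons (nat_lit 0x42e84d1ec40000000000000754a81b02400000000000007460919800000000000007049004d20) (nat_lit 44)
(Net.cons (nat_lit 0x34a14464664d0e402e242000000000000000000000004675f0975f1fe228000088) (nat_lit 88)
(Net.cons (nat_lit 0x4081000036b93188f0d472f89f5d471221000000) (nat_lit 176)
Net.nil)))))))))))))))))

noncomputable def k7n2 : Net :=
(Net.cons (nat_lit 0x40100000000000000000000000000000000000000000) (nat_lit 176)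
(Net.cons (nat_lit 0x44b358808e12102000100000000000000000000000000969002400080000000000) (nat_lit 88)
(Net.cons (nat_lit 0x1d3f71a40c000000000000760c099011000000000000d95990000000000000000006e02164000) (nat_lit 44)
(Net.cons (nat_lit 0x212f0000000156300000004b2c20000014520000000360000000001246000000021baa000000050400) (nat_lit 22)
(Net.cons (nat_lit 0xc200020400158000004000400005100005a0000440002e0006e8000d0000530001208001f000088000110) (nat_lit 11)
(Net.cons (nat_lit 0x1c024020140080300401c0020600501a0100440901a030050000180100040101800c0240200603000004004) (nat_lit 5)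
(Net.cons (nat_lit 0x2100408000841004000200400c40003004200018801801002100000220000083004000008c210020000800) (nat_lit 3)
(Net.cons (nat_lit 0x400008080104040010000002004808200000801010020000000101002084100010020040082000008000800) (nat_lit 1)
(Net.cons (nat_lit 0x848012124248090020000004009210424001002120048000000242004909202020040082104240010001040) (nat_lit 1)
(Net.cons (nat_lit 0x2020848080100248014908012024849280100a41412804208014101012084109000000040092100248090800) (nat_lit 1)
(Net.cons (nat_lit 0x42180400020841004188210410c40003004300018800403006100200220000083084280110c314020031800) (nat_lit 3)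
(Net.cons (nat_lit 0x20240a8140180300401d0020600501a0100440d01a036050000180140040500600c0640200603000004004) (nat_lit 5)
(Net.cons (nat_lit 0x40400204001d1000106000400005100005a0000440002e0006e8000d080053200120c0017800088000110) (nat_lit 11)
(Net.cons (nat_lit 0x75af00000001deb00000004b2c20000014520000000360000000001256420000021322900000050400) (nat_lit 22)
(Net.cons (nat_lit 0x1d3f71a40c000000000000760c099011000000000000d95990000000000000000006e02164000) (nat_lit 44)
(Net.cons (nat_lit 0x44b358808e12102000100000000000000000000000000969002400080000000000) (nat_lit 88)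
(Net.cons (nat_lit 0x40100000000000000000000000000000000000000000) (nat_lit 176)
Net.nil)))))))))))))))))

noncomputable def k7n3 : Net :=
(Net.cons (nat_lit 0x8) (nat_lit 176)
(Net.cons (nat_lit 0x7dbcc5e5200400200000000000000000000000000000f300940000000000000000) (nat_lit 88)
(Net.cons (nat_lit 0x703457a80800000000000070a20410000000000000009300100200000000000000da280200000) (nat_lit 44)
(Net.cons (nat_lit 0xc7d40000000ac2e0000000978000000022000000000242000000001fc9080000024ba9800000200000) (nat_lit 22)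
(Net.cons (nat_lit 0x7ac002c8001b90002280002880058800146000100000c0000640001528006080000400005c00110000400) (nat_lit 11)
(Net.cons (nat_lit 0xc0580b0100120300880c008040020090300040400002002000008030070020040040480601400000400019) (nat_lit 5)
(Net.cons (nat_lit 0x802086000008000400080002000000000040040088000410040000000004200010060000000010020040040) (nat_lit 3)
(Net.cons (nat_lit 0x1082020000000800002000009200000040082000000010100000004001010000041080000000000100) (nat_lit 1)
(Net.cons (nat_lit 0x801092104040000901200004000012400008080104000000020200080008012020049092104040010100242) (nat_lit 1)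
(Net.cons (nat_lit 0x4202014028240020048082420001092000202484820042080101090120a4801010100048090004000400100) (nat_lit 1)
(Net.cons (nat_lit 0x8008821880086100100810c2008400a10c40840088010430440043040204208010860087100210020050041) (nat_lit 3)
(Net.cons (nat_lit 0x14058090160180300900e0080440200903800404000020020080080300700a0060040480601400000400019) (nat_lit 5)
(Net.cons (nat_lit 0xdbc00668001b94003280002880058800146000100000c1000640001568006080000400005c00110000400) (nat_lit 11)
(Net.cons (nat_lit 0xc4bc40000002cbd1000000978400000022000000000242000000001fc9080000024ba9800000200000) (nat_lit 22)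
(Net.cons (nat_lit 0x7014d7aa2800000000000070a20410000000000000009300100200000000000000da280200000) (nat_lit 44)
(Net.cons (nat_lit 0x7dbcc5e5200400200000000000000000000000000000f300940000000000000000) (nat_lit 88)
(Net.cons (nat_lit 0x8) (nat_lit 176)
Net.nil)))))))))))))))))

noncomputable def k7n4 : Net :=
(Net.cons (nat_lit 0x50000900000000000000000000000000000000000000) (nat_lit 176)
(Net.cons (nat_lit 0x526769820a18080100000000000000000000000000002a43a00040400114800000) (nat_lit 88)
(Net.cons (nat_lit 0x51412dd9200000000000004c2f19b300000000000000fbdf2904000000000000006d000040000) (nat_lit 44)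
(Net.cons (nat_lit 0x141b6c0000022650c000000a2b240000006601000000364e00000002c13480000009480000000004000) (nat_lit 22)
(Net.cons (nat_lit 0xac00000c0005e800740000a0000558000f000028000085000242000d1000030001aa000068000540000aa) (nat_lit 11)
(Net.cons (nat_lit 0x28020000020340400101401802002000010040020060280000200401006005004020050040060200680001a) (nat_lit 5)
(Net.cons (nat_lit 0x800000108208000040001002000000400021004100210020040000000200408000040000080300010801040) (nat_lit 3)
(Net.cons (nat_lit 0x4800010100000010101042004000000020808082000208000001000400008000404048080120000000100) (nat_lit 1)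
(Net.cons (nat_lit 0x49000020200080120202084008000000041010104240410021002484801010400808090100240080900240) (nat_lit 1)
(Net.cons (nat_lit 0x504a4041092120001090104200490908002480848280024808400101040010900042424848092000a004020) (nat_lit 1)
(Net.cons (nat_lit 0x8028c01082180000400030441804000210210841042100200400c000020841803004000008a3080108010a0) (nat_lit 3)
(Net.cons (nat_lit 0x280200a81203407c010140020200381e010040020060280180e00401006005004020050040060200680081a) (nat_lit 5)
(Net.cons (nat_lit 0xac00000c0005e800744000a0000558000f000028000087000242000d1000030001aa000068000740000aa) (nat_lit 11)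
(Net.cons (nat_lit 0x141b6c00000226d4c000000a2b240000017601200000364e00000002c13480000009480000000004000) (nat_lit 22)
(Net.cons (nat_lit 0x51412dd9200000000000004c2f19b300000000000000fbdf2904000000000000006d000040000) (nat_lit 44)
(Net.cons (nat_lit 0x526769820a18080100000000000000000000000000002a43a00040400114800000) (nat_lit 88)
(Net.cons (nat_lit 0x50000900000000000000000000000000000000000000) (nat_lit 176)
Net.nil)))))))))))))))))

noncomputable def k7n5 : Net :=
(Net.cons (nat_lit 0x20400000000000000000000000000000000000000000) (nat_lit 176)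
(Net.cons (nat_lit 0x698a1242042002020000000000000000000000000000e04da80811000000000000) (nat_lit 88)
(Net.cons (nat_lit 0x8815730400000000000007492800593000000000000c00c80000000000000000036c01400040) (nat_lit 44)
(Net.cons (nat_lit 0x1046a000000102440000002e27d0000003fa48800000352040000001032300000001328000000020040) (nat_lit 22)
(Net.cons (nat_lit 0x480002c800017000620000200007040011a0005b0001f80004a00010100022e0018000058a00104000400) (nat_lit 11)
(Net.cons (nat_lit 0x80100481c0280040400400a0100680b00c07000018008010040100300300c816008068080000300080e810) (nat_lit 5)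
(Net.cons (nat_lit 0x80200410020002084080000000800080000108408c000010000040000300418c00002080080000000c20000) (nat_lit 3)
(Net.cons (nat_lit 0x24041010000008010800002000008000000800090000000480000002400000000000040082000000080800) (nat_lit 1)
(Net.cons (nat_lit 0x48082024208010021000004100010400049010120008000920000404900212000048080104040000901000) (nat_lit 1)
(Net.cons (nat_lit 0x424041410020008410800002020009200004041412000008410100002420840200000248082101202094808) (nat_lit 1)
(Net.cons (nat_lit 0x8020051022002208408c0180080700611002886100304030070042040300418c31002884080000600c20000) (nat_lit 3)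
(Net.cons (nat_lit 0x80500601d02802c0400400a0100680b02c0700b80a008030040100300300c816028068088000300280e810) (nat_lit 5)
(Net.cons (nat_lit 0x580006e100017000623000600006040011a00050a001f88004b00010100022e0018000058a00104000440) (nat_lit 11)
(Net.cons (nat_lit 0x1046a0000001024400000026a6fa000003fa48800000352040000001032300000001328000000020040) (nat_lit 22)
(Net.cons (nat_lit 0x881573040000000000000f490a00592200000000000c00c80000000000000000036c01400040) (nat_lit 44)
(Net.cons (nat_lit 0x698a1242042002020000000000000000000000000000e04da80811000000000000) (nat_lit 88)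
(Net.cons (nat_lit 0x20400000000000000000000000000000000000000000) (nat_lit 176)
Net.nil)))))))))))))))))

noncomputable def k7n6 : Net :=
(Net.cons (nat_lit 0x20000210100000000000000000000000000000000000) (nat_lit 176)
(Net.cons (nat_lit 0x79eb00cf10248444000000000000000000000000000016e2000800000000000000) (nat_lit 88)
(Net.cons (nat_lit 0x7f040374700000000000002002404006000000000000eee202080000000000000000d04000000) (nat_lit 44)
(Net.cons (nat_lit 0xe45180000039122000000026c40000002dc248000003b8100000002118c00000002349000000000000) (nat_lit 22)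
(Net.cons (nat_lit 0xfd800280000d300018800160000100000940005a8000d000038400164000160000a800049800080000200) (nat_lit 11)
(Net.cons (nat_lit 0x80080801000006c0c004000040020000380000200802004808001010000000180100480f0060000500a008) (nat_lit 5)
(Net.cons (nat_lit 0x801000000310020c00080082300000c00002080008000000c20000000000400001800086000000030000000) (nat_lit 3)
(Net.cons (nat_lit 0x400800002104000000021000400001002000000000000000000801200400800200404808000100040000100) (nat_lit 1)
(Net.cons (nat_lit 0x809000004208010900042004900202404048000104040000901002400801002400809092000240490020200) (nat_lit 1)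
(Net.cons (nat_lit 0x2404240012925002004821210400049002000040400900002010801210400801002404801002100040004100) (nat_lit 1)
(Net.cons (nat_lit 0x8628c7006010028c01880082300000c00802080008304010c200c0080108610e21801081108000030400002) (nat_lit 3)
(Net.cons (nat_lit 0x80080800f03806c0c00c0000400200203a0000280802004808009018048008180180480f0060100500a00c) (nat_lit 5)
(Net.cons (nat_lit 0xfd800280000d3000188001c00001800009c000788000d00003840016c400160000a80004ba00080000200) (nat_lit 11)
(Net.cons (nat_lit 0xe453c00000391220000000e6cc0000002cca68000003b8100000002118c00000002349000000000000) (nat_lit 22)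
(Net.cons (nat_lit 0x7f040374700000000000002002404006000000000000eee202080000000000000000d04000000) (nat_lit 44)
(Net.cons (nat_lit 0x79eb00cf10248444000000000000000000000000000016e2000800000000000000) (nat_lit 88)
(Net.cons (nat_lit 0x20000210100000000000000000000000000000000000) (nat_lit 176)
Net.nil)))))))))))))))))

noncomputable def k7n7 : Net :=
(Net.cons (nat_lit 0x40000400000000000000000000000000000000000000) (nat_lit 176)
(Net.cons (nat_lit 0x73e50131400800000000000000000000000000000000b804200000000000000000) (nat_lit 88)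
(Net.cons (nat_lit 0x1da3c1da40100000000000c9802228400000000000007804140000000000000000d0ac0014000) (nat_lit 44)
(Net.cons (nat_lit 0x10daa00000011e704000001302c0000001a2000000001e82000000002030000000383b4200000014000) (nat_lit 22)
(Net.cons (nat_lit 0x5800180001a0000400001030004cc000890003b4000530000f0001bc8000900018600029400040800248) (nat_lit 11)
(Net.cons (nat_lit 0x20020070020200000400a0180100a004010040000140100300400200804803808004028020000120380200a) (nat_lit 5)
(Net.cons (nat_lit 0x800084084310420001080080204000000801084000000220840080000200000001000040100100010400001) (nat_lit 3)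
(Net.cons (nat_lit 0x82004000010800000404008000020000000020240000000000400000000004000002100200400001) (nat_lit 1)
(Net.cons (nat_lit 0x8082124208090821040004909010400040082000040480100040004800010000808092004200400820002) (nat_lit 1)
(Net.cons (nat_lit 0x420a00080100208094800200084008002020800000820242004001200424040000004200082100242400021) (nat_lit 1)
(Net.cons (nat_lit 0x400850862104200200810821841000108010840080002308500a010030c700011401046102014030400801) (nat_lit 3)
(Net.cons (nat_lit 0x60200701f0280000900a0380100b0040100400e8160300300400600a0480380800c0280201d0120380a00a) (nat_lit 5)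
(Net.cons (nat_lit 0x7800582000b8000400001030004cc000e98003b4000530000f0001bc8000900018600029400040800248) (nat_lit 11)
(Net.cons (nat_lit 0x10daa00000011e704000001302c0000001a2000000001e82000000002030000000383b4200000014000) (nat_lit 22)
(Net.cons (nat_lit 0x1da3c1da40100000000000c9802228400000000000007804140000000000000000d0ac0014000) (nat_lit 44)
(Net.cons (nat_lit 0x73e50131400800000000000000000000000000000000b804200000000000000000) (nat_lit 88)
(Net.cons (nat_lit 0x40000400000000000000000000000000000000000000) (nat_lit 176)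
Net.nil)))))))))))))))))

noncomputable def k7X : Nat := nat_lit 0x400000000000000000000000000000000000000000000000000000000000000000000000000000000000000a0410000000000000000000000000000000000000000000000000000080000000000000000000000000000010006000000000000000000000000000000000000000000000000000000000000000000000000000000000000800c1

noncomputable def k7W : List (List Nat) := [[nat_lit 2], [nat_lit 4], [nat_lit 6], [nat_lit 8], [nat_lit 10], [nat_lit 12], [nat_lit 14], [nat_lit 16]]

noncomputable def k7d0 : Dat := ⟨(nat_lit 351), (nat_lit 9), (nat_lit 4), k7X, [k7n0, k7n1, k7n2, k7n3, k7n4, k7n5, k7n6, k7n7], [nat_lit 0, nat_lit 0, nat_lit 144, nat_lit 144, nat_lit 7, nat_lit 7, nat_lit 12, nat_lit 12, nat_lit 19, nat_lit 19, nat_lit 21, nat_lit 21, nat_lit 6, nat_lit 6, nat_lit 17, nat_lit 17], []⟩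

theorem k7part (b : Base D τ s d0 64561751654400) : Cx (τ ∘ k7pi.perm) (vals s k7W) (genW (sv s) k7W) k7d0 :=
  b.x.part k7d0 k7pi k7W [[nat_lit 2], [nat_lit 4], [nat_lit 6], [nat_lit 8], [nat_lit 10], [nat_lit 12], [nat_lit 14], [nat_lit 16]] [nat_lit 0, nat_lit 144, nat_lit 7, nat_lit 12, nat_lit 19, nat_lit 21, nat_lit 6, nat_lit 17] le_rfl ((k7pcu2 b).anti le_top) (by decide +kernel) (by decide +kernel) (by decide +kernel)

noncomputable def k7n8 : Net :=
(Net.cons (nat_lit 0x440158b1dab814fb17f28ef80cc3c7624de11a49bbc1) (nat_lit 176)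
(Net.cons (nat_lit 0x5725dfb23332083bf46807000000000000000000000059ac2fdf3721330c425eda) (nat_lit 88)
(Net.cons (nat_lit 0x3e9bea4044e00000000000cc452bd6a7800000000000fd0d89c2a7800000000000bd0c869ced8) (nat_lit 44)
(Net.cons (nat_lit 0x8c992000003f57c2000003be202000000dde92000000c1dc0000001c77800000037a5a00000019169a) (nat_lit 22)
(Net.cons (nat_lit 0xd3c00250001200007dc000b680052000134000600001f5000444001740003ea00089000222000f800071a) (nat_lit 11)
(Net.cons (nat_lit 0x300e01e0040400601101802c0680b0140200081701000c07011038030048110100580f00001001004009) (nat_lit 5)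
(Net.cons (nat_lit 0x46008008c010400c010800800084000018200c6000008010041040006204400001001086100110030861880) (nat_lit 3)
(Net.cons (nat_lit 0x420000082004040000800002000001202000001000020008010021042004008200000008080020000400800) (nat_lit 1)
(Net.cons (nat_lit 0x848082104208490801042084901202404049092100240090021242484109012424001092100240010821240) (nat_lit 1)
(Net.cons (nat_lit 0x40404809282020a0849010500a0809092424201010125008414120052400149292120a0848082400a484828) (nat_lit 1)
(Net.cons (nat_lit 0x61006002308228030881082108708030c628c500a004610c008a1182184210a30c0204210e3000380610a0) (nat_lit 3)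
(Net.cons (nat_lit 0x20780601f0380140580d0240700f81f0120440a810002010090050360740c0040020700c0110200280d81e) (nat_lit 5)
(Net.cons (nat_lit 0xad80053a00008c00712000fc8003b40006ec004ab001f4c0014e001c40000750004e0003090016f40073b) (nat_lit 11)
(Net.cons (nat_lit 0x517d3000002fce0100000024290000002e2a8b0000033f50a000001a877900000359036000000fae5b) (nat_lit 22)
(Net.cons (nat_lit 0x3b1541ac23d00000000000b0fe5992715000000000008a754300dad000000000009f1b5c7e1b9) (nat_lit 44)
(Net.cons (nat_lit 0x123f28ced23817e5d408c30000000000000000000000974c38e0b9b254921aa70c) (nat_lit 88)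
(Net.cons (nat_lit 0x208f7616463171b484138f1a886d388dc704d70af1ac) (nat_lit 176)
Net.nil)))))))))))))))))

noncomputable def k7n9 : Net :=
(Net.cons (nat_lit 0x6122d8644fc14bb3269a905a5edb69f01bc631fcfa5a) (nat_lit 176)
(Net.cons (nat_lit 0x35891649866f67da7612a00000000000000000000007c815e688ffc0874f986ee) (nat_lit 88)
(Net.cons (nat_lit 0x18ee2eb980600000000000e400723da7000000000000a9edcfa166a00000000000ed6e1c3d810) (nat_lit 44)
(Net.cons (nat_lit 0x4832d000003a9102000002985ea000000ee582000001296340000006f488000000782280000003c0ce) (nat_lit 22)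
(Net.cons (nat_lit 0x3c40002e0006680003e00109000692001910000d0001f080050400140800724000bd80063200091800264) (nat_lit 11)
(Net.cons (nat_lit 0x10050020010080280e80001c00c0701600e0280b81802c0200500403c000000050160600a00203a0280800d) (nat_lit 5)
(Net.cons (nat_lit 0x210400002004300018810000002100218000061003002200608030802042088000420c2180110000860000) (nat_lit 3)
(Net.cons (nat_lit 0x49000000000480021202080001010000001090000240410821000480100010004008012000200410800) (nat_lit 1)
(Net.cons (nat_lit 0x841092124048410921042484900212420801092120240480921042084909212420849092124248480821002) (nat_lit 1)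
(Net.cons (nat_lit 0x24201400105040014100040400149200400048482100200084009212404808200024201082805242494109) (nat_lit 1)
(Net.cons (nat_lit 0x443846100018408c318c10420080186304238070822104284508400062885080018200c5002204620c00882) (nat_lit 3)
(Net.cons (nat_lit 0x1605c008070300240e01002600c0c8180360200a81f00e0740300b026070040090220580081101e02c04007) (nat_lit 5)
(Net.cons (nat_lit 0x9fc007c1001378000040009ec00565001aec000db001f2c0023300007c003c80013bc0036500093c00467) (nat_lit 11)
(Net.cons (nat_lit 0x787550000038e9740000009d15e000001f52d9000002b73c1000003e565a0000010bdde0000015ac0c) (nat_lit 22)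
(Net.cons (nat_lit 0x1dbc382b08c000000000000495c71659b00000000000f109f21222d000000000006804a36490b) (nat_lit 44)
(Net.cons (nat_lit 0x2e4a1d781ef354bfca635a000000000000000000000010d9026a231cd03e0ca3cc) (nat_lit 88)
(Net.cons (nat_lit 0x438b31d939bea695cd7192d0690c11b9084e1598a0a2) (nat_lit 176)
Net.nil)))))))))))))))))

noncomputable def k7n10 : Net :=
(Net.cons (nat_lit 0x502bced585f4099665fea5e01cdb9e6eb92c7249fa97) (nat_lit 176)
(Net.cons (nat_lit 0x547c574e0860376f4071e80000000000000000000000e77350838253c3e3457f94) (nat_lit 88)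
(Net.cons (nat_lit 0x4fd0e8649dd0000000000016ed60a63a80000000000095f894ba3e6000000000005b19138b7c2) (nat_lit 44)
(Net.cons (nat_lit 0x163c38000000ca5ce000002af40c000001771ba00000370e780000023a02800000049c2000000051cb0) (nat_lit 22)
(Net.cons (nat_lit 0x5c800036000b5800718000c00005f8001b2000058001d480012c001f600065e001d4000696001c1000208) (nat_lit 11)
(Net.cons (nat_lit 0x600481500a0180900502000004803032070058040140100100b0200480901d0000400e01d00800002010) (nat_lit 5)
(Net.cons (nat_lit 0x23004104100020841042180100408420061084004100210c610401801046088300000c000c008030061080) (nat_lit 3)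
(Net.cons (nat_lit 0x1082004040000020040404108000000800010124040000020202084108202000800090000008080820) (nat_lit 1)
(Net.cons (nat_lit 0x41002124248090900042080909212000041002020248490901240484108210424841080124240490901042) (nat_lit 1)
(Net.cons (nat_lit 0x100a084928042420141290000a01090800248480000202004801200424a4900212020a01010120008404900) (nat_lit 1)
(Net.cons (nat_lit 0x4000c4104204618c610e00c030c1006018408c208e304038c218801c4208610620c420c3000208630801000) (nat_lit 3)
(Net.cons (nat_lit 0x2204c078090080380200e0320300080002a01c0181200805c0580f0060700c81401e0400f01301c06805810) (nat_lit 5)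
(Net.cons (nat_lit 0x9340071a00039800066001894006d3000a6000600000598004ca00002c0067e000dec0008b000a980018e) (nat_lit 11)
(Net.cons (nat_lit 0xea3a4000000452f0000000ca5c7000003747c40000033ec06000001a8e4f000002421c0000002d55c2) (nat_lit 22)
(Net.cons (nat_lit 0x1b4684c086e00000000000bc6ded9f2800000000000026c4b9a036600000000000c14df4dd1a2) (nat_lit 44)
(Net.cons (nat_lit 0x182cd5de283d6e295a149800000000000000000000007bf2fec74018e69ddcda65) (nat_lit 88)
(Net.cons (nat_lit 0x406dc76bb5492a44fda633e44db9fafe58647a517ac5) (nat_lit 176)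
Net.nil)))))))))))))))))

noncomputable def k7n11 : Net :=
(Net.cons (nat_lit 0x11e74664f069b07d12dc235785bd036b50553d99fa24) (nat_lit 176)
(Net.cons (nat_lit 0x45ad1e158c0b29aa1020e0000000000000000000000978b8441a58c803c918806) (nat_lit 88)
(Net.cons (nat_lit 0xf0bafb89e200000000000f6844523dd800000000000695ae68c29e0000000000043cbdca5d16) (nat_lit 44)
(Net.cons (nat_lit 0x2f14c000002bf0f4000003bf2540000025512200000378a40000000db7680000027d002000003a0634) (nat_lit 22)
(Net.cons (nat_lit 0xc8000728000ae000272001bf00068e0016a000020001940000a00007880009e0009a00014a00002800200) (nat_lit 11)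
(Net.cons (nat_lit 0xc0000e0060320740a00c0240400600202406401809014070038020160540d00800a0500001a0080380081a) (nat_lit 5)
(Net.cons (nat_lit 0x44108210c1084100200c110200c0100300410801043000000400c210000c410c10002086000218400061840) (nat_lit 3)
(Net.cons (nat_lit 0x4000080100000000001002404000000004000000004200000800242004009010004000080020248010820) (nat_lit 1)
(Net.cons (nat_lit 0x808082104240480820202404908202424048002020248480821042484109212024808002124248490821040) (nat_lit 1)
(Net.cons (nat_lit 0x42000100202000a08410025002494108202004909010124809402805008080009002004808090524a404808) (nat_lit 1)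
(Net.cons (nat_lit 0x461043006018210830843082308600230c6004700210442041106118020c300631c6084300610c4180118c2) (nat_lit 3)
(Net.cons (nat_lit 0x360000b80f00602c0880b02605402002026074050060060580c0130240080a01e0380140081b03407c0400a) (nat_lit 5)
(Net.cons (nat_lit 0xfc80040e00173c004a9000c78001b90015800062b001ed80001c0014f4003db001aec006f4000b34001ec) (nat_lit 11)
(Net.cons (nat_lit 0xdf167000002d62db0000026243b000000441d1000000ad463000000f01b5000001469870000019592e) (nat_lit 22)
(Net.cons (nat_lit 0x72ee936937b00000000000fe34ac90a7600000000000548afbfd5d30000000000024bde8574a2) (nat_lit 44)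
(Net.cons (nat_lit 0x728b0a40fbc188a5c3a2bd0000000000000000000000d2b6202fa2b7efd61142a2) (nat_lit 88)
(Net.cons (nat_lit 0x6298b09c97cffba86679edb33a35c54a25ca300ccf40) (nat_lit 176)
Net.nil)))))))))))))))))

noncomputable def k7n12 : Net :=
(Net.cons (nat_lit 0x7b4b73d3d3050c973a2b38a6a81c2ca6f7cde7094108) (nat_lit 176)
(Net.cons (nat_lit 0x709235778ff590521f118e00000000000000000000005a5dd0a30a313664063aa4) (nat_lit 88)
(Net.cons (nat_lit 0x6d57ec2b4b00000000000bb90c3a811200000000000c4b17e701a40000000000049254ca5af4) (nat_lit 44)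
(Net.cons (nat_lit 0x19640000001ad0f2000003d06600000007fa860000024932e0000004f130000002e6b42000001b8ab6) (nat_lit 22)
(Net.cons (nat_lit 0xb6800270000c3800070000f9000210001c200006e00087800226001d58005200010e0000fc001ef0005e8) (nat_lit 11)
(Net.cons (nat_lit 0x280200380f0140300c8080260000200b0220000600c0200280301801204c000000340480880803c07809808) (nat_lit 5)
(Net.cons (nat_lit 0x8000c0184000000001080080008208c21000084108100430800803104100610c200210c008c200020821080) (nat_lit 3)
(Net.cons (nat_lit 0x20041000004000090021040080009012000000000000000080920002404100200020841080024000480100) (nat_lit 1)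
(Net.cons (nat_lit 0x841092120208090121242484109012424001002124200410901242404908210400849092104048090901202) (nat_lit 1)
(Net.cons (nat_lit 0x104a4941010100a494820002024849000400a08490824040490108240000041210500808402125042494908) (nat_lit 1)
(Net.cons (nat_lit 0x4438841863102088000c10c4284408600c23000102314628c3100208608400043100084508a21c218451820) (nat_lit 3)
(Net.cons (nat_lit 0x220700d8190080180200601c04c008080160340301a00403c0280302e02c0400c00c0200f81e03e0140a01e) (nat_lit 5)
(Net.cons (nat_lit 0xd0c0059000097000491001c1c002fc001118007720002d000544001cf40038f0002500062000016c0006e) (nat_lit 11)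
(Net.cons (nat_lit 0x1b0fb20000038f7ff00000274999000000386dc0000038865e0000015b93a000001d40730000009479c) (nat_lit 22)
(Net.cons (nat_lit 0x7371e4c59a500000000000cb044c8afe0000000000005dc848d397e00000000000e612aca5748) (nat_lit 44)
(Net.cons (nat_lit 0x3d5d22451c6dc8e4150f230000000000000000000000da72e68989ec51526dc8c8) (nat_lit 88)
(Net.cons (nat_lit 0x7a7a8765f2c81bd855fac498a6916415a94be7240a52) (nat_lit 176)
Net.nil)))))))))))))))))

noncomputable def k7n13 : Net :=
(Net.cons (nat_lit 0x7849a36f3648e3b350950f3755413ef787247c75cc38) (nat_lit 176)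
(Net.cons (nat_lit 0x762600a6d1e8d4ba00f8cf00000000000000000000001595960bc4176488c52d6a) (nat_lit 88)
(Net.cons (nat_lit 0x383ff2a6ca00000000000036b857b21c400000000000581f171f87a00000000000ac215cad100) (nat_lit 44)
(Net.cons (nat_lit 0xe4dd4000003c2dc800000106f5800000250d30000000d0ea0000003fed08000000a592e00000101c5c) (nat_lit 22)
(Net.cons (nat_lit 0xb8002a2001660007f80001c8003a80014900043600090000722000a68005240003e0007420004d000488) (nat_lit 11)
(Net.cons (nat_lit 0x140240781c03c018078150200740480d02e0300081e0360400880b03004c000090220080881303604806818) (nat_lit 5)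
(Net.cons (nat_lit 0x80004408000863044108100010001883182000018020021040104208400800001184104000c1082100010c3) (nat_lit 3)
(Net.cons (nat_lit 0x20048080020200080121002404009000020000012020000080020200080009202020008002104200000821) (nat_lit 1)
(Net.cons (nat_lit 0x848092104048410901242084908012020841082124240400921242400100012424048092004248410101042) (nat_lit 1)
(Net.cons (nat_lit 0x10404801002120a090109200080048210500240410121042004821250084000012520a00480025242490000) (nat_lit 1)
(Net.cons (nat_lit 0x100308600843881104210228840002042008518c2004088700220842801008000400c710c014000871803) (nat_lit 3)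
(Net.cons (nat_lit 0x1c01c0f81c02c0740f8070000700c00601a0140280703a0140000d03603c0501c01c0480f81701c00400004) (nat_lit 5)
(Net.cons (nat_lit 0xb7c0019b0013a8001900013b0007a90019e4005a3000a000046700097c004a80015f0005d7000ed000732) (nat_lit 11)
(Net.cons (nat_lit 0xc200a00000031c9600000006030000002a3f9f000003315a5000003c39c8000002509be000002b11dc) (nat_lit 22)
(Net.cons (nat_lit 0x6f2253aacd300000000000c2171e7ccc000000000000047bbd2272e00000000000f3d0cdae0ec) (nat_lit 44)
(Net.cons (nat_lit 0x66dc24ce4972dc3d4024f0000000000000000000000050730d0de0b236c3e9b68e) (nat_lit 88)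
(Net.cons (nat_lit 0x1521b99d2cb57d5cce91b07b463141ec7c7232b5956c) (nat_lit 176)
Net.nil)))))))))))))))))

noncomputable def k7d1 : Dat := ⟨(nat_lit 351), (nat_lit 9), (nat_lit 4), k7X, [k7n0, k7n1, k7n2, k7n3, k7n4, k7n5, k7n6, k7n7, k7n8, k7n9, k7n10, k7n11, k7n12, k7n13], [nat_lit 0, nat_lit 0, nat_lit 144, nat_lit 144, nat_lit 7, nat_lit 7, nat_lit 12, nat_lit 12, nat_lit 19, nat_lit 19, nat_lit 21, nat_lit 21, nat_lit 6, nat_lit 6, nat_lit 17, nat_lit 17], []⟩

theorem k7d1_up (b : Cx τ s M k7d0) : ∃ s', Cx τ s' M k7d1 ∧ ∀ w, ltB 8 [w] = true → E s' w = E s w :=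
  ⟨_, b.ext1 k7d1 (nat_lit 8) [[nat_lit 2, nat_lit 7, nat_lit 11, nat_lit 8, nat_lit 13, nat_lit 8, nat_lit 0, nat_lit 4, nat_lit 1, nat_lit 12, nat_lit 5, nat_lit 3, nat_lit 7, nat_lit 3, nat_lit 0, nat_lit 5, nat_lit 7, nat_lit 3, nat_lit 6, nat_lit 0, nat_lit 14, nat_lit 9, nat_lit 12, nat_lit 6], [nat_lit 17, nat_lit 10, nat_lit 9, nat_lit 17, nat_lit 7], [nat_lit 17, nat_lit 1, nat_lit 15, nat_lit 6, nat_lit 19, nat_lit 1, nat_lit 10, nat_lit 19], [nat_lit 3, nat_lit 17, nat_lit 17, nat_lit 21, nat_lit 16, nat_lit 5, nat_lit 2, nat_lit 12], [nat_lit 1, nat_lit 5, nat_lit 22, nat_lit 11, nat_lit 13, nat_lit 21, nat_lit 0, nat_lit 6, nat_lit 23], [nat_lit 20, nat_lit 15, nat_lit 23, nat_lit 8, nat_lit 5, nat_lit 6, nat_lit 23, nat_lit 7]] [k7n8, k7n9, k7n10, k7n11, k7n12, k7n13] [[], [], [], [], [], [], [], [], [], [], [], [], [], [], [], []] rfl rfl (by decide +kernel) (by decide +kernel) (by decide +kernel) (by decide +kernel) (by decide +kernel), fun _ h => E_ext _ _ h⟩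

noncomputable def k7n14 : Net :=
(Net.cons (nat_lit 0x5219100d4a7964dba78fd5a3de6b4fefee3bdd79fb36) (nat_lit 176)
(Net.cons (nat_lit 0x3c659c6945ee39656a550a0000000000000000000000aab5cfc051c121acabb946) (nat_lit 88)
(Net.cons (nat_lit 0x2a5d2c2bc100000000000a603cc46e1800000000000278c1b2401c00000000000ff6825bd040) (nat_lit 44)
(Net.cons (nat_lit 0x17ea90000002772f800000194d28000001125460000003775800000390b080000004fb4800000219e60) (nat_lit 22)
(Net.cons (nat_lit 0x288004600016900015c0010600078800045000650001350002200010200000800165000360001da800064) (nat_lit 11)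
(Net.cons (nat_lit 0x2c030040100220400200e006004040010340280e81800c0080300e0200700281b03600c0581503c0100a817) (nat_lit 5)
(Net.cons (nat_lit 0x84300418810060002004010000821040182208400010040046104000210400000186100418c010230841000) (nat_lit 3)
(Net.cons (nat_lit 0x800082104208480820040080800210420048000000000480901002084901000404000000024240410100) (nat_lit 1)
(Net.cons (nat_lit 0x809002104208490921040084909200424849092120248090921242084909202400849002120048490821240) (nat_lit 1)
(Net.cons (nat_lit 0x500a4048080404248092800002000809052400809082020001490824240484100002484108292000a400801) (nat_lit 1)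
(Net.cons (nat_lit 0x43886084014208450003104008718c0040188118e00c43005106008410c500831822087100204408800083) (nat_lit 3)
(Net.cons (nat_lit 0x180000800303a0440c01601e00c0a80201e0280180402e07c0a8110200540f81a0240400500c0120640200d) (nat_lit 5)
(Net.cons (nat_lit 0x5f000505001b080041d0019400029100034c00555001290004ac001304006960002cc0031f0011080022a) (nat_lit 11)
(Net.cons (nat_lit 0x17525600000385d740000029c200000002a9ad3000002be71e0000021dd52000003d8429000003d237a) (nat_lit 22)
(Net.cons (nat_lit 0xeeffde26c5000000000006e47fd2418d00000000000ef49636436300000000000f3984b65c50) (nat_lit 44)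
(Net.cons (nat_lit 0x19ee41ad4673d6f187688e0000000000000000000000b9b8353b03e744b7ea8932) (nat_lit 88)
(Net.cons (nat_lit 0x3c6f063da6c9e877abfdfadff8aee3b632fbdcfac3e) (nat_lit 176)
Net.nil)))))))))))))))))

noncomputable def k7n15 : Net :=
(Net.cons (nat_lit 0x6ad9e7ad63c40211002390b23020e020ed804082600) (nat_lit 176)
(Net.cons (nat_lit 0x539ccdf5c5f1e21e5cd1aa0000000000000000000000ba236647a2c87846f3b742) (nat_lit 88)
(Net.cons (nat_lit 0x1d1a780fece000000000008d54be02a0000000000000863352c6fa40000000000050cd376f188) (nat_lit 44)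
(Net.cons (nat_lit 0x78c6900000154f20000001a7aa400000254bca000000f9430000002940740000000202c000001803bc) (nat_lit 22)
(Net.cons (nat_lit 0x3e0006aa0019780077c001cd0004060012a0002c4001aa00070000075000320000e20003d40004c800346) (nat_lit 11)
(Net.cons (nat_lit 0x680001b0040240000703406c040180040500881903c008000050180600a0120220180c00b0280080100c) (nat_lit 5)
(Net.cons (nat_lit 0x462044000110200c41800100004000000002080000100030060082004000410000000084104308020061840) (nat_lit 3)
(Net.cons (nat_lit 0x404800080100208400120000004001210404000002000008080000000004108002000041010020008000900) (nat_lit 1)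
(Net.cons (nat_lit 0x849090124248490821240480108012424848082004200410120040404808210004001082120248090101240) (nat_lit 1)
(Net.cons (nat_lit 0x242014821052480808002120a4000290004001012125048080001200024948012104808412120008080100) (nat_lit 1)
(Net.cons (nat_lit 0x40184408e21840003188010620010022002088608c21c030c018431820081082200200060802040180518a0) (nat_lit 3)
(Net.cons (nat_lit 0x160480a81000a0740a80d00206c0681403c0440100900c0180300903e0240c81a02205c0880602801c0680c) (nat_lit 5)
(Net.cons (nat_lit 0x4f4000b90019dc004790016d400214001cb000425000a3000450001710001e9001a68000ee000c5400306) (nat_lit 11)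
(Net.cons (nat_lit 0x5d3f1000001501f300000376ee50000015a5c2000000392f2000001018cc0000015243b000000c049a) (nat_lit 22)
(Net.cons (nat_lit 0xee15d4945e0000000000058eb373bf7000000000000a1a890ccd3c00000000000408d9f6bd88) (nat_lit 44)
(Net.cons (nat_lit 0x63d5cdbb16c1c9cfda2682000000000000000000000024e3a24393c2759d476d6a) (nat_lit 88)
(Net.cons (nat_lit 0x7b73ab6fb384040a012c00f22a04240510241450170) (nat_lit 176)
Net.nil)))))))))))))))))

noncomputable def k7n16 : Net :=
(Net.cons (nat_lit 0x4075ede948d7c0c49898491a8e080009cc2426a50365) (nat_lit 176)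
(Net.cons (nat_lit 0x3d3aceff46b53bee700c54000000000000000000000069fee96eed8251d400821c) (nat_lit 88)
(Net.cons (nat_lit 0x4031fd929a8000000000001f5f9c0a8b40000000000066c44c180e00000000000040dab96708a) (nat_lit 44)
(Net.cons (nat_lit 0x7f080000000f8ac2000000b5bce000000d1cf6000002cb524000002e608200000246770000002ae420) (nat_lit 22)
(Net.cons (nat_lit 0x41000424001f680019c000310002780006a0004200014c000598001c10004ca00101000098001540001f0) (nat_lit 11)
(Net.cons (nat_lit 0x7006008022050040110100080400400c0700281603001c0381e00007c0281003005c0900d03403408016) (nat_lit 5)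
(Net.cons (nat_lit 0xc600c000000000004108208420020000080100418c2104300210c0100204010001040000008100220c00000) (nat_lit 3)
(Net.cons (nat_lit 0x20848080104200000100200004108200000041010004200000020002080900202004040002020008000000) (nat_lit 1)
(Net.cons (nat_lit 0x849090100248410101200404909212400040082124208480100042084909200424049090004248490820240) (nat_lit 1)
(Net.cons (nat_lit 0x520808000820200490901242080948000520841090005242484001002404140002020840400121008484028) (nat_lit 1)
(Net.cons (nat_lit 0x4200c300a21c200c21062044100518600800881108210000061801100308700020041040106110220870041) (nat_lit 3)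
(Net.cons (nat_lit 0x1a0500601103a0500f00c0120480c81903c03c0201601e028060080180200b016020070050170240600480b) (nat_lit 5)
(Net.cons (nat_lit 0x15c00222001b640037c00114000230000f800003a001308004d8000018006e9001e14002940013c00018a) (nat_lit 11)
(Net.cons (nat_lit 0x10801d00000069a8700000397a2f000000d9ffe000000fb00c000003654810000024a430000002b3144) (nat_lit 22)
(Net.cons (nat_lit 0x996c3b8106000000000007e353e6e026000000000000690c8124e900000000000b2f4fda56cd) (nat_lit 44)
(Net.cons (nat_lit 0x3de6a6db66823fd3522cac000000000000000000000079fefd268ca2f000122254) (nat_lit 88)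
(Net.cons (nat_lit 0x10012cf143a31000da485ac858540860e8876381010d) (nat_lit 176)
Net.nil)))))))))))))))))

noncomputable def k7n17 : Net :=
(Net.cons (nat_lit 0x71c75b405a42123768b1feed3a0acbf3b4babde4ac9c) (nat_lit 176)
(Net.cons (nat_lit 0x1c6d04181406643e0248040000000000000000000000eaaaa22477d784ac24d734) (nat_lit 88)
(Net.cons (nat_lit 0x120280e0a20000000000059e3d1b8460000000000002b0e3dbe08c000000000002e449f02084) (nat_lit 44)
(Net.cons (nat_lit 0x18bc9000001a038c000001627b800000285594000002280f8000000874d000000099f2c000001e8876) (nat_lit 22)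
(Net.cons (nat_lit 0x40c005d00009100063600078000318001cf00025a0006980041000058800308001c8800442001118000b4) (nat_lit 11)
(Net.cons (nat_lit 0x1c0000601a02a0440d00a00a030090080340400f01f00802c0d0160040700c0070180700900e02e02408802) (nat_lit 5)
(Net.cons (nat_lit 0xc430020042100200208c01802002000000400061003104008008411021004000110230c4000008400c010c1) (nat_lit 3)
(Net.cons (nat_lit 0x404008082004008010900200080001212424040000104048000801202400908010020009080020040010001) (nat_lit 1)
(Net.cons (nat_lit 0x849010124248410121240404109012424848082100208490901042404901210420848092120248490821042) (nat_lit 1)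
(Net.cons (nat_lit 0x24008400909200480149002420a4848082400041410900000000909250020840082520a08090100248410020) (nat_lit 1)
(Net.cons (nat_lit 0x20c500a31001883082100410c00002102180600e21c4280418e3102184208c00800007084314038851041) (nat_lit 3)
(Net.cons (nat_lit 0x20140501003002c0500c00a0500100703e0600a01c01001c09017038010020050160640a81f0380140280a) (nat_lit 5)
(Net.cons (nat_lit 0x71c000f6001b600037a0009c8001bb000944005af0016fc002e8000ff80068d0011d4003dd001c540069a) (nat_lit 11)
(Net.cons (nat_lit 0x50b4f0000015edce00000203060000003a7dd00000014a41000000033050000003cdeda00000279984) (nat_lit 22)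
(Net.cons (nat_lit 0x62027a1e40500000000000133f601c222000000000005b17b4523f800000000000aa683103a14) (nat_lit 44)
(Net.cons (nat_lit 0x530879986bcb28a850eb0500000000000000000000000ab23c8a6cb26211db5aa2) (nat_lit 88)
(Net.cons (nat_lit 0x21e47c027a2640e136769effe554777430356bcb67d6) (nat_lit 176)
Net.nil)))))))))))))))))

noncomputable def k7n18 : Net :=
(Net.cons (nat_lit 0x2fcceb4621fcbed7d2202eaae3d70831cc818106a164) (nat_lit 176)
(Net.cons (nat_lit 0xd0a11956027ec460cc9c500000000000000000000001e26773602373122535778) (nat_lit 88)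
(Net.cons (nat_lit 0x1df272fb534000000000005399305cf300000000000059137654332000000000007b31956ee68) (nat_lit 44)
(Net.cons (nat_lit 0x1385f2000000eb4080000024e98a000002b850c000001f0c600000006bdc800000119f060000020e640) (nat_lit 22)
(Net.cons (nat_lit 0xd54003b80010a00024a00196000068001db0000c200010000724001ac80010400098800054001240003aa) (nat_lit 11)
(Net.cons (nat_lit 0x300480f8080120600001c00801c0f81402200c0001a008024000020040000400e0340780181600c00009000) (nat_lit 5)
(Net.cons (nat_lit 0x2082084210030060001082008400011060046000100000061081006008400c31000002008000400041080) (nat_lit 3)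
(Net.cons (nat_lit 0x800010004200080001002000008010004048082100040080001000400808000024800090000208000020) (nat_lit 1)
(Net.cons (nat_lit 0x41080124008480901242084809012420848092124240090100042084901010420849090120000410020040) (nat_lit 1)
(Net.cons (nat_lit 0x2020201090820040000800212480800010420241092020008490800002084900212020041080800040090808) (nat_lit 1)
(Net.cons (nat_lit 0x46200618021023887000200230810840102008008a2104208410a0080108408a31801081000300028460082) (nat_lit 3)
(Net.cons (nat_lit 0x300180d80b03203c0301200806c0600400a02c0381f0200340c00d0160600000600c0680000e00001009016) (nat_lit 5)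
(Net.cons (nat_lit 0x6c00011900153c00229000d78006630004b8003aa001d1800609001ae800383000be8006540013640039a) (nat_lit 11)
(Net.cons (nat_lit 0x7b2d4000001ef21c000002c1a450000023038a00000030d49000002ad6da0000031ea0600000248d50) (nat_lit 22)
(Net.cons (nat_lit 0x15756658a340000000000030be1b30f7a00000000000a597573629700000000000ebffe079e28) (nat_lit 44)
(Net.cons (nat_lit 0x1cad180807202a908c8f230000000000000000000000138677c4204abdc413dc3e) (nat_lit 88)
(Net.cons (nat_lit 0x2fb266ea4abca1eae6aef83ba0925e93e50306340204) (nat_lit 176)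
Net.nil)))))))))))))))))

noncomputable def k7n19 : Net :=
(Net.cons (nat_lit 0x56e0c40a3976800180a0010200001010008000000008) (nat_lit 176)
(Net.cons (nat_lit 0x4687be303f63a790281808000000000000000000000082044051621540a2000000) (nat_lit 88)
(Net.cons (nat_lit 0x7dc42a288800000000000080b9004ca42000000000008c0478522000000000000084e82112650) (nat_lit 44)
(Net.cons (nat_lit 0xa643000000178440000003208800000007a590000001b13a00000018a040000002120a0000001f0408) (nat_lit 22)
(Net.cons (nat_lit 0x4000e800130000240000b40002c4000240006cc00100000300001e800040c000518002c0000f00000c4) (nat_lit 11)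
(Net.cons (nat_lit 0x1002c02010000028050140000200201002003000010022028000000000240801c0100400a8180080280200e) (nat_lit 5)
(Net.cons (nat_lit 0x800006080210420001002004000000411840040000210000440080100000000420801006080210010000040) (nat_lit 3)
(Net.cons (nat_lit 0x4801080000040000000000400008000004048000104000480000200004000200020001080004040000020) (nat_lit 1)
(Net.cons (nat_lit 0x849002120008090000002400800210020848090000208010900200400009002420040092100208490020042) (nat_lit 1)
(Net.cons (nat_lit 0x4849082800240404000002484009082004048400924200480000200024040282120a01480024040400128) (nat_lit 1)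
(Net.cons (nat_lit 0x82280608021002085104300400000041184104200c210008461080100300100420801006080310010010840) (nat_lit 3)
(Net.cons (nat_lit 0x1002c020100040200501400003c0201002003002010022068090000000240a01c0100400a8180080280680e) (nat_lit 5)
(Net.cons (nat_lit 0x4000ed00024c00240000b40002f4000240006ec00100000304001e840040c000518002c0000f00004c4) (nat_lit 11)
(Net.cons (nat_lit 0xae43000000178740000003208800000007b590000001b13a00000018e040000002120a0000001f0408) (nat_lit 22)
(Net.cons (nat_lit 0x7dc42a288800000000000080b9004cac2000000000008c0478522000000000000084e82112650) (nat_lit 44)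
(Net.cons (nat_lit 0x4687be303f63a790281808000000000000000000000082044051621540a2000000) (nat_lit 88)
(Net.cons (nat_lit 0x56e0c40a3976800180a0010200001010008000000008) (nat_lit 176)
Net.nil)))))))))))))))))

noncomputable def k7d2 : Dat := ⟨(nat_lit 351), (nat_lit 9), (nat_lit 4), k7X, [k7n0, k7n1, k7n2, k7n3, k7n4, k7n5, k7n6, k7n7, k7n8, k7n9, k7n10, k7n11, k7n12, k7n13, k7n14, k7n15, k7n16, k7n17, k7n18, k7n19], [nat_lit 0, nat_lit 0, nat_lit 144, nat_lit 144, nat_lit 7, nat_lit 7, nat_lit 12, nat_lit 12, nat_lit 19, nat_lit 19, nat_lit 21, nat_lit 21, nat_lit 6, nat_lit 6, nat_lit 17, nat_lit 17], []⟩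

theorem k7d2_up (b : Cx τ s M k7d1) : ∃ s', Cx τ s' M k7d2 ∧ ∀ w, ltB 14 [w] = true → E s' w = E s w :=
  ⟨_, b.ext1 k7d2 (nat_lit 14) [[nat_lit 7, nat_lit 24, nat_lit 7, nat_lit 24, nat_lit 27, nat_lit 7, nat_lit 24, nat_lit 10], [nat_lit 24, nat_lit 9, nat_lit 15, nat_lit 13, nat_lit 24, nat_lit 26, nat_lit 13], [nat_lit 29, nat_lit 31, nat_lit 8, nat_lit 28, nat_lit 11, nat_lit 30], [nat_lit 9, nat_lit 11, nat_lit 29, nat_lit 14, nat_lit 30, nat_lit 10, nat_lit 8, nat_lit 15], [nat_lit 11, nat_lit 32, nat_lit 14, nat_lit 34, nat_lit 32, nat_lit 35], [nat_lit 32, nat_lit 36, nat_lit 33, nat_lit 14, nat_lit 34, nat_lit 14]] [k7n14, k7n15, k7n16, k7n17, k7n18, k7n19] [[], [], [], [], [], [], [], [], [], [], [], [], [], [], [], []] rfl rfl (by decide +kernel) (by decide +kernel) (by decide +kernel) (by decide +kernel) (by decide +kernel), fun _ h => E_ext _ _ h⟩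

noncomputable def k7n20 : Net :=
(Net.cons (nat_lit 0x40000400000000000000000000000000000000000000) (nat_lit 176)
(Net.cons (nat_lit 0x73e50131400800000000000000000000000000000000b804200000000000000000) (nat_lit 88)
(Net.cons (nat_lit 0x1da3c1da40100000000000c9802228400000000000007804140000000000000000d0ac0014000) (nat_lit 44)
(Net.cons (nat_lit 0x10daa00000011e704000001302c0000001a2000000001e82000000002030000000383b4200000014000) (nat_lit 22)
(Net.cons (nat_lit 0x5800180001a0000400001030004cc000890003b4000530000f0001bc8000900018600029400040800248) (nat_lit 11)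
(Net.cons (nat_lit 0x20020070020200000400a0180100a004010040000140100300400200804803808004028020000120380200a) (nat_lit 5)
(Net.cons (nat_lit 0x800084084310420001080080204000000801084000000220840080000200000001000040100100010400001) (nat_lit 3)
(Net.cons (nat_lit 0x82004000010800000404008000020000000020240000000000400000000004000002100200400001) (nat_lit 1)
(Net.cons (nat_lit 0x8082124208090821040004909010400040082000040480100040004800010000808092004200400820002) (nat_lit 1)
(Net.cons (nat_lit 0x420a00080100208094800200084008002020800000820242004001200424040000004200082100242400021) (nat_lit 1)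
(Net.cons (nat_lit 0x400850862104200200810821841000108010840080002308500a010030c700011401046102014030400801) (nat_lit 3)
(Net.cons (nat_lit 0x60200701f0280000900a0380100b0040100400e8160300300400600a0480380800c0280201d0120380a00a) (nat_lit 5)
(Net.cons (nat_lit 0x7800582000b8000400001030004cc000e98003b4000530000f0001bc8000900018600029400040800248) (nat_lit 11)
(Net.cons (nat_lit 0x10daa00000011e704000001302c0000001a2000000001e82000000002030000000383b4200000014000) (nat_lit 22)
(Net.cons (nat_lit 0x1da3c1da40100000000000c9802228400000000000007804140000000000000000d0ac0014000) (nat_lit 44)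
(Net.cons (nat_lit 0x73e50131400800000000000000000000000000000000b804200000000000000000) (nat_lit 88)
(Net.cons (nat_lit 0x40000400000000000000000000000000000000000000) (nat_lit 176)
Net.nil)))))))))))))))))

noncomputable def k7n21 : Net :=
(Net.cons (nat_lit 0x40000400000000000000000000000000000000000000) (nat_lit 176)
(Net.cons (nat_lit 0x73e50131400800000000000000000000000000000000b804200000000000000000) (nat_lit 88)
(Net.cons (nat_lit 0x1da3c1da40100000000000c9802228400000000000007804140000000000000000d0ac0014000) (nat_lit 44)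
(Net.cons (nat_lit 0x10daa00000011e704000001302c0000001a2000000001e82000000002030000000383b4200000014000) (nat_lit 22)
(Net.cons (nat_lit 0x5800180001a0000400001030004cc000890003b4000530000f0001bc8000900018600029400040800248) (nat_lit 11)
(Net.cons (nat_lit 0x20020070020200000400a0180100a004010040000140100300400200804803808004028020000120380200a) (nat_lit 5)
(Net.cons (nat_lit 0x800084084310420001080080204000000801084000000220840080000200000001000040100100010400001) (nat_lit 3)
(Net.cons (nat_lit 0x82004000010800000404008000020000000020240000000000400000000004000002100200400001) (nat_lit 1)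
(Net.cons (nat_lit 0x8082124208090821040004909010400040082000040480100040004800010000808092004200400820002) (nat_lit 1)
(Net.cons (nat_lit 0x420a00080100208094800200084008002020800000820242004001200424040000004200082100242400021) (nat_lit 1)
(Net.cons (nat_lit 0x400850862104200200810821841000108010840080002308500a010030c700011401046102014030400801) (nat_lit 3)
(Net.cons (nat_lit 0x60200701f0280000900a0380100b0040100400e8160300300400600a0480380800c0280201d0120380a00a) (nat_lit 5)
(Net.cons (nat_lit 0x7800582000b8000400001030004cc000e98003b4000530000f0001bc8000900018600029400040800248) (nat_lit 11)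
(Net.cons (nat_lit 0x10daa00000011e704000001302c0000001a2000000001e82000000002030000000383b4200000014000) (nat_lit 22)
(Net.cons (nat_lit 0x1da3c1da40100000000000c9802228400000000000007804140000000000000000d0ac0014000) (nat_lit 44)
(Net.cons (nat_lit 0x73e50131400800000000000000000000000000000000b804200000000000000000) (nat_lit 88)
(Net.cons (nat_lit 0x40000400000000000000000000000000000000000000) (nat_lit 176)
Net.nil)))))))))))))))))

noncomputable def k7d3 : Dat := ⟨(nat_lit 351), (nat_lit 9), (nat_lit 4), k7X, [k7n0, k7n1, k7n2, k7n3, k7n4, k7n5, k7n6, k7n7, k7n8, k7n9, k7n10, k7n11, k7n12, k7n13, k7n14, k7n15, k7n16, k7n17, k7n18, k7n19, k7n20, k7n21], [nat_lit 0, nat_lit 0, nat_lit 144, nat_lit 144, nat_lit 7, nat_lit 7, nat_lit 12, nat_lit 12, nat_lit 19, nat_lit 19, nat_lit 21, nat_lit 21, nat_lit 6, nat_lit 6, nat_lit 17, nat_lit 17], []⟩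

theorem k7d3_up (b : Cx τ s M k7d2) : ∃ s', Cx τ s' M k7d3 ∧ ∀ w, ltB 20 [w] = true → E s' w = E s w :=
  ⟨_, b.ext1 k7d3 (nat_lit 20) [[nat_lit 37, nat_lit 36, nat_lit 38, nat_lit 37, nat_lit 14, nat_lit 38], [nat_lit 37, nat_lit 15, nat_lit 38, nat_lit 14, nat_lit 39, nat_lit 41]] [k7n20, k7n21] [[], [], [], [], [], [], [], [], [], [], [], [], [], [], [], []] rfl rfl (by decide +kernel) (by decide +kernel) (by decide +kernel) (by decide +kernel) (by decide +kernel), fun _ h => E_ext _ _ h⟩

noncomputable def k7n22 : Net :=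
(Net.cons (nat_lit 0x3646a1e99788276fe31909e8ae3f63d0c1e6aca9ac8e) (nat_lit 176)
(Net.cons (nat_lit 0x34e7d231f6b70a9708afa400000000000000000000000d2e50035d4d36cee56d80) (nat_lit 88)
(Net.cons (nat_lit 0x2dd4c0dd12c000000000006a49504346400000000000d666eee29a2000000000000d67487211e) (nat_lit 44)
(Net.cons (nat_lit 0x1eec5500000173aac000001d9368000003bf6e800000121aa200000240ad4000001536a60000025f590) (nat_lit 22)
(Net.cons (nat_lit 0x468005c60007b00051c00034800788000f10007f8001b200045a0014c00040a0008700021c00097000184) (nat_lit 11)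
(Net.cons (nat_lit 0x1003c06016018060060160200700d0000140300000200c0040b80200000c060110300200401402400c0280e) (nat_lit 5)
(Net.cons (nat_lit 0x82300018011002040008200210841882006008600c01000082108100410440001004108000c100030401842) (nat_lit 3)
(Net.cons (nat_lit 0x420800082020008400000040084008010024840002020040010000002400008002004001002120008080021) (nat_lit 1)
(Net.cons (nat_lit 0x849010104240010820042484109012020849090124040090921202484909212424049092024248490901242) (nat_lit 1)
(Net.cons (nat_lit 0x2504009490125248004821202480801000400a4840200004a01012120040414108210424108210020a090909) (nat_lit 1)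
(Net.cons (nat_lit 0x80008008e108010820841140388218a0144288410620c02047188308408c210201c238401820186104600c1) (nat_lit 3)
(Net.cons (nat_lit 0x80080f0040300240b00c03e0280801400e0080f01d00a03c0b8160040700200d0380080000c03c00400819) (nat_lit 5)
(Net.cons (nat_lit 0x81c00285001ab00004d001df800798001c44004b800172c006890011d4003960012f4000eb00083800279) (nat_lit 11)
(Net.cons (nat_lit 0x86bc50000002ccf20000019472000000390ad300000351d84000000f5917000001bc22a00000033356) (nat_lit 22)
(Net.cons (nat_lit 0x3bc24903b1e000000000006dbc5dbd60b000000000008ab57e1ef0800000000000fd08cb179ee) (nat_lit 44)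
(Net.cons (nat_lit 0x59ff5e2efefa1c8d8b103e0000000000000000000000e047e2609716e0a1d608fe) (nat_lit 88)
(Net.cons (nat_lit 0x7b4dc71cf6835b559a149e04462067f959c77f35a596) (nat_lit 176)
Net.nil)))))))))))))))))

noncomputable def k7n23 : Net :=
(Net.cons (nat_lit 0x6f9fc5a4da1fb42acfeffa59f080193023653b0911f4) (nat_lit 176)
(Net.cons (nat_lit 0x31f89b3454720caf064aca0000000000000000000000a2677912ff7abd5d975766) (nat_lit 88)
(Net.cons (nat_lit 0x5d216263000000000000fbd370f809800000000000d5f156f1638000000000001de511e07f2) (nat_lit 44)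
(Net.cons (nat_lit 0x47373000003d48e000000129ce4000001be00c00000208c0c00000283f9a0000005efc8000003e5914) (nat_lit 22)
(Net.cons (nat_lit 0x28005140016a8002fc0004200019a001b100062a000420000c80018b00068e0015c000460000250000d0) (nat_lit 11)
(Net.cons (nat_lit 0x30000000130000240400e02a058088110340300e0030040700000a0240280a80f01a058028000060600700c) (nat_lit 5)
(Net.cons (nat_lit 0x80108300420061082100004008801060084008210020000882000200010810861080008108020041082) (nat_lit 3)
(Net.cons (nat_lit 0x800010100208080800040400109010020008000100000010821000004900210404008002100240000001) (nat_lit 1)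
(Net.cons (nat_lit 0x1002024200490101042080809212420849010104208490021042084809200420849092104200490120202) (nat_lit 1)
(Net.cons (nat_lit 0x120840410001242094800010420008210400048012900040004920050020008092500849002105042414000) (nat_lit 1)
(Net.cons (nat_lit 0x2008018e3000208018e20060085008000608860820100304200001c4108600011022883104014408430881) (nat_lit 3)
(Net.cons (nat_lit 0x1002c0001600a01c0b01800c0680e816034070080010040040a0180380200600b01c0140601303402c0e818) (nat_lit 5)
(Net.cons (nat_lit 0xc480073c0010ac006af001db00040a001b900069f00113400038001da4003bb000084006110014dc000f0) (nat_lit 11)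
(Net.cons (nat_lit 0x1003d30000011ecb3000001b9844000003cc00c0000022a8e800000391e950000038336f000002f6a56) (nat_lit 22)
(Net.cons (nat_lit 0x643f110266800000000000de01171b02000000000000dd78f5c161a00000000000286453f5f82) (nat_lit 44)
(Net.cons (nat_lit 0x40020b3642f8088926d2010000000000000000000000a073b923ef0a1557745b45) (nat_lit 88)
(Net.cons (nat_lit 0x1df2d7567b45bead5b472c7ef2045cee310114659351) (nat_lit 176)
Net.nil)))))))))))))))))

noncomputable def k7n24 : Net :=
(Net.cons (nat_lit 0x30d5ea29271546c6355d88606c9b58ce009d52788dc1) (nat_lit 176)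
(Net.cons (nat_lit 0x736809d2cd081331b8f7da000000000000000000000060c8770b0a4cac24f5f000) (nat_lit 88)
(Net.cons (nat_lit 0x41dd4529881000000000009423199e2d8000000000004f2492d0e20000000000005c9d509e7b4) (nat_lit 44)
(Net.cons (nat_lit 0x12d2300000016efa20000004a212000002abc500000031cd4000000196300000003b814000000109a80) (nat_lit 22)
(Net.cons (nat_lit 0x68400410001c00004280018680030a0008b8000cc000de0006a2000110007400000000074200198000340) (nat_lit 11)
(Net.cons (nat_lit 0x40180680800a008000030100600001201c0680a8140000000401c0160300a01d0240100401e0100480a804) (nat_lit 5)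
(Net.cons (nat_lit 0x8000c4008010020c0188200220040080180000208c0006000210c010020421001080208600c110000821041) (nat_lit 3)
(Net.cons (nat_lit 0x4040082000008090900042080000000400040090020200000020042084100000020000002104000010001) (nat_lit 1)
(Net.cons (nat_lit 0x8090104208490921242084900202000808080124240400001042084108210024041090104208000120002) (nat_lit 1)
(Net.cons (nat_lit 0x504801492820208494909042084101282500208090820000010800040004908082120808000005000410821) (nat_lit 1)
(Net.cons (nat_lit 0x8620c318a210428411843006288600e10c0084718c014220031083140004018c00401043080218618c60861) (nat_lit 3)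
(Net.cons (nat_lit 0x602c0c815026044088060120200280502e0640400b00c0400a8160340200a00f00403c0180f01003c08802) (nat_lit 5)
(Net.cons (nat_lit 0x6d4007a800069c003920012ec000eb000d84007d00009b0004050000e000546000c6c006e4001b80001c6) (nat_lit 11)
(Net.cons (nat_lit 0xab624000000b93230000025c3f20000036eb41000001954c1000003a63a4000001ba770000000492ca) (nat_lit 22)
(Net.cons (nat_lit 0x366d984393f00000000000c42e951b9b2000000000008b04a290f12000000000003c507dcfdb4) (nat_lit 44)
(Net.cons (nat_lit 0x176491be547967972571fd0000000000000000000000058a7951a73ae3b5fb9820) (nat_lit 88)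
(Net.cons (nat_lit 0x717c127bbd9308e2b2113e603dc2466e64fdc150cd5d) (nat_lit 176)
Net.nil)))))))))))))))))

noncomputable def k7n25 : Net :=
(Net.cons (nat_lit 0x29c59e681be15c58a2e119b4fbf6a0243de72cea418e) (nat_lit 176)
(Net.cons (nat_lit 0x49cdd07b564e785257e9ee00000000000000000000004b1432e83e1a586c51fda4) (nat_lit 88)
(Net.cons (nat_lit 0x16ea555c101000000000006a134f97664000000000008a9a78257ec000000000003eeeebb53fe) (nat_lit 44)
(Net.cons (nat_lit 0x1216f400000344fd80000002124400000334e740000001f20800000136482000001712dc000001889f2) (nat_lit 22)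
(Net.cons (nat_lit 0x43c002f000121000614001898002c200039000544000a80006960014c80062400028000572000a8000426) (nat_lit 11)
(Net.cons (nat_lit 0x1000c0500c010008000060120380b8080380000280e00c034020120000400701b03a0400b0160280140001e) (nat_lit 5)
(Net.cons (nat_lit 0x8430c4080010200040002100100218021822006080308030841880080208000411842000004200200000000) (nat_lit 3)
(Net.cons (nat_lit 0x48092020000000001242004000210020041090100000400801040000801010404008002000240080001) (nat_lit 1)
(Net.cons (nat_lit 0x1092124040400120042484009010420848092120200410901042484909202020848010124248490120202) (nat_lit 1)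
(Net.cons (nat_lit 0x2024008492101008010009202080809092020808012004240004921012404808090024a00412920240490029) (nat_lit 1)
(Net.cons (nat_lit 0x80284008420c6300108c210008821041182108110431803080108014610010043006180018220c0080000c0) (nat_lit 3)
(Net.cons (nat_lit 0x180240800f0180000900a02007c0280500a02c0101200c0740201901607c0401b0040380781300203c09002) (nat_lit 5)
(Net.cons (nat_lit 0x54007d500018c00199001894000d00002e800554001940004dd000b30006a00000d00062b001fa40070c) (nat_lit 11)
(Net.cons (nat_lit 0x14b1fe0000035319b0000020881f000000e3c7e00000035c8800000277ce40000028c4f6000003b6df9) (nat_lit 22)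
(Net.cons (nat_lit 0x1516e16ef52000000000007f5b316ed1e0000000000090af1827eaa000000000005b2e43f8f97) (nat_lit 44)
(Net.cons (nat_lit 0x689f4a5ed7565c2fdcf2290000000000000000000000409b60e43e8da1021adc0e) (nat_lit 88)
(Net.cons (nat_lit 0x38a4cd67ab9743e2e973d79dfb0c94a0104482824288) (nat_lit 176)
Net.nil)))))))))))))))))

noncomputable def k7n26 : Net :=
(Net.cons (nat_lit 0x34be9cbebed5ce4c6481e164d04e3dd1094b5d5a4b78) (nat_lit 176)
(Net.cons (nat_lit 0x64336f49aecfce26fb327300000000000000000000007e904aee6c53ec8aac5c62) (nat_lit 88)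
(Net.cons (nat_lit 0x2590a715846000000000003c3b8fe0942000000000007c2e3d96058000000000008270c40a044) (nat_lit 44)
(Net.cons (nat_lit 0x1b24b6000000f2d74000000ff0cc000001849a400000378a64000001b49b2000002f5d26000001d8d20) (nat_lit 22)
(Net.cons (nat_lit 0x4380050c0008e0007e0000a2000788000d1000086001f28004b0000ed800352000dc0004b8001e90002b8) (nat_lit 11)
(Net.cons (nat_lit 0x300500380900e0400a00b018060068050300380881402000c0080100e0000a013018050000100200400401e) (nat_lit 5)
(Net.cons (nat_lit 0x30040002106100418c108020820000000204008821000006008218030c210431823044004000220060000) (nat_lit 3)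
(Net.cons (nat_lit 0x4049012020000010820002080800210000800010120048010020040400100210020801000100240000000) (nat_lit 1)
(Net.cons (nat_lit 0x8092124040400821242004109200424809090120240490120242480908200420849092100208490020242) (nat_lit 1)
(Net.cons (nat_lit 0x2424801002124208014821212400801000120840412020008410900052420940092100a01010901008080029) (nat_lit 1)
(Net.cons (nat_lit 0xc0384108a20c6000400410c228071083184308100c2046284608600c430c3008204218c0000300230440081) (nat_lit 3)
(Net.cons (nat_lit 0x140240280f02a0500e00f00e0280781f03007007810002008040110160600a0130340540001802c0040080b) (nat_lit 5)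
(Net.cons (nat_lit 0x448005b4000830007630013080028a001710003960016a80062b00109000277000440006aa001dc0006f8) (nat_lit 11)
(Net.cons (nat_lit 0x1bf6140000025acf60000015b4ee0000013e950000003510e500000319b93000003a6905000001d0d0c) (nat_lit 22)
(Net.cons (nat_lit 0x2392a55cbd7000000000002fea557005500000000000eef58722cd300000000000d268107a207) (nat_lit 44)
(Net.cons (nat_lit 0x28631560015ed723db9a400000000000000000000000eaf4c28f29644ccbfd5607) (nat_lit 88)
(Net.cons (nat_lit 0x32cc58b7b4964f846f81137482ce6d0e294b64ca4138) (nat_lit 176)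
Net.nil)))))))))))))))))

noncomputable def k7n27 : Net :=
(Net.cons (nat_lit 0x507d9ba17ea3c23cde39ea30062e797606245d5150fc) (nat_lit 176)
(Net.cons (nat_lit 0x663cad412021d68dae991c000000000000000000000078014821c89462bf66fc20) (nat_lit 88)
(Net.cons (nat_lit 0xbe17d13e4700000000000e082b9ee90a000000000002a7bf978f000000000000049cd1f23804) (nat_lit 44)
(Net.cons (nat_lit 0x2c0c000003c998a000002f2a32000002b134e000003c6de60000000a2100000000541c000002f8578) (nat_lit 22)
(Net.cons (nat_lit 0x6280033a0000400002200008000108001f1000184001a400042800120000162001a800053a000da80010a) (nat_lit 11)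
(Net.cons (nat_lit 0x300700601802204c010100060500000e0040180780102e0740700802a0480800a02c048060060300240e014) (nat_lit 5)
(Net.cons (nat_lit 0xc00046180208600420080100000400420820000080000010840081100204410401042044080018010000800) (nat_lit 3)
(Net.cons (nat_lit 0x400041080000008480100200004009002020041080120008000000000404001002400008080104040400900) (nat_lit 1)
(Net.cons (nat_lit 0x841082120200410900200400108212424840082120240090920202480809012404841090104248090921200) (nat_lit 1)
(Net.cons (nat_lit 0x20849490821040400100202024000282004040410104040480821200484000202000a08082020002080909) (nat_lit 1)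
(Net.cons (nat_lit 0x863042184114620810082082004300201c230470043180280200a0002104018c010028c210011c0308208c1) (nat_lit 3)
(Net.cons (nat_lit 0x300740681a02c0480281e018064088100220380f80502802c0200302a0280a00002c04c0a0020120040b01e) (nat_lit 5)
(Net.cons (nat_lit 0x2b4005b60011d800280001b8400351001b8800548000bbc007260000d0004b2000210006f300133800111) (nat_lit 11)
(Net.cons (nat_lit 0x103c0200000074a2a000003d5138000003f344e0000036493800000147d08000002b785a000002c0b28) (nat_lit 22)
(Net.cons (nat_lit 0x53c7323c4050000000000019a615f86980000000000007aa48994c80000000000011c52dd5347) (nat_lit 44)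
(Net.cons (nat_lit 0xa4915de18ad5ebde884f200000000000000000000001c3960e70cbd6028cfe130) (nat_lit 88)
(Net.cons (nat_lit 0x18fb74a2f6a2f0af33599a9830466dca1c60a75f7cba) (nat_lit 176)
Net.nil)))))))))))))))))

noncomputable def k7d4 : Dat := ⟨(nat_lit 351), (nat_lit 9), (nat_lit 4), k7X, [k7n0, k7n1, k7n2, k7n3, k7n4, k7n5, k7n6, k7n7, k7n8, k7n9, k7n10, k7n11, k7n12, k7n13, k7n14, k7n15, k7n16, k7n17, k7n18, k7n19, k7n20, k7n21, k7n22, k7n23, k7n24, k7n25, k7n26, k7n27], [nat_lit 0, nat_lit 0, nat_lit 144, nat_lit 144, nat_lit 7, nat_lit 7, nat_lit 12, nat_lit 12, nat_lit 19, nat_lit 19, nat_lit 21, nat_lit 21, nat_lit 6, nat_lit 6, nat_lit 17, nat_lit 17], []⟩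

theorem k7d4_up (b : Cx τ s M k7d3) : ∃ s', Cx τ s' M k7d4 ∧ ∀ w, ltB 22 [w] = true → E s' w = E s w :=
  ⟨_, b.ext1 k7d4 (nat_lit 22) [[nat_lit 37, nat_lit 19, nat_lit 31, nat_lit 22, nat_lit 0, nat_lit 24, nat_lit 27, nat_lit 10, nat_lit 28, nat_lit 33, nat_lit 36], [nat_lit 13, nat_lit 26, nat_lit 10, nat_lit 17, nat_lit 26, nat_lit 21, nat_lit 25, nat_lit 37], [nat_lit 30, nat_lit 29, nat_lit 17, nat_lit 4, nat_lit 2, nat_lit 37, nat_lit 20, nat_lit 27, nat_lit 12, nat_lit 36], [nat_lit 43, nat_lit 18, nat_lit 8, nat_lit 16, nat_lit 2, nat_lit 32, nat_lit 20, nat_lit 36, nat_lit 12, nat_lit 31, nat_lit 33], [nat_lit 25, nat_lit 19, nat_lit 2, nat_lit 21, nat_lit 4, nat_lit 25, nat_lit 26, nat_lit 33, nat_lit 8, nat_lit 10], [nat_lit 35, nat_lit 21, nat_lit 2, nat_lit 4, nat_lit 22, nat_lit 0, nat_lit 34, nat_lit 27, nat_lit 30, nat_lit 35, nat_lit 14]] [k7n22, k7n23, k7n24, k7n25, k7n26, k7n27] [[], [], [], [], [], [], [], [], [], [], [], [], [], [], [], []] rfl rfl (by decide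 +kernel) (by decide +kernel) (by decide +kernel) (by decide +kernel) (by decide +kernel), fun _ h => E_ext _ _ h⟩

noncomputable def k7n28 : Net :=
(Net.cons (nat_lit 0x2819efe642c033fa7ce03e4f8e0dc3cf7680f2348a13) (nat_lit 176)
(Net.cons (nat_lit 0xa68d9d677341556c5dc3000000000000000000000003c4d518950c445e50a23c0) (nat_lit 88)
(Net.cons (nat_lit 0x63ca6c6e08c00000000000ac0e183281400000000000e7f13a473220000000000025855c9e3f8) (nat_lit 44)
(Net.cons (nat_lit 0x5413000001063500000022a102000001c80d4000001619bc000003a1470000000341ae00000069548) (nat_lit 22)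
(Net.cons (nat_lit 0xed000120000ca8001400002480040c001d00000140002600077e000df0001c8001d8000086001ae0007bc) (nat_lit 11)
(Net.cons (nat_lit 0x18040090160140580a0080020380b80c01a040028040100300d8060260100981d0200740f8000060600181c) (nat_lit 5)
(Net.cons (nat_lit 0x600001000000104000000822040188000010c40083104000218c110410c400000000042080310410400081) (nat_lit 3)
(Net.cons (nat_lit 0x24040000004008490020000404101002000800080024200010001002084100200004040012104208080020) (nat_lit 1)
(Net.cons (nat_lit 0x848080004048490921240404808212004041082120248480121202084108200420008082124208490921042) (nat_lit 1)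
(Net.cons (nat_lit 0x40400841010520a01400920202480800210484108012004049402904048080020000480809290520a080928) (nat_lit 1)
(Net.cons (nat_lit 0x8400811042042184208e11c2184418a0002304400c000228c60820106188600a20800087184210238c418a0) (nat_lit 3)
(Net.cons (nat_lit 0x2c0480c80b02405c0f8080120080581301a0680200c01e0340d818000004088100200400281e0060780380e) (nat_lit 5)
(Net.cons (nat_lit 0xb840070b00153c001580000300048b001f50001150012ec0033e000580004ca00045c002d1000fc00034c) (nat_lit 11)
(Net.cons (nat_lit 0x334400000171871000002e98050000016417c0000016a71e00000325c010000037f4130000026c453) (nat_lit 22)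
(Net.cons (nat_lit 0x29119eca57300000000000bf9448321910000000000081938ccf13e00000000000ae1cae6f6bf) (nat_lit 44)
(Net.cons (nat_lit 0x23088de781a5043fe51d15000000000000000000000030d7471c09ba71ec1231fb) (nat_lit 88)
(Net.cons (nat_lit 0x8e03dc6f32005f97c8a89fdd69d9b0903a1cdad1f18) (nat_lit 176)
Net.nil)))))))))))))))))

noncomputable def k7n29 : Net :=
(Net.cons (nat_lit 0x521e38aff0796f6c45ec31e98ca0a0201626fb98959f) (nat_lit 176)
(Net.cons (nat_lit 0x3386c44e075311727261180000000000000000000000563821287108d99c138d7c) (nat_lit 88)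
(Net.cons (nat_lit 0x1cc3195f064000000000007bdf4591a2000000000000ae09e8f83c00000000000055d8146c4c8) (nat_lit 44)
(Net.cons (nat_lit 0x1927590000032205a0000007ec460000010cfd8000003a3c9400000208c68000001eba840000025949e) (nat_lit 22)
(Net.cons (nat_lit 0x9e800004001868000940018800029800088800104000b4000350001000001420018c00028c001c600008a) (nat_lit 11)
(Net.cons (nat_lit 0x2c0100801b01604c0500201004c070140080200801501e0440d0120320400f0190040500080602003800018) (nat_lit 5)
(Net.cons (nat_lit 0x8210030041006000308020c208411040006108218020061041106000400011003080104000430441882) (nat_lit 3)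
(Net.cons (nat_lit 0x4048010020040080100040084808000000808002004008000020040400801010000041082000008400020) (nat_lit 1)
(Net.cons (nat_lit 0x809092124248090101242480109010020809010104208410101242084801202420808082104000410921042) (nat_lit 1)
(Net.cons (nat_lit 0x50400041080020a4041210520a49082100208494801010404149010020a084129250400900082004a410901) (nat_lit 1)
(Net.cons (nat_lit 0x4028861881084384208c008630810860004004408e21c6104318601400044100104620c500e2004104200a0) (nat_lit 3)
(Net.cons (nat_lit 0x140440c01a01c050048150320540701800c0300e81e016014060150320000b01900a0040c00e0280000980b) (nat_lit 5)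
(Net.cons (nat_lit 0xb68005410012dc000ae001314000b9000cd40007c0018c4006b70004f000022001c00002bf001c30002d0) (nat_lit 11)
(Net.cons (nat_lit 0x1daad700000177ded000000b66cc000003436f8000003efd630000019a14d000001707e10000008f5cb) (nat_lit 22)
(Net.cons (nat_lit 0x1e8f4d5f97300000000000a3dc679aa0500000000000ab206d72c40000000000009483e6bc52e) (nat_lit 44)
(Net.cons (nat_lit 0x37ecd10d52039a418316b90000000000000000000000e501108e437ec055376738) (nat_lit 88)
(Net.cons (nat_lit 0x36adaca74a8b51f27d8436cf8271997f52060541d092) (nat_lit 176)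
Net.nil)))))))))))))))))

noncomputable def k7n30 : Net :=
(Net.cons (nat_lit 0x4343631a4fbacf26443cf754dba50bcfc2604c59805b) (nat_lit 176)
(Net.cons (nat_lit 0x711328f733c2239a02e2f00000000000000000000004a1eabf0c2cb6f3c7c520a) (nat_lit 88)
(Net.cons (nat_lit 0xe0ef0d040200000000000272e90b35f400000000000b42d0a8246200000000000145f549db0c) (nat_lit 44)
(Net.cons (nat_lit 0x1470ca000001f105000000236d6800000087e80000002ccd82000002a34c00000026be86000003ef4a0) (nat_lit 22)
(Net.cons (nat_lit 0x800078e000850002fa0014900060e0010e000512000ef0001340018c000094001da80046c0008a8005d0) (nat_lit 11)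
(Net.cons (nat_lit 0x80100e01c0740680d02c0740601300c0440f0020380500a00e0020680e8010160040180400006000819) (nat_lit 5)
(Net.cons (nat_lit 0x86200418020000004000018010401080080000400801800044004000000441040000008600c010200c00001) (nat_lit 3)
(Net.cons (nat_lit 0x420048080000248010120000404009002004000000020000410101040000001002400041002100200000901) (nat_lit 1)
(Net.cons (nat_lit 0x841090104240490120242080809012404048082020040000821242480808202024800092004208400801242) (nat_lit 1)
(Net.cons (nat_lit 0x2484808000000140212124a0801090104049002025040404001052004041292124a41480120242080920) (nat_lit 1)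
(Net.cons (nat_lit 0x84200610c1182284200810c21080106310000c018c0104104000c00c20082180210238c5084218208451840) (nat_lit 3)
(Net.cons (nat_lit 0x604c0400e00c0600c81d01405c0180303c0240b8020380300f8190320040d8120100280000500402000019) (nat_lit 5)
(Net.cons (nat_lit 0xacc006d30013640047d0003b8005c000029800642000a90001a30018a0003930008200056d00189c0079c) (nat_lit 11)
(Net.cons (nat_lit 0x1711780000007395500000146e4c000001e3720000003a07b9000000825f20000033f7ce000003380b1) (nat_lit 22)
(Net.cons (nat_lit 0x4a31b53253400000000000fbdefa13afe00000000000f64335b263500000000000b6153624f5f) (nat_lit 44)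
(Net.cons (nat_lit 0x509a9a496318b796e7264a0000000000000000000000bb2e3bf830dedc587d5359) (nat_lit 88)
(Net.cons (nat_lit 0x137946f31e2d1b4b9565e88f4f5eff78d7dd5e520158) (nat_lit 176)
Net.nil)))))))))))))))))

noncomputable def k7n31 : Net :=
(Net.cons (nat_lit 0x64804e2ddefab92d6c7e84d7bee37e4cd747e97eb902) (nat_lit 176)
(Net.cons (nat_lit 0x31dc17b3b2eb4651893da80000000000000000000000592439ba3b20e89654acc8) (nat_lit 88)
(Net.cons (nat_lit 0x2fe59be1c8200000000000304b234237c000000000003f0c24c4b7000000000000687da122e64) (nat_lit 44)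
(Net.cons (nat_lit 0x1b360000000620400000032c8ce0000010f6880000029cc800000036fa400000028035800000008844) (nat_lit 22)
(Net.cons (nat_lit 0x118003820010380013a001b90006840019600032800195000536000520004e8000ee000594000d800036e) (nat_lit 11)
(Net.cons (nat_lit 0x200200081d0200000c80a0040380e81002e0540a80800003c030000040600080f01e0280100101a0580080b) (nat_lit 5)
(Net.cons (nat_lit 0x210c0080000010800000100100000000001004080018000440800080200610001001002100100400821800) (nat_lit 3)
(Net.cons (nat_lit 0x400041080000200010100002000009002404001080000200000120202400801010024040002104000000900) (nat_lit 1)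
(Net.cons (nat_lit 0x840092100240480921242404808012404848082100008400821240484901202420848090024248490101200) (nat_lit 1)
(Net.cons (nat_lit 0x2500a40490901208014108002080949092124a4941292004a08412024208080920000024840210504a080009) (nat_lit 1)
(Net.cons (nat_lit 0x2204108a200010c700e014410470003106184408a218038c40840086188100c210200c200c300410031840) (nat_lit 3)
(Net.cons (nat_lit 0x2006c01806024000050190040380e8100200340a81301e050010010040400d01f01000c0400303406c0180b) (nat_lit 5)
(Net.cons (nat_lit 0x13800271001238006c5001bb000684000f640010e001ebc0052f0011100029f0003c8007a30018f800363) (nat_lit 11)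
(Net.cons (nat_lit 0x1b360000000620400000032f8de0000027eca3000002e4415000000b924c000001c91140000014000a) (nat_lit 22)
(Net.cons (nat_lit 0x2fe59be1c8200000000000304b234237c000000000007b0c24c5bf0000000000003fc62f653e9) (nat_lit 44)
(Net.cons (nat_lit 0x31dc17b3b2eb4651893da80000000000000000000000592439ba3b20e89654acc8) (nat_lit 88)
(Net.cons (nat_lit 0x64804e2ddefab92d6c7ea4d7bee37e4cd747e97eb902) (nat_lit 176)
Net.nil)))))))))))))))))

noncomputable def k7n32 : Net :=
(Net.cons (nat_lit 0x77e05fe25376af1dd2af94bbab23038c29e0340bca02) (nat_lit 176)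
(Net.cons (nat_lit 0x2099d63a2b2011622ca70b00000000000000000000000d3e8a6c54d9f1ccc310f4) (nat_lit 88)
(Net.cons (nat_lit 0x345e8b45f1300000000000eb43b8c7a2800000000000e7cd894a0d8000000000003be6d39ce72) (nat_lit 44)
(Net.cons (nat_lit 0x437520000015eb5a0000039e646000000fe74a00000240f6a000002bdd04000000af6ea000001b3eb0) (nat_lit 22)
(Net.cons (nat_lit 0xb7400228001090001c4001a300048600187000480000840001520008a8003a20003f000248001d4000484) (nat_lit 11)
(Net.cons (nat_lit 0x180500d00000e0440500a03c0580a80602201806010022044010000000080981d02c0140c01000c0780201c) (nat_lit 5)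
(Net.cons (nat_lit 0xc4200200820802000080218620001080000000018001000080008000200c408c0080308008c208420400000) (nat_lit 3)
(Net.cons (nat_lit 0x400000000004000080900000400100010420000080004208010000040004008000420000090004000480120) (nat_lit 1)
(Net.cons (nat_lit 0x809082120248090121242084800200424840090100048410820042484109010404841090120248410920240) (nat_lit 1)
(Net.cons (nat_lit 0x10400848010000a004101042080940082124000490104048000009002424108200024008400924042410100) (nat_lit 1)
(Net.cons (nat_lit 0x42200208a204208430023146208600a01c020c4180010638800020002208000430402884180308410c208a2) (nat_lit 3)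
(Net.cons (nat_lit 0x2c0600d01602c02809815014000058020220180e01403603c0381701e00c0f81102806c0801c00800407010) (nat_lit 5)
(Net.cons (nat_lit 0xbcc005fd000a7c002390014ec00403001a38006eb0007680037700091c002de001ea8005470013940045d) (nat_lit 11)
(Net.cons (nat_lit 0x47770000003830360000039e206000000f676a0000030abdb000002bd995000000d76ca0000000437d) (nat_lit 22)
(Net.cons (nat_lit 0x34db16b071500000000000fb533a8fa6c00000000000f05fd5a944900000000000e1e4e7fac42) (nat_lit 44)
(Net.cons (nat_lit 0x2299567a7920d1783caf2b00000000000000000000008f9ebacc56dcf1c40bd0f4) (nat_lit 88)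
(Net.cons (nat_lit 0x76f25fa25376a71dc2ef94b9ab23038c29e8b41bcb02) (nat_lit 176)
Net.nil)))))))))))))))))

noncomputable def k7d5 : Dat := ⟨(nat_lit 351), (nat_lit 9), (nat_lit 4), k7X, [k7n0, k7n1, k7n2, k7n3, k7n4, k7n5, k7n6, k7n7, k7n8, k7n9, k7n10, k7n11, k7n12, k7n13, k7n14, k7n15, k7n16, k7n17, k7n18, k7n19, k7n20, k7n21, k7n22, k7n23, k7n24, k7n25, k7n26, k7n27, k7n28, k7n29, k7n30, k7n31, k7n32], [nat_lit 0, nat_lit 0, nat_lit 144, nat_lit 144, nat_lit 7, nat_lit 7, nat_lit 12, nat_lit 12, nat_lit 19, nat_lit 19, nat_lit 21, nat_lit 21, nat_lit 6, nat_lit 6, nat_lit 17, nat_lit 17], []⟩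

theorem k7d5_up (b : Cx τ s M k7d4) : ∃ s', Cx τ s' M k7d5 ∧ ∀ w, ltB 28 [w] = true → E s' w = E s w :=
  ⟨_, b.ext1 k7d5 (nat_lit 28) [[nat_lit 39, nat_lit 44, nat_lit 0, nat_lit 2, nat_lit 20, nat_lit 27, nat_lit 32, nat_lit 28], [nat_lit 49, nat_lit 50, nat_lit 30, nat_lit 22, nat_lit 4, nat_lit 28, nat_lit 28, nat_lit 37, nat_lit 14], [nat_lit 6, nat_lit 25, nat_lit 45, nat_lit 29, nat_lit 21, nat_lit 33, nat_lit 25, nat_lit 29, nat_lit 35], [nat_lit 13, nat_lit 6, nat_lit 44, nat_lit 28, nat_lit 23, nat_lit 27, nat_lit 27, nat_lit 31, nat_lit 33, nat_lit 8, nat_lit 33], [nat_lit 23, nat_lit 10, nat_lit 19, nat_lit 38, nat_lit 21, nat_lit 35, nat_lit 27, nat_lit 6, nat_lit 30, nat_lit 28, nat_lit 33]] [k7n28, k7n29, k7n30, k7n31, k7n32] [[], [], [], [], [], [], [], [], [], [], [], [], [], [], [], []] rfl rfl (by decide +kernel) (by decide +kernel) (by decide +kernel) (by decide +kernel) (by decide +kernel), fun _ h => E_ext _ _ h⟩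

theorem k7up (b0 : Cx τ s M k7d0) : ∃ s', Cx τ s' M k7d5 ∧ ∀ w, ltB 8 [w] = true → E s' w = E s w := by
  obtain ⟨s1, b1, h1⟩ := k7d1_up b0
  obtain ⟨s2, b2, h2⟩ := k7d2_up b1
  obtain ⟨s3, b3, h3⟩ := k7d3_up b2
  obtain ⟨s4, b4, h4⟩ := k7d4_up b3
  obtain ⟨s5, b5, h5⟩ := k7d5_up b4
  exact ⟨_, b5, (ext_trans (ext_trans (ext_trans (ext_trans h1 h2 (by norm_num)) h3 (by norm_num)) h4 (by norm_num)) h5 (by norm_num))⟩

noncomputable def k7cA : List (List Nat) := [[nat_lit 44], [nat_lit 46], [nat_lit 48], [nat_lit 50], [nat_lit 52], [nat_lit 54], [nat_lit 56], [nat_lit 58], [nat_lit 60]]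

noncomputable def k7cR : List (List Nat) := [[nat_lit 32, nat_lit 29, nat_lit 30, nat_lit 27, nat_lit 25, nat_lit 23, nat_lit 57], [nat_lit 10, nat_lit 19, nat_lit 38, nat_lit 22, nat_lit 4, nat_lit 35], [nat_lit 52, nat_lit 8, nat_lit 50, nat_lit 22, nat_lit 4, nat_lit 10, nat_lit 37], [nat_lit 53, nat_lit 10, nat_lit 51, nat_lit 4, nat_lit 8, nat_lit 6], [nat_lit 6, nat_lit 61, nat_lit 6], [nat_lit 26, nat_lit 12, nat_lit 30, nat_lit 8, nat_lit 33], [nat_lit 34, nat_lit 12, nat_lit 37]]

noncomputable def k7cN : List (List Nat) := [[nat_lit 62], [nat_lit 64]]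

theorem k7cpc (b : Cx τ s (genW (sv s) [[nat_lit 0], [nat_lit 2], [nat_lit 4], [nat_lit 6], [nat_lit 8], [nat_lit 10], [nat_lit 12], [nat_lit 14]]) k7d5) (h0 : CU (genW (sv s) [[nat_lit 0], [nat_lit 2], [nat_lit 4], [nat_lit 6], [nat_lit 8], [nat_lit 10], [nat_lit 12], [nat_lit 14]]) s [] 4585351680) : PC s 3 k7cA :=
  Cx.pcs b _ _ [[[nat_lit 9, nat_lit 13, nat_lit 14]], [[nat_lit 4, nat_lit 11], []], [[nat_lit 0, nat_lit 5, nat_lit 7, nat_lit 8], [nat_lit 8], []], [[nat_lit 2, nat_lit 9], [nat_lit 4, nat_lit 7, nat_lit 9], [nat_lit 2], []], [[nat_lit 2, nat_lit 5, nat_lit 7], [], [nat_lit 2, nat_lit 5, nat_lit 7], [nat_lit 6], []], [[nat_lit 4], [nat_lit 3], [], [], [nat_lit 4], []], [[nat_lit 1, nat_lit 3], [], [nat_lit 1], [nat_lit 2], [], [], []], [[nat_lit 1], [], [], [], [], [], [], []], [[], [], [], [], [], [], [], [], []]] (by decide +kernel)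

theorem k7ge1 (b : Cx τ s (genW (sv s) [[nat_lit 0], [nat_lit 2], [nat_lit 4], [nat_lit 6], [nat_lit 8], [nat_lit 10], [nat_lit 12], [nat_lit 14]]) k7d5) (h0 : CU (genW (sv s) [[nat_lit 0], [nat_lit 2], [nat_lit 4], [nat_lit 6], [nat_lit 8], [nat_lit 10], [nat_lit 12], [nat_lit 14]]) s [] 4585351680) : GE s [[nat_lit 48]] 3 :=
  GE.step b (GE.base []) _ [] (nat_lit 0) [nat_lit 0, nat_lit 0] (nat_lit 3) 3 (by decide +kernel)

theorem k7ge2 (b : Cx τ s (genW (sv s) [[nat_lit 0], [nat_lit 2], [nat_lit 4], [nat_lit 6], [nat_lit 8], [nat_lit 10], [nat_lit 12], [nat_lit 14]]) k7d5) (h0 : CU (genW (sv s) [[nat_lit 0], [nat_lit 2], [nat_lit 4], [nat_lit 6], [nat_lit 8], [nat_lit 10], [nat_lit 12], [nat_lit 14]]) s [] 4585351680) : GE s [[nat_lit 48], [nat_lit 54], [nat_lit 54, nat_lit 48, nat_lit 10, nat_lit 20, nat_lit 29, nat_lit 12, nat_lit 6, nat_lit 28, nat_lit 10, nat_lit 8], [nat_lit 15, nat_lit 36, nat_lit 9, nat_lit 29, nat_lit 24, nat_lit 13, nat_lit 22, nat_lit 5, nat_lit 44, nat_lit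 60]] 81 :=
  GE.step b (k7ge1 b h0) _ [] (nat_lit 131) [nat_lit 1, nat_lit 1, nat_lit 2, nat_lit 3, nat_lit 0, nat_lit 3, nat_lit 2] (nat_lit 27) 81 (by decide +kernel)

theorem k7ge3 (b : Cx τ s (genW (sv s) [[nat_lit 0], [nat_lit 2], [nat_lit 4], [nat_lit 6], [nat_lit 8], [nat_lit 10], [nat_lit 12], [nat_lit 14]]) k7d5) (h0 : CU (genW (sv s) [[nat_lit 0], [nat_lit 2], [nat_lit 4], [nat_lit 6], [nat_lit 8], [nat_lit 10], [nat_lit 12], [nat_lit 14]]) s [] 4585351680) : GE s [[nat_lit 44], [nat_lit 46], [nat_lit 48], [nat_lit 50], [nat_lit 52], [nat_lit 54], [nat_lit 56], [nat_lit 58], [nat_lit 60]] 19683 :=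
  GE.step b (k7ge2 b h0) _ [([nat_lit 54, nat_lit 48, nat_lit 10, nat_lit 20, nat_lit 29, nat_lit 12, nat_lit 6, nat_lit 28, nat_lit 10, nat_lit 8], [nat_lit 16, nat_lit 6]), ([nat_lit 15, nat_lit 36, nat_lit 9, nat_lit 29, nat_lit 24, nat_lit 13, nat_lit 22, nat_lit 5, nat_lit 44, nat_lit 60], [nat_lit 3, nat_lit 15, nat_lit 7, nat_lit 10])] (nat_lit 198) [nat_lit 0, nat_lit 1, nat_lit 3, nat_lit 4, nat_lit 6, nat_lit 0, nat_lit 1, nat_lit 7, nat_lit 4, nat_lit 1, nat_lit 0] (nat_lit 243) 19683 (by decide +kernel)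

theorem k7cge (b : Cx τ s (genW (sv s) [[nat_lit 0], [nat_lit 2], [nat_lit 4], [nat_lit 6], [nat_lit 8], [nat_lit 10], [nat_lit 12], [nat_lit 14]]) k7d5) (h0 : CU (genW (sv s) [[nat_lit 0], [nat_lit 2], [nat_lit 4], [nat_lit 6], [nat_lit 8], [nat_lit 10], [nat_lit 12], [nat_lit 14]]) s [] 4585351680) : GE s k7cA (3 ^ k7cA.length) :=
  (k7ge3 b h0)

theorem k7cnr (b : Cx τ s (genW (sv s) [[nat_lit 0], [nat_lit 2], [nat_lit 4], [nat_lit 6], [nat_lit 8], [nat_lit 10], [nat_lit 12], [nat_lit 14]]) k7d5) (h0 : CU (genW (sv s) [[nat_lit 0], [nat_lit 2], [nat_lit 4], [nat_lit 6], [nat_lit 8], [nat_lit 10], [nat_lit 12], [nat_lit 14]]) s [] 4585351680) : Nrm s k7cA k7cN :=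
  Cx.nrm b _ _ [[[nat_lit 1, nat_lit 5, nat_lit 7, nat_lit 10, nat_lit 12, nat_lit 14, nat_lit 16], [nat_lit 0, nat_lit 6, nat_lit 11, nat_lit 13, nat_lit 15], [nat_lit 0, nat_lit 2, nat_lit 9, nat_lit 10, nat_lit 12], [nat_lit 1], [nat_lit 1, nat_lit 9], [nat_lit 1, nat_lit 7], [nat_lit 1, nat_lit 5], [nat_lit 1, nat_lit 2], [nat_lit 0]], [[nat_lit 1, nat_lit 6, nat_lit 10, nat_lit 13, nat_lit 14, nat_lit 16], [nat_lit 1, nat_lit 6, nat_lit 10], [nat_lit 1, nat_lit 2, nat_lit 6, nat_lit 9, nat_lit 13], [nat_lit 0, nat_lit 4, nat_lit 6, nat_lit 8, nat_lit 11], [nat_lit 0, nat_lit 5], [nat_lit 1, nat_lit 4, nat_lit 7], [nat_lit 1], [nat_lit 0, nat_lit 2], [nat_lit 1]]] (by decide +kernel)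

theorem k7ckh (b : Cx τ s (genW (sv s) [[nat_lit 0], [nat_lit 2], [nat_lit 4], [nat_lit 6], [nat_lit 8], [nat_lit 10], [nat_lit 12], [nat_lit 14]]) k7d5) (h0 : CU (genW (sv s) [[nat_lit 0], [nat_lit 2], [nat_lit 4], [nat_lit 6], [nat_lit 8], [nat_lit 10], [nat_lit 12], [nat_lit 14]]) s [] 4585351680) : KH τ s (genW (sv s) [[nat_lit 0], [nat_lit 2], [nat_lit 4], [nat_lit 6], [nat_lit 8], [nat_lit 10], [nat_lit 12], [nat_lit 14]]) k7d5 3 k7cA k7cR k7cN false (GoodM (genW (sv s) [[nat_lit 0], [nat_lit 2], [nat_lit 4], [nat_lit 6], [nat_lit 8], [nat_lit 10], [nat_lit 12], [nat_lit 14]]) s k7cR) :=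
  KH.ofM b (k7cpc b h0) (by norm_num) (k7cge b h0) (k7cnr b h0) _

theorem k7k4 (b : Cx τ s (genW (sv s) [[nat_lit 0], [nat_lit 2], [nat_lit 4], [nat_lit 6], [nat_lit 8], [nat_lit 10], [nat_lit 12], [nat_lit 14]]) k7d5) (h0 : CU (genW (sv s) [[nat_lit 0], [nat_lit 2], [nat_lit 4], [nat_lit 6], [nat_lit 8], [nat_lit 10], [nat_lit 12], [nat_lit 14]]) s [] 4585351680) : KK s 3 k7cA (GoodM (genW (sv s) [[nat_lit 0], [nat_lit 2], [nat_lit 4], [nat_lit 6], [nat_lit 8], [nat_lit 10], [nat_lit 12], [nat_lit 14]]) s k7cR) (E s [nat_lit 52]) 5 :=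
  KH.kk (k7ckh b h0) [] KKs.nil (KT.split (KT.cons (KT.merge [nat_lit 5] [nat_lit 2] (KT.split (KT.cons (KT.merge [nat_lit 7] [] (KT.cj [nat_lit 4, nat_lit 59, nat_lit 26, nat_lit 20, nat_lit 0, nat_lit 25, nat_lit 8, nat_lit 10, nat_lit 36, nat_lit 14] (nat_lit 6))) (KT.cons (KT.merge [nat_lit 7] [] (KT.cj [nat_lit 57, nat_lit 49, nat_lit 6, nat_lit 20, nat_lit 0, nat_lit 27, nat_lit 31, nat_lit 36] (nat_lit 5))) (KT.cons (KT.merge [nat_lit 7] [] (KT.cj [nat_lit 4, nat_lit 21, nat_lit 32, nat_lit 25, nat_lit 6, nat_lit 31, nat_lit 29] (nat_lit 4))) KT.nil))))) (KT.cons (KT.merge [nat_lit 5] [nat_lit 2] (KT.merge [nat_lit 2] [] (KT.merge [nat_lit 7] [] (KT.cj [nat_lit 15, nat_lit 37, nat_lit 34, nat_lit 29, nat_lit 11, nat_lit 21, nat_lit 36, nat_lit 47, nat_lit 57] (nat_lit 1))))) (KT.cons (KT.merge [nat_lit 5] [nat_lit 2] (KT.merge [nat_lit 3] [] (KT.merge [nat_lit 7] [] (KT.cj [nat_lit 55, nat_lit 46, nat_lit 30, nat_lit 23, nat_lit 10, nat_lit 26, nat_lit 32, nat_lit 28, nat_lit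 33] (nat_lit 1))))) KT.nil)))) [nat_lit 8] _ _ (by decide +kernel)

theorem k7k5 (b : Cx τ s (genW (sv s) [[nat_lit 0], [nat_lit 2], [nat_lit 4], [nat_lit 6], [nat_lit 8], [nat_lit 10], [nat_lit 12], [nat_lit 14]]) k7d5) (h0 : CU (genW (sv s) [[nat_lit 0], [nat_lit 2], [nat_lit 4], [nat_lit 6], [nat_lit 8], [nat_lit 10], [nat_lit 12], [nat_lit 14]]) s [] 4585351680) : KK s 3 k7cA (GoodM (genW (sv s) [[nat_lit 0], [nat_lit 2], [nat_lit 4], [nat_lit 6], [nat_lit 8], [nat_lit 10], [nat_lit 12], [nat_lit 14]]) s k7cR) (E s [nat_lit 50]) 4 :=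
  KH.kk (k7ckh b h0) [] KKs.nil (KT.split (KT.cons (KT.merge [nat_lit 5] [] (KT.merge [nat_lit 3] [nat_lit 0, nat_lit 2] (KT.split (KT.cons (KT.merge [nat_lit 8] [] (KT.cj [nat_lit 15, nat_lit 36, nat_lit 32, nat_lit 29, nat_lit 11, nat_lit 25, nat_lit 30, nat_lit 21, nat_lit 15, nat_lit 46, nat_lit 56] (nat_lit 5))) (KT.cons (KT.merge [nat_lit 8] [] (KT.cj [nat_lit 32, nat_lit 45, nat_lit 56, nat_lit 30, nat_lit 20, nat_lit 28, nat_lit 8, nat_lit 6, nat_lit 28, nat_lit 36, nat_lit 14] (nat_lit 2))) (KT.cons (KT.merge [nat_lit 8] [] (KT.cj [nat_lit 0, nat_lit 58, nat_lit 2, nat_lit 14, nat_lit 21, nat_lit 6, nat_lit 28, nat_lit 30, nat_lit 14] (nat_lit 0))) KT.nil)))))) (KT.cons (KT.merge [nat_lit 5] [nat_lit 1, nat_lit 5] (KT.merge [nat_lit 3] [nat_lit 0, nat_lit 2] (KT.split (KT.cons (KT.merge [nat_lit 7] [] (KT.cj [nat_lit 36, nat_lit 9, nat_lit 11, nat_lit 29, nat_lit 13, nat_lit 24, nat_lit 32, nat_lit 22, nat_lit 17, nat_lit 51] (nat_lit 3))) (KT.cons (KT.merge [nat_lit 7] []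 (KT.cj [nat_lit 8, nat_lit 51, nat_lit 18, nat_lit 12, nat_lit 26, nat_lit 22, nat_lit 27, nat_lit 31, nat_lit 33, nat_lit 8] (nat_lit 0))) (KT.cons (KT.merge [nat_lit 7] [] (KT.cj [nat_lit 21, nat_lit 21, nat_lit 16, nat_lit 4, nat_lit 21, nat_lit 26, nat_lit 14, nat_lit 12, nat_lit 31, nat_lit 8] (nat_lit 1))) KT.nil)))))) (KT.cons (KT.merge [nat_lit 5] [nat_lit 0, nat_lit 4] (KT.merge [nat_lit 3] [nat_lit 0, nat_lit 2] (KT.split (KT.cons (KT.merge [nat_lit 6] [] (KT.cj [nat_lit 16, nat_lit 19, nat_lit 14, nat_lit 20, nat_lit 33, nat_lit 25, nat_lit 12, nat_lit 8, nat_lit 14] (nat_lit 3))) (KT.cons (KT.merge [nat_lit 6] [] (KT.cj [nat_lit 15, nat_lit 32, nat_lit 31, nat_lit 24, nat_lit 24, nat_lit 21, nat_lit 23, nat_lit 46] (nat_lit 1))) (KT.cons (KT.merge [nat_lit 6] [] (KT.cj [nat_lit 28, nat_lit 23, nat_lit 51, nat_lit 31, nat_lit 23, nat_lit 0, nat_lit 24, nat_lit 35, nat_lit 8, nat_lit 35] (nat_lit 2))) KT.nil)))))) KT.nil)))) [nat_lit 6] _ _ (by decide +kernel)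

theorem k7k6 (b : Cx τ s (genW (sv s) [[nat_lit 0], [nat_lit 2], [nat_lit 4], [nat_lit 6], [nat_lit 8], [nat_lit 10], [nat_lit 12], [nat_lit 14]]) k7d5) (h0 : CU (genW (sv s) [[nat_lit 0], [nat_lit 2], [nat_lit 4], [nat_lit 6], [nat_lit 8], [nat_lit 10], [nat_lit 12], [nat_lit 14]]) s [] 4585351680) : KK s 3 k7cA (GoodM (genW (sv s) [[nat_lit 0], [nat_lit 2], [nat_lit 4], [nat_lit 6], [nat_lit 8], [nat_lit 10], [nat_lit 12], [nat_lit 14]]) s k7cR) (E s [nat_lit 48]) 3 :=
  KH.kk (k7ckh b h0) [] KKs.nil (KT.merge [nat_lit 1, nat_lit 11, nat_lit 15, nat_lit 16] [nat_lit 3, nat_lit 4, nat_lit 9] (KT.split (KT.cons (KT.merge [nat_lit 6] [] (KT.merge [nat_lit 8] [nat_lit 2] (KT.merge [nat_lit 3] [] (KT.split (KT.cons (KT.cj [nat_lit 49, nat_lit 10, nat_lit 19, nat_lit 20, nat_lit 22, nat_lit 0, nat_lit 31, nat_lit 8, nat_lit 33, nat_lit 37] (nat_lit 5)) (KT.cons (KT.cj [nat_lit 18, nat_lit 45, nat_lit 46, nat_lit 20, nat_lit 20, nat_lit 27, nat_lit 30, nat_lit 8, nat_lit 35] (nat_lit 2))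 (KT.cons (KT.cj [nat_lit 7, nat_lit 31, nat_lit 62, nat_lit 25, nat_lit 10, nat_lit 22, nat_lit 24, nat_lit 10] (nat_lit 0)) KT.nil))))))) (KT.cons (KT.merge [nat_lit 6] [nat_lit 5] (KT.merge [nat_lit 5] [nat_lit 2] (KT.prune (nat_lit 7) (nat_lit 2) []))) (KT.cons (KT.merge [nat_lit 6] [nat_lit 4] (KT.merge [nat_lit 4] [nat_lit 0, nat_lit 2] (KT.prune (nat_lit 7) (nat_lit 1) []))) KT.nil))))) [nat_lit 4] _ _ (by decide +kernel)

theorem k7k7 (b : Cx τ s (genW (sv s) [[nat_lit 0], [nat_lit 2], [nat_lit 4], [nat_lit 6], [nat_lit 8], [nat_lit 10], [nat_lit 12], [nat_lit 14]]) k7d5) (h0 : CU (genW (sv s) [[nat_lit 0], [nat_lit 2], [nat_lit 4], [nat_lit 6], [nat_lit 8], [nat_lit 10], [nat_lit 12], [nat_lit 14]]) s [] 4585351680) : KK s 3 k7cA (GoodM (genW (sv s) [[nat_lit 0], [nat_lit 2], [nat_lit 4], [nat_lit 6], [nat_lit 8], [nat_lit 10], [nat_lit 12], [nat_lit 14]]) s k7cR) (E s [nat_lit 46]) 4 :=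
  KH.kk (k7ckh b h0) [] KKs.nil (KT.merge [nat_lit 1, nat_lit 11, nat_lit 15, nat_lit 16] [nat_lit 2] (KT.split (KT.cons (KT.merge [nat_lit 6] [nat_lit 0] (KT.merge [nat_lit 4] [] (KT.split (KT.cons (KT.cj [nat_lit 32, nat_lit 17, nat_lit 19, nat_lit 26, nat_lit 20, nat_lit 6, nat_lit 26, nat_lit 12, nat_lit 33] (nat_lit 6)) (KT.cons (KT.cj [nat_lit 9, nat_lit 20, nat_lit 19, nat_lit 22, nat_lit 22, nat_lit 28, nat_lit 6, nat_lit 28, nat_lit 35] (nat_lit 5)) (KT.cons (KT.cj [nat_lit 14, nat_lit 20, nat_lit 4, nat_lit 0, nat_lit 27, nat_lit 35] (nat_lit 4)) KT.nil)))))) (KT.cons (KT.merge [nat_lit 6] [nat_lit 0] (KT.merge [nat_lit 2] [] (KT.merge [nat_lit 9] [] (KT.cj [nat_lit 23, nat_lit 2, nat_lit 22, nat_lit 22, nat_lit 6, nat_lit 26, nat_lit 30, nat_lit 28, nat_lit 37] (nat_lit 1))))) (KT.cons (KT.merge [nat_lit 6] [nat_lit 0] (KT.merge [nat_lit 3] [] (KT.merge [nat_lit 8] [] (KT.cj [nat_lit 15, nat_lit 28, nat_lit 28, nat_lit 7, nat_lit 25, nat_lit 13, nat_lit 1, nat_lit 20, nat_lit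 33, nat_lit 18, nat_lit 32] (nat_lit 1))))) KT.nil))))) [nat_lit 2] _ _ (by decide +kernel)

theorem k7k8 (b : Cx τ s (genW (sv s) [[nat_lit 0], [nat_lit 2], [nat_lit 4], [nat_lit 6], [nat_lit 8], [nat_lit 10], [nat_lit 12], [nat_lit 14]]) k7d5) (h0 : CU (genW (sv s) [[nat_lit 0], [nat_lit 2], [nat_lit 4], [nat_lit 6], [nat_lit 8], [nat_lit 10], [nat_lit 12], [nat_lit 14]]) s [] 4585351680) : KK s 3 k7cA (GoodM (genW (sv s) [[nat_lit 0], [nat_lit 2], [nat_lit 4], [nat_lit 6], [nat_lit 8], [nat_lit 10], [nat_lit 12], [nat_lit 14]]) s k7cR) (E s [nat_lit 46, nat_lit 48]) 3 :=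
  KH.kk (k7ckh b h0) [] KKs.nil (KT.merge [nat_lit 1, nat_lit 11, nat_lit 15, nat_lit 16] [nat_lit 1, nat_lit 3, nat_lit 6, nat_lit 9] (KT.split (KT.cons (KT.merge [nat_lit 6] [nat_lit 1] (KT.merge [nat_lit 8] [nat_lit 2] (KT.merge [nat_lit 3] [] (KT.split (KT.cons (KT.cj [nat_lit 12, nat_lit 21, nat_lit 46, nat_lit 37, nat_lit 21, nat_lit 0, nat_lit 6, nat_lit 28, nat_lit 30, nat_lit 33] (nat_lit 3)) (KT.cons (KT.cj [nat_lit 63, nat_lit 17, nat_lit 17, nat_lit 33, nat_lit 20, nat_lit 0, nat_lit 8, nat_lit 35] (nat_lit 0)) (KT.cons (KT.cj [nat_lit 41, nat_lit 24, nat_lit 19, nat_lit 25, nat_lit 23, nat_lit 29, nat_lit 24, nat_lit 29, nat_lit 29, nat_lit 10] (nat_lit 1)) KT.nil))))))) (KT.cons (KT.merge [nat_lit 6] [nat_lit 1, nat_lit 5] (KT.merge [nat_lit 5] [nat_lit 0, nat_lit 2] (KT.prune (nat_lit 7) (nat_lit 2) []))) (KT.cons (KT.merge [nat_lit 6] [nat_lit 1, nat_lit 4] (KT.merge [nat_lit 4] [nat_lit 2] (KT.prune (nat_lit 7) (nat_lit 1) []))) KT.nil))))) [nat_lit 2, nat_lit 4] _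 _ (by decide +kernel)

theorem k7k9 (b : Cx τ s (genW (sv s) [[nat_lit 0], [nat_lit 2], [nat_lit 4], [nat_lit 6], [nat_lit 8], [nat_lit 10], [nat_lit 12], [nat_lit 14]]) k7d5) (h0 : CU (genW (sv s) [[nat_lit 0], [nat_lit 2], [nat_lit 4], [nat_lit 6], [nat_lit 8], [nat_lit 10], [nat_lit 12], [nat_lit 14]]) s [] 4585351680) : KK s 3 k7cA (GoodM (genW (sv s) [[nat_lit 0], [nat_lit 2], [nat_lit 4], [nat_lit 6], [nat_lit 8], [nat_lit 10], [nat_lit 12], [nat_lit 14]]) s k7cR) (E s [nat_lit 46, nat_lit 48, nat_lit 48]) 3 :=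
  KH.kk (k7ckh b h0) [] KKs.nil (KT.merge [nat_lit 0] [nat_lit 0, nat_lit 5, nat_lit 7, nat_lit 9] (KT.split (KT.cons (KT.merge [nat_lit 7] [nat_lit 0, nat_lit 2, nat_lit 5] (KT.merge [nat_lit 9] [nat_lit 0, nat_lit 2] (KT.merge [nat_lit 2] [] (KT.split (KT.cons (KT.cj [nat_lit 36, nat_lit 11, nat_lit 9, nat_lit 29, nat_lit 24, nat_lit 9, nat_lit 23, nat_lit 25, nat_lit 60, nat_lit 26] (nat_lit 3)) (KT.cons (KT.cj [nat_lit 28, nat_lit 18, nat_lit 23, nat_lit 32, nat_lit 20, nat_lit 34, nat_lit 27, nat_lit 10, nat_lit 8, nat_lit 36] (nat_lit 2)) (KT.cons (KT.cj [nat_lit 29, nat_lit 51, nat_lit 6, nat_lit 22, nat_lit 33, nat_lit 12, nat_lit 6, nat_lit 30, nat_lit 28, nat_lit 35, nat_lit 37] (nat_lit 1)) KT.nil))))))) (KT.cons (KT.merge [nat_lit 7] [nat_lit 0, nat_lit 2, nat_lit 5] (KT.merge [nat_lit 5] [nat_lit 0, nat_lit 2] (KT.prune (nat_lit 7) (nat_lit 2) []))) (KT.cons (KT.merge [nat_lit 7] [nat_lit 0, nat_lit 2, nat_lit 5] (KT.merge [nat_lit 4] [nat_lit 2] (KT.prune (nat_lit 7) (nat_lit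 1) []))) KT.nil))))) [nat_lit 2, nat_lit 4, nat_lit 4] _ _ (by decide +kernel)

theorem k7k10 (b : Cx τ s (genW (sv s) [[nat_lit 0], [nat_lit 2], [nat_lit 4], [nat_lit 6], [nat_lit 8], [nat_lit 10], [nat_lit 12], [nat_lit 14]]) k7d5) (h0 : CU (genW (sv s) [[nat_lit 0], [nat_lit 2], [nat_lit 4], [nat_lit 6], [nat_lit 8], [nat_lit 10], [nat_lit 12], [nat_lit 14]]) s [] 4585351680) : KK s 3 k7cA (GoodM (genW (sv s) [[nat_lit 0], [nat_lit 2], [nat_lit 4], [nat_lit 6], [nat_lit 8], [nat_lit 10], [nat_lit 12], [nat_lit 14]]) s k7cR) (E s [nat_lit 46, nat_lit 46]) 2 :=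
  KH.kk (k7ckh b h0) [([nat_lit 46], nat_lit 4), ([nat_lit 46, nat_lit 48], nat_lit 3), ([nat_lit 46, nat_lit 48, nat_lit 48], nat_lit 3)] (KKs.cons (k7k7 b h0) (KKs.cons (k7k8 b h0) (KKs.cons (k7k9 b h0) KKs.nil))) (KT.split (KT.cons (KT.split (KT.cons (KT.into [nat_lit 2] (nat_lit 0) [nat_lit 1, nat_lit 5]) (KT.cons (KT.merge [nat_lit 0] [nat_lit 0, nat_lit 4] (KT.merge [nat_lit 5] [nat_lit 3] (KT.merge [nat_lit 3] [nat_lit 0, nat_lit 2] (KT.merge [nat_lit 10] [] (KT.prune (nat_lit 8) (nat_lit 1) []))))) (KT.cons (KT.merge [nat_lit 0] [nat_lit 1, nat_lit 4] (KT.merge [nat_lit 4] [nat_lit 2] (KT.merge [nat_lit 2] [nat_lit 0] (KT.merge [nat_lit 10] [] (KT.prune (nat_lit 8) (nat_lit 1) []))))) KT.nil)))) (KT.cons (KT.into [nat_lit 2] (nat_lit 2) [nat_lit 0, nat_lit 3, nat_lit 4, nat_lit 9]) (KT.cons (KT.into [nat_lit 2] (nat_lit 1) [nat_lit 1, nat_lit 3, nat_lit 6]) KT.nil)))) [nat_lit 2, nat_lit 2] _ _ (by decide +kernel)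

theorem k7k11 (b : Cx τ s (genW (sv s) [[nat_lit 0], [nat_lit 2], [nat_lit 4], [nat_lit 6], [nat_lit 8], [nat_lit 10], [nat_lit 12], [nat_lit 14]]) k7d5) (h0 : CU (genW (sv s) [[nat_lit 0], [nat_lit 2], [nat_lit 4], [nat_lit 6], [nat_lit 8], [nat_lit 10], [nat_lit 12], [nat_lit 14]]) s [] 4585351680) : KK s 3 k7cA (GoodM (genW (sv s) [[nat_lit 0], [nat_lit 2], [nat_lit 4], [nat_lit 6], [nat_lit 8], [nat_lit 10], [nat_lit 12], [nat_lit 14]]) s k7cR) (E s [nat_lit 44, nat_lit 48, nat_lit 48]) 6 :=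
  KH.kk (k7ckh b h0) [] KKs.nil (KT.split (KT.cons (KT.split (KT.cons (KT.merge [nat_lit 6] [] (KT.cj [nat_lit 15, nat_lit 30, nat_lit 13, nat_lit 37, nat_lit 26, nat_lit 5, nat_lit 21, nat_lit 31, nat_lit 18, nat_lit 17] (nat_lit 3))) (KT.cons (KT.merge [nat_lit 6] [] (KT.cj [nat_lit 37, nat_lit 0, nat_lit 17, nat_lit 31, nat_lit 20, nat_lit 26, nat_lit 14] (nat_lit 1))) (KT.cons (KT.merge [nat_lit 6] [] (KT.cj [nat_lit 9, nat_lit 32, nat_lit 25, nat_lit 7, nat_lit 5, nat_lit 21, nat_lit 31, nat_lit 19, nat_lit 47] (nat_lit 3))) KT.nil)))) (KT.cons (KT.split (KT.cons (KT.merge [nat_lit 8] [] (KT.cj [nat_lit 37, nat_lit 28, nat_lit 11, nat_lit 27, nat_lit 5, nat_lit 13, nat_lit 23] (nat_lit 3))) (KT.cons (KT.merge [nat_lit 8] [] (KT.cj [nat_lit 11, nat_lit 9, nat_lit 32, nat_lit 13, nat_lit 28, nat_lit 13, nat_lit 21, nat_lit 25, nat_lit 21, nat_lit 16, nat_lit 31] (nat_lit 3))) (KT.cons (KT.merge [nat_lit 8] [] (KT.cj [nat_lit 23, nat_lit 45, nat_lit 4, nat_lit 23, nat_lit 0, nat_lit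 24, nat_lit 14, nat_lit 28, nat_lit 35] (nat_lit 1))) KT.nil)))) (KT.cons (KT.split (KT.cons (KT.merge [nat_lit 7] [] (KT.cj [nat_lit 51, nat_lit 64, nat_lit 19, nat_lit 22, nat_lit 20, nat_lit 27, nat_lit 6, nat_lit 28, nat_lit 30] (nat_lit 6))) (KT.cons (KT.merge [nat_lit 7] [] (KT.cj [nat_lit 33, nat_lit 57, nat_lit 10, nat_lit 20, nat_lit 4, nat_lit 25, nat_lit 29, nat_lit 8, nat_lit 37] (nat_lit 1))) (KT.cons (KT.merge [nat_lit 7] [] (KT.cj [nat_lit 44, nat_lit 46, nat_lit 23, nat_lit 24, nat_lit 6, nat_lit 34, nat_lit 28, nat_lit 10, nat_lit 14] (nat_lit 1))) KT.nil)))) KT.nil)))) [nat_lit 0, nat_lit 4, nat_lit 4] _ _ (by decide +kernel)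

theorem k7k12 (b : Cx τ s (genW (sv s) [[nat_lit 0], [nat_lit 2], [nat_lit 4], [nat_lit 6], [nat_lit 8], [nat_lit 10], [nat_lit 12], [nat_lit 14]]) k7d5) (h0 : CU (genW (sv s) [[nat_lit 0], [nat_lit 2], [nat_lit 4], [nat_lit 6], [nat_lit 8], [nat_lit 10], [nat_lit 12], [nat_lit 14]]) s [] 4585351680) : KK s 3 k7cA (GoodM (genW (sv s) [[nat_lit 0], [nat_lit 2], [nat_lit 4], [nat_lit 6], [nat_lit 8], [nat_lit 10], [nat_lit 12], [nat_lit 14]]) s k7cR) (E s [nat_lit 44, nat_lit 48, nat_lit 48, nat_lit 54]) 6 :=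
  KH.kk (k7ckh b h0) [] KKs.nil (KT.split (KT.cons (KT.split (KT.cons (KT.merge [nat_lit 6] [] (KT.cj [nat_lit 60, nat_lit 38, nat_lit 22, nat_lit 4, nat_lit 24, nat_lit 26, nat_lit 30, nat_lit 28, nat_lit 8, nat_lit 33] (nat_lit 0))) (KT.cons (KT.merge [nat_lit 6] [] (KT.cj [nat_lit 10, nat_lit 19, nat_lit 29, nat_lit 21, nat_lit 10, nat_lit 27, nat_lit 12, nat_lit 28, nat_lit 8, nat_lit 35, nat_lit 14] (nat_lit 0))) (KT.cons (KT.merge [nat_lit 6] [] (KT.cj [nat_lit 36, nat_lit 29, nat_lit 15, nat_lit 7, nat_lit 25, nat_lit 21, nat_lit 22, nat_lit 32, nat_lit 47, nat_lit 30] (nat_lit 3))) KT.nil)))) (KT.cons (KT.split (KT.cons (KT.merge [nat_lit 10] [] (KT.cj [nat_lit 36, nat_lit 11, nat_lit 29, nat_lit 7, nat_lit 13, nat_lit 32, nat_lit 20, nat_lit 32, nat_lit 50, nat_lit 11] (nat_lit 3))) (KT.cons (KT.merge [nat_lit 10] [] (KT.cj [nat_lit 38, nat_lit 20, nat_lit 25, nat_lit 36, nat_lit 14] (nat_lit 2))) (KT.cons (KT.merge [nat_lit 10] [] (KT.cj [nat_lit 15, nat_lit 36, nat_lit 32,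 nat_lit 29, nat_lit 29, nat_lit 13, nat_lit 26, nat_lit 5, nat_lit 46, nat_lit 50] (nat_lit 2))) KT.nil)))) (KT.cons (KT.split (KT.cons (KT.merge [nat_lit 7] [] (KT.cj [nat_lit 59, nat_lit 49, nat_lit 23, nat_lit 23, nat_lit 20, nat_lit 28, nat_lit 26, nat_lit 12, nat_lit 30, nat_lit 28] (nat_lit 1))) (KT.cons (KT.merge [nat_lit 7] [] (KT.cj [nat_lit 58, nat_lit 26, nat_lit 61, nat_lit 20, nat_lit 30, nat_lit 25, nat_lit 6, nat_lit 8, nat_lit 35, nat_lit 36] (nat_lit 5))) (KT.cons (KT.merge [nat_lit 7] [] (KT.cj [nat_lit 36, nat_lit 32, nat_lit 9, nat_lit 32, nat_lit 25, nat_lit 30, nat_lit 22, nat_lit 5, nat_lit 47, nat_lit 50] (nat_lit 1))) KT.nil)))) KT.nil)))) [nat_lit 0, nat_lit 4, nat_lit 4, nat_lit 10] _ _ (by decide +kernel)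

theorem k7k13 (b : Cx τ s (genW (sv s) [[nat_lit 0], [nat_lit 2], [nat_lit 4], [nat_lit 6], [nat_lit 8], [nat_lit 10], [nat_lit 12], [nat_lit 14]]) k7d5) (h0 : CU (genW (sv s) [[nat_lit 0], [nat_lit 2], [nat_lit 4], [nat_lit 6], [nat_lit 8], [nat_lit 10], [nat_lit 12], [nat_lit 14]]) s [] 4585351680) : KK s 3 k7cA (GoodM (genW (sv s) [[nat_lit 0], [nat_lit 2], [nat_lit 4], [nat_lit 6], [nat_lit 8], [nat_lit 10], [nat_lit 12], [nat_lit 14]]) s k7cR) (E s [nat_lit 44, nat_lit 48, nat_lit 48, nat_lit 54, nat_lit 54, nat_lit 56]) 7 :=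
  KH.kk (k7ckh b h0) [] KKs.nil (KT.split (KT.cons (KT.merge [nat_lit 9] [] (KT.cj [nat_lit 11, nat_lit 29, nat_lit 33, nat_lit 7, nat_lit 31, nat_lit 5, nat_lit 21, nat_lit 31, nat_lit 45, nat_lit 50] (nat_lit 1))) (KT.cons (KT.merge [nat_lit 9] [] (KT.cj [nat_lit 21, nat_lit 48, nat_lit 28, nat_lit 12, nat_lit 22, nat_lit 29, nat_lit 26, nat_lit 29, nat_lit 8, nat_lit 36, nat_lit 14] (nat_lit 2))) (KT.cons (KT.merge [nat_lit 9] [] (KT.cj [nat_lit 52, nat_lit 17, nat_lit 23, nat_lit 23, nat_lit 33, nat_lit 25, nat_lit 12, nat_lit 28, nat_lit 10, nat_lit 8] (nat_lit 1))) KT.nil)))) [nat_lit 0, nat_lit 4, nat_lit 4, nat_lit 10, nat_lit 10, nat_lit 12] _ _ (by decide +kernel)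

theorem k7k14 (b : Cx τ s (genW (sv s) [[nat_lit 0], [nat_lit 2], [nat_lit 4], [nat_lit 6], [nat_lit 8], [nat_lit 10], [nat_lit 12], [nat_lit 14]]) k7d5) (h0 : CU (genW (sv s) [[nat_lit 0], [nat_lit 2], [nat_lit 4], [nat_lit 6], [nat_lit 8], [nat_lit 10], [nat_lit 12], [nat_lit 14]]) s [] 4585351680) : KK s 3 k7cA (GoodM (genW (sv s) [[nat_lit 0], [nat_lit 2], [nat_lit 4], [nat_lit 6], [nat_lit 8], [nat_lit 10], [nat_lit 12], [nat_lit 14]]) s k7cR) (E s [nat_lit 44, nat_lit 48, nat_lit 48, nat_lit 54, nat_lit 54, nat_lit 56, nat_lit 56]) 7 :=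
  KH.kk (k7ckh b h0) [] KKs.nil (KT.split (KT.cons (KT.merge [nat_lit 7] [] (KT.cj [nat_lit 14, nat_lit 23, nat_lit 50, nat_lit 20, nat_lit 32, nat_lit 25, nat_lit 6, nat_lit 10, nat_lit 28] (nat_lit 1))) (KT.cons (KT.merge [nat_lit 7] [] (KT.cj [nat_lit 15, nat_lit 36, nat_lit 29, nat_lit 27, nat_lit 28, nat_lit 5, nat_lit 25, nat_lit 5, nat_lit 18, nat_lit 24] (nat_lit 1))) (KT.cons (KT.merge [nat_lit 7] [] (KT.cj [nat_lit 37, nat_lit 32, nat_lit 28, nat_lit 28, nat_lit 13, nat_lit 24, nat_lit 28, nat_lit 22, nat_lit 7] (nat_lit 4))) KT.nil)))) [nat_lit 0, nat_lit 4, nat_lit 4, nat_lit 10, nat_lit 10, nat_lit 12, nat_lit 12] _ _ (by decide +kernel)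

theorem k7k15 (b : Cx τ s (genW (sv s) [[nat_lit 0], [nat_lit 2], [nat_lit 4], [nat_lit 6], [nat_lit 8], [nat_lit 10], [nat_lit 12], [nat_lit 14]]) k7d5) (h0 : CU (genW (sv s) [[nat_lit 0], [nat_lit 2], [nat_lit 4], [nat_lit 6], [nat_lit 8], [nat_lit 10], [nat_lit 12], [nat_lit 14]]) s [] 4585351680) : KK s 3 k7cA (GoodM (genW (sv s) [[nat_lit 0], [nat_lit 2], [nat_lit 4], [nat_lit 6], [nat_lit 8], [nat_lit 10], [nat_lit 12], [nat_lit 14]]) s k7cR) (E s [nat_lit 44, nat_lit 48, nat_lit 48, nat_lit 54, nat_lit 54]) 6 :=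
  KH.kk (k7ckh b h0) [([nat_lit 44, nat_lit 48, nat_lit 48, nat_lit 54, nat_lit 54, nat_lit 56], nat_lit 7), ([nat_lit 44, nat_lit 48, nat_lit 48, nat_lit 54, nat_lit 54, nat_lit 56, nat_lit 56], nat_lit 7)] (KKs.cons (k7k13 b h0) (KKs.cons (k7k14 b h0) KKs.nil)) (KT.split (KT.cons (KT.split (KT.cons (KT.merge [nat_lit 6] [] (KT.cj [nat_lit 9, nat_lit 28, nat_lit 28, nat_lit 7, nat_lit 13, nat_lit 33, nat_lit 1, nat_lit 21, nat_lit 39, nat_lit 3, nat_lit 50] (nat_lit 0))) (KT.cons (KT.merge [nat_lit 6] [] (KT.cj [nat_lit 64, nat_lit 38, nat_lit 12, nat_lit 4, nat_lit 12, nat_lit 35, nat_lit 8, nat_lit 35, nat_lit 36] (nat_lit 1))) (KT.cons (KT.merge [nat_lit 6] [] (KT.cj [nat_lit 17, nat_lit 47, nat_lit 18, nat_lit 10, nat_lit 20, nat_lit 12, nat_lit 24, nat_lit 35, nat_lit 36] (nat_lit 1))) KT.nil)))) (KT.cons (KT.into [] (nat_lit 0) []) (KT.cons (KT.into [] (nat_lit 1) []) KT.nil)))) [nat_lit 0, nat_lit 4, nat_lit 4, nat_lit 10, nat_lit 10] _ _ (by decide +kernel)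

theorem k7k16 (b : Cx τ s (genW (sv s) [[nat_lit 0], [nat_lit 2], [nat_lit 4], [nat_lit 6], [nat_lit 8], [nat_lit 10], [nat_lit 12], [nat_lit 14]]) k7d5) (h0 : CU (genW (sv s) [[nat_lit 0], [nat_lit 2], [nat_lit 4], [nat_lit 6], [nat_lit 8], [nat_lit 10], [nat_lit 12], [nat_lit 14]]) s [] 4585351680) : KK s 3 k7cA (GoodM (genW (sv s) [[nat_lit 0], [nat_lit 2], [nat_lit 4], [nat_lit 6], [nat_lit 8], [nat_lit 10], [nat_lit 12], [nat_lit 14]]) s k7cR) (E s [nat_lit 44, nat_lit 46, nat_lit 48, nat_lit 48]) 3 :=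
  KH.kk (k7ckh b h0) [] KKs.nil (KT.merge [nat_lit 0] [nat_lit 0, nat_lit 5, nat_lit 7, nat_lit 9] (KT.merge [nat_lit 2] [nat_lit 7] (KT.split (KT.cons (KT.merge [nat_lit 6] [nat_lit 0, nat_lit 3] (KT.merge [nat_lit 11] [nat_lit 0] (KT.prune (nat_lit 8) (nat_lit 1) []))) (KT.cons (KT.merge [nat_lit 6] [nat_lit 0, nat_lit 3] (KT.merge [nat_lit 11] [nat_lit 0] (KT.prune (nat_lit 8) (nat_lit 2) []))) (KT.cons (KT.merge [nat_lit 6] [nat_lit 0, nat_lit 3] (KT.merge [nat_lit 11] [nat_lit 0] (KT.merge [nat_lit 9] [] (KT.cj [nat_lit 17, nat_lit 44, nat_lit 25, nat_lit 4, nat_lit 0, nat_lit 28, nat_lit 6, nat_lit 34, nat_lit 28, nat_lit 10] (nat_lit 1))))) KT.nil)))))) [nat_lit 0, nat_lit 2, nat_lit 4, nat_lit 4] _ _ (by decide +kernel)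

theorem k7k17 (b : Cx τ s (genW (sv s) [[nat_lit 0], [nat_lit 2], [nat_lit 4], [nat_lit 6], [nat_lit 8], [nat_lit 10], [nat_lit 12], [nat_lit 14]]) k7d5) (h0 : CU (genW (sv s) [[nat_lit 0], [nat_lit 2], [nat_lit 4], [nat_lit 6], [nat_lit 8], [nat_lit 10], [nat_lit 12], [nat_lit 14]]) s [] 4585351680) : KK s 3 k7cA (GoodM (genW (sv s) [[nat_lit 0], [nat_lit 2], [nat_lit 4], [nat_lit 6], [nat_lit 8], [nat_lit 10], [nat_lit 12], [nat_lit 14]]) s k7cR) (E s [nat_lit 44]) 1 :=
  KH.kk (k7ckh b h0) [([nat_lit 44, nat_lit 48, nat_lit 48], nat_lit 6), ([nat_lit 44, nat_lit 48, nat_lit 48, nat_lit 54], nat_lit 6), ([nat_lit 44, nat_lit 48, nat_lit 48, nat_lit 54, nat_lit 54], nat_lit 6), ([nat_lit 44, nat_lit 46, nat_lit 48, nat_lit 48], nat_lit 3)] (KKs.cons (k7k11 b h0) (KKs.cons (k7k12 b h0) (KKs.cons (k7k15 b h0) (KKs.cons (k7k16 b h0) KKs.nil)))) (KT.split (KT.cons (KT.split (KT.cons (KT.merge [nat_lit 4] [nat_lit 2, nat_lit 4, nat_lit 7, nat_lit 9] (KT.merge [nat_lit 2] [nat_lit 2, nat_lit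 4, nat_lit 6] (KT.prune (nat_lit 5) (nat_lit 2) [nat_lit 3, nat_lit 4]))) (KT.cons (KT.merge [nat_lit 4] [nat_lit 3, nat_lit 4, nat_lit 9] (KT.merge [nat_lit 2] [nat_lit 3] (KT.prune (nat_lit 5) (nat_lit 2) [nat_lit 3, nat_lit 5]))) (KT.cons (KT.merge [nat_lit 0] [nat_lit 4, nat_lit 6, nat_lit 8] (KT.merge [nat_lit 2] [nat_lit 7] (KT.split (KT.cons (KT.into [] (nat_lit 0) []) (KT.cons (KT.into [] (nat_lit 1) []) (KT.cons (KT.into [] (nat_lit 2) []) KT.nil)))))) KT.nil)))) (KT.cons (KT.split (KT.cons (KT.merge [nat_lit 4] [nat_lit 2, nat_lit 5, nat_lit 6, nat_lit 9] (KT.merge [nat_lit 2] [nat_lit 2, nat_lit 4, nat_lit 6] (KT.prune (nat_lit 5) (nat_lit 2) [nat_lit 0, nat_lit 4]))) (KT.cons (KT.merge [nat_lit 4] [nat_lit 3, nat_lit 5, nat_lit 9] (KT.merge [nat_lit 2] [nat_lit 3] (KT.prune (nat_lit 5) (nat_lit 2) [nat_lit 1, nat_lit 2, nat_lit 5]))) (KT.cons (KT.into [] (nat_lit 3) []) KT.nil)))) (KT.cons (KT.split (KT.cons (KT.merge [nat_lit 4] [nat_lit 2, nat_lit 9] (KT.merge [nat_lit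 0] [nat_lit 4] (KT.prune (nat_lit 5) (nat_lit 2) [nat_lit 1, nat_lit 2, nat_lit 4]))) (KT.cons (KT.merge [nat_lit 4] [nat_lit 3, nat_lit 9] (KT.merge [nat_lit 2] [nat_lit 3] (KT.prune (nat_lit 5) (nat_lit 2) [nat_lit 0, nat_lit 5]))) (KT.cons (KT.into [nat_lit 2, nat_lit 0] (nat_lit 3) [nat_lit 0, nat_lit 2, nat_lit 5, nat_lit 8]) KT.nil)))) KT.nil)))) [nat_lit 0] _ _ (by decide +kernel)

theorem k7ckk (b : Cx τ s (genW (sv s) [[nat_lit 0], [nat_lit 2], [nat_lit 4], [nat_lit 6], [nat_lit 8], [nat_lit 10], [nat_lit 12], [nat_lit 14]]) k7d5) (h0 : CU (genW (sv s) [[nat_lit 0], [nat_lit 2], [nat_lit 4], [nat_lit 6], [nat_lit 8], [nat_lit 10], [nat_lit 12], [nat_lit 14]]) s [] 4585351680) : KK s 3 k7cA (GoodM (genW (sv s) [[nat_lit 0], [nat_lit 2], [nat_lit 4], [nat_lit 6], [nat_lit 8], [nat_lit 10], [nat_lit 12], [nat_lit 14]]) s k7cR) (E s []) 0 :=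
  KH.kk (k7ckh b h0) [([nat_lit 52], nat_lit 5), ([nat_lit 50], nat_lit 4), ([nat_lit 48], nat_lit 3), ([nat_lit 46], nat_lit 4), ([nat_lit 46, nat_lit 48], nat_lit 3), ([nat_lit 46, nat_lit 48, nat_lit 48], nat_lit 3), ([nat_lit 46, nat_lit 46], nat_lit 2), ([nat_lit 44], nat_lit 1)] (KKs.cons (k7k4 b h0) (KKs.cons (k7k5 b h0) (KKs.cons (k7k6 b h0) (KKs.cons (k7k7 b h0) (KKs.cons (k7k8 b h0) (KKs.cons (k7k9 b h0) (KKs.cons (k7k10 b h0) (KKs.cons (k7k17 b h0) KKs.nil)))))))) (KT.split (KT.cons (KT.split (KT.cons (KT.split (KT.cons (KT.split (KT.cons (KT.split (KT.cons (KT.split (KT.cons (KT.split (KT.cons (KT.split (KT.cons (KT.split (KT.cons (KT.cj [] (nat_lit 7)) (KT.cons (KT.cj [nat_lit 15, nat_lit 32, nat_lit 27, nat_lit 23, nat_lit 15, nat_lit 26] (nat_lit 4)) (KT.cons (KT.cj [nat_lit 27, nat_lit 14, nat_lit 21, nat_lit 27, nat_lit 12, nat_lit 30, nat_lit 28] (nat_lit 4)) KT.nil)))) (KT.cons (KT.merge [nat_lit 0] [] (KT.cj [nat_lit 8, nat_lit 25, nat_lit 4, nat_lit 34, nat_lit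 12, nat_lit 6, nat_lit 28, nat_lit 10] (nat_lit 4))) (KT.cons (KT.merge [nat_lit 1, nat_lit 11, nat_lit 15, nat_lit 16] [] (KT.cj [nat_lit 36, nat_lit 28, nat_lit 27, nat_lit 29, nat_lit 21, nat_lit 28] (nat_lit 4))) KT.nil)))) (KT.cons (KT.merge [nat_lit 0] [nat_lit 1] (KT.merge [nat_lit 7] [] (KT.cj [nat_lit 15, nat_lit 37, nat_lit 9, nat_lit 7, nat_lit 1, nat_lit 22, nat_lit 17, nat_lit 46] (nat_lit 5)))) (KT.cons (KT.merge [nat_lit 5] [] (KT.merge [nat_lit 6] [] (KT.cj [nat_lit 53, nat_lit 18, nat_lit 14, nat_lit 12, nat_lit 22, nat_lit 28, nat_lit 24, nat_lit 28, nat_lit 30, nat_lit 10] (nat_lit 5)))) KT.nil)))) (KT.cons (KT.split (KT.cons (KT.merge [nat_lit 2] [] (KT.merge [nat_lit 9] [] (KT.cj [nat_lit 21, nat_lit 25, nat_lit 8, nat_lit 6, nat_lit 28, nat_lit 28, nat_lit 35, nat_lit 36, nat_lit 14] (nat_lit 4)))) (KT.cons (KT.merge [nat_lit 0] [] (KT.merge [nat_lit 7] [] (KT.cj [nat_lit 22, nat_lit 17, nat_lit 25, nat_lit 10, nat_lit 22, nat_lit 12, nat_lit 26, nat_lit 35, nat_lit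 8, nat_lit 33] (nat_lit 2)))) (KT.cons (KT.merge [nat_lit 2] [] (KT.merge [nat_lit 6] [] (KT.cj [nat_lit 31, nat_lit 62, nat_lit 26, nat_lit 23, nat_lit 12, nat_lit 29, nat_lit 12, nat_lit 33, nat_lit 8, nat_lit 35, nat_lit 37] (nat_lit 0)))) KT.nil)))) (KT.cons (KT.split (KT.cons (KT.merge [nat_lit 3] [] (KT.merge [nat_lit 0] [] (KT.cj [nat_lit 25, nat_lit 23, nat_lit 6, nat_lit 25, nat_lit 28, nat_lit 14, nat_lit 28, nat_lit 35] (nat_lit 4)))) (KT.cons (KT.merge [nat_lit 0] [nat_lit 0] (KT.merge [nat_lit 7] [] (KT.cj [nat_lit 47, nat_lit 44, nat_lit 31, nat_lit 20, nat_lit 0, nat_lit 29, nat_lit 12, nat_lit 31, nat_lit 29, nat_lit 36, nat_lit 14] (nat_lit 0)))) (KT.cons (KT.merge [nat_lit 3] [] (KT.merge [nat_lit 6] [] (KT.cj [nat_lit 58, nat_lit 2, nat_lit 34, nat_lit 21, nat_lit 0, nat_lit 25, nat_lit 12, nat_lit 32, nat_lit 28, nat_lit 14] (nat_lit 2)))) KT.nil)))) KT.nil)))) (KT.cons (KT.into [] (nat_lit 0) []) (KT.cons (KT.into [nat_lit 0] (nat_lit 0) [nat_lit 6]) KT.nil))))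 (KT.cons (KT.into [] (nat_lit 1) []) (KT.cons (KT.into [nat_lit 0] (nat_lit 1) []) KT.nil)))) (KT.cons (KT.into [] (nat_lit 2) []) (KT.cons (KT.into [nat_lit 2] (nat_lit 2) [nat_lit 1, nat_lit 6, nat_lit 8, nat_lit 11]) KT.nil)))) (KT.cons (KT.split (KT.cons (KT.split (KT.cons (KT.into [] (nat_lit 3) []) (KT.cons (KT.merge [nat_lit 1, nat_lit 11, nat_lit 15, nat_lit 16] [nat_lit 1, nat_lit 2, nat_lit 7] (KT.merge [nat_lit 5] [nat_lit 2] (KT.merge [nat_lit 3] [nat_lit 0, nat_lit 2] (KT.merge [nat_lit 11] [] (KT.prune (nat_lit 8) (nat_lit 2) []))))) (KT.cons (KT.merge [nat_lit 1, nat_lit 11, nat_lit 15, nat_lit 16] [nat_lit 0, nat_lit 2, nat_lit 6] (KT.merge [nat_lit 4] [nat_lit 3] (KT.merge [nat_lit 2] [nat_lit 0] (KT.merge [nat_lit 11] [] (KT.prune (nat_lit 8) (nat_lit 2) []))))) KT.nil)))) (KT.cons (KT.into [] (nat_lit 4) []) (KT.cons (KT.into [] (nat_lit 5) []) KT.nil)))) (KT.cons (KT.into [] (nat_lit 6) []) KT.nil)))) (KT.cons (KT.into [] (nat_lit 7) []) (KT.cons (KT.into [nat_lit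 0] (nat_lit 7) [nat_lit 2, nat_lit 12, nat_lit 15]) KT.nil)))) [] _ _ (by decide +kernel)

theorem k7c (b : Cx τ s (genW (sv s) [[nat_lit 0], [nat_lit 2], [nat_lit 4], [nat_lit 6], [nat_lit 8], [nat_lit 10], [nat_lit 12], [nat_lit 14]]) k7d5) (h0 : CU (genW (sv s) [[nat_lit 0], [nat_lit 2], [nat_lit 4], [nat_lit 6], [nat_lit 8], [nat_lit 10], [nat_lit 12], [nat_lit 14]]) s [] 4585351680) (hn : ¬ 3 ^ 10 ∣ Nat.card (genW (sv s) [[nat_lit 0], [nat_lit 2], [nat_lit 4], [nat_lit 6], [nat_lit 8], [nat_lit 10], [nat_lit 12], [nat_lit 14]])) : ∀ y ∈ (genW (sv s) [[nat_lit 0], [nat_lit 2], [nat_lit 4], [nat_lit 6], [nat_lit 8], [nat_lit 10], [nat_lit 12], [nat_lit 14]]), y ^ 3 = 1 → GoodM (genW (sv s) [[nat_lit 0], [nat_lit 2], [nat_lit 4], [nat_lit 6], [nat_lit 8], [nat_lit 10], [nat_lit 12], [nat_lit 14]]) s k7cR y :=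
  fun _ => (k7ckh b h0).allM (k7ckk b h0) hn

theorem k7nc18 (b : Cx τ s (genW (sv s) [[nat_lit 0], [nat_lit 2], [nat_lit 4], [nat_lit 6], [nat_lit 8], [nat_lit 10], [nat_lit 12], [nat_lit 14]]) k7d5) (h0 : CU (genW (sv s) [[nat_lit 0], [nat_lit 2], [nat_lit 4], [nat_lit 6], [nat_lit 8], [nat_lit 10], [nat_lit 12], [nat_lit 14]]) s [] 4585351680) : NC (genW (sv s) [[nat_lit 0], [nat_lit 2], [nat_lit 4], [nat_lit 6], [nat_lit 8], [nat_lit 10], [nat_lit 12], [nat_lit 14]]) s [[nat_lit 0], [nat_lit 32, nat_lit 29, nat_lit 30, nat_lit 27, nat_lit 25, nat_lit 23, nat_lit 57]] [[nat_lit 0], [nat_lit 10, nat_lit 19, nat_lit 38, nat_lit 22, nat_lit 4, nat_lit 35]] :=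
  NC.pc b (b.c.genW_le_NS _) _ _ (SE.and (SE.fx [nat_lit 0]) (SE.pre [nat_lit 2] (SE.tp (nat_lit 0)))) (by decide +kernel)

theorem k7nc19 (b : Cx τ s (genW (sv s) [[nat_lit 0], [nat_lit 2], [nat_lit 4], [nat_lit 6], [nat_lit 8], [nat_lit 10], [nat_lit 12], [nat_lit 14]]) k7d5) (h0 : CU (genW (sv s) [[nat_lit 0], [nat_lit 2], [nat_lit 4], [nat_lit 6], [nat_lit 8], [nat_lit 10], [nat_lit 12], [nat_lit 14]]) s [] 4585351680) : NC (genW (sv s) [[nat_lit 0], [nat_lit 2], [nat_lit 4], [nat_lit 6], [nat_lit 8], [nat_lit 10], [nat_lit 12], [nat_lit 14]]) s [[nat_lit 8], [nat_lit 0], [nat_lit 32, nat_lit 29, nat_lit 30, nat_lit 27, nat_lit 25, nat_lit 23, nat_lit 57]] [[nat_lit 8], [nat_lit 12, nat_lit 4, nat_lit 13], [nat_lit 10, nat_lit 19, nat_lit 38, nat_lit 22, nat_lit 4, nat_lit 35]] :=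
  NC.pc b (b.c.genW_le_NS _) _ _ (SE.and (SE.and (SE.diff (SE.diff (SE.and (SE.and (SE.diff (SE.diff SE.all (SE.tp (nat_lit 0))) (SE.tp (nat_lit 1))) (SE.fx [nat_lit 0])) (SE.fx [nat_lit 2])) (SE.pre [nat_lit 4] (SE.tp (nat_lit 1)))) (SE.pre [nat_lit 5] (SE.tp (nat_lit 1)))) (SE.fx [nat_lit 4, nat_lit 0, nat_lit 5])) (SE.fx [nat_lit 5, nat_lit 0, nat_lit 4])) (by decide +kernel)

theorem k7nc20 (b : Cx τ s (genW (sv s) [[nat_lit 0], [nat_lit 2], [nat_lit 4], [nat_lit 6], [nat_lit 8], [nat_lit 10], [nat_lit 12], [nat_lit 14]]) k7d5) (h0 : CU (genW (sv s) [[nat_lit 0], [nat_lit 2], [nat_lit 4], [nat_lit 6], [nat_lit 8], [nat_lit 10], [nat_lit 12], [nat_lit 14]]) s [] 4585351680) : NC (genW (sv s) [[nat_lit 0], [nat_lit 2], [nat_lit 4], [nat_lit 6], [nat_lit 8], [nat_lit 10], [nat_lit 12], [nat_lit 14]]) s [[nat_lit 8], [nat_lit 0], [nat_lit 32, nat_lit 29, nat_lit 30, nat_lit 27, nat_lit 25, nat_lit 23, nat_lit 57]] [[nat_lit 26, nat_lit 12, nat_lit 27], [nat_lit 12, nat_lit 4, nat_lit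 13], [nat_lit 10, nat_lit 19, nat_lit 38, nat_lit 22, nat_lit 4, nat_lit 35]] :=
  NC.pc b (b.c.genW_le_NS _) _ _ (SE.fx [nat_lit 4, nat_lit 0]) (by decide +kernel)

theorem k7nc21 (b : Cx τ s (genW (sv s) [[nat_lit 0], [nat_lit 2], [nat_lit 4], [nat_lit 6], [nat_lit 8], [nat_lit 10], [nat_lit 12], [nat_lit 14]]) k7d5) (h0 : CU (genW (sv s) [[nat_lit 0], [nat_lit 2], [nat_lit 4], [nat_lit 6], [nat_lit 8], [nat_lit 10], [nat_lit 12], [nat_lit 14]]) s [] 4585351680) : NC (genW (sv s) [[nat_lit 0], [nat_lit 2], [nat_lit 4], [nat_lit 6], [nat_lit 8], [nat_lit 10], [nat_lit 12], [nat_lit 14]]) s [[nat_lit 0], [nat_lit 32, nat_lit 29, nat_lit 30, nat_lit 27, nat_lit 25, nat_lit 23, nat_lit 57]] [[nat_lit 12, nat_lit 4, nat_lit 13], [nat_lit 10, nat_lit 19, nat_lit 38, nat_lit 22, nat_lit 4, nat_lit 35]] :=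
  NC.br b le_rfl (b.c.genW_le_NS _) _ _ (nat_lit 1) [[nat_lit 2, nat_lit 52, nat_lit 46, nat_lit 36, nat_lit 14], [nat_lit 6, nat_lit 60, nat_lit 52, nat_lit 12, nat_lit 27, nat_lit 10, nat_lit 8, nat_lit 36]] [nat_lit 8] (SE.diff (SE.diff (SE.diff (SE.and (SE.and (SE.fx [nat_lit 0]) (SE.fx [nat_lit 2, nat_lit 0, nat_lit 3])) (SE.fx [nat_lit 3, nat_lit 0, nat_lit 2])) (SE.tp (nat_lit 0))) (SE.pre [nat_lit 2] (SE.tp (nat_lit 0)))) (SE.pre [nat_lit 3] (SE.tp (nat_lit 0)))) [([nat_lit 8], [nat_lit 0, nat_lit 1, nat_lit 0, nat_lit 1]), ([nat_lit 26, nat_lit 12, nat_lit 27], [nat_lit 1, nat_lit 1])] (NCs.cons (k7nc19 b h0) (NCs.cons (k7nc20 b h0) NCs.nil)) (by decide +kernel)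

theorem k7nc22 (b : Cx τ s (genW (sv s) [[nat_lit 0], [nat_lit 2], [nat_lit 4], [nat_lit 6], [nat_lit 8], [nat_lit 10], [nat_lit 12], [nat_lit 14]]) k7d5) (h0 : CU (genW (sv s) [[nat_lit 0], [nat_lit 2], [nat_lit 4], [nat_lit 6], [nat_lit 8], [nat_lit 10], [nat_lit 12], [nat_lit 14]]) s [] 4585351680) : NC (genW (sv s) [[nat_lit 0], [nat_lit 2], [nat_lit 4], [nat_lit 6], [nat_lit 8], [nat_lit 10], [nat_lit 12], [nat_lit 14]]) s [[nat_lit 0], [nat_lit 32, nat_lit 29, nat_lit 30, nat_lit 27, nat_lit 25, nat_lit 23, nat_lit 57]] [[nat_lit 6], [nat_lit 10, nat_lit 19, nat_lit 38, nat_lit 22, nat_lit 4, nat_lit 35]] :=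
  NC.pc b (b.c.genW_le_NS _) _ _ (SE.and (SE.fx [nat_lit 0]) (SE.pre [nat_lit 2] (SE.tp (nat_lit 0)))) (by decide +kernel)

theorem k7nc23 (b : Cx τ s (genW (sv s) [[nat_lit 0], [nat_lit 2], [nat_lit 4], [nat_lit 6], [nat_lit 8], [nat_lit 10], [nat_lit 12], [nat_lit 14]]) k7d5) (h0 : CU (genW (sv s) [[nat_lit 0], [nat_lit 2], [nat_lit 4], [nat_lit 6], [nat_lit 8], [nat_lit 10], [nat_lit 12], [nat_lit 14]]) s [] 4585351680) : NC (genW (sv s) [[nat_lit 0], [nat_lit 2], [nat_lit 4], [nat_lit 6], [nat_lit 8], [nat_lit 10], [nat_lit 12], [nat_lit 14]]) s [[nat_lit 0], [nat_lit 32, nat_lit 29, nat_lit 30, nat_lit 27, nat_lit 25, nat_lit 23, nat_lit 57]] [[nat_lit 26, nat_lit 12, nat_lit 27], [nat_lit 10, nat_lit 19, nat_lit 38, nat_lit 22, nat_lit 4, nat_lit 35]] :=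
  NC.pc b (b.c.genW_le_NS _) _ _ (SE.and (SE.fx [nat_lit 0]) (SE.pre [nat_lit 2] (SE.tp (nat_lit 0)))) (by decide +kernel)

theorem k7nc24 (b : Cx τ s (genW (sv s) [[nat_lit 0], [nat_lit 2], [nat_lit 4], [nat_lit 6], [nat_lit 8], [nat_lit 10], [nat_lit 12], [nat_lit 14]]) k7d5) (h0 : CU (genW (sv s) [[nat_lit 0], [nat_lit 2], [nat_lit 4], [nat_lit 6], [nat_lit 8], [nat_lit 10], [nat_lit 12], [nat_lit 14]]) s [] 4585351680) : NC (genW (sv s) [[nat_lit 0], [nat_lit 2], [nat_lit 4], [nat_lit 6], [nat_lit 8], [nat_lit 10], [nat_lit 12], [nat_lit 14]]) s [[nat_lit 0], [nat_lit 32, nat_lit 29, nat_lit 30, nat_lit 27, nat_lit 25, nat_lit 23, nat_lit 57]] [[nat_lit 30, nat_lit 12, nat_lit 31], [nat_lit 10, nat_lit 19, nat_lit 38, nat_lit 22, nat_lit 4, nat_lit 35]] :=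
  NC.pc b (b.c.genW_le_NS _) _ _ (SE.and (SE.fx [nat_lit 0]) (SE.pre [nat_lit 2] (SE.tp (nat_lit 0)))) (by decide +kernel)

theorem k7nc25 (b : Cx τ s (genW (sv s) [[nat_lit 0], [nat_lit 2], [nat_lit 4], [nat_lit 6], [nat_lit 8], [nat_lit 10], [nat_lit 12], [nat_lit 14]]) k7d5) (h0 : CU (genW (sv s) [[nat_lit 0], [nat_lit 2], [nat_lit 4], [nat_lit 6], [nat_lit 8], [nat_lit 10], [nat_lit 12], [nat_lit 14]]) s [] 4585351680) : NC (genW (sv s) [[nat_lit 0], [nat_lit 2], [nat_lit 4], [nat_lit 6], [nat_lit 8], [nat_lit 10], [nat_lit 12], [nat_lit 14]]) s [[nat_lit 32, nat_lit 29, nat_lit 30, nat_lit 27, nat_lit 25, nat_lit 23, nat_lit 57]] [[nat_lit 10, nat_lit 19, nat_lit 38, nat_lit 22, nat_lit 4, nat_lit 35]] :=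
  NC.br b le_rfl (b.c.genW_le_NS _) _ _ (nat_lit 0) [[nat_lit 36, nat_lit 9, nat_lit 31, nat_lit 7, nat_lit 24, nat_lit 20, nat_lit 32], [nat_lit 15, nat_lit 36, nat_lit 25, nat_lit 13, nat_lit 20, nat_lit 39, nat_lit 48, nat_lit 25], [nat_lit 27, nat_lit 18, nat_lit 4, nat_lit 20, nat_lit 20, nat_lit 27, nat_lit 6, nat_lit 14], [nat_lit 35, nat_lit 10, nat_lit 46, nat_lit 23, nat_lit 32, nat_lit 25, nat_lit 8, nat_lit 36, nat_lit 14], [nat_lit 15, nat_lit 48, nat_lit 16, nat_lit 16, nat_lit 23, nat_lit 21, nat_lit 6, nat_lit 24, nat_lit 33]] [nat_lit 0] SE.all [([nat_lit 0], [nat_lit 1, nat_lit 2, nat_lit 3, nat_lit 4, nat_lit 1, nat_lit 0, nat_lit 4, nat_lit 1, nat_lit 2, nat_lit 0, nat_lit 1]), ([nat_lit 12, nat_lit 4, nat_lit 13], [nat_lit 0, nat_lit 1, nat_lit 2, nat_lit 0, nat_lit 2, nat_lit 0, nat_lit 1, nat_lit 2, nat_lit 1]), ([nat_lit 6], [nat_lit 0, nat_lit 1, nat_lit 2, nat_lit 4, nat_lit 0, nat_lit 1, nat_lit 0, nat_lit 4, nat_lit 0]), ([nat_lit 26, nat_lit 12, nat_lit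 27], [nat_lit 0, nat_lit 1, nat_lit 0, nat_lit 0]), ([nat_lit 30, nat_lit 12, nat_lit 31], [nat_lit 0, nat_lit 1, nat_lit 2, nat_lit 3, nat_lit 1])] (NCs.cons (k7nc18 b h0) (NCs.cons (k7nc21 b h0) (NCs.cons (k7nc22 b h0) (NCs.cons (k7nc23 b h0) (NCs.cons (k7nc24 b h0) NCs.nil))))) (by decide +kernel)

theorem k7nc26 (b : Cx τ s (genW (sv s) [[nat_lit 0], [nat_lit 2], [nat_lit 4], [nat_lit 6], [nat_lit 8], [nat_lit 10], [nat_lit 12], [nat_lit 14]]) k7d5) (h0 : CU (genW (sv s) [[nat_lit 0], [nat_lit 2], [nat_lit 4], [nat_lit 6], [nat_lit 8], [nat_lit 10], [nat_lit 12], [nat_lit 14]]) s [] 4585351680) : NC (genW (sv s) [[nat_lit 0], [nat_lit 2], [nat_lit 4], [nat_lit 6], [nat_lit 8], [nat_lit 10], [nat_lit 12], [nat_lit 14]]) s [[nat_lit 0], [nat_lit 32, nat_lit 29, nat_lit 30, nat_lit 27, nat_lit 25, nat_lit 23, nat_lit 57]] [[nat_lit 0], [nat_lit 34, nat_lit 5, nat_lit 23, nat_lit 39, nat_lit 18, nat_lit 11]] :=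
  NC.pc b (b.c.genW_le_NS _) _ _ (SE.and (SE.fx [nat_lit 0]) (SE.pre [nat_lit 2] (SE.tp (nat_lit 0)))) (by decide +kernel)

theorem k7nc27 (b : Cx τ s (genW (sv s) [[nat_lit 0], [nat_lit 2], [nat_lit 4], [nat_lit 6], [nat_lit 8], [nat_lit 10], [nat_lit 12], [nat_lit 14]]) k7d5) (h0 : CU (genW (sv s) [[nat_lit 0], [nat_lit 2], [nat_lit 4], [nat_lit 6], [nat_lit 8], [nat_lit 10], [nat_lit 12], [nat_lit 14]]) s [] 4585351680) : NC (genW (sv s) [[nat_lit 0], [nat_lit 2], [nat_lit 4], [nat_lit 6], [nat_lit 8], [nat_lit 10], [nat_lit 12], [nat_lit 14]]) s [[nat_lit 8], [nat_lit 0], [nat_lit 32, nat_lit 29, nat_lit 30, nat_lit 27, nat_lit 25, nat_lit 23, nat_lit 57]] [[nat_lit 8], [nat_lit 12, nat_lit 4, nat_lit 13], [nat_lit 34, nat_lit 5, nat_lit 23, nat_lit 39, nat_lit 18, nat_lit 11]] :=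
  NC.pc b (b.c.genW_le_NS _) _ _ (SE.and (SE.and (SE.diff (SE.diff (SE.and (SE.and (SE.diff (SE.diff SE.all (SE.tp (nat_lit 0))) (SE.tp (nat_lit 1))) (SE.fx [nat_lit 0])) (SE.fx [nat_lit 2])) (SE.pre [nat_lit 4] (SE.tp (nat_lit 1)))) (SE.pre [nat_lit 5] (SE.tp (nat_lit 1)))) (SE.fx [nat_lit 4, nat_lit 0, nat_lit 5])) (SE.fx [nat_lit 5, nat_lit 0, nat_lit 4])) (by decide +kernel)

theorem k7nc28 (b : Cx τ s (genW (sv s) [[nat_lit 0], [nat_lit 2], [nat_lit 4], [nat_lit 6], [nat_lit 8], [nat_lit 10], [nat_lit 12], [nat_lit 14]]) k7d5) (h0 : CU (genW (sv s) [[nat_lit 0], [nat_lit 2], [nat_lit 4], [nat_lit 6], [nat_lit 8], [nat_lit 10], [nat_lit 12], [nat_lit 14]]) s [] 4585351680) : NC (genW (sv s) [[nat_lit 0], [nat_lit 2], [nat_lit 4], [nat_lit 6], [nat_lit 8], [nat_lit 10], [nat_lit 12], [nat_lit 14]]) s [[nat_lit 8], [nat_lit 0], [nat_lit 32, nat_lit 29, nat_lit 30, nat_lit 27, nat_lit 25, nat_lit 23, nat_lit 57]] [[nat_lit 26, nat_lit 12, nat_lit 27], [nat_lit 12, nat_lit 4, nat_lit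 13], [nat_lit 34, nat_lit 5, nat_lit 23, nat_lit 39, nat_lit 18, nat_lit 11]] :=
  NC.pc b (b.c.genW_le_NS _) _ _ (SE.fx [nat_lit 4, nat_lit 0]) (by decide +kernel)

theorem k7nc29 (b : Cx τ s (genW (sv s) [[nat_lit 0], [nat_lit 2], [nat_lit 4], [nat_lit 6], [nat_lit 8], [nat_lit 10], [nat_lit 12], [nat_lit 14]]) k7d5) (h0 : CU (genW (sv s) [[nat_lit 0], [nat_lit 2], [nat_lit 4], [nat_lit 6], [nat_lit 8], [nat_lit 10], [nat_lit 12], [nat_lit 14]]) s [] 4585351680) : NC (genW (sv s) [[nat_lit 0], [nat_lit 2], [nat_lit 4], [nat_lit 6], [nat_lit 8], [nat_lit 10], [nat_lit 12], [nat_lit 14]]) s [[nat_lit 0], [nat_lit 32, nat_lit 29, nat_lit 30, nat_lit 27, nat_lit 25, nat_lit 23, nat_lit 57]] [[nat_lit 12, nat_lit 4, nat_lit 13], [nat_lit 34, nat_lit 5, nat_lit 23, nat_lit 39, nat_lit 18, nat_lit 11]] :=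
  NC.br b le_rfl (b.c.genW_le_NS _) _ _ (nat_lit 1) [[nat_lit 36, nat_lit 11, nat_lit 9, nat_lit 11, nat_lit 27, nat_lit 28, nat_lit 47, nat_lit 53], [nat_lit 15, nat_lit 36, nat_lit 9, nat_lit 32, nat_lit 13, nat_lit 28, nat_lit 57, nat_lit 30]] [nat_lit 8] (SE.diff (SE.diff (SE.diff (SE.and (SE.and (SE.fx [nat_lit 0]) (SE.fx [nat_lit 2, nat_lit 0, nat_lit 3])) (SE.fx [nat_lit 3, nat_lit 0, nat_lit 2])) (SE.tp (nat_lit 0))) (SE.pre [nat_lit 2] (SE.tp (nat_lit 0)))) (SE.pre [nat_lit 3] (SE.tp (nat_lit 0)))) [([nat_lit 8], [nat_lit 0, nat_lit 1, nat_lit 0, nat_lit 1]), ([nat_lit 26, nat_lit 12, nat_lit 27], [nat_lit 1, nat_lit 1])] (NCs.cons (k7nc27 b h0) (NCs.cons (k7nc28 b h0) NCs.nil)) (by decide +kernel)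

theorem k7nc30 (b : Cx τ s (genW (sv s) [[nat_lit 0], [nat_lit 2], [nat_lit 4], [nat_lit 6], [nat_lit 8], [nat_lit 10], [nat_lit 12], [nat_lit 14]]) k7d5) (h0 : CU (genW (sv s) [[nat_lit 0], [nat_lit 2], [nat_lit 4], [nat_lit 6], [nat_lit 8], [nat_lit 10], [nat_lit 12], [nat_lit 14]]) s [] 4585351680) : NC (genW (sv s) [[nat_lit 0], [nat_lit 2], [nat_lit 4], [nat_lit 6], [nat_lit 8], [nat_lit 10], [nat_lit 12], [nat_lit 14]]) s [[nat_lit 0], [nat_lit 32, nat_lit 29, nat_lit 30, nat_lit 27, nat_lit 25, nat_lit 23, nat_lit 57]] [[nat_lit 6], [nat_lit 34, nat_lit 5, nat_lit 23, nat_lit 39, nat_lit 18, nat_lit 11]] :=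
  NC.pc b (b.c.genW_le_NS _) _ _ (SE.and (SE.fx [nat_lit 0]) (SE.pre [nat_lit 2] (SE.tp (nat_lit 0)))) (by decide +kernel)

theorem k7nc31 (b : Cx τ s (genW (sv s) [[nat_lit 0], [nat_lit 2], [nat_lit 4], [nat_lit 6], [nat_lit 8], [nat_lit 10], [nat_lit 12], [nat_lit 14]]) k7d5) (h0 : CU (genW (sv s) [[nat_lit 0], [nat_lit 2], [nat_lit 4], [nat_lit 6], [nat_lit 8], [nat_lit 10], [nat_lit 12], [nat_lit 14]]) s [] 4585351680) : NC (genW (sv s) [[nat_lit 0], [nat_lit 2], [nat_lit 4], [nat_lit 6], [nat_lit 8], [nat_lit 10], [nat_lit 12], [nat_lit 14]]) s [[nat_lit 0], [nat_lit 32, nat_lit 29, nat_lit 30, nat_lit 27, nat_lit 25, nat_lit 23, nat_lit 57]] [[nat_lit 26, nat_lit 12, nat_lit 27], [nat_lit 34, nat_lit 5, nat_lit 23, nat_lit 39, nat_lit 18, nat_lit 11]] :=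
  NC.pc b (b.c.genW_le_NS _) _ _ (SE.and (SE.fx [nat_lit 0]) (SE.pre [nat_lit 2] (SE.tp (nat_lit 0)))) (by decide +kernel)

theorem k7nc32 (b : Cx τ s (genW (sv s) [[nat_lit 0], [nat_lit 2], [nat_lit 4], [nat_lit 6], [nat_lit 8], [nat_lit 10], [nat_lit 12], [nat_lit 14]]) k7d5) (h0 : CU (genW (sv s) [[nat_lit 0], [nat_lit 2], [nat_lit 4], [nat_lit 6], [nat_lit 8], [nat_lit 10], [nat_lit 12], [nat_lit 14]]) s [] 4585351680) : NC (genW (sv s) [[nat_lit 0], [nat_lit 2], [nat_lit 4], [nat_lit 6], [nat_lit 8], [nat_lit 10], [nat_lit 12], [nat_lit 14]]) s [[nat_lit 0], [nat_lit 32, nat_lit 29, nat_lit 30, nat_lit 27, nat_lit 25, nat_lit 23, nat_lit 57]] [[nat_lit 61, nat_lit 10, nat_lit 60], [nat_lit 34, nat_lit 5, nat_lit 23, nat_lit 39, nat_lit 18, nat_lit 11]] :=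
  NC.pc b (b.c.genW_le_NS _) _ _ (SE.and (SE.fx [nat_lit 0]) (SE.pre [nat_lit 2] (SE.tp (nat_lit 0)))) (by decide +kernel)

theorem k7nc33 (b : Cx τ s (genW (sv s) [[nat_lit 0], [nat_lit 2], [nat_lit 4], [nat_lit 6], [nat_lit 8], [nat_lit 10], [nat_lit 12], [nat_lit 14]]) k7d5) (h0 : CU (genW (sv s) [[nat_lit 0], [nat_lit 2], [nat_lit 4], [nat_lit 6], [nat_lit 8], [nat_lit 10], [nat_lit 12], [nat_lit 14]]) s [] 4585351680) : NC (genW (sv s) [[nat_lit 0], [nat_lit 2], [nat_lit 4], [nat_lit 6], [nat_lit 8], [nat_lit 10], [nat_lit 12], [nat_lit 14]]) s [[nat_lit 32, nat_lit 29, nat_lit 30, nat_lit 27, nat_lit 25, nat_lit 23, nat_lit 57]] [[nat_lit 34, nat_lit 5, nat_lit 23, nat_lit 39, nat_lit 18, nat_lit 11]] :=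
  NC.br b le_rfl (b.c.genW_le_NS _) _ _ (nat_lit 0) [[nat_lit 52, nat_lit 46, nat_lit 29, nat_lit 26, nat_lit 10, nat_lit 8, nat_lit 10, nat_lit 37], [nat_lit 36, nat_lit 28, nat_lit 13, nat_lit 28, nat_lit 1, nat_lit 21, nat_lit 47, nat_lit 55], [nat_lit 43, nat_lit 27, nat_lit 19, nat_lit 4, nat_lit 22, nat_lit 6, nat_lit 26, nat_lit 35], [nat_lit 10, nat_lit 17, nat_lit 23, nat_lit 23, nat_lit 20, nat_lit 10, nat_lit 26, nat_lit 29, nat_lit 8], [nat_lit 15, nat_lit 37, nat_lit 11, nat_lit 7, nat_lit 31, nat_lit 22, nat_lit 22, nat_lit 17, nat_lit 27]] [nat_lit 0] SE.all [([nat_lit 0], [nat_lit 0, nat_lit 1, nat_lit 2, nat_lit 3, nat_lit 4, nat_lit 1, nat_lit 0, nat_lit 4, nat_lit 2, nat_lit 0]), ([nat_lit 12, nat_lit 4, nat_lit 13], [nat_lit 1, nat_lit 2, nat_lit 3, nat_lit 4, nat_lit 2, nat_lit 1, nat_lit 4, nat_lit 0, nat_lit 1]), ([nat_lit 6], [nat_lit 0, nat_lit 1, nat_lit 2, nat_lit 3, nat_lit 4, nat_lit 0, nat_lit 1, nat_lit 1]), ([nat_lit 26, nat_lit 12, nat_lit 27], [nat_lit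 1, nat_lit 2, nat_lit 3, nat_lit 1]), ([nat_lit 61, nat_lit 10, nat_lit 60], [nat_lit 0, nat_lit 1, nat_lit 2, nat_lit 4, nat_lit 0])] (NCs.cons (k7nc26 b h0) (NCs.cons (k7nc29 b h0) (NCs.cons (k7nc30 b h0) (NCs.cons (k7nc31 b h0) (NCs.cons (k7nc32 b h0) NCs.nil))))) (by decide +kernel)

theorem k7nc34 (b : Cx τ s (genW (sv s) [[nat_lit 0], [nat_lit 2], [nat_lit 4], [nat_lit 6], [nat_lit 8], [nat_lit 10], [nat_lit 12], [nat_lit 14]]) k7d5) (h0 : CU (genW (sv s) [[nat_lit 0], [nat_lit 2], [nat_lit 4], [nat_lit 6], [nat_lit 8], [nat_lit 10], [nat_lit 12], [nat_lit 14]]) s [] 4585351680) : NC (genW (sv s) [[nat_lit 0], [nat_lit 2], [nat_lit 4], [nat_lit 6], [nat_lit 8], [nat_lit 10], [nat_lit 12], [nat_lit 14]]) s [[nat_lit 0], [nat_lit 32, nat_lit 29, nat_lit 30, nat_lit 27, nat_lit 25, nat_lit 23, nat_lit 57]] [[nat_lit 0], [nat_lit 52, nat_lit 8, nat_lit 50, nat_lit 22, nat_lit 4, nat_lit 10, nat_lit 37]] :=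
  NC.pc b (b.c.genW_le_NS _) _ _ (SE.and (SE.fx [nat_lit 0]) (SE.pre [nat_lit 2] (SE.tp (nat_lit 0)))) (by decide +kernel)

theorem k7cu35 (b : Cx τ s (genW (sv s) [[nat_lit 0], [nat_lit 2], [nat_lit 4], [nat_lit 6], [nat_lit 8], [nat_lit 10], [nat_lit 12], [nat_lit 14]]) k7d5) (h0 : CU (genW (sv s) [[nat_lit 0], [nat_lit 2], [nat_lit 4], [nat_lit 6], [nat_lit 8], [nat_lit 10], [nat_lit 12], [nat_lit 14]]) s [] 4585351680) : CU (genW (sv s) [[nat_lit 0], [nat_lit 2], [nat_lit 4], [nat_lit 6], [nat_lit 8], [nat_lit 10], [nat_lit 12], [nat_lit 14]]) s [[nat_lit 12]] 13063680 :=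
  CU.down b le_rfl h0 (nat_lit 0) [[nat_lit 4], [nat_lit 6], [nat_lit 14], [nat_lit 16], [nat_lit 22], [nat_lit 24], [nat_lit 26], [nat_lit 28], [nat_lit 44], [nat_lit 54], [nat_lit 64]] [nat_lit 12] [nat_lit 0, nat_lit 2, nat_lit 3, nat_lit 4, nat_lit 5, nat_lit 7, nat_lit 8, nat_lit 9, nat_lit 6, nat_lit 10, nat_lit 1] (nat_lit 351) 13063680 (by decide +kernel)

theorem k7cu36 (b : Cx τ s (genW (sv s) [[nat_lit 0], [nat_lit 2], [nat_lit 4], [nat_lit 6], [nat_lit 8], [nat_lit 10], [nat_lit 12], [nat_lit 14]]) k7d5) (h0 : CU (genW (sv s) [[nat_lit 0], [nat_lit 2], [nat_lit 4], [nat_lit 6], [nat_lit 8], [nat_lit 10], [nat_lit 12], [nat_lit 14]]) s [] 4585351680) : CU (genW (sv s) [[nat_lit 0], [nat_lit 2], [nat_lit 4], [nat_lit 6], [nat_lit 8], [nat_lit 10], [nat_lit 12], [nat_lit 14]]) s [[nat_lit 8], [nat_lit 12]] 103680 :=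
  CU.down b le_rfl (k7cu35 b h0) (nat_lit 1) [[nat_lit 0], [nat_lit 2], [nat_lit 6], [nat_lit 8], [nat_lit 10], [nat_lit 7, nat_lit 57, nat_lit 6, nat_lit 32, nat_lit 28, nat_lit 37, nat_lit 14], [nat_lit 15, nat_lit 36, nat_lit 32, nat_lit 7, nat_lit 23, nat_lit 25, nat_lit 51, nat_lit 37]] [nat_lit 8] [nat_lit 2, nat_lit 4, nat_lit 3, nat_lit 6, nat_lit 0, nat_lit 2, nat_lit 1, nat_lit 3, nat_lit 4, nat_lit 0, nat_lit 5, nat_lit 3, nat_lit 1, nat_lit 0, nat_lit 1] (nat_lit 126) 103680 (by decide +kernel)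

theorem k7cu37 (b : Cx τ s (genW (sv s) [[nat_lit 0], [nat_lit 2], [nat_lit 4], [nat_lit 6], [nat_lit 8], [nat_lit 10], [nat_lit 12], [nat_lit 14]]) k7d5) (h0 : CU (genW (sv s) [[nat_lit 0], [nat_lit 2], [nat_lit 4], [nat_lit 6], [nat_lit 8], [nat_lit 10], [nat_lit 12], [nat_lit 14]]) s [] 4585351680) : CU (genW (sv s) [[nat_lit 0], [nat_lit 2], [nat_lit 4], [nat_lit 6], [nat_lit 8], [nat_lit 10], [nat_lit 12], [nat_lit 14]]) s [[nat_lit 20, nat_lit 44, nat_lit 0, nat_lit 45, nat_lit 21], [nat_lit 8], [nat_lit 12]] 1296 :=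
  CU.down b le_rfl (k7cu36 b h0) (nat_lit 3) [[nat_lit 0], [nat_lit 2], [nat_lit 8], [nat_lit 18, nat_lit 45, nat_lit 37, nat_lit 20, nat_lit 26, nat_lit 31, nat_lit 33, nat_lit 37]] [nat_lit 20, nat_lit 44, nat_lit 0, nat_lit 45, nat_lit 21] [nat_lit 0, nat_lit 1, nat_lit 2, nat_lit 0, nat_lit 3, nat_lit 1, nat_lit 0, nat_lit 3, nat_lit 1, nat_lit 0, nat_lit 1, nat_lit 3] (nat_lit 80) 1296 (by decide +kernel)

theorem k7cu38 (b : Cx τ s (genW (sv s) [[nat_lit 0], [nat_lit 2], [nat_lit 4], [nat_lit 6], [nat_lit 8], [nat_lit 10], [nat_lit 12], [nat_lit 14]]) k7d5) (h0 : CU (genW (sv s) [[nat_lit 0], [nat_lit 2], [nat_lit 4], [nat_lit 6], [nat_lit 8], [nat_lit 10], [nat_lit 12], [nat_lit 14]]) s [] 4585351680) : CU (genW (sv s) [[nat_lit 0], [nat_lit 2], [nat_lit 4], [nat_lit 6], [nat_lit 8], [nat_lit 10], [nat_lit 12], [nat_lit 14]]) s [[nat_lit 0], [nat_lit 20, nat_lit 44, nat_lit 0, nat_lit 45, nat_lit 21], [nat_lit 8], [nat_lit 12]] 48 :=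
  CU.down b le_rfl (k7cu37 b h0) (nat_lit 7) [[nat_lit 11, nat_lit 9, nat_lit 32, nat_lit 30, nat_lit 26], [nat_lit 44, nat_lit 44, nat_lit 24, nat_lit 30, nat_lit 33, nat_lit 37]] [nat_lit 0] [nat_lit 1, nat_lit 0, nat_lit 1, nat_lit 0, nat_lit 1, nat_lit 0, nat_lit 1, nat_lit 0, nat_lit 0, nat_lit 1] (nat_lit 27) 48 (by decide +kernel)

theorem k7cu39 (b : Cx τ s (genW (sv s) [[nat_lit 0], [nat_lit 2], [nat_lit 4], [nat_lit 6], [nat_lit 8], [nat_lit 10], [nat_lit 12], [nat_lit 14]]) k7d5) (h0 : CU (genW (sv s) [[nat_lit 0], [nat_lit 2], [nat_lit 4], [nat_lit 6], [nat_lit 8], [nat_lit 10], [nat_lit 12], [nat_lit 14]]) s [] 4585351680) : CU (genW (sv s) [[nat_lit 0], [nat_lit 2], [nat_lit 4], [nat_lit 6], [nat_lit 8], [nat_lit 10], [nat_lit 12], [nat_lit 14]]) s [[nat_lit 21, nat_lit 4, nat_lit 20], [nat_lit 0], [nat_lit 20, nat_lit 44, nat_lit 0, nat_lit 45, nat_lit 21], [nat_lit 8], [nat_lit 12]] 4 :=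
  CU.down b le_rfl (k7cu38 b h0) (nat_lit 15) [[nat_lit 12, nat_lit 31, nat_lit 8, nat_lit 35, nat_lit 14], [nat_lit 11, nat_lit 9, nat_lit 32, nat_lit 30, nat_lit 26], [nat_lit 30, nat_lit 20, nat_lit 4, nat_lit 26, nat_lit 29, nat_lit 8, nat_lit 36]] [nat_lit 21, nat_lit 4, nat_lit 20] [nat_lit 0, nat_lit 1, nat_lit 2, nat_lit 2, nat_lit 1] (nat_lit 12) 4 (by decide +kernel)

theorem k7cu40 (b : Cx τ s (genW (sv s) [[nat_lit 0], [nat_lit 2], [nat_lit 4], [nat_lit 6], [nat_lit 8], [nat_lit 10], [nat_lit 12], [nat_lit 14]]) k7d5) (h0 : CU (genW (sv s) [[nat_lit 0], [nat_lit 2], [nat_lit 4], [nat_lit 6], [nat_lit 8], [nat_lit 10], [nat_lit 12], [nat_lit 14]]) s [] 4585351680) : CU (genW (sv s) [[nat_lit 0], [nat_lit 2], [nat_lit 4], [nat_lit 6], [nat_lit 8], [nat_lit 10], [nat_lit 12], [nat_lit 14]]) s [[nat_lit 12], [nat_lit 8], [nat_lit 0], [nat_lit 32, nat_lit 29, nat_lit 30, nat_lit 27, nat_lit 25, nat_lit 23, nat_lit 57, nat_lit 12, nat_lit 56, nat_lit 22, nat_lit 24, nat_lit 26,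 nat_lit 31, nat_lit 28, nat_lit 33], [nat_lit 56, nat_lit 22, nat_lit 24, nat_lit 26, nat_lit 31, nat_lit 28, nat_lit 33, nat_lit 12, nat_lit 32, nat_lit 29, nat_lit 30, nat_lit 27, nat_lit 25, nat_lit 23, nat_lit 57]] 4 :=
  CU.mono b le_rfl (k7cu39 b h0) [[nat_lit 12], [nat_lit 8], [nat_lit 0], [nat_lit 32, nat_lit 29, nat_lit 30, nat_lit 27, nat_lit 25, nat_lit 23, nat_lit 57, nat_lit 12, nat_lit 56, nat_lit 22, nat_lit 24, nat_lit 26, nat_lit 31, nat_lit 28, nat_lit 33], [nat_lit 56, nat_lit 22, nat_lit 24, nat_lit 26, nat_lit 31, nat_lit 28, nat_lit 33, nat_lit 12, nat_lit 32, nat_lit 29, nat_lit 30, nat_lit 27, nat_lit 25, nat_lit 23, nat_lit 57]] [] [[nat_lit 8], [nat_lit 4], [nat_lit 6], [nat_lit 2], [nat_lit 0]] (by decide +kernel)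

theorem k7ge41 (b : Cx τ s (genW (sv s) [[nat_lit 0], [nat_lit 2], [nat_lit 4], [nat_lit 6], [nat_lit 8], [nat_lit 10], [nat_lit 12], [nat_lit 14]]) k7d5) (h0 : CU (genW (sv s) [[nat_lit 0], [nat_lit 2], [nat_lit 4], [nat_lit 6], [nat_lit 8], [nat_lit 10], [nat_lit 12], [nat_lit 14]]) s [] 4585351680) : GE s [[nat_lit 32, nat_lit 21, nat_lit 0, nat_lit 31, nat_lit 12, nat_lit 14], [nat_lit 32, nat_lit 21, nat_lit 0, nat_lit 8, nat_lit 6, nat_lit 31, nat_lit 35, nat_lit 36]] 4 :=
  GE.step b (GE.base []) _ [] (nat_lit 1) [nat_lit 0, nat_lit 1] (nat_lit 4) 4 (by decide +kernel)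

theorem k7ce42 (b : Cx τ s (genW (sv s) [[nat_lit 0], [nat_lit 2], [nat_lit 4], [nat_lit 6], [nat_lit 8], [nat_lit 10], [nat_lit 12], [nat_lit 14]]) k7d5) (h0 : CU (genW (sv s) [[nat_lit 0], [nat_lit 2], [nat_lit 4], [nat_lit 6], [nat_lit 8], [nat_lit 10], [nat_lit 12], [nat_lit 14]]) s [] 4585351680) : Cen (genW (sv s) [[nat_lit 0], [nat_lit 2], [nat_lit 4], [nat_lit 6], [nat_lit 8], [nat_lit 10], [nat_lit 12], [nat_lit 14]]) s [[nat_lit 12], [nat_lit 8], [nat_lit 0], [nat_lit 32, nat_lit 29, nat_lit 30, nat_lit 27, nat_lit 25, nat_lit 23, nat_lit 57, nat_lit 12, nat_lit 56, nat_lit 22, nat_lit 24, nat_lit 26, nat_lit 31, nat_lit 28, nat_lit 33], [nat_lit 56, nat_lit 22, nat_lit 24, nat_lit 26, nat_lit 31, nat_lit 28, nat_lit 33, nat_lit 12, nat_lit 32, nat_lit 29, nat_lit 30, nat_lit 27, nat_lit 25, nat_lit 23, nat_lit 57]] = genW (sv s) [[nat_lit 32, nat_lit 21, nat_lit 0, nat_lit 31, nat_lit 12, nat_lit 14], [nat_lit 32, nat_lit 21, nat_lit 0, nat_lit 8, nat_lit 6, nat_lit 31,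 nat_lit 35, nat_lit 36]] :=
  (CU.eq b le_rfl (k7cu40 b h0) (k7ge41 b h0) (nat_lit 31) (by decide +kernel)).1

theorem k7nc43 (b : Cx τ s (genW (sv s) [[nat_lit 0], [nat_lit 2], [nat_lit 4], [nat_lit 6], [nat_lit 8], [nat_lit 10], [nat_lit 12], [nat_lit 14]]) k7d5) (h0 : CU (genW (sv s) [[nat_lit 0], [nat_lit 2], [nat_lit 4], [nat_lit 6], [nat_lit 8], [nat_lit 10], [nat_lit 12], [nat_lit 14]]) s [] 4585351680) : NC (genW (sv s) [[nat_lit 0], [nat_lit 2], [nat_lit 4], [nat_lit 6], [nat_lit 8], [nat_lit 10], [nat_lit 12], [nat_lit 14]]) s [[nat_lit 32, nat_lit 29, nat_lit 30, nat_lit 27, nat_lit 25, nat_lit 23, nat_lit 57, nat_lit 8, nat_lit 56, nat_lit 22, nat_lit 24, nat_lit 26, nat_lit 31, nat_lit 28, nat_lit 33], [nat_lit 12], [nat_lit 8], [nat_lit 0], [nat_lit 32, nat_lit 29, nat_lit 30, nat_lit 27, nat_lit 25, nat_lit 23, nat_lit 57, nat_lit 12, nat_lit 56, nat_lit 22, nat_lit 24, nat_lit 26, nat_lit 31, nat_lit 28, nat_lit 33], [nat_lit 56, nat_lit 22, nat_lit 24, nat_lit 26, nat_lit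 31, nat_lit 28, nat_lit 33, nat_lit 12, nat_lit 32, nat_lit 29, nat_lit 30, nat_lit 27, nat_lit 25, nat_lit 23, nat_lit 57]] [[nat_lit 52, nat_lit 8, nat_lit 50, nat_lit 22, nat_lit 4, nat_lit 10, nat_lit 37, nat_lit 45, nat_lit 8, nat_lit 44, nat_lit 36, nat_lit 11, nat_lit 5, nat_lit 23, nat_lit 51, nat_lit 9, nat_lit 53], [nat_lit 2], [nat_lit 45, nat_lit 8, nat_lit 44], [nat_lit 10], [nat_lit 52, nat_lit 8, nat_lit 50, nat_lit 22, nat_lit 4, nat_lit 10, nat_lit 37, nat_lit 2, nat_lit 36, nat_lit 11, nat_lit 5, nat_lit 23, nat_lit 51, nat_lit 9, nat_lit 53], [nat_lit 36, nat_lit 11, nat_lit 5, nat_lit 23, nat_lit 51, nat_lit 9, nat_lit 53, nat_lit 2, nat_lit 52, nat_lit 8, nat_lit 50, nat_lit 22, nat_lit 4, nat_lit 10, nat_lit 37]] :=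
  NC.orb' b le_rfl _ _ [nat_lit 45, nat_lit 46, nat_lit 30, nat_lit 24, nat_lit 4, nat_lit 32, nat_lit 12, nat_lit 6, nat_lit 29, nat_lit 10] [[nat_lit 2], [nat_lit 4], [nat_lit 6], [nat_lit 8], [nat_lit 10]] (nat_lit 0) [nat_lit 1] (k7ce42 b h0) (by decide +kernel)

theorem k7nc44 (b : Cx τ s (genW (sv s) [[nat_lit 0], [nat_lit 2], [nat_lit 4], [nat_lit 6], [nat_lit 8], [nat_lit 10], [nat_lit 12], [nat_lit 14]]) k7d5) (h0 : CU (genW (sv s) [[nat_lit 0], [nat_lit 2], [nat_lit 4], [nat_lit 6], [nat_lit 8], [nat_lit 10], [nat_lit 12], [nat_lit 14]]) s [] 4585351680) : NC (genW (sv s) [[nat_lit 0], [nat_lit 2], [nat_lit 4], [nat_lit 6], [nat_lit 8], [nat_lit 10], [nat_lit 12], [nat_lit 14]]) s [[nat_lit 12], [nat_lit 8], [nat_lit 0], [nat_lit 32, nat_lit 29, nat_lit 30, nat_lit 27, nat_lit 25, nat_lit 23, nat_lit 57]] [[nat_lit 2], [nat_lit 45, nat_lit 8, nat_lit 44], [nat_lit 10], [nat_lit 52, nat_lit 8, nat_lit 50, nat_lit 22, nat_lit 4, nat_lit 10, nat_lit 37]] :=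
  NC.mono b le_rfl (k7nc43 b h0) _ _ [] [] [[nat_lit 6, nat_lit 2, nat_lit 7], [nat_lit 0], [nat_lit 2], [nat_lit 4], [nat_lit 6, nat_lit 0, nat_lit 7], [nat_lit 7, nat_lit 0, nat_lit 6]] (by decide +kernel)

theorem k7nc45 (b : Cx τ s (genW (sv s) [[nat_lit 0], [nat_lit 2], [nat_lit 4], [nat_lit 6], [nat_lit 8], [nat_lit 10], [nat_lit 12], [nat_lit 14]]) k7d5) (h0 : CU (genW (sv s) [[nat_lit 0], [nat_lit 2], [nat_lit 4], [nat_lit 6], [nat_lit 8], [nat_lit 10], [nat_lit 12], [nat_lit 14]]) s [] 4585351680) : NC (genW (sv s) [[nat_lit 0], [nat_lit 2], [nat_lit 4], [nat_lit 6], [nat_lit 8], [nat_lit 10], [nat_lit 12], [nat_lit 14]]) s [[nat_lit 8], [nat_lit 0], [nat_lit 32, nat_lit 29, nat_lit 30, nat_lit 27, nat_lit 25, nat_lit 23, nat_lit 57]] [[nat_lit 45, nat_lit 8, nat_lit 44], [nat_lit 10], [nat_lit 52, nat_lit 8, nat_lit 50, nat_lit 22, nat_lit 4, nat_lit 10, nat_lit 37]] :=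
  NC.br b le_rfl (b.c.genW_le_NS _) _ _ (nat_lit 3) [[nat_lit 9, nat_lit 56, nat_lit 0, nat_lit 33, nat_lit 25, nat_lit 12, nat_lit 33, nat_lit 36], [nat_lit 27, nat_lit 61, nat_lit 44, nat_lit 4, nat_lit 27, nat_lit 12, nat_lit 29, nat_lit 33, nat_lit 37]] [nat_lit 12] (SE.diff (SE.diff (SE.and (SE.fx [nat_lit 0, nat_lit 2]) (SE.fx [nat_lit 4, nat_lit 2, nat_lit 5])) (SE.fx [nat_lit 5, nat_lit 2, nat_lit 4])) (SE.fx [nat_lit 4, nat_lit 0, nat_lit 5])) [([nat_lit 2], [nat_lit 0, nat_lit 1, nat_lit 0])] (NCs.cons (k7nc44 b h0) NCs.nil) (by decide +kernel)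

theorem k7nc46 (b : Cx τ s (genW (sv s) [[nat_lit 0], [nat_lit 2], [nat_lit 4], [nat_lit 6], [nat_lit 8], [nat_lit 10], [nat_lit 12], [nat_lit 14]]) k7d5) (h0 : CU (genW (sv s) [[nat_lit 0], [nat_lit 2], [nat_lit 4], [nat_lit 6], [nat_lit 8], [nat_lit 10], [nat_lit 12], [nat_lit 14]]) s [] 4585351680) : NC (genW (sv s) [[nat_lit 0], [nat_lit 2], [nat_lit 4], [nat_lit 6], [nat_lit 8], [nat_lit 10], [nat_lit 12], [nat_lit 14]]) s [[nat_lit 0], [nat_lit 32, nat_lit 29, nat_lit 30, nat_lit 27, nat_lit 25, nat_lit 23, nat_lit 57]] [[nat_lit 10], [nat_lit 52, nat_lit 8, nat_lit 50, nat_lit 22, nat_lit 4, nat_lit 10, nat_lit 37]] :=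
  NC.br b le_rfl (b.c.genW_le_NS _) _ _ (nat_lit 1) [[nat_lit 52, nat_lit 23, nat_lit 4, nat_lit 32, nat_lit 25, nat_lit 6, nat_lit 35], [nat_lit 53, nat_lit 61, nat_lit 29, nat_lit 20, nat_lit 31, nat_lit 24, nat_lit 8], [nat_lit 17, nat_lit 55, nat_lit 0, nat_lit 24, nat_lit 31, nat_lit 8, nat_lit 36, nat_lit 14]] [nat_lit 8] (SE.diff (SE.diff (SE.diff (SE.and (SE.and (SE.fx [nat_lit 0]) (SE.fx [nat_lit 2, nat_lit 0, nat_lit 3])) (SE.fx [nat_lit 3, nat_lit 0, nat_lit 2])) (SE.tp (nat_lit 0))) (SE.pre [nat_lit 2] (SE.tp (nat_lit 0)))) (SE.pre [nat_lit 3] (SE.tp (nat_lit 0)))) [([nat_lit 45, nat_lit 8, nat_lit 44], [nat_lit 0, nat_lit 1, nat_lit 2, nat_lit 2])] (NCs.cons (k7nc45 b h0) NCs.nil) (by decide +kernel)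

theorem k7nc47 (b : Cx τ s (genW (sv s) [[nat_lit 0], [nat_lit 2], [nat_lit 4], [nat_lit 6], [nat_lit 8], [nat_lit 10], [nat_lit 12], [nat_lit 14]]) k7d5) (h0 : CU (genW (sv s) [[nat_lit 0], [nat_lit 2], [nat_lit 4], [nat_lit 6], [nat_lit 8], [nat_lit 10], [nat_lit 12], [nat_lit 14]]) s [] 4585351680) : NC (genW (sv s) [[nat_lit 0], [nat_lit 2], [nat_lit 4], [nat_lit 6], [nat_lit 8], [nat_lit 10], [nat_lit 12], [nat_lit 14]]) s [[nat_lit 32, nat_lit 29, nat_lit 30, nat_lit 27, nat_lit 25, nat_lit 23, nat_lit 57]] [[nat_lit 52, nat_lit 8, nat_lit 50, nat_lit 22, nat_lit 4, nat_lit 10, nat_lit 37]] :=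
  NC.br b le_rfl (b.c.genW_le_NS _) _ _ (nat_lit 0) [[nat_lit 15, nat_lit 34, nat_lit 13, nat_lit 31, nat_lit 23, nat_lit 23], [nat_lit 15, nat_lit 30, nat_lit 7, nat_lit 13, nat_lit 35, nat_lit 23, nat_lit 5, nat_lit 49]] [nat_lit 0] SE.all [([nat_lit 0], [nat_lit 1, nat_lit 0, nat_lit 1, nat_lit 0, nat_lit 1, nat_lit 0, nat_lit 1, nat_lit 0, nat_lit 0, nat_lit 1, nat_lit 0, nat_lit 1, nat_lit 0, nat_lit 0]), ([nat_lit 10], [nat_lit 0, nat_lit 1, nat_lit 0, nat_lit 1, nat_lit 0, nat_lit 1, nat_lit 0, nat_lit 1, nat_lit 0, nat_lit 1, nat_lit 0, nat_lit 1, nat_lit 0, nat_lit 1, nat_lit 0])] (NCs.cons (k7nc34 b h0) (NCs.cons (k7nc46 b h0) NCs.nil)) (by decide +kernel)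

theorem k7nc48 (b : Cx τ s (genW (sv s) [[nat_lit 0], [nat_lit 2], [nat_lit 4], [nat_lit 6], [nat_lit 8], [nat_lit 10], [nat_lit 12], [nat_lit 14]]) k7d5) (h0 : CU (genW (sv s) [[nat_lit 0], [nat_lit 2], [nat_lit 4], [nat_lit 6], [nat_lit 8], [nat_lit 10], [nat_lit 12], [nat_lit 14]]) s [] 4585351680) : NC (genW (sv s) [[nat_lit 0], [nat_lit 2], [nat_lit 4], [nat_lit 6], [nat_lit 8], [nat_lit 10], [nat_lit 12], [nat_lit 14]]) s [[nat_lit 0], [nat_lit 32, nat_lit 29, nat_lit 30, nat_lit 27, nat_lit 25, nat_lit 23, nat_lit 57]] [[nat_lit 0], [nat_lit 36, nat_lit 11, nat_lit 5, nat_lit 23, nat_lit 51, nat_lit 9, nat_lit 53]] :=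
  NC.pc b (b.c.genW_le_NS _) _ _ (SE.and (SE.fx [nat_lit 0]) (SE.pre [nat_lit 2] (SE.tp (nat_lit 0)))) (by decide +kernel)

theorem k7ge49 (b : Cx τ s (genW (sv s) [[nat_lit 0], [nat_lit 2], [nat_lit 4], [nat_lit 6], [nat_lit 8], [nat_lit 10], [nat_lit 12], [nat_lit 14]]) k7d5) (h0 : CU (genW (sv s) [[nat_lit 0], [nat_lit 2], [nat_lit 4], [nat_lit 6], [nat_lit 8], [nat_lit 10], [nat_lit 12], [nat_lit 14]]) s [] 4585351680) : GE s [[nat_lit 32, nat_lit 21, nat_lit 0, nat_lit 8, nat_lit 6, nat_lit 31, nat_lit 35, nat_lit 36], [nat_lit 12]] 4 :=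
  GE.step b (GE.base []) _ [] (nat_lit 1) [nat_lit 1, nat_lit 0] (nat_lit 4) 4 (by decide +kernel)

theorem k7ce50 (b : Cx τ s (genW (sv s) [[nat_lit 0], [nat_lit 2], [nat_lit 4], [nat_lit 6], [nat_lit 8], [nat_lit 10], [nat_lit 12], [nat_lit 14]]) k7d5) (h0 : CU (genW (sv s) [[nat_lit 0], [nat_lit 2], [nat_lit 4], [nat_lit 6], [nat_lit 8], [nat_lit 10], [nat_lit 12], [nat_lit 14]]) s [] 4585351680) : Cen (genW (sv s) [[nat_lit 0], [nat_lit 2], [nat_lit 4], [nat_lit 6], [nat_lit 8], [nat_lit 10], [nat_lit 12], [nat_lit 14]]) s [[nat_lit 12], [nat_lit 8], [nat_lit 0], [nat_lit 32, nat_lit 29, nat_lit 30, nat_lit 27, nat_lit 25, nat_lit 23, nat_lit 57, nat_lit 12, nat_lit 56, nat_lit 22, nat_lit 24, nat_lit 26, nat_lit 31, nat_lit 28, nat_lit 33], [nat_lit 56, nat_lit 22, nat_lit 24, nat_lit 26, nat_lit 31, nat_lit 28, nat_lit 33, nat_lit 12, nat_lit 32, nat_lit 29, nat_lit 30, nat_lit 27, nat_lit 25, nat_lit 23, nat_lit 57]] = genW (sv s) [[nat_lit 32, nat_lit 21, nat_lit 0, nat_lit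 8, nat_lit 6, nat_lit 31, nat_lit 35, nat_lit 36], [nat_lit 12]] :=
  (CU.eq b le_rfl (k7cu40 b h0) (k7ge49 b h0) (nat_lit 31) (by decide +kernel)).1

theorem k7nc51 (b : Cx τ s (genW (sv s) [[nat_lit 0], [nat_lit 2], [nat_lit 4], [nat_lit 6], [nat_lit 8], [nat_lit 10], [nat_lit 12], [nat_lit 14]]) k7d5) (h0 : CU (genW (sv s) [[nat_lit 0], [nat_lit 2], [nat_lit 4], [nat_lit 6], [nat_lit 8], [nat_lit 10], [nat_lit 12], [nat_lit 14]]) s [] 4585351680) : NC (genW (sv s) [[nat_lit 0], [nat_lit 2], [nat_lit 4], [nat_lit 6], [nat_lit 8], [nat_lit 10], [nat_lit 12], [nat_lit 14]]) s [[nat_lit 32, nat_lit 29, nat_lit 30, nat_lit 27, nat_lit 25, nat_lit 23, nat_lit 57, nat_lit 8, nat_lit 56, nat_lit 22, nat_lit 24, nat_lit 26, nat_lit 31, nat_lit 28, nat_lit 33], [nat_lit 12], [nat_lit 8], [nat_lit 0], [nat_lit 32, nat_lit 29, nat_lit 30, nat_lit 27, nat_lit 25, nat_lit 23, nat_lit 57, nat_lit 12, nat_lit 56, nat_lit 22, nat_lit 24, nat_lit 26, nat_lit 31, nat_lit 28, nat_lit 33], [nat_lit 56,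 nat_lit 22, nat_lit 24, nat_lit 26, nat_lit 31, nat_lit 28, nat_lit 33, nat_lit 12, nat_lit 32, nat_lit 29, nat_lit 30, nat_lit 27, nat_lit 25, nat_lit 23, nat_lit 57]] [[nat_lit 36, nat_lit 11, nat_lit 5, nat_lit 23, nat_lit 51, nat_lit 9, nat_lit 53, nat_lit 50, nat_lit 8, nat_lit 51, nat_lit 52, nat_lit 8, nat_lit 50, nat_lit 22, nat_lit 4, nat_lit 10, nat_lit 37], [nat_lit 47, nat_lit 6, nat_lit 46], [nat_lit 50, nat_lit 8, nat_lit 51], [nat_lit 12], [nat_lit 36, nat_lit 11, nat_lit 5, nat_lit 23, nat_lit 51, nat_lit 9, nat_lit 53, nat_lit 47, nat_lit 6, nat_lit 46, nat_lit 52, nat_lit 8, nat_lit 50, nat_lit 22, nat_lit 4, nat_lit 10, nat_lit 37], [nat_lit 52, nat_lit 8, nat_lit 50, nat_lit 22, nat_lit 4, nat_lit 10, nat_lit 37, nat_lit 47, nat_lit 6, nat_lit 46, nat_lit 36, nat_lit 11, nat_lit 5, nat_lit 23, nat_lit 51, nat_lit 9, nat_lit 53]] :=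
  NC.orb' b le_rfl _ _ [nat_lit 32, nat_lit 28, nat_lit 11, nat_lit 25, nat_lit 1, nat_lit 23, nat_lit 26, nat_lit 56, nat_lit 21] [[nat_lit 2], [nat_lit 4], [nat_lit 6], [nat_lit 8], [nat_lit 10]] (nat_lit 0) [nat_lit 1] (k7ce50 b h0) (by decide +kernel)

theorem k7nc52 (b : Cx τ s (genW (sv s) [[nat_lit 0], [nat_lit 2], [nat_lit 4], [nat_lit 6], [nat_lit 8], [nat_lit 10], [nat_lit 12], [nat_lit 14]]) k7d5) (h0 : CU (genW (sv s) [[nat_lit 0], [nat_lit 2], [nat_lit 4], [nat_lit 6], [nat_lit 8], [nat_lit 10], [nat_lit 12], [nat_lit 14]]) s [] 4585351680) : NC (genW (sv s) [[nat_lit 0], [nat_lit 2], [nat_lit 4], [nat_lit 6], [nat_lit 8], [nat_lit 10], [nat_lit 12], [nat_lit 14]]) s [[nat_lit 12], [nat_lit 8], [nat_lit 0], [nat_lit 32, nat_lit 29, nat_lit 30, nat_lit 27, nat_lit 25, nat_lit 23, nat_lit 57]] [[nat_lit 47, nat_lit 6, nat_lit 46], [nat_lit 50, nat_lit 8, nat_lit 51], [nat_lit 12], [nat_lit 36, nat_lit 11, nat_lit 5, nat_lit 23, nat_lit 51, nat_lit 9, nat_lit 53]] :=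
  NC.mono b le_rfl (k7nc51 b h0) _ _ [] [] [[nat_lit 6, nat_lit 2, nat_lit 7], [nat_lit 0], [nat_lit 2], [nat_lit 4], [nat_lit 6, nat_lit 0, nat_lit 7], [nat_lit 7, nat_lit 0, nat_lit 6]] (by decide +kernel)

theorem k7nc53 (b : Cx τ s (genW (sv s) [[nat_lit 0], [nat_lit 2], [nat_lit 4], [nat_lit 6], [nat_lit 8], [nat_lit 10], [nat_lit 12], [nat_lit 14]]) k7d5) (h0 : CU (genW (sv s) [[nat_lit 0], [nat_lit 2], [nat_lit 4], [nat_lit 6], [nat_lit 8], [nat_lit 10], [nat_lit 12], [nat_lit 14]]) s [] 4585351680) : NC (genW (sv s) [[nat_lit 0], [nat_lit 2], [nat_lit 4], [nat_lit 6], [nat_lit 8], [nat_lit 10], [nat_lit 12], [nat_lit 14]]) s [[nat_lit 8], [nat_lit 0], [nat_lit 32, nat_lit 29, nat_lit 30, nat_lit 27, nat_lit 25, nat_lit 23, nat_lit 57]] [[nat_lit 50, nat_lit 8, nat_lit 51], [nat_lit 12], [nat_lit 36, nat_lit 11, nat_lit 5, nat_lit 23, nat_lit 51, nat_lit 9, nat_lit 53]] :=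
  NC.br b le_rfl (b.c.genW_le_NS _) _ _ (nat_lit 3) [[nat_lit 36, nat_lit 34, nat_lit 28, nat_lit 28, nat_lit 27, nat_lit 5, nat_lit 21, nat_lit 33, nat_lit 56], [nat_lit 50, nat_lit 23, nat_lit 50, nat_lit 20, nat_lit 20, nat_lit 6, nat_lit 24, nat_lit 29, nat_lit 33]] [nat_lit 12] (SE.diff (SE.diff (SE.and (SE.fx [nat_lit 0, nat_lit 2]) (SE.fx [nat_lit 4, nat_lit 2, nat_lit 5])) (SE.fx [nat_lit 5, nat_lit 2, nat_lit 4])) (SE.fx [nat_lit 4, nat_lit 0, nat_lit 5])) [([nat_lit 47, nat_lit 6, nat_lit 46], [nat_lit 0, nat_lit 1, nat_lit 0])] (NCs.cons (k7nc52 b h0) NCs.nil) (by decide +kernel)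

theorem k7nc54 (b : Cx τ s (genW (sv s) [[nat_lit 0], [nat_lit 2], [nat_lit 4], [nat_lit 6], [nat_lit 8], [nat_lit 10], [nat_lit 12], [nat_lit 14]]) k7d5) (h0 : CU (genW (sv s) [[nat_lit 0], [nat_lit 2], [nat_lit 4], [nat_lit 6], [nat_lit 8], [nat_lit 10], [nat_lit 12], [nat_lit 14]]) s [] 4585351680) : NC (genW (sv s) [[nat_lit 0], [nat_lit 2], [nat_lit 4], [nat_lit 6], [nat_lit 8], [nat_lit 10], [nat_lit 12], [nat_lit 14]]) s [[nat_lit 0], [nat_lit 32, nat_lit 29, nat_lit 30, nat_lit 27, nat_lit 25, nat_lit 23, nat_lit 57]] [[nat_lit 12], [nat_lit 36, nat_lit 11, nat_lit 5, nat_lit 23, nat_lit 51, nat_lit 9, nat_lit 53]] :=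
  NC.br b le_rfl (b.c.genW_le_NS _) _ _ (nat_lit 1) [[nat_lit 52, nat_lit 44, nat_lit 21, nat_lit 0, nat_lit 29, nat_lit 6, nat_lit 8, nat_lit 33], [nat_lit 11, nat_lit 4, nat_lit 59, nat_lit 23, nat_lit 26, nat_lit 28, nat_lit 10, nat_lit 8]] [nat_lit 8] (SE.diff (SE.diff (SE.diff (SE.and (SE.and (SE.fx [nat_lit 0]) (SE.fx [nat_lit 2, nat_lit 0, nat_lit 3])) (SE.fx [nat_lit 3, nat_lit 0, nat_lit 2])) (SE.tp (nat_lit 0))) (SE.pre [nat_lit 2] (SE.tp (nat_lit 0)))) (SE.pre [nat_lit 3] (SE.tp (nat_lit 0)))) [([nat_lit 50, nat_lit 8, nat_lit 51], [nat_lit 0, nat_lit 1, nat_lit 0, nat_lit 0, nat_lit 1])] (NCs.cons (k7nc53 b h0) NCs.nil) (by decide +kernel)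

theorem k7nc55 (b : Cx τ s (genW (sv s) [[nat_lit 0], [nat_lit 2], [nat_lit 4], [nat_lit 6], [nat_lit 8], [nat_lit 10], [nat_lit 12], [nat_lit 14]]) k7d5) (h0 : CU (genW (sv s) [[nat_lit 0], [nat_lit 2], [nat_lit 4], [nat_lit 6], [nat_lit 8], [nat_lit 10], [nat_lit 12], [nat_lit 14]]) s [] 4585351680) : NC (genW (sv s) [[nat_lit 0], [nat_lit 2], [nat_lit 4], [nat_lit 6], [nat_lit 8], [nat_lit 10], [nat_lit 12], [nat_lit 14]]) s [[nat_lit 32, nat_lit 29, nat_lit 30, nat_lit 27, nat_lit 25, nat_lit 23, nat_lit 57]] [[nat_lit 36, nat_lit 11, nat_lit 5, nat_lit 23, nat_lit 51, nat_lit 9, nat_lit 53]] :=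
  NC.br b le_rfl (b.c.genW_le_NS _) _ _ (nat_lit 0) [[nat_lit 9, nat_lit 31, nat_lit 1, nat_lit 5, nat_lit 25, nat_lit 45, nat_lit 54], [nat_lit 4, nat_lit 59, nat_lit 4, nat_lit 23, nat_lit 4, nat_lit 26, nat_lit 35, nat_lit 37]] [nat_lit 0] SE.all [([nat_lit 0], [nat_lit 0, nat_lit 1, nat_lit 0, nat_lit 1, nat_lit 0, nat_lit 1, nat_lit 0, nat_lit 1, nat_lit 0, nat_lit 1, nat_lit 0, nat_lit 0]), ([nat_lit 12], [nat_lit 0, nat_lit 1, nat_lit 0, nat_lit 1, nat_lit 0, nat_lit 1, nat_lit 0, nat_lit 1, nat_lit 0, nat_lit 1, nat_lit 0, nat_lit 1, nat_lit 0])] (NCs.cons (k7nc48 b h0) (NCs.cons (k7nc54 b h0) NCs.nil)) (by decide +kernel)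

theorem k7nc56 (b : Cx τ s (genW (sv s) [[nat_lit 0], [nat_lit 2], [nat_lit 4], [nat_lit 6], [nat_lit 8], [nat_lit 10], [nat_lit 12], [nat_lit 14]]) k7d5) (h0 : CU (genW (sv s) [[nat_lit 0], [nat_lit 2], [nat_lit 4], [nat_lit 6], [nat_lit 8], [nat_lit 10], [nat_lit 12], [nat_lit 14]]) s [] 4585351680) : NC (genW (sv s) [[nat_lit 0], [nat_lit 2], [nat_lit 4], [nat_lit 6], [nat_lit 8], [nat_lit 10], [nat_lit 12], [nat_lit 14]]) s [[nat_lit 0], [nat_lit 10, nat_lit 19, nat_lit 38, nat_lit 22, nat_lit 4, nat_lit 35]] [[nat_lit 0], [nat_lit 52, nat_lit 8, nat_lit 50, nat_lit 22, nat_lit 4, nat_lit 10, nat_lit 37]] :=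
  NC.pc b (b.c.genW_le_NS _) _ _ (SE.and (SE.and (SE.and (SE.diff SE.all (SE.tp (nat_lit 0))) (SE.fx [nat_lit 0])) (SE.fx [nat_lit 2, nat_lit 0, nat_lit 3])) (SE.fx [nat_lit 3, nat_lit 0, nat_lit 2])) (by decide +kernel)

theorem k7nc57 (b : Cx τ s (genW (sv s) [[nat_lit 0], [nat_lit 2], [nat_lit 4], [nat_lit 6], [nat_lit 8], [nat_lit 10], [nat_lit 12], [nat_lit 14]]) k7d5) (h0 : CU (genW (sv s) [[nat_lit 0], [nat_lit 2], [nat_lit 4], [nat_lit 6], [nat_lit 8], [nat_lit 10], [nat_lit 12], [nat_lit 14]]) s [] 4585351680) : NC (genW (sv s) [[nat_lit 0], [nat_lit 2], [nat_lit 4], [nat_lit 6], [nat_lit 8], [nat_lit 10], [nat_lit 12], [nat_lit 14]]) s [[nat_lit 0], [nat_lit 10, nat_lit 19, nat_lit 38, nat_lit 22, nat_lit 4, nat_lit 35]] [[nat_lit 10], [nat_lit 52, nat_lit 8, nat_lit 50, nat_lit 22, nat_lit 4, nat_lit 10, nat_lit 37]] :=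
  NC.pc b (b.c.genW_le_NS _) _ _ (SE.and (SE.fx [nat_lit 0]) (SE.pre [nat_lit 2] (SE.tp (nat_lit 0)))) (by decide +kernel)

theorem k7nc58 (b : Cx τ s (genW (sv s) [[nat_lit 0], [nat_lit 2], [nat_lit 4], [nat_lit 6], [nat_lit 8], [nat_lit 10], [nat_lit 12], [nat_lit 14]]) k7d5) (h0 : CU (genW (sv s) [[nat_lit 0], [nat_lit 2], [nat_lit 4], [nat_lit 6], [nat_lit 8], [nat_lit 10], [nat_lit 12], [nat_lit 14]]) s [] 4585351680) : NC (genW (sv s) [[nat_lit 0], [nat_lit 2], [nat_lit 4], [nat_lit 6], [nat_lit 8], [nat_lit 10], [nat_lit 12], [nat_lit 14]]) s [[nat_lit 10, nat_lit 19, nat_lit 38, nat_lit 22, nat_lit 4, nat_lit 35]] [[nat_lit 52, nat_lit 8, nat_lit 50, nat_lit 22, nat_lit 4, nat_lit 10, nat_lit 37]] :=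
  NC.br b le_rfl (b.c.genW_le_NS _) _ _ (nat_lit 0) [[nat_lit 6, nat_lit 14, nat_lit 20, nat_lit 0, nat_lit 25, nat_lit 31, nat_lit 10], [nat_lit 0, nat_lit 44, nat_lit 18, nat_lit 33, nat_lit 12, nat_lit 6, nat_lit 30, nat_lit 28]] [nat_lit 0] SE.all [([nat_lit 0], [nat_lit 1, nat_lit 0, nat_lit 1, nat_lit 0, nat_lit 0, nat_lit 1, nat_lit 0, nat_lit 1, nat_lit 0, nat_lit 1, nat_lit 0, nat_lit 1, nat_lit 0, nat_lit 0, nat_lit 0]), ([nat_lit 10], [nat_lit 0, nat_lit 1, nat_lit 0, nat_lit 1, nat_lit 0, nat_lit 1, nat_lit 0, nat_lit 1, nat_lit 0, nat_lit 1, nat_lit 0, nat_lit 1, nat_lit 0, nat_lit 1, nat_lit 0])] (NCs.cons (k7nc56 b h0) (NCs.cons (k7nc57 b h0) NCs.nil)) (by decide +kernel)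

theorem k7nc59 (b : Cx τ s (genW (sv s) [[nat_lit 0], [nat_lit 2], [nat_lit 4], [nat_lit 6], [nat_lit 8], [nat_lit 10], [nat_lit 12], [nat_lit 14]]) k7d5) (h0 : CU (genW (sv s) [[nat_lit 0], [nat_lit 2], [nat_lit 4], [nat_lit 6], [nat_lit 8], [nat_lit 10], [nat_lit 12], [nat_lit 14]]) s [] 4585351680) : NC (genW (sv s) [[nat_lit 0], [nat_lit 2], [nat_lit 4], [nat_lit 6], [nat_lit 8], [nat_lit 10], [nat_lit 12], [nat_lit 14]]) s [[nat_lit 0], [nat_lit 10, nat_lit 19, nat_lit 38, nat_lit 22, nat_lit 4, nat_lit 35]] [[nat_lit 0], [nat_lit 36, nat_lit 11, nat_lit 5, nat_lit 23, nat_lit 51, nat_lit 9, nat_lit 53]] :=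
  NC.pc b (b.c.genW_le_NS _) _ _ (SE.and (SE.and (SE.and (SE.diff SE.all (SE.tp (nat_lit 0))) (SE.fx [nat_lit 0])) (SE.fx [nat_lit 2, nat_lit 0, nat_lit 3])) (SE.fx [nat_lit 3, nat_lit 0, nat_lit 2])) (by decide +kernel)

theorem k7nc60 (b : Cx τ s (genW (sv s) [[nat_lit 0], [nat_lit 2], [nat_lit 4], [nat_lit 6], [nat_lit 8], [nat_lit 10], [nat_lit 12], [nat_lit 14]]) k7d5) (h0 : CU (genW (sv s) [[nat_lit 0], [nat_lit 2], [nat_lit 4], [nat_lit 6], [nat_lit 8], [nat_lit 10], [nat_lit 12], [nat_lit 14]]) s [] 4585351680) : NC (genW (sv s) [[nat_lit 0], [nat_lit 2], [nat_lit 4], [nat_lit 6], [nat_lit 8], [nat_lit 10], [nat_lit 12], [nat_lit 14]]) s [[nat_lit 0], [nat_lit 10, nat_lit 19, nat_lit 38, nat_lit 22, nat_lit 4, nat_lit 35]] [[nat_lit 6], [nat_lit 36, nat_lit 11, nat_lit 5, nat_lit 23, nat_lit 51, nat_lit 9, nat_lit 53]] :=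
  NC.pc b (b.c.genW_le_NS _) _ _ (SE.and (SE.fx [nat_lit 0]) (SE.pre [nat_lit 2] (SE.tp (nat_lit 0)))) (by decide +kernel)

theorem k7nc61 (b : Cx τ s (genW (sv s) [[nat_lit 0], [nat_lit 2], [nat_lit 4], [nat_lit 6], [nat_lit 8], [nat_lit 10], [nat_lit 12], [nat_lit 14]]) k7d5) (h0 : CU (genW (sv s) [[nat_lit 0], [nat_lit 2], [nat_lit 4], [nat_lit 6], [nat_lit 8], [nat_lit 10], [nat_lit 12], [nat_lit 14]]) s [] 4585351680) : NC (genW (sv s) [[nat_lit 0], [nat_lit 2], [nat_lit 4], [nat_lit 6], [nat_lit 8], [nat_lit 10], [nat_lit 12], [nat_lit 14]]) s [[nat_lit 10, nat_lit 19, nat_lit 38, nat_lit 22, nat_lit 4, nat_lit 35]] [[nat_lit 36, nat_lit 11, nat_lit 5, nat_lit 23, nat_lit 51, nat_lit 9, nat_lit 53]] :=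
  NC.br b le_rfl (b.c.genW_le_NS _) _ _ (nat_lit 0) [[nat_lit 37, nat_lit 32, nat_lit 28, nat_lit 7, nat_lit 13, nat_lit 32, nat_lit 21, nat_lit 33, nat_lit 55], [nat_lit 55, nat_lit 60, nat_lit 4, nat_lit 0, nat_lit 38, nat_lit 12, nat_lit 8, nat_lit 36, nat_lit 14]] [nat_lit 0] SE.all [([nat_lit 0], [nat_lit 0, nat_lit 1, nat_lit 0, nat_lit 1, nat_lit 0, nat_lit 1, nat_lit 0, nat_lit 1, nat_lit 0, nat_lit 1, nat_lit 0, nat_lit 1, nat_lit 0]), ([nat_lit 6], [nat_lit 0, nat_lit 1, nat_lit 0, nat_lit 1, nat_lit 0, nat_lit 1, nat_lit 0, nat_lit 1, nat_lit 0, nat_lit 1, nat_lit 0, nat_lit 1, nat_lit 0, nat_lit 1, nat_lit 0, nat_lit 1])] (NCs.cons (k7nc59 b h0) (NCs.cons (k7nc60 b h0) NCs.nil)) (by decide +kernel)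

theorem k7o (b : Cx τ s (genW (sv s) [[nat_lit 0], [nat_lit 2], [nat_lit 4], [nat_lit 6], [nat_lit 8], [nat_lit 10], [nat_lit 12], [nat_lit 14]]) k7d5) (h0 : CU (genW (sv s) [[nat_lit 0], [nat_lit 2], [nat_lit 4], [nat_lit 6], [nat_lit 8], [nat_lit 10], [nat_lit 12], [nat_lit 14]]) s [] 4585351680) : ∀ i : Fin k7cR.length, Nat.card (Subgroup.zpowers (vals s k7cR i)) = 3 :=
  b.cards k7cR Nat.prime_three [nat_lit 0, nat_lit 0, nat_lit 0, nat_lit 0, nat_lit 0, nat_lit 1, nat_lit 1] (by decide +kernel)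

theorem k7n (b : Cx τ s (genW (sv s) [[nat_lit 0], [nat_lit 2], [nat_lit 4], [nat_lit 6], [nat_lit 8], [nat_lit 10], [nat_lit 12], [nat_lit 14]]) k7d5) (h0 : CU (genW (sv s) [[nat_lit 0], [nat_lit 2], [nat_lit 4], [nat_lit 6], [nat_lit 8], [nat_lit 10], [nat_lit 12], [nat_lit 14]]) s [] 4585351680) : ∀ i j : Fin k7cR.length, i < j → ∀ g ∈ (genW (sv s) [[nat_lit 0], [nat_lit 2], [nat_lit 4], [nat_lit 6], [nat_lit 8], [nat_lit 10], [nat_lit 12], [nat_lit 14]]),
    (Subgroup.zpowers (vals s k7cR i)).map (MulAut.conj g).toMonoidHom ≠ Subgroup.zpowers (vals s k7cR j) := by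
  intro i j hij g hg e
  have hp : ∀ w, k7d5.eqs [(w ++ w ++ w, [])] = true → E s w ^ 3 = 1 := fun w h => by
    simpa [pow_succ, mul_assoc] using b.eq1 _ _ h
  have h := b.sep _ [ivl (nat_lit 0) (nat_lit 351)] k7cR [[nat_lit 0], [nat_lit 0], [nat_lit 0], [nat_lit 9], [nat_lit 27], [nat_lit 36], [nat_lit 45]] (by decide +kernel) i j hg e
  rcases (by decide +kernel : ∀ i j : Fin k7cR.length, i < j → nth [] [[nat_lit 0], [nat_lit 0], [nat_lit 0], [nat_lit 9], [nat_lit 27], [nat_lit 36], [nat_lit 45]] i = nth [] [[nat_lit 0], [nat_lit 0], [nat_lit 0], [nat_lit 9], [nat_lit 27], [nat_lit 36], [nat_lit 45]] j →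
    i = ⟨0, by decide⟩ ∧ j = ⟨1, by decide⟩ ∨ i = ⟨0, by decide⟩ ∧ j = ⟨2, by decide⟩ ∨
      i = ⟨1, by decide⟩ ∧ j = ⟨2, by decide⟩) i j hij h with ⟨rfl, rfl⟩ | ⟨rfl, rfl⟩ | ⟨rfl, rfl⟩
  · exact NC.zp3 (k7nc25 b h0) (k7nc33 b h0) (hp _ (by decide +kernel)) hg e
  · exact NC.zp3 (k7nc47 b h0) (k7nc55 b h0) (hp _ (by decide +kernel)) hg e
  · exact NC.zp3 (k7nc58 b h0) (k7nc61 b h0) (hp _ (by decide +kernel)) hg e

end Cfsg.Agent.FiC.F22
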