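import Cfsg.Agent.Fischer.O8B

set_option autoImplicit false
set_option maxRecDepth 100000
set_option linter.unusedSectionVars false

namespace Cfsg.Agent.FiC.F23
open Cfsg.Agent.Comp Cfsg.Agent.FiC

variable {G : Type*} [Group G] [Finite G] {D : Set G} {τ s : ℕ → G} {M : Subgroup G}

noncomputable def o8cA : List (List Nat) := [[nat_lit 40], [nat_lit 42], [nat_lit 44], [nat_lit 46], [nat_lit 48], [nat_lit 50], [nat_lit 52], [nat_lit 54], [nat_lit 56], [nat_lit 58], [nat_lit 60], [nat_lit 62]]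

noncomputable def o8cR : List (List Nat) := [[nat_lit 30, nat_lit 48, nat_lit 34, nat_lit 24, nat_lit 23, nat_lit 37, nat_lit 30, nat_lit 36, nat_lit 32, nat_lit 38], [nat_lit 8, nat_lit 39, nat_lit 30, nat_lit 34, nat_lit 37, nat_lit 34, nat_lit 39, nat_lit 39, nat_lit 36], [nat_lit 62, nat_lit 41, nat_lit 4, nat_lit 27, nat_lit 28, nat_lit 23, nat_lit 29, nat_lit 32, nat_lit 36, nat_lit 39], [nat_lit 19, nat_lit 14, nat_lit 0, nat_lit 28, nat_lit 58, nat_lit 37, nat_lit 29, nat_lit 29, nat_lit 38, nat_lit 35, nat_lit 32], [nat_lit 38, nat_lit 37, nat_lit 32, nat_lit 34, nat_lit 29, nat_lit 32, nat_lit 22, nat_lit 26, nat_lit 32], [nat_lit 10, nat_lit 35, nat_lit 58, nat_lit 32, nat_lit 28, nat_lit 34, nat_lit 38, nat_lit 33, nat_lit 38], [nat_lit 37, nat_lit 39, nat_lit 32, nat_lit 34, nat_lit 36, nat_lit 31, nat_lit 32, nat_lit 38], [nat_lit 8, nat_lit 18, nat_lit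 2, nat_lit 30, nat_lit 25, nat_lit 22, nat_lit 29, nat_lit 31, nat_lit 33, nat_lit 35], [nat_lit 16, nat_lit 14, nat_lit 31, nat_lit 25, nat_lit 28, nat_lit 30, nat_lit 28, nat_lit 33, nat_lit 37, nat_lit 39], [nat_lit 16, nat_lit 57, nat_lit 25, nat_lit 22, nat_lit 32, nat_lit 29, nat_lit 36, nat_lit 34, nat_lit 37], [nat_lit 65, nat_lit 1, nat_lit 46, nat_lit 32, nat_lit 58, nat_lit 24, nat_lit 32, nat_lit 30, nat_lit 33], [nat_lit 26, nat_lit 59, nat_lit 29, nat_lit 35, nat_lit 36, nat_lit 38, nat_lit 32, nat_lit 38, nat_lit 37], [nat_lit 29, nat_lit 58, nat_lit 22, nat_lit 37, nat_lit 29, nat_lit 31, nat_lit 38, nat_lit 33, nat_lit 39]]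

noncomputable def o8cN : List (List Nat) := [[nat_lit 64], [nat_lit 66]]

theorem o8cpc (b : Cx τ s M o8L) : PC s 3 o8cA :=
  Cx.pcs b _ _ [[[nat_lit 18, nat_lit 21]], [[nat_lit 10, nat_lit 13], []], [[nat_lit 4, nat_lit 6, nat_lit 9, nat_lit 10, nat_lit 13, nat_lit 16], [nat_lit 2, nat_lit 10, nat_lit 14, nat_lit 17], []], [[nat_lit 9, nat_lit 10, nat_lit 12, nat_lit 14], [nat_lit 12], [nat_lit 5, nat_lit 9, nat_lit 11, nat_lit 13], []], [[nat_lit 5, nat_lit 6, nat_lit 11, nat_lit 12], [], [nat_lit 12], [nat_lit 6, nat_lit 10, nat_lit 12], []], [[nat_lit 7, nat_lit 11], [nat_lit 3, nat_lit 9, nat_lit 11], [], [nat_lit 7], [], []], [[nat_lit 5], [nat_lit 2], [nat_lit 8], [], [nat_lit 8], [], []], [[nat_lit 4, nat_lit 7], [], [nat_lit 6], [nat_lit 4], [], [], [nat_lit 7], []], [[nat_lit 3, nat_lit 4], [], [nat_lit 5], [], [], [nat_lit 4], [], [], []], [[nat_lit 3],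 [nat_lit 0], [nat_lit 3], [], [nat_lit 3], [], [], [], [], []], [[], [], [nat_lit 0], [], [], [], [], [], [], [], []], [[], [], [], [], [], [], [], [], [], [], [], []]] (by decide +kernel)

theorem o8lge1 (b : Cx τ s M o8L) : GE s [[nat_lit 38, nat_lit 36, nat_lit 33, nat_lit 33, nat_lit 39, nat_lit 35, nat_lit 29, nat_lit 29, nat_lit 35, nat_lit 35, nat_lit 59, nat_lit 67, nat_lit 53]] 3 :=
  GE.step b (GE.base []) _ [] (nat_lit 0) [nat_lit 0, nat_lit 0] (nat_lit 3) 3 (by decide +kernel)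

theorem o8lge2 (b : Cx τ s M o8L) : GE s [[nat_lit 44], [nat_lit 46], [nat_lit 51, nat_lit 31, nat_lit 22, nat_lit 34, nat_lit 39, nat_lit 37, nat_lit 29, nat_lit 34, nat_lit 34, nat_lit 34, nat_lit 32, nat_lit 36, nat_lit 39], [nat_lit 38, nat_lit 38, nat_lit 33, nat_lit 35, nat_lit 37, nat_lit 37, nat_lit 30, nat_lit 37, nat_lit 30, nat_lit 23, nat_lit 25, nat_lit 39, nat_lit 56]] 729 :=
  GE.step b (o8lge1 b) _ [([nat_lit 38, nat_lit 36, nat_lit 33, nat_lit 33, nat_lit 39, nat_lit 35, nat_lit 29, nat_lit 29, nat_lit 35, nat_lit 35, nat_lit 59, nat_lit 67, nat_lit 53], [nat_lit 3, nat_lit 7, nat_lit 1, nat_lit 2, nat_lit 6])] (nat_lit 1083) [nat_lit 0, nat_lit 1, nat_lit 0, nat_lit 1, nat_lit 0, nat_lit 1, nat_lit 0, nat_lit 2, nat_lit 3, nat_lit 1, nat_lit 3, nat_lit 2] (nat_lit 243) 729 (by decide +kernel)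

theorem o8lge3 (b : Cx τ s M o8L) : GE s [[nat_lit 40], [nat_lit 42], [nat_lit 44], [nat_lit 46], [nat_lit 48], [nat_lit 50], [nat_lit 52], [nat_lit 54], [nat_lit 56], [nat_lit 58], [nat_lit 60], [nat_lit 62]] 531441 :=
  GE.step b (o8lge2 b) _ [([nat_lit 51, nat_lit 31, nat_lit 22, nat_lit 34, nat_lit 39, nat_lit 37, nat_lit 29, nat_lit 34, nat_lit 34, nat_lit 34, nat_lit 32, nat_lit 36, nat_lit 39], [nat_lit 18, nat_lit 20]), ([nat_lit 38, nat_lit 38, nat_lit 33, nat_lit 35, nat_lit 37, nat_lit 37, nat_lit 30, nat_lit 37, nat_lit 30, nat_lit 23, nat_lit 25, nat_lit 39, nat_lit 56], [nat_lit 2, nat_lit 20, nat_lit 11])] (nat_lit 277) [nat_lit 0, nat_lit 1, nat_lit 4, nat_lit 7, nat_lit 8, nat_lit 10, nat_lit 11, nat_lit 0, nat_lit 1, nat_lit 7, nat_lit 4, nat_lit 8, nat_lit 0] (nat_lit 729) 531441 (by decide +kernel)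

theorem o8cge (b : Cx τ s M o8L) : GE s o8cA (3 ^ o8cA.length) :=
  (o8lge3 b)

theorem o8cnr (b : Cx τ s M o8L) : Nrm s o8cA o8cN :=
  Cx.nrm b _ _ [[[nat_lit 0, nat_lit 8, nat_lit 11, nat_lit 13, nat_lit 15, nat_lit 16, nat_lit 18, nat_lit 21], [nat_lit 0, nat_lit 6, nat_lit 13], [nat_lit 1], [nat_lit 0, nat_lit 6, nat_lit 12, nat_lit 14, nat_lit 16], [nat_lit 1], [nat_lit 1, nat_lit 12], [nat_lit 1], [nat_lit 1], [nat_lit 1], [nat_lit 1], [nat_lit 1, nat_lit 2], [nat_lit 0]], [[nat_lit 1, nat_lit 9, nat_lit 10, nat_lit 12, nat_lit 14, nat_lit 16, nat_lit 19], [nat_lit 1, nat_lit 7, nat_lit 15, nat_lit 19, nat_lit 20], [nat_lit 1], [nat_lit 1, nat_lit 7, nat_lit 11, nat_lit 13, nat_lit 15], [nat_lit 0, nat_lit 9, nat_lit 13, nat_lit 14], [nat_lit 0, nat_lit 4, nat_lit 8, nat_lit 13], [nat_lit 0, nat_lit 5, nat_lit 7, nat_lit 8, nat_lit 11], [nat_lit 1, nat_lit 7,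 nat_lit 9], [nat_lit 1, nat_lit 4, nat_lit 6], [nat_lit 1, nat_lit 2, nat_lit 4], [nat_lit 0, nat_lit 3], [nat_lit 1]]] (by decide +kernel)

theorem o8ckh (b : Cx τ s M o8L) : KH τ s M o8L 3 o8cA o8cR o8cN false (GoodM M s o8cR) :=
  KH.ofM b (o8cpc b) (by norm_num) (o8cge b) (o8cnr b) _

theorem o8lk4 (b : Cx τ s M o8L) : KK s 3 o8cA (GoodM M s o8cR) (E s [nat_lit 56]) 9 :=
  KH.kk (o8ckh b) [] KKs.nil (KT.split (KT.cons (KT.merge [nat_lit 0] [nat_lit 0] (KT.merge [nat_lit 4] [] (KT.cj [nat_lit 30, nat_lit 47, nat_lit 10, nat_lit 34, nat_lit 23, nat_lit 59, nat_lit 31, nat_lit 36, nat_lit 33, nat_lit 37, nat_lit 39, nat_lit 37] (nat_lit 6)))) (KT.cons (KT.merge [nat_lit 0] [] (KT.merge [nat_lit 5] [] (KT.cj [nat_lit 0, nat_lit 17, nat_lit 1, nat_lit 36, nat_lit 35, nat_lit 22, nat_lit 32, nat_lit 38, nat_lit 29, nat_lit 31, nat_lit 34, nat_lit 33, nat_lit 36] (nat_lit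 8)))) (KT.cons (KT.merge [nat_lit 0] [nat_lit 1] (KT.merge [nat_lit 9] [] (KT.cj [nat_lit 21, nat_lit 8, nat_lit 17, nat_lit 36, nat_lit 34, nat_lit 25, nat_lit 22, nat_lit 35, nat_lit 29, nat_lit 39, nat_lit 39, nat_lit 33] (nat_lit 9)))) KT.nil)))) [nat_lit 16] _ _ (by decide +kernel)

theorem o8lk5 (b : Cx τ s M o8L) : KK s 3 o8cA (GoodM M s o8cR) (E s [nat_lit 54, nat_lit 56]) 9 :=
  KH.kk (o8ckh b) [] KKs.nil (KT.split (KT.cons (KT.merge [nat_lit 7] [] (KT.merge [nat_lit 11] [] (KT.cj [nat_lit 15, nat_lit 62, nat_lit 17, nat_lit 29, nat_lit 59, nat_lit 23, nat_lit 35, nat_lit 31, nat_lit 32, nat_lit 28, nat_lit 39, nat_lit 34, nat_lit 38] (nat_lit 3)))) (KT.cons (KT.merge [nat_lit 3] [] (KT.merge [nat_lit 0] [] (KT.cj [nat_lit 39, nat_lit 39, nat_lit 32, nat_lit 34, nat_lit 33, nat_lit 35, nat_lit 29, nat_lit 35, nat_lit 33, nat_lit 29, nat_lit 26, nat_lit 24,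 nat_lit 23, nat_lit 0, nat_lit 41] (nat_lit 0)))) (KT.cons (KT.merge [nat_lit 2] [] (KT.merge [nat_lit 5] [] (KT.cj [nat_lit 20, nat_lit 47, nat_lit 18, nat_lit 36, nat_lit 33, nat_lit 22, nat_lit 36, nat_lit 39, nat_lit 28, nat_lit 28, nat_lit 35, nat_lit 36, nat_lit 38] (nat_lit 5)))) KT.nil)))) [nat_lit 14, nat_lit 16] _ _ (by decide +kernel)

theorem o8lk6 (b : Cx τ s M o8L) : KK s 3 o8cA (GoodM M s o8cR) (E s [nat_lit 54, nat_lit 56, nat_lit 56]) 9 :=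
  KH.kk (o8ckh b) [] KKs.nil (KT.split (KT.cons (KT.merge [nat_lit 0] [nat_lit 0] (KT.merge [nat_lit 4] [] (KT.cj [nat_lit 38, nat_lit 32, nat_lit 10, nat_lit 28, nat_lit 28, nat_lit 28, nat_lit 37, nat_lit 33, nat_lit 35, nat_lit 37, nat_lit 39] (nat_lit 2)))) (KT.cons (KT.merge [nat_lit 0] [] (KT.merge [nat_lit 5] [] (KT.cj [nat_lit 38, nat_lit 38, nat_lit 32, nat_lit 34, nat_lit 39, nat_lit 33, nat_lit 29, nat_lit 33, nat_lit 28, nat_lit 24, nat_lit 27, nat_lit 23, nat_lit 67, nat_lit 37] (nat_lit 7)))) (KT.cons (KT.merge [nat_lit 0] [nat_lit 1] (KT.merge [nat_lit 9] [] (KT.cj [nat_lit 41, nat_lit 25, nat_lit 0, nat_lit 29, nat_lit 33, nat_lit 22, nat_lit 29, nat_lit 34, nat_lit 30, nat_lit 32, nat_lit 38, nat_lit 37] (nat_lit 10)))) KT.nil)))) [nat_lit 14, nat_lit 16, nat_lit 16] _ _ (by decide +kernel)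

theorem o8lk7 (b : Cx τ s M o8L) : KK s 3 o8cA (GoodM M s o8cR) (E s [nat_lit 54]) 8 :=
  KH.kk (o8ckh b) [([nat_lit 54, nat_lit 56], nat_lit 9), ([nat_lit 54, nat_lit 56, nat_lit 56], nat_lit 9)] (KKs.cons (o8lk5 b) (KKs.cons (o8lk6 b) KKs.nil)) (KT.split (KT.cons (KT.split (KT.cons (KT.merge [nat_lit 7] [] (KT.merge [nat_lit 5] [] (KT.cj [nat_lit 37, nat_lit 39, nat_lit 35, nat_lit 38, nat_lit 30, nat_lit 37, nat_lit 32, nat_lit 23, nat_lit 23, nat_lit 24, nat_lit 58, nat_lit 11, nat_lit 65] (nat_lit 6)))) (KT.cons (KT.merge [nat_lit 3] [] (KT.merge [nat_lit 8] [] (KT.cj [nat_lit 64, nat_lit 21, nat_lit 28, nat_lit 58, nat_lit 22, nat_lit 30, nat_lit 34, nat_lit 36, nat_lit 28, nat_lit 36, nat_lit 34, nat_lit 39] (nat_lit 11)))) (KT.cons (KT.merge [nat_lit 2] [] (KT.merge [nat_lit 4] [] (KT.cj [nat_lit 0, nat_lit 47, nat_lit 10, nat_lit 59, nat_lit 26, nat_lit 24,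 nat_lit 36, nat_lit 31, nat_lit 39, nat_lit 33, nat_lit 33, nat_lit 38, nat_lit 37] (nat_lit 12)))) KT.nil)))) (KT.cons (KT.into [] (nat_lit 0) []) (KT.cons (KT.into [] (nat_lit 1) []) KT.nil)))) [nat_lit 14] _ _ (by decide +kernel)

theorem o8lk8 (b : Cx τ s M o8L) : KK s 3 o8cA (GoodM M s o8cR) (E s [nat_lit 52]) 7 :=
  KH.kk (o8ckh b) [] KKs.nil (KT.split (KT.cons (KT.merge [nat_lit 3] [] (KT.merge [nat_lit 0] [] (KT.split (KT.cons (KT.merge [nat_lit 5] [] (KT.cj [nat_lit 7, nat_lit 57, nat_lit 19, nat_lit 33, nat_lit 27, nat_lit 23, nat_lit 32, nat_lit 39, nat_lit 31, nat_lit 36, nat_lit 32, nat_lit 39, nat_lit 36] (nat_lit 6))) (KT.cons (KT.merge [nat_lit 4] [] (KT.cj [nat_lit 36, nat_lit 35, nat_lit 37, nat_lit 35, nat_lit 28, nat_lit 38, nat_lit 31, nat_lit 39, nat_lit 23, nat_lit 37, nat_lit 31, nat_lit 47, nat_lit 26] (nat_lit 9))) (KT.cons (KT.merge [nat_lit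 9] [] (KT.cj [nat_lit 8, nat_lit 29, nat_lit 1, nat_lit 25, nat_lit 30, nat_lit 28, nat_lit 32, nat_lit 30, nat_lit 38, nat_lit 34, nat_lit 39, nat_lit 39] (nat_lit 8))) KT.nil)))))) (KT.cons (KT.merge [nat_lit 3] [] (KT.merge [nat_lit 0] [nat_lit 0, nat_lit 3] (KT.merge [nat_lit 7] [] (KT.merge [nat_lit 4] [] (KT.cj [nat_lit 12, nat_lit 24, nat_lit 4, nat_lit 31, nat_lit 22, nat_lit 27, nat_lit 37, nat_lit 28, nat_lit 28, nat_lit 38, nat_lit 34, nat_lit 33, nat_lit 39, nat_lit 36] (nat_lit 1)))))) (KT.cons (KT.merge [nat_lit 3] [] (KT.merge [nat_lit 0] [nat_lit 1, nat_lit 2] (KT.merge [nat_lit 6] [] (KT.merge [nat_lit 9] [] (KT.cj [nat_lit 20, nat_lit 2, nat_lit 24, nat_lit 23, nat_lit 26, nat_lit 29, nat_lit 30, nat_lit 36, nat_lit 33, nat_lit 35, nat_lit 32, nat_lit 38, nat_lit 36] (nat_lit 1)))))) KT.nil)))) [nat_lit 12] _ _ (by decide +kernel)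

theorem o8lk9 (b : Cx τ s M o8L) : KK s 3 o8cA (GoodM M s o8cR) (E s [nat_lit 50]) 7 :=
  KH.kk (o8ckh b) [] KKs.nil (KT.merge [nat_lit 2] [nat_lit 5, nat_lit 7] (KT.split (KT.cons (KT.merge [nat_lit 0] [nat_lit 3] (KT.split (KT.cons (KT.merge [nat_lit 16] [] (KT.cj [nat_lit 6, nat_lit 4, nat_lit 50, nat_lit 26, nat_lit 24, nat_lit 26, nat_lit 38, nat_lit 38, nat_lit 30, nat_lit 32, nat_lit 35, nat_lit 39] (nat_lit 11))) (KT.cons (KT.merge [nat_lit 5] [] (KT.cj [nat_lit 56, nat_lit 16, nat_lit 0, nat_lit 26, nat_lit 33, nat_lit 25, nat_lit 39, nat_lit 33, nat_lit 29, nat_lit 36, nat_lit 33, nat_lit 39, nat_lit 36] (nat_lit 12))) (KT.cons (KT.merge [nat_lit 4] [] (KT.cj [nat_lit 27, nat_lit 14, nat_lit 52, nat_lit 38, nat_lit 30, nat_lit 23, nat_lit 34, nat_lit 31, nat_lit 31, nat_lit 39, nat_lit 39, nat_lit 33] (nat_lit 6))) KT.nil))))) (KT.cons (KT.merge [nat_lit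 0] [nat_lit 1] (KT.merge [nat_lit 0, nat_lit 7] [nat_lit 1] (KT.merge [nat_lit 4] [] (KT.cj [nat_lit 27, nat_lit 44, nat_lit 35, nat_lit 22, nat_lit 34, nat_lit 31, nat_lit 34, nat_lit 29, nat_lit 36, nat_lit 33, nat_lit 33, nat_lit 39, nat_lit 36] (nat_lit 1))))) (KT.cons (KT.merge [nat_lit 0] [nat_lit 0, nat_lit 2] (KT.merge [nat_lit 1, nat_lit 6, nat_lit 17, nat_lit 18, nat_lit 20, nat_lit 23] [] (KT.merge [nat_lit 5] [] (KT.cj [nat_lit 66, nat_lit 49, nat_lit 6, nat_lit 59, nat_lit 31, nat_lit 23, nat_lit 34, nat_lit 34, nat_lit 30, nat_lit 36, nat_lit 33] (nat_lit 1))))) KT.nil))))) [nat_lit 10] _ _ (by decide +kernel)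

theorem o8lk10 (b : Cx τ s M o8L) : KK s 3 o8cA (GoodM M s o8cR) (E s [nat_lit 50, nat_lit 52]) 7 :=
  KH.kk (o8ckh b) [] KKs.nil (KT.merge [nat_lit 2] [nat_lit 0, nat_lit 5, nat_lit 6] (KT.split (KT.cons (KT.merge [nat_lit 6] [] (KT.split (KT.cons (KT.merge [nat_lit 5] [] (KT.cj [nat_lit 18, nat_lit 50, nat_lit 0, nat_lit 22, nat_lit 59, nat_lit 24, nat_lit 33, nat_lit 29, nat_lit 39, nat_lit 37] (nat_lit 7))) (KT.cons (KT.merge [nat_lit 4] [] (KT.cj [nat_lit 19, nat_lit 40, nat_lit 44, nat_lit 34, nat_lit 26, nat_lit 33, nat_lit 39, nat_lit 31, nat_lit 34, nat_lit 37, nat_lit 32, nat_lit 39] (nat_lit 10))) (KT.cons (KT.merge [nat_lit 9] [] (KT.cj [nat_lit 36, nat_lit 64, nat_lit 0, nat_lit 27, nat_lit 27, nat_lit 39, nat_lit 22, nat_lit 33, nat_lit 28, nat_lit 31, nat_lit 35, nat_lit 37] (nat_lit 2))) KT.nil))))) (KT.cons (KT.merge [nat_lit 6] [] (KT.merge [nat_lit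 0, nat_lit 6] [nat_lit 0] (KT.merge [nat_lit 9] [] (KT.cj [nat_lit 21, nat_lit 45, nat_lit 17, nat_lit 31, nat_lit 59, nat_lit 36, nat_lit 30, nat_lit 28, nat_lit 33, nat_lit 37, nat_lit 34, nat_lit 39] (nat_lit 1))))) (KT.cons (KT.merge [nat_lit 6] [] (KT.merge [nat_lit 1, nat_lit 7, nat_lit 16, nat_lit 19, nat_lit 20, nat_lit 23] [nat_lit 0] (KT.merge [nat_lit 4] [] (KT.cj [nat_lit 22, nat_lit 4, nat_lit 26, nat_lit 25, nat_lit 59, nat_lit 35, nat_lit 36, nat_lit 33, nat_lit 28, nat_lit 35, nat_lit 36, nat_lit 32, nat_lit 38] (nat_lit 1))))) KT.nil))))) [nat_lit 10, nat_lit 12] _ _ (by decide +kernel)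

theorem o8lk11 (b : Cx τ s M o8L) : KK s 3 o8cA (GoodM M s o8cR) (E s [nat_lit 50, nat_lit 52, nat_lit 52]) 9 :=
  KH.kk (o8ckh b) [] KKs.nil (KT.merge [nat_lit 6] [] (KT.split (KT.cons (KT.merge [nat_lit 0] [] (KT.cj [nat_lit 37, nat_lit 38, nat_lit 33, nat_lit 35, nat_lit 35, nat_lit 28, nat_lit 36, nat_lit 30, nat_lit 24, nat_lit 58, nat_lit 5, nat_lit 41] (nat_lit 0))) (KT.cons (KT.merge [nat_lit 0] [] (KT.cj [nat_lit 27, nat_lit 14, nat_lit 31, nat_lit 33, nat_lit 26, nat_lit 22, nat_lit 39, nat_lit 35, nat_lit 30, nat_lit 34, nat_lit 36, nat_lit 32] (nat_lit 5))) (KT.cons (KT.merge [nat_lit 0] [] (KT.cj [nat_lit 4, nat_lit 21, nat_lit 10, nat_lit 30, nat_lit 29, nat_lit 22, nat_lit 30, nat_lit 30, nat_lit 28, nat_lit 39, nat_lit 36, nat_lit 36] (nat_lit 3))) KT.nil))))) [nat_lit 10, nat_lit 12, nat_lit 12] _ _ (by decide +kernel)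

theorem o8lk12 (b : Cx τ s M o8L) : KK s 3 o8cA (GoodM M s o8cR) (E s [nat_lit 50, nat_lit 52, nat_lit 52]) 7 :=
  KH.kk (o8ckh b) [([nat_lit 50, nat_lit 52, nat_lit 52], nat_lit 9)] (KKs.cons (o8lk11 b) KKs.nil) (KT.merge [nat_lit 2] [nat_lit 1, nat_lit 5] (KT.split (KT.cons (KT.into [] (nat_lit 0) []) (KT.cons (KT.merge [nat_lit 6] [] (KT.merge [nat_lit 0] [] (KT.merge [nat_lit 5] [] (KT.cj [nat_lit 39, nat_lit 39, nat_lit 33, nat_lit 39, nat_lit 36, nat_lit 31, nat_lit 36, nat_lit 25, nat_lit 23, nat_lit 35, nat_lit 1, nat_lit 22, nat_lit 1] (nat_lit 1))))) (KT.cons (KT.merge [nat_lit 6] [] (KT.merge [nat_lit 1, nat_lit 20, nat_lit 23] [nat_lit 1] (KT.merge [nat_lit 8] [] (KT.cj [nat_lit 18, nat_lit 48, nat_lit 21, nat_lit 24, nat_lit 27, nat_lit 39, nat_lit 36, nat_lit 30, nat_lit 36, nat_lit 34, nat_lit 37, nat_lit 37] (nat_lit 1))))) KT.nil))))) [nat_lit 10,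 nat_lit 12, nat_lit 12] _ _ (by decide +kernel)

theorem o8lk13 (b : Cx τ s M o8L) : KK s 3 o8cA (GoodM M s o8cR) (E s [nat_lit 48]) 7 :=
  KH.kk (o8ckh b) [] KKs.nil (KT.merge [nat_lit 0] [nat_lit 0, nat_lit 5, nat_lit 6] (KT.merge [nat_lit 7] [nat_lit 3, nat_lit 5] (KT.split (KT.cons (KT.split (KT.cons (KT.merge [nat_lit 5] [] (KT.cj [nat_lit 64, nat_lit 27, nat_lit 41, nat_lit 24, nat_lit 26, nat_lit 34, nat_lit 34, nat_lit 28, nat_lit 28, nat_lit 39, nat_lit 32, nat_lit 32, nat_lit 38] (nat_lit 3))) (KT.cons (KT.merge [nat_lit 4] [] (KT.cj [nat_lit 33, nat_lit 33, nat_lit 33, nat_lit 38, nat_lit 28, nat_lit 32, nat_lit 35, nat_lit 29, nat_lit 25, nat_lit 31, nat_lit 36, nat_lit 43, nat_lit 31] (nat_lit 6))) (KT.cons (KT.merge [nat_lit 12] [] (KT.cj [nat_lit 39, nat_lit 36, nat_lit 36, nat_lit 33, nat_lit 35, nat_lit 36, nat_lit 28, nat_lit 33, nat_lit 36, nat_lit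 25, nat_lit 35, nat_lit 59, nat_lit 46] (nat_lit 2))) KT.nil)))) (KT.cons (KT.merge [nat_lit 3] [] (KT.merge [nat_lit 8] [] (KT.cj [nat_lit 37, nat_lit 37, nat_lit 38, nat_lit 32, nat_lit 36, nat_lit 32, nat_lit 29, nat_lit 32, nat_lit 31, nat_lit 22, nat_lit 32, nat_lit 24, nat_lit 45, nat_lit 33] (nat_lit 1)))) (KT.cons (KT.merge [nat_lit 2] [] (KT.merge [nat_lit 4] [] (KT.cj [nat_lit 66, nat_lit 1, nat_lit 29, nat_lit 30, nat_lit 22, nat_lit 33, nat_lit 29, nat_lit 31, nat_lit 32, nat_lit 35, nat_lit 38] (nat_lit 1)))) KT.nil)))))) [nat_lit 8] _ _ (by decide +kernel)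

theorem o8lk14 (b : Cx τ s M o8L) : KK s 3 o8cA (GoodM M s o8cR) (E s [nat_lit 48, nat_lit 52, nat_lit 58]) 10 :=
  KH.kk (o8ckh b) [] KKs.nil (KT.split (KT.cons (KT.merge [nat_lit 5] [] (KT.cj [nat_lit 21, nat_lit 1, nat_lit 17, nat_lit 39, nat_lit 24, nat_lit 31, nat_lit 29, nat_lit 30, nat_lit 33, nat_lit 34, nat_lit 32, nat_lit 36] (nat_lit 0))) (KT.cons (KT.merge [nat_lit 4] [] (KT.cj [nat_lit 59, nat_lit 39, nat_lit 48, nat_lit 30, nat_lit 23, nat_lit 23, nat_lit 39, nat_lit 32, nat_lit 29, nat_lit 32, nat_lit 32, nat_lit 32, nat_lit 38, nat_lit 36] (nat_lit 11))) (KT.cons (KT.merge [nat_lit 12] [] (KT.cj [nat_lit 61, nat_lit 1, nat_lit 38, nat_lit 26, nat_lit 36, nat_lit 31, nat_lit 29, nat_lit 29, nat_lit 33, nat_lit 34, nat_lit 32, nat_lit 34, nat_lit 39] (nat_lit 7))) KT.nil)))) [nat_lit 8, nat_lit 12, nat_lit 18] _ _ (by decide +kernel)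

theorem o8lk15 (b : Cx τ s M o8L) : KK s 3 o8cA (GoodM M s o8cR) (E s [nat_lit 48, nat_lit 52, nat_lit 52, nat_lit 58, nat_lit 58]) 10 :=
  KH.kk (o8ckh b) [] KKs.nil (KT.split (KT.cons (KT.merge [nat_lit 5] [] (KT.cj [nat_lit 14, nat_lit 49, nat_lit 45, nat_lit 25, nat_lit 29, nat_lit 22, nat_lit 32, nat_lit 30, nat_lit 37, nat_lit 39, nat_lit 32, nat_lit 32, nat_lit 38, nat_lit 37] (nat_lit 5))) (KT.cons (KT.merge [nat_lit 4] [] (KT.cj [nat_lit 35, nat_lit 18, nat_lit 6, nat_lit 38, nat_lit 35, nat_lit 23, nat_lit 36, nat_lit 30, nat_lit 29, nat_lit 38, nat_lit 32, nat_lit 39, nat_lit 39] (nat_lit 12))) (KT.cons (KT.merge [nat_lit 12] [] (KT.cj [nat_lit 43, nat_lit 14, nat_lit 35, nat_lit 39, nat_lit 22, nat_lit 33, nat_lit 31, nat_lit 39, nat_lit 29, nat_lit 34, nat_lit 33, nat_lit 33, nat_lit 37] (nat_lit 10))) KT.nil)))) [nat_lit 8, nat_lit 12, nat_lit 12, nat_lit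 18, nat_lit 18] _ _ (by decide +kernel)

theorem o8lk16 (b : Cx τ s M o8L) : KK s 3 o8cA (GoodM M s o8cR) (E s [nat_lit 48, nat_lit 52, nat_lit 52]) 7 :=
  KH.kk (o8ckh b) [([nat_lit 48, nat_lit 52, nat_lit 52, nat_lit 58, nat_lit 58], nat_lit 10)] (KKs.cons (o8lk15 b) KKs.nil) (KT.merge [nat_lit 0] [nat_lit 0, nat_lit 2, nat_lit 5, nat_lit 7] (KT.merge [nat_lit 2] [] (KT.split (KT.cons (KT.merge [nat_lit 3, nat_lit 7, nat_lit 21] [nat_lit 1] (KT.merge [nat_lit 8] [] (KT.cj [nat_lit 7, nat_lit 33, nat_lit 23, nat_lit 0, nat_lit 59, nat_lit 22, nat_lit 32, nat_lit 34, nat_lit 29, nat_lit 37, nat_lit 33, nat_lit 35, nat_lit 36] (nat_lit 1)))) (KT.cons (KT.merge [nat_lit 2, nat_lit 6] [nat_lit 0] (KT.merge [nat_lit 4] [] (KT.cj [nat_lit 55, nat_lit 41, nat_lit 6, nat_lit 34, nat_lit 22, nat_lit 31, nat_lit 33, nat_lit 29, nat_lit 35, nat_lit 37, nat_lit 35, nat_lit 32,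 nat_lit 36, nat_lit 36] (nat_lit 1)))) (KT.cons (KT.into [] (nat_lit 0) []) KT.nil)))))) [nat_lit 8, nat_lit 12, nat_lit 12] _ _ (by decide +kernel)

theorem o8lk17 (b : Cx τ s M o8L) : KK s 3 o8cA (GoodM M s o8cR) (E s [nat_lit 48]) 6 :=
  KH.kk (o8ckh b) [([nat_lit 48], nat_lit 7), ([nat_lit 48, nat_lit 52, nat_lit 58], nat_lit 10), ([nat_lit 48, nat_lit 52, nat_lit 52], nat_lit 7)] (KKs.cons (o8lk13 b) (KKs.cons (o8lk14 b) (KKs.cons (o8lk16 b) KKs.nil))) (KT.split (KT.cons (KT.into [] (nat_lit 0) []) (KT.cons (KT.merge [nat_lit 0] [nat_lit 0, nat_lit 3, nat_lit 5] (KT.merge [nat_lit 3] [] (KT.split (KT.cons (KT.merge [nat_lit 2, nat_lit 7] [nat_lit 1] (KT.merge [nat_lit 4] [] (KT.cj [nat_lit 18, nat_lit 18, nat_lit 4, nat_lit 38, nat_lit 26, nat_lit 22, nat_lit 38, nat_lit 28, nat_lit 28, nat_lit 28, nat_lit 37, nat_lit 32] (nat_lit 1)))) (KT.cons (KT.into [] (nat_lit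 1) []) (KT.cons (KT.merge [nat_lit 3, nat_lit 6, nat_lit 20] [nat_lit 0] (KT.merge [nat_lit 8] [] (KT.cj [nat_lit 38, nat_lit 35, nat_lit 33, nat_lit 35, nat_lit 32, nat_lit 31, nat_lit 34, nat_lit 38, nat_lit 32, nat_lit 23, nat_lit 31, nat_lit 34, nat_lit 16, nat_lit 21] (nat_lit 1)))) KT.nil)))))) (KT.cons (KT.into [] (nat_lit 2) []) KT.nil)))) [nat_lit 8] _ _ (by decide +kernel)

theorem o8lk18 (b : Cx τ s M o8L) : KK s 3 o8cA (GoodM M s o8cR) (E s [nat_lit 48, nat_lit 50]) 7 :=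
  KH.kk (o8ckh b) [] KKs.nil (KT.merge [nat_lit 0] [nat_lit 0, nat_lit 3, nat_lit 5, nat_lit 7] (KT.merge [nat_lit 7] [nat_lit 0, nat_lit 3] (KT.split (KT.cons (KT.split (KT.cons (KT.merge [nat_lit 5] [] (KT.cj [nat_lit 19, nat_lit 0, nat_lit 28, nat_lit 31, nat_lit 22, nat_lit 30, nat_lit 32, nat_lit 28, nat_lit 28, nat_lit 35, nat_lit 38, nat_lit 33, nat_lit 33, nat_lit 39] (nat_lit 9))) (KT.cons (KT.merge [nat_lit 4] [] (KT.cj [nat_lit 42, nat_lit 6, nat_lit 28, nat_lit 23, nat_lit 25, nat_lit 29, nat_lit 34, nat_lit 28, nat_lit 37, nat_lit 32, nat_lit 32, nat_lit 32, nat_lit 37] (nat_lit 7))) (KT.cons (KT.merge [nat_lit 12] [] (KT.cj [nat_lit 34, nat_lit 34, nat_lit 28, nat_lit 37, nat_lit 23, nat_lit 23, nat_lit 58, nat_lit 15, nat_lit 47] (nat_lit 5))) KT.nil)))) (KT.cons (KT.merge [nat_lit 0, nat_lit 3, nat_lit 7] [nat_lit 1] (KT.merge [nat_lit 8] [] (KT.cj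 [nat_lit 36, nat_lit 38, nat_lit 33, nat_lit 39, nat_lit 36, nat_lit 33, nat_lit 28, nat_lit 37, nat_lit 23, nat_lit 30, nat_lit 33, nat_lit 24, nat_lit 46, nat_lit 35] (nat_lit 1)))) (KT.cons (KT.merge [nat_lit 1, nat_lit 2, nat_lit 6, nat_lit 14, nat_lit 16, nat_lit 18, nat_lit 20, nat_lit 22] [nat_lit 1] (KT.merge [nat_lit 4] [] (KT.cj [nat_lit 39, nat_lit 33, nat_lit 34, nat_lit 36, nat_lit 30, nat_lit 28, nat_lit 39, nat_lit 27, nat_lit 23, nat_lit 59, nat_lit 18, nat_lit 18] (nat_lit 1)))) KT.nil)))))) [nat_lit 8, nat_lit 10] _ _ (by decide +kernel)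

theorem o8lk19 (b : Cx τ s M o8L) : KK s 3 o8cA (GoodM M s o8cR) (E s [nat_lit 48, nat_lit 50, nat_lit 52]) 7 :=
  KH.kk (o8ckh b) [] KKs.nil (KT.merge [nat_lit 0] [nat_lit 0, nat_lit 2, nat_lit 5, nat_lit 6] (KT.merge [nat_lit 7] [nat_lit 0, nat_lit 3] (KT.merge [nat_lit 1, nat_lit 2, nat_lit 14, nat_lit 17, nat_lit 21, nat_lit 22] [nat_lit 2] (KT.split (KT.cons (KT.merge [nat_lit 4] [] (KT.cj [nat_lit 42, nat_lit 46, nat_lit 25, nat_lit 39, nat_lit 25, nat_lit 34, nat_lit 28, nat_lit 34, nat_lit 34, nat_lit 33, nat_lit 36] (nat_lit 1))) (KT.cons (KT.merge [nat_lit 9] [] (KT.cj [nat_lit 14, nat_lit 62, nat_lit 17, nat_lit 35, nat_lit 22, nat_lit 22, nat_lit 29, nat_lit 30, nat_lit 28, nat_lit 28, nat_lit 32, nat_lit 37, nat_lit 32, nat_lit 36, nat_lit 39] (nat_lit 7))) (KT.cons (KT.merge [nat_lit 5] [] (KT.cj [nat_lit 8, nat_lit 18, nat_lit 25, nat_lit 39, nat_lit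 24, nat_lit 30, nat_lit 39, nat_lit 29, nat_lit 33, nat_lit 37, nat_lit 34, nat_lit 39, nat_lit 37] (nat_lit 4))) KT.nil))))))) [nat_lit 8, nat_lit 10, nat_lit 12] _ _ (by decide +kernel)

theorem o8lk20 (b : Cx τ s M o8L) : KK s 3 o8cA (GoodM M s o8cR) (E s [nat_lit 48, nat_lit 50, nat_lit 52, nat_lit 52]) 7 :=
  KH.kk (o8ckh b) [] KKs.nil (KT.merge [nat_lit 0] [nat_lit 0, nat_lit 5] (KT.merge [nat_lit 7] [nat_lit 0, nat_lit 3] (KT.merge [nat_lit 0, nat_lit 3, nat_lit 6] [nat_lit 0, nat_lit 3] (KT.split (KT.cons (KT.merge [nat_lit 8] [] (KT.cj [nat_lit 14, nat_lit 53, nat_lit 59, nat_lit 24, nat_lit 32, nat_lit 29, nat_lit 30, nat_lit 28, nat_lit 32, nat_lit 38, nat_lit 33, nat_lit 38, nat_lit 38] (nat_lit 1))) (KT.cons (KT.merge [nat_lit 5] [] (KT.cj [nat_lit 17, nat_lit 45, nat_lit 36, nat_lit 27, nat_lit 27, nat_lit 37, nat_lit 37, nat_lit 29, nat_lit 38, nat_lit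 35, nat_lit 36, nat_lit 38] (nat_lit 4))) (KT.cons (KT.merge [nat_lit 4] [] (KT.cj [nat_lit 37, nat_lit 38, nat_lit 35, nat_lit 37, nat_lit 35, nat_lit 28, nat_lit 31, nat_lit 37, nat_lit 27, nat_lit 23, nat_lit 9, nat_lit 16] (nat_lit 5))) KT.nil))))))) [nat_lit 8, nat_lit 10, nat_lit 12, nat_lit 12] _ _ (by decide +kernel)

theorem o8lk21 (b : Cx τ s M o8L) : KK s 3 o8cA (GoodM M s o8cR) (E s [nat_lit 48, nat_lit 50, nat_lit 50]) 10 :=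
  KH.kk (o8ckh b) [] KKs.nil (KT.split (KT.cons (KT.merge [nat_lit 5] [] (KT.cj [nat_lit 43, nat_lit 4, nat_lit 2, nat_lit 28, nat_lit 38, nat_lit 22, nat_lit 30, nat_lit 35, nat_lit 35, nat_lit 28, nat_lit 39, nat_lit 32, nat_lit 38, nat_lit 38] (nat_lit 10))) (KT.cons (KT.merge [nat_lit 4] [] (KT.cj [nat_lit 10, nat_lit 18, nat_lit 0, nat_lit 27, nat_lit 33, nat_lit 23, nat_lit 36, nat_lit 30, nat_lit 28, nat_lit 39, nat_lit 39, nat_lit 32] (nat_lit 0))) (KT.cons (KT.merge [nat_lit 12] [] (KT.cj [nat_lit 19, nat_lit 19, nat_lit 27, nat_lit 29, nat_lit 23, nat_lit 31, nat_lit 28, nat_lit 31, nat_lit 29, nat_lit 33, nat_lit 37, nat_lit 34, nat_lit 38] (nat_lit 8))) KT.nil)))) [nat_lit 8, nat_lit 10, nat_lit 10] _ _ (by decide +kernel)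

theorem o8lk22 (b : Cx τ s M o8L) : KK s 3 o8cA (GoodM M s o8cR) (E s [nat_lit 48, nat_lit 50, nat_lit 50]) 7 :=
  KH.kk (o8ckh b) [([nat_lit 48, nat_lit 50, nat_lit 50], nat_lit 10)] (KKs.cons (o8lk21 b) KKs.nil) (KT.merge [nat_lit 0] [nat_lit 0, nat_lit 2, nat_lit 5] (KT.merge [nat_lit 7] [nat_lit 1, nat_lit 3, nat_lit 4] (KT.split (KT.cons (KT.into [] (nat_lit 0) []) (KT.cons (KT.merge [nat_lit 1, nat_lit 3, nat_lit 6, nat_lit 15, nat_lit 18, nat_lit 20] [] (KT.merge [nat_lit 8] [] (KT.cj [nat_lit 37, nat_lit 33, nat_lit 39, nat_lit 34, nat_lit 37, nat_lit 28, nat_lit 36, nat_lit 30, nat_lit 23, nat_lit 29, nat_lit 39, nat_lit 45, nat_lit 15] (nat_lit 1)))) (KT.cons (KT.merge [nat_lit 0, nat_lit 2, nat_lit 7] [nat_lit 1] (KT.merge [nat_lit 4] [] (KT.cj [nat_lit 49, nat_lit 1, nat_lit 49, nat_lit 59, nat_lit 27, nat_lit 22, nat_lit 35, nat_lit 39, nat_lit 28, nat_lit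 37, nat_lit 35, nat_lit 33, nat_lit 37] (nat_lit 1)))) KT.nil)))))) [nat_lit 8, nat_lit 10, nat_lit 10] _ _ (by decide +kernel)

theorem o8lk23 (b : Cx τ s M o8L) : KK s 3 o8cA (GoodM M s o8cR) (E s [nat_lit 48, nat_lit 50, nat_lit 50, nat_lit 52]) 7 :=
  KH.kk (o8ckh b) [] KKs.nil (KT.merge [nat_lit 0] [nat_lit 0, nat_lit 5, nat_lit 7] (KT.merge [nat_lit 7] [nat_lit 1, nat_lit 3, nat_lit 4] (KT.merge [nat_lit 1, nat_lit 3, nat_lit 7, nat_lit 15, nat_lit 17, nat_lit 19, nat_lit 21] [nat_lit 3] (KT.split (KT.cons (KT.merge [nat_lit 4] [] (KT.cj [nat_lit 36, nat_lit 56, nat_lit 14, nat_lit 29, nat_lit 25, nat_lit 23, nat_lit 36, nat_lit 29, nat_lit 29, nat_lit 39, nat_lit 36, nat_lit 32, nat_lit 36] (nat_lit 4))) (KT.cons (KT.merge [nat_lit 9] [] (KT.cj [nat_lit 26, nat_lit 34, nat_lit 66, nat_lit 38, nat_lit 29, nat_lit 25, nat_lit 34, nat_lit 36, nat_lit 30, nat_lit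 32, nat_lit 35, nat_lit 32, nat_lit 37, nat_lit 37] (nat_lit 0))) (KT.cons (KT.merge [nat_lit 5] [] (KT.cj [nat_lit 20, nat_lit 26, nat_lit 0, nat_lit 32, nat_lit 25, nat_lit 23, nat_lit 35, nat_lit 28, nat_lit 34, nat_lit 28, nat_lit 33, nat_lit 34, nat_lit 34] (nat_lit 1))) KT.nil))))))) [nat_lit 8, nat_lit 10, nat_lit 10, nat_lit 12] _ _ (by decide +kernel)

theorem o8lk24 (b : Cx τ s M o8L) : KK s 3 o8cA (GoodM M s o8cR) (E s [nat_lit 48, nat_lit 50, nat_lit 50, nat_lit 52, nat_lit 52]) 7 :=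
  KH.kk (o8ckh b) [] KKs.nil (KT.merge [nat_lit 0] [nat_lit 0, nat_lit 3, nat_lit 5, nat_lit 6] (KT.merge [nat_lit 7] [nat_lit 1, nat_lit 3, nat_lit 4] (KT.merge [nat_lit 0, nat_lit 2] [nat_lit 1, nat_lit 3] (KT.split (KT.cons (KT.merge [nat_lit 8] [] (KT.cj [nat_lit 61, nat_lit 1, nat_lit 2, nat_lit 22, nat_lit 27, nat_lit 22, nat_lit 30, nat_lit 34, nat_lit 30, nat_lit 34, nat_lit 34, nat_lit 32, nat_lit 36, nat_lit 39] (nat_lit 10))) (KT.cons (KT.merge [nat_lit 5] [] (KT.cj [nat_lit 46, nat_lit 2, nat_lit 39, nat_lit 33, nat_lit 22, nat_lit 34, nat_lit 36, nat_lit 29, nat_lit 37, nat_lit 32, nat_lit 36, nat_lit 39] (nat_lit 4))) (KT.cons (KT.merge [nat_lit 4] [] (KT.cj [nat_lit 35, nat_lit 47, nat_lit 12, nat_lit 27, nat_lit 58, nat_lit 34, nat_lit 28, nat_lit 39, nat_lit 35, nat_lit 36, nat_lit 36] (nat_lit 1))) KT.nil))))))) [nat_lit 8, nat_lit 10, nat_lit 10,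 nat_lit 12, nat_lit 12] _ _ (by decide +kernel)

theorem o8lk25 (b : Cx τ s M o8L) : KK s 3 o8cA (GoodM M s o8cR) (E s [nat_lit 46]) 6 :=
  KH.kk (o8ckh b) [] KKs.nil (KT.merge [nat_lit 4] [nat_lit 3, nat_lit 5, nat_lit 7] (KT.split (KT.cons (KT.merge [nat_lit 0] [nat_lit 0, nat_lit 2, nat_lit 4] (KT.merge [nat_lit 11] [] (KT.merge [nat_lit 3] [] (KT.split (KT.cons (KT.cj [nat_lit 16, nat_lit 55, nat_lit 6, nat_lit 37, nat_lit 24, nat_lit 34, nat_lit 30, nat_lit 29, nat_lit 33, nat_lit 38, nat_lit 35, nat_lit 32] (nat_lit 6)) (KT.cons (KT.cj [nat_lit 36, nat_lit 36, nat_lit 33, nat_lit 34, nat_lit 33, nat_lit 29, nat_lit 35, nat_lit 35, nat_lit 58, nat_lit 28, nat_lit 40, nat_lit 32] (nat_lit 9)) (KT.cons (KT.cj [nat_lit 14, nat_lit 21, nat_lit 12, nat_lit 22, nat_lit 35, nat_lit 27, nat_lit 29, nat_lit 35, nat_lit 28, nat_lit 33, nat_lit 38, nat_lit 36] (nat_lit 8))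 KT.nil))))))) (KT.cons (KT.merge [nat_lit 0] [nat_lit 0, nat_lit 3] (KT.merge [nat_lit 11] [] (KT.merge [nat_lit 3] [] (KT.merge [nat_lit 12] [] (KT.cj [nat_lit 38, nat_lit 36, nat_lit 32, nat_lit 35, nat_lit 31, nat_lit 33, nat_lit 35, nat_lit 23, nat_lit 25, nat_lit 22, nat_lit 30, nat_lit 19, nat_lit 49] (nat_lit 1)))))) (KT.cons (KT.merge [nat_lit 0] [nat_lit 0, nat_lit 5] (KT.merge [nat_lit 11] [] (KT.merge [nat_lit 3] [] (KT.merge [nat_lit 13] [] (KT.cj [nat_lit 37, nat_lit 37, nat_lit 35, nat_lit 38, nat_lit 34, nat_lit 31, nat_lit 29, nat_lit 37, nat_lit 23, nat_lit 33, nat_lit 38, nat_lit 1, nat_lit 30] (nat_lit 1)))))) KT.nil))))) [nat_lit 6] _ _ (by decide +kernel)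

theorem o8lk26 (b : Cx τ s M o8L) : KK s 3 o8cA (GoodM M s o8cR) (E s [nat_lit 46]) 5 :=
  KH.kk (o8ckh b) [([nat_lit 46], nat_lit 6)] (KKs.cons (o8lk25 b) KKs.nil) (KT.split (KT.cons (KT.into [] (nat_lit 0) []) (KT.cons (KT.merge [nat_lit 4] [nat_lit 3, nat_lit 5, nat_lit 7, nat_lit 8] (KT.merge [nat_lit 2] [nat_lit 7] (KT.merge [nat_lit 0] [nat_lit 2, nat_lit 4] (KT.merge [nat_lit 6] [] (KT.merge [nat_lit 14] [] (KT.merge [nat_lit 16] [] (KT.cj [nat_lit 29, nat_lit 10, nat_lit 0, nat_lit 25, nat_lit 23, nat_lit 24, nat_lit 31, nat_lit 29, nat_lit 29, nat_lit 35, nat_lit 35, nat_lit 38, nat_lit 36] (nat_lit 1)))))))) (KT.cons (KT.merge [nat_lit 4] [nat_lit 3, nat_lit 5, nat_lit 7, nat_lit 9] (KT.merge [nat_lit 3] [nat_lit 4, nat_lit 7] (KT.merge [nat_lit 0] [nat_lit 1, nat_lit 2, nat_lit 4] (KT.merge [nat_lit 7] [] (KT.merge [nat_lit 14] [] (KT.merge [nat_lit 17]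 [] (KT.cj [nat_lit 52, nat_lit 12, nat_lit 20, nat_lit 29, nat_lit 26, nat_lit 31, nat_lit 28, nat_lit 30, nat_lit 36, nat_lit 34, nat_lit 36, nat_lit 36] (nat_lit 1)))))))) KT.nil)))) [nat_lit 6] _ _ (by decide +kernel)

theorem o8lk27 (b : Cx τ s M o8L) : KK s 3 o8cA (GoodM M s o8cR) (E s [nat_lit 46, nat_lit 48]) 5 :=
  KH.kk (o8ckh b) [] KKs.nil (KT.split (KT.cons (KT.merge [nat_lit 4] [nat_lit 3, nat_lit 5, nat_lit 7, nat_lit 8] (KT.merge [nat_lit 0] [nat_lit 2] (KT.merge [nat_lit 7] [nat_lit 3, nat_lit 5] (KT.merge [nat_lit 11] [nat_lit 3] (KT.merge [nat_lit 3] [] (KT.merge [nat_lit 12] [] (KT.cj [nat_lit 44, nat_lit 17, nat_lit 25, nat_lit 26, nat_lit 23, nat_lit 34, nat_lit 30, nat_lit 28, nat_lit 38, nat_lit 37, nat_lit 35] (nat_lit 1)))))))) (KT.cons (KT.merge [nat_lit 4] [nat_lit 3, nat_lit 5, nat_lit 7, nat_lit 9] (KT.merge [nat_lit 0] [nat_lit 7] (KT.merge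 [nat_lit 7] [nat_lit 0, nat_lit 3] (KT.merge [nat_lit 11] [nat_lit 3] (KT.merge [nat_lit 14] [] (KT.prune (nat_lit 11) (nat_lit 1) [])))))) (KT.cons (KT.merge [nat_lit 4] [nat_lit 3, nat_lit 5, nat_lit 7] (KT.merge [nat_lit 0] [nat_lit 3, nat_lit 6] (KT.merge [nat_lit 7] [nat_lit 1, nat_lit 3, nat_lit 4] (KT.merge [nat_lit 11] [nat_lit 3] (KT.merge [nat_lit 14] [] (KT.prune (nat_lit 11) (nat_lit 2) [])))))) KT.nil)))) [nat_lit 6, nat_lit 8] _ _ (by decide +kernel)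

theorem o8lk28 (b : Cx τ s M o8L) : KK s 3 o8cA (GoodM M s o8cR) (E s [nat_lit 44, nat_lit 58, nat_lit 58]) 10 :=
  KH.kk (o8ckh b) [] KKs.nil (KT.split (KT.cons (KT.merge [nat_lit 5] [] (KT.cj [nat_lit 23, nat_lit 23, nat_lit 0, nat_lit 22, nat_lit 37, nat_lit 22, nat_lit 28, nat_lit 31, nat_lit 29, nat_lit 35, nat_lit 35, nat_lit 32] (nat_lit 1))) (KT.cons (KT.merge [nat_lit 4] [] (KT.cj [nat_lit 53, nat_lit 0, nat_lit 24, nat_lit 26, nat_lit 22, nat_lit 30, nat_lit 28, nat_lit 28, nat_lit 39, nat_lit 32, nat_lit 36, nat_lit 38, nat_lit 36] (nat_lit 1))) (KT.cons (KT.merge [nat_lit 12] [] (KT.cj [nat_lit 22, nat_lit 17, nat_lit 28, nat_lit 34, nat_lit 23, nat_lit 29, nat_lit 38, nat_lit 28, nat_lit 34, nat_lit 32, nat_lit 34, nat_lit 37, nat_lit 38, nat_lit 38] (nat_lit 2))) KT.nil)))) [nat_lit 4, nat_lit 18, nat_lit 18] _ _ (by decide +kernel)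

theorem o8lk29 (b : Cx τ s M o8L) : KK s 3 o8cA (GoodM M s o8cR) (E s [nat_lit 44]) 9 :=
  KH.kk (o8ckh b) [([nat_lit 44, nat_lit 58, nat_lit 58], nat_lit 10)] (KKs.cons (o8lk28 b) KKs.nil) (KT.split (KT.cons (KT.split (KT.cons (KT.merge [nat_lit 8] [] (KT.cj [nat_lit 33, nat_lit 35, nat_lit 36, nat_lit 33, nat_lit 29, nat_lit 31, nat_lit 35, nat_lit 30, nat_lit 22, nat_lit 26, nat_lit 32, nat_lit 5, nat_lit 55] (nat_lit 3))) (KT.cons (KT.merge [nat_lit 5] [] (KT.cj [nat_lit 33, nat_lit 33, nat_lit 38, nat_lit 30, nat_lit 37, nat_lit 32, nat_lit 24, nat_lit 26, nat_lit 28, nat_lit 3, nat_lit 44] (nat_lit 1))) (KT.cons (KT.merge [nat_lit 4] [] (KT.cj [nat_lit 21, nat_lit 12, nat_lit 53, nat_lit 28, nat_lit 26, nat_lit 38, nat_lit 32, nat_lit 28, nat_lit 28, nat_lit 33, nat_lit 39, nat_lit 34] (nat_lit 1))) KT.nil)))) (KT.cons (KT.split (KT.cons (KT.merge [nat_lit 4]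 [] (KT.cj [nat_lit 16, nat_lit 26, nat_lit 16, nat_lit 0, nat_lit 39, nat_lit 22, nat_lit 39, nat_lit 31, nat_lit 37, nat_lit 37, nat_lit 34, nat_lit 37, nat_lit 38] (nat_lit 1))) (KT.cons (KT.merge [nat_lit 9] [] (KT.cj [nat_lit 39, nat_lit 37, nat_lit 33, nat_lit 33, nat_lit 38, nat_lit 28, nat_lit 32, nat_lit 34, nat_lit 23, nat_lit 59, nat_lit 32, nat_lit 43, nat_lit 31] (nat_lit 6))) (KT.cons (KT.merge [nat_lit 5] [] (KT.cj [nat_lit 39, nat_lit 33, nat_lit 35, nat_lit 39, nat_lit 32, nat_lit 29, nat_lit 34, nat_lit 28, nat_lit 27, nat_lit 58, nat_lit 46, nat_lit 28] (nat_lit 1))) KT.nil)))) (KT.cons (KT.into [] (nat_lit 0) []) KT.nil)))) [nat_lit 4] _ _ (by decide +kernel)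

theorem o8lk30 (b : Cx τ s M o8L) : KK s 3 o8cA (GoodM M s o8cR) (E s [nat_lit 44, nat_lit 56, nat_lit 58]) 10 :=
  KH.kk (o8ckh b) [] KKs.nil (KT.split (KT.cons (KT.merge [nat_lit 5] [] (KT.cj [nat_lit 67, nat_lit 51, nat_lit 40, nat_lit 35, nat_lit 32, nat_lit 22, nat_lit 38, nat_lit 28, nat_lit 30, nat_lit 33, nat_lit 38, nat_lit 37, nat_lit 32] (nat_lit 1))) (KT.cons (KT.merge [nat_lit 4] [] (KT.cj [nat_lit 41, nat_lit 28, nat_lit 1, nat_lit 29, nat_lit 39, nat_lit 24, nat_lit 34, nat_lit 29, nat_lit 29, nat_lit 37, nat_lit 33, nat_lit 37, nat_lit 38] (nat_lit 1))) (KT.cons (KT.merge [nat_lit 9] [] (KT.cj [nat_lit 39, nat_lit 36, nat_lit 34, nat_lit 39, nat_lit 32, nat_lit 29, nat_lit 35, nat_lit 29, nat_lit 32, nat_lit 22, nat_lit 58, nat_lit 28, nat_lit 21, nat_lit 18] (nat_lit 12))) KT.nil)))) [nat_lit 4, nat_lit 16, nat_lit 18] _ _ (by decide +kernel)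

theorem o8lk31 (b : Cx τ s M o8L) : KK s 3 o8cA (GoodM M s o8cR) (E s [nat_lit 44, nat_lit 56, nat_lit 58, nat_lit 58]) 10 :=
  KH.kk (o8ckh b) [] KKs.nil (KT.split (KT.cons (KT.merge [nat_lit 11] [] (KT.cj [nat_lit 35, nat_lit 45, nat_lit 47, nat_lit 39, nat_lit 59, nat_lit 26, nat_lit 34, nat_lit 39, nat_lit 28, nat_lit 35, nat_lit 35, nat_lit 39, nat_lit 37] (nat_lit 10))) (KT.cons (KT.merge [nat_lit 5] [] (KT.cj [nat_lit 52, nat_lit 64, nat_lit 42, nat_lit 33, nat_lit 59, nat_lit 29, nat_lit 34, nat_lit 28, nat_lit 37, nat_lit 39, nat_lit 34, nat_lit 32] (nat_lit 1))) (KT.cons (KT.merge [nat_lit 4] [] (KT.cj [nat_lit 31, nat_lit 35, nat_lit 42, nat_lit 58, nat_lit 24, nat_lit 35, nat_lit 30, nat_lit 28, nat_lit 32, nat_lit 35, nat_lit 32] (nat_lit 1))) KT.nil)))) [nat_lit 4, nat_lit 16, nat_lit 18, nat_lit 18] _ _ (by decide +kernel)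

theorem o8lk32 (b : Cx τ s M o8L) : KK s 3 o8cA (GoodM M s o8cR) (E s [nat_lit 44, nat_lit 56, nat_lit 56, nat_lit 58]) 10 :=
  KH.kk (o8ckh b) [] KKs.nil (KT.split (KT.cons (KT.merge [nat_lit 9] [] (KT.cj [nat_lit 33, nat_lit 45, nat_lit 38, nat_lit 32, nat_lit 22, nat_lit 38, nat_lit 33, nat_lit 29, nat_lit 33, nat_lit 34, nat_lit 37, nat_lit 32, nat_lit 37] (nat_lit 11))) (KT.cons (KT.merge [nat_lit 5] [] (KT.cj [nat_lit 52, nat_lit 36, nat_lit 40, nat_lit 32, nat_lit 31, nat_lit 22, nat_lit 28, nat_lit 34, nat_lit 28, nat_lit 33, nat_lit 39, nat_lit 32, nat_lit 38] (nat_lit 1))) (KT.cons (KT.merge [nat_lit 4] [] (KT.cj [nat_lit 46, nat_lit 36, nat_lit 46, nat_lit 35, nat_lit 24, nat_lit 38, nat_lit 36, nat_lit 29, nat_lit 39, nat_lit 33, nat_lit 39, nat_lit 37] (nat_lit 1))) KT.nil)))) [nat_lit 4, nat_lit 16, nat_lit 16, nat_lit 18] _ _ (by decide +kernel)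

theorem o8lk33 (b : Cx τ s M o8L) : KK s 3 o8cA (GoodM M s o8cR) (E s [nat_lit 44, nat_lit 56, nat_lit 56, nat_lit 58, nat_lit 58]) 10 :=
  KH.kk (o8ckh b) [] KKs.nil (KT.split (KT.cons (KT.merge [nat_lit 4] [] (KT.cj [nat_lit 41, nat_lit 23, nat_lit 24, nat_lit 26, nat_lit 33, nat_lit 33, nat_lit 30, nat_lit 28, nat_lit 32, nat_lit 34, nat_lit 33, nat_lit 36, nat_lit 38] (nat_lit 1))) (KT.cons (KT.merge [nat_lit 10] [] (KT.cj [nat_lit 39, nat_lit 36, nat_lit 34, nat_lit 36, nat_lit 32, nat_lit 30, nat_lit 35, nat_lit 28, nat_lit 22, nat_lit 31, nat_lit 20, nat_lit 45] (nat_lit 7))) (KT.cons (KT.merge [nat_lit 5] [] (KT.cj [nat_lit 55, nat_lit 25, nat_lit 8, nat_lit 59, nat_lit 27, nat_lit 23, nat_lit 33, nat_lit 28, nat_lit 33, nat_lit 36, nat_lit 32] (nat_lit 1))) KT.nil)))) [nat_lit 4, nat_lit 16, nat_lit 16, nat_lit 18, nat_lit 18] _ _ (by decide +kernel)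

theorem o8lk34 (b : Cx τ s M o8L) : KK s 3 o8cA (GoodM M s o8cR) (E s [nat_lit 44, nat_lit 56, nat_lit 56]) 9 :=
  KH.kk (o8ckh b) [([nat_lit 44, nat_lit 56, nat_lit 56, nat_lit 58], nat_lit 10), ([nat_lit 44, nat_lit 56, nat_lit 56, nat_lit 58, nat_lit 58], nat_lit 10)] (KKs.cons (o8lk32 b) (KKs.cons (o8lk33 b) KKs.nil)) (KT.split (KT.cons (KT.split (KT.cons (KT.merge [nat_lit 5] [] (KT.cj [nat_lit 50, nat_lit 4, nat_lit 33, nat_lit 25, nat_lit 59, nat_lit 29, nat_lit 36, nat_lit 31, nat_lit 36, nat_lit 32, nat_lit 34, nat_lit 37, nat_lit 39] (nat_lit 1))) (KT.cons (KT.merge [nat_lit 4] [] (KT.cj [nat_lit 19, nat_lit 4, nat_lit 16, nat_lit 22, nat_lit 58, nat_lit 36, nat_lit 38, nat_lit 30, nat_lit 33, nat_lit 37, nat_lit 35] (nat_lit 1))) (KT.cons (KT.merge [nat_lit 8] [] (KT.cj [nat_lit 27, nat_lit 41, nat_lit 32, nat_lit 22, nat_lit 27, nat_lit 32, nat_lit 29,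 nat_lit 29, nat_lit 38, nat_lit 32, nat_lit 32, nat_lit 32, nat_lit 36, nat_lit 36] (nat_lit 0))) KT.nil)))) (KT.cons (KT.into [] (nat_lit 0) []) (KT.cons (KT.into [] (nat_lit 1) []) KT.nil)))) [nat_lit 4, nat_lit 16, nat_lit 16] _ _ (by decide +kernel)

theorem o8lk35 (b : Cx τ s M o8L) : KK s 3 o8cA (GoodM M s o8cR) (E s [nat_lit 44]) 8 :=
  KH.kk (o8ckh b) [([nat_lit 44], nat_lit 9), ([nat_lit 44, nat_lit 56, nat_lit 58], nat_lit 10), ([nat_lit 44, nat_lit 56, nat_lit 58, nat_lit 58], nat_lit 10), ([nat_lit 44, nat_lit 56, nat_lit 56], nat_lit 9)] (KKs.cons (o8lk29 b) (KKs.cons (o8lk30 b) (KKs.cons (o8lk31 b) (KKs.cons (o8lk34 b) KKs.nil)))) (KT.split (KT.cons (KT.into [] (nat_lit 0) []) (KT.cons (KT.split (KT.cons (KT.split (KT.cons (KT.merge [nat_lit 4] [] (KT.cj [nat_lit 23, nat_lit 43, nat_lit 2, nat_lit 34, nat_lit 25, nat_lit 26, nat_lit 39, nat_lit 33, nat_lit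 28, nat_lit 34, nat_lit 37, nat_lit 35, nat_lit 38] (nat_lit 1))) (KT.cons (KT.merge [nat_lit 8] [] (KT.cj [nat_lit 12, nat_lit 2, nat_lit 33, nat_lit 30, nat_lit 32, nat_lit 28, nat_lit 39, nat_lit 39, nat_lit 33, nat_lit 37, nat_lit 39] (nat_lit 5))) (KT.cons (KT.merge [nat_lit 5] [] (KT.cj [nat_lit 39, nat_lit 37, nat_lit 35, nat_lit 36, nat_lit 36, nat_lit 28, nat_lit 35, nat_lit 39, nat_lit 24, nat_lit 39, nat_lit 3, nat_lit 31] (nat_lit 1))) KT.nil)))) (KT.cons (KT.into [] (nat_lit 1) []) (KT.cons (KT.into [] (nat_lit 2) []) KT.nil)))) (KT.cons (KT.into [] (nat_lit 3) []) KT.nil)))) [nat_lit 4] _ _ (by decide +kernel)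

theorem o8lk36 (b : Cx τ s M o8L) : KK s 3 o8cA (GoodM M s o8cR) (E s [nat_lit 44, nat_lit 54, nat_lit 58]) 10 :=
  KH.kk (o8ckh b) [] KKs.nil (KT.split (KT.cons (KT.merge [nat_lit 9] [] (KT.cj [nat_lit 13, nat_lit 29, nat_lit 42, nat_lit 59, nat_lit 23, nat_lit 27, nat_lit 30, nat_lit 30, nat_lit 34, nat_lit 38, nat_lit 34, nat_lit 37] (nat_lit 9))) (KT.cons (KT.merge [nat_lit 5] [] (KT.cj [nat_lit 21, nat_lit 16, nat_lit 35, nat_lit 29, nat_lit 24, nat_lit 34, nat_lit 32, nat_lit 30, nat_lit 28, nat_lit 36, nat_lit 33, nat_lit 35, nat_lit 32, nat_lit 39] (nat_lit 1))) (KT.cons (KT.merge [nat_lit 4] [] (KT.cj [nat_lit 32, nat_lit 66, nat_lit 16, nat_lit 32, nat_lit 36, nat_lit 25, nat_lit 36, nat_lit 32, nat_lit 28, nat_lit 39, nat_lit 32, nat_lit 37, nat_lit 39, nat_lit 37] (nat_lit 1))) KT.nil)))) [nat_lit 4, nat_lit 14, nat_lit 18] _ _ (by decide +kernel)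

theorem o8lk37 (b : Cx τ s M o8L) : KK s 3 o8cA (GoodM M s o8cR) (E s [nat_lit 44, nat_lit 54, nat_lit 58, nat_lit 58]) 10 :=
  KH.kk (o8ckh b) [] KKs.nil (KT.split (KT.cons (KT.merge [nat_lit 4] [] (KT.cj [nat_lit 9, nat_lit 50, nat_lit 31, nat_lit 37, nat_lit 23, nat_lit 35, nat_lit 30, nat_lit 30, nat_lit 34, nat_lit 33, nat_lit 36] (nat_lit 1))) (KT.cons (KT.merge [nat_lit 13] [] (KT.cj [nat_lit 33, nat_lit 51, nat_lit 8, nat_lit 38, nat_lit 59, nat_lit 22, nat_lit 37, nat_lit 31, nat_lit 29, nat_lit 39, nat_lit 35, nat_lit 35, nat_lit 38, nat_lit 37] (nat_lit 7))) (KT.cons (KT.merge [nat_lit 5] [] (KT.cj [nat_lit 37, nat_lit 37, nat_lit 37, nat_lit 35, nat_lit 33, nat_lit 28, nat_lit 30, nat_lit 36, nat_lit 23, nat_lit 30, nat_lit 22, nat_lit 53, nat_lit 9] (nat_lit 1))) KT.nil)))) [nat_lit 4, nat_lit 14, nat_lit 18, nat_lit 18] _ _ (by decide +kernel)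

theorem o8lk38 (b : Cx τ s M o8L) : KK s 3 o8cA (GoodM M s o8cR) (E s [nat_lit 44, nat_lit 54]) 9 :=
  KH.kk (o8ckh b) [([nat_lit 44, nat_lit 54, nat_lit 58], nat_lit 10), ([nat_lit 44, nat_lit 54, nat_lit 58, nat_lit 58], nat_lit 10)] (KKs.cons (o8lk36 b) (KKs.cons (o8lk37 b) KKs.nil)) (KT.split (KT.cons (KT.split (KT.cons (KT.merge [nat_lit 5] [] (KT.cj [nat_lit 3, nat_lit 53, nat_lit 6, nat_lit 27, nat_lit 39, nat_lit 22, nat_lit 37, nat_lit 31, nat_lit 29, nat_lit 30, nat_lit 39, nat_lit 34] (nat_lit 1))) (KT.cons (KT.merge [nat_lit 4] [] (KT.cj [nat_lit 60, nat_lit 21, nat_lit 59, nat_lit 33, nat_lit 22, nat_lit 39, nat_lit 35, nat_lit 30, nat_lit 35, nat_lit 35, nat_lit 32, nat_lit 39, nat_lit 39] (nat_lit 1))) (KT.cons (KT.merge [nat_lit 8] [] (KT.cj [nat_lit 12, nat_lit 35, nat_lit 30, nat_lit 35, nat_lit 28, nat_lit 36, nat_lit 34, nat_lit 33, nat_lit 33,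 nat_lit 37, nat_lit 38, nat_lit 38] (nat_lit 5))) KT.nil)))) (KT.cons (KT.into [] (nat_lit 0) []) (KT.cons (KT.into [] (nat_lit 1) []) KT.nil)))) [nat_lit 4, nat_lit 14] _ _ (by decide +kernel)

theorem o8lk39 (b : Cx τ s M o8L) : KK s 3 o8cA (GoodM M s o8cR) (E s [nat_lit 44, nat_lit 54, nat_lit 56, nat_lit 58]) 10 :=
  KH.kk (o8ckh b) [] KKs.nil (KT.split (KT.cons (KT.merge [nat_lit 4] [] (KT.cj [nat_lit 36, nat_lit 36, nat_lit 35, nat_lit 38, nat_lit 28, nat_lit 28, nat_lit 34, nat_lit 23, nat_lit 28, nat_lit 38, nat_lit 11, nat_lit 28] (nat_lit 1))) (KT.cons (KT.merge [nat_lit 9] [] (KT.cj [nat_lit 38, nat_lit 36, nat_lit 32, nat_lit 38, nat_lit 31, nat_lit 36, nat_lit 30, nat_lit 25, nat_lit 25, nat_lit 30, nat_lit 19, nat_lit 1] (nat_lit 5))) (KT.cons (KT.merge [nat_lit 5] [] (KT.cj [nat_lit 5, nat_lit 22, nat_lit 16, nat_lit 29, nat_lit 31, nat_lit 22, nat_lit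 35, nat_lit 31, nat_lit 38, nat_lit 32, nat_lit 36] (nat_lit 1))) KT.nil)))) [nat_lit 4, nat_lit 14, nat_lit 16, nat_lit 18] _ _ (by decide +kernel)

theorem o8lk40 (b : Cx τ s M o8L) : KK s 3 o8cA (GoodM M s o8cR) (E s [nat_lit 44, nat_lit 54, nat_lit 56, nat_lit 58, nat_lit 58]) 10 :=
  KH.kk (o8ckh b) [] KKs.nil (KT.split (KT.cons (KT.merge [nat_lit 5] [] (KT.cj [nat_lit 36, nat_lit 12, nat_lit 35, nat_lit 33, nat_lit 23, nat_lit 37, nat_lit 35, nat_lit 29, nat_lit 33, nat_lit 38, nat_lit 35, nat_lit 37, nat_lit 38, nat_lit 38] (nat_lit 4))) (KT.cons (KT.merge [nat_lit 4] [] (KT.cj [nat_lit 26, nat_lit 1, nat_lit 57, nat_lit 25, nat_lit 33, nat_lit 22, nat_lit 22, nat_lit 31, nat_lit 38, nat_lit 30, nat_lit 30, nat_lit 37, nat_lit 34] (nat_lit 4))) (KT.cons (KT.merge [nat_lit 11] [] (KT.cj [nat_lit 40, nat_lit 25, nat_lit 17, nat_lit 25, nat_lit 27, nat_lit 59,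 nat_lit 32, nat_lit 29, nat_lit 33, nat_lit 34, nat_lit 39, nat_lit 39, nat_lit 36] (nat_lit 1))) KT.nil)))) [nat_lit 4, nat_lit 14, nat_lit 16, nat_lit 18, nat_lit 18] _ _ (by decide +kernel)

theorem o8lk41 (b : Cx τ s M o8L) : KK s 3 o8cA (GoodM M s o8cR) (E s [nat_lit 44, nat_lit 54, nat_lit 56]) 9 :=
  KH.kk (o8ckh b) [([nat_lit 44, nat_lit 54, nat_lit 56, nat_lit 58], nat_lit 10), ([nat_lit 44, nat_lit 54, nat_lit 56, nat_lit 58, nat_lit 58], nat_lit 10)] (KKs.cons (o8lk39 b) (KKs.cons (o8lk40 b) KKs.nil)) (KT.split (KT.cons (KT.split (KT.cons (KT.merge [nat_lit 8] [] (KT.cj [nat_lit 64, nat_lit 1, nat_lit 37, nat_lit 31, nat_lit 29, nat_lit 39, nat_lit 37, nat_lit 35, nat_lit 37, nat_lit 39, nat_lit 37] (nat_lit 4))) (KT.cons (KT.merge [nat_lit 5] [] (KT.cj [nat_lit 52, nat_lit 45, nat_lit 21, nat_lit 0, nat_lit 29, nat_lit 59, nat_lit 24, nat_lit 33, nat_lit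 39, nat_lit 32, nat_lit 38, nat_lit 36] (nat_lit 5))) (KT.cons (KT.merge [nat_lit 4] [] (KT.cj [nat_lit 27, nat_lit 47, nat_lit 17, nat_lit 25, nat_lit 37, nat_lit 29, nat_lit 31, nat_lit 38, nat_lit 35, nat_lit 33, nat_lit 37, nat_lit 38] (nat_lit 5))) KT.nil)))) (KT.cons (KT.into [] (nat_lit 0) []) (KT.cons (KT.into [] (nat_lit 1) []) KT.nil)))) [nat_lit 4, nat_lit 14, nat_lit 16] _ _ (by decide +kernel)

theorem o8lk42 (b : Cx τ s M o8L) : KK s 3 o8cA (GoodM M s o8cR) (E s [nat_lit 44, nat_lit 54, nat_lit 56, nat_lit 56]) 10 :=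
  KH.kk (o8ckh b) [] KKs.nil (KT.split (KT.cons (KT.merge [nat_lit 4] [] (KT.cj [nat_lit 55, nat_lit 0, nat_lit 25, nat_lit 38, nat_lit 36, nat_lit 35, nat_lit 28, nat_lit 38, nat_lit 33, nat_lit 33, nat_lit 39, nat_lit 39] (nat_lit 4))) (KT.cons (KT.merge [nat_lit 8] [] (KT.cj [nat_lit 12, nat_lit 19, nat_lit 34, nat_lit 22, nat_lit 24, nat_lit 38, nat_lit 32, nat_lit 30, nat_lit 28, nat_lit 33, nat_lit 38, nat_lit 37] (nat_lit 1))) (KT.cons (KT.merge [nat_lit 5] [] (KT.cj [nat_lit 30, nat_lit 42, nat_lit 33, nat_lit 38, nat_lit 59, nat_lit 29, nat_lit 31, nat_lit 28, nat_lit 32, nat_lit 32, nat_lit 35, nat_lit 32, nat_lit 37] (nat_lit 4))) KT.nil)))) [nat_lit 4, nat_lit 14, nat_lit 16, nat_lit 16] _ _ (by decide +kernel)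

theorem o8lk43 (b : Cx τ s M o8L) : KK s 3 o8cA (GoodM M s o8cR) (E s [nat_lit 44, nat_lit 54, nat_lit 56, nat_lit 56, nat_lit 58]) 10 :=
  KH.kk (o8ckh b) [] KKs.nil (KT.split (KT.cons (KT.merge [nat_lit 5] [] (KT.cj [nat_lit 33, nat_lit 18, nat_lit 10, nat_lit 39, nat_lit 22, nat_lit 25, nat_lit 34, nat_lit 33, nat_lit 29, nat_lit 37, nat_lit 32, nat_lit 38, nat_lit 32] (nat_lit 1))) (KT.cons (KT.merge [nat_lit 4] [] (KT.cj [nat_lit 36, nat_lit 33, nat_lit 34, nat_lit 29, nat_lit 38, nat_lit 29, nat_lit 32, nat_lit 22, nat_lit 27, nat_lit 32, nat_lit 0, nat_lit 46] (nat_lit 1))) (KT.cons (KT.merge [nat_lit 9] [] (KT.cj [nat_lit 38, nat_lit 38, nat_lit 32, nat_lit 34, nat_lit 29, nat_lit 37, nat_lit 30, nat_lit 30, nat_lit 27, nat_lit 22, nat_lit 26, nat_lit 65] (nat_lit 7))) KT.nil)))) [nat_lit 4, nat_lit 14, nat_lit 16, nat_lit 16, nat_lit 18] _ _ (by decide +kernel)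

theorem o8lk44 (b : Cx τ s M o8L) : KK s 3 o8cA (GoodM M s o8cR) (E s [nat_lit 44, nat_lit 54, nat_lit 56, nat_lit 56, nat_lit 58, nat_lit 58]) 10 :=
  KH.kk (o8ckh b) [] KKs.nil (KT.split (KT.cons (KT.merge [nat_lit 10] [] (KT.cj [nat_lit 37, nat_lit 32, nat_lit 34, nat_lit 33, nat_lit 30, nat_lit 37, nat_lit 32, nat_lit 58, nat_lit 30, nat_lit 67, nat_lit 33] (nat_lit 4))) (KT.cons (KT.merge [nat_lit 5] [] (KT.cj [nat_lit 5, nat_lit 38, nat_lit 41, nat_lit 22, nat_lit 25, nat_lit 35, nat_lit 29, nat_lit 29, nat_lit 32, nat_lit 32, nat_lit 32, nat_lit 36, nat_lit 36] (nat_lit 7))) (KT.cons (KT.merge [nat_lit 4] [] (KT.cj [nat_lit 21, nat_lit 8, nat_lit 22, nat_lit 31, nat_lit 25, nat_lit 33, nat_lit 31, nat_lit 28, nat_lit 28, nat_lit 33, nat_lit 38, nat_lit 34, nat_lit 32, nat_lit 38] (nat_lit 7))) KT.nil)))) [nat_lit 4, nat_lit 14, nat_lit 16, nat_lit 16, nat_lit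 18, nat_lit 18] _ _ (by decide +kernel)

theorem o8lk45 (b : Cx τ s M o8L) : KK s 3 o8cA (GoodM M s o8cR) (E s [nat_lit 44, nat_lit 54, nat_lit 54]) 10 :=
  KH.kk (o8ckh b) [] KKs.nil (KT.split (KT.cons (KT.merge [nat_lit 4] [] (KT.cj [nat_lit 21, nat_lit 30, nat_lit 0, nat_lit 24, nat_lit 35, nat_lit 58, nat_lit 31, nat_lit 37, nat_lit 31, nat_lit 28, nat_lit 38, nat_lit 34, nat_lit 39] (nat_lit 1))) (KT.cons (KT.merge [nat_lit 8] [] (KT.cj [nat_lit 39, nat_lit 36, nat_lit 33, nat_lit 39, nat_lit 34, nat_lit 36, nat_lit 31, nat_lit 35, nat_lit 35, nat_lit 22, nat_lit 25, nat_lit 35, nat_lit 40, nat_lit 37] (nat_lit 0))) (KT.cons (KT.merge [nat_lit 5] [] (KT.cj [nat_lit 37, nat_lit 38, nat_lit 38, nat_lit 35, nat_lit 28, nat_lit 34, nat_lit 31, nat_lit 24, nat_lit 35, nat_lit 22, nat_lit 1, nat_lit 45, nat_lit 1] (nat_lit 1))) KT.nil)))) [nat_lit 4, nat_lit 14, nat_lit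 14] _ _ (by decide +kernel)

theorem o8lk46 (b : Cx τ s M o8L) : KK s 3 o8cA (GoodM M s o8cR) (E s [nat_lit 44, nat_lit 54, nat_lit 54, nat_lit 58]) 10 :=
  KH.kk (o8ckh b) [] KKs.nil (KT.split (KT.cons (KT.merge [nat_lit 5] [] (KT.cj [nat_lit 40, nat_lit 21, nat_lit 2, nat_lit 36, nat_lit 23, nat_lit 39, nat_lit 36, nat_lit 29, nat_lit 35, nat_lit 39, nat_lit 36, nat_lit 36] (nat_lit 1))) (KT.cons (KT.merge [nat_lit 4] [] (KT.cj [nat_lit 45, nat_lit 53, nat_lit 1, nat_lit 24, nat_lit 26, nat_lit 26, nat_lit 36, nat_lit 39, nat_lit 29, nat_lit 34, nat_lit 36, nat_lit 38] (nat_lit 1))) (KT.cons (KT.merge [nat_lit 9] [] (KT.cj [nat_lit 64, nat_lit 6, nat_lit 37, nat_lit 32, nat_lit 23, nat_lit 32, nat_lit 31, nat_lit 33, nat_lit 34, nat_lit 32, nat_lit 36, nat_lit 36, nat_lit 36] (nat_lit 8))) KT.nil)))) [nat_lit 4, nat_lit 14, nat_lit 14, nat_lit 18] _ _ (by decide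 +kernel)

theorem o8lk47 (b : Cx τ s M o8L) : KK s 3 o8cA (GoodM M s o8cR) (E s [nat_lit 44, nat_lit 54, nat_lit 54, nat_lit 58, nat_lit 58]) 10 :=
  KH.kk (o8ckh b) [] KKs.nil (KT.split (KT.cons (KT.merge [nat_lit 14] [] (KT.cj [nat_lit 4, nat_lit 46, nat_lit 59, nat_lit 27, nat_lit 23, nat_lit 37, nat_lit 32, nat_lit 30, nat_lit 38, nat_lit 32, nat_lit 38, nat_lit 37] (nat_lit 10))) (KT.cons (KT.merge [nat_lit 5] [] (KT.cj [nat_lit 36, nat_lit 49, nat_lit 24, nat_lit 22, nat_lit 59, nat_lit 32, nat_lit 35, nat_lit 36, nat_lit 28, nat_lit 33, nat_lit 34, nat_lit 38] (nat_lit 1))) (KT.cons (KT.merge [nat_lit 4] [] (KT.cj [nat_lit 2, nat_lit 42, nat_lit 12, nat_lit 27, nat_lit 27, nat_lit 39, nat_lit 22, nat_lit 34, nat_lit 33, nat_lit 37, nat_lit 38] (nat_lit 1))) KT.nil)))) [nat_lit 4, nat_lit 14, nat_lit 14, nat_lit 18, nat_lit 18] _ _ (by decide +kernel)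

theorem o8lk48 (b : Cx τ s M o8L) : KK s 3 o8cA (GoodM M s o8cR) (E s [nat_lit 44, nat_lit 54, nat_lit 54, nat_lit 56]) 10 :=
  KH.kk (o8ckh b) [] KKs.nil (KT.split (KT.cons (KT.merge [nat_lit 5] [] (KT.cj [nat_lit 46, nat_lit 14, nat_lit 30, nat_lit 37, nat_lit 22, nat_lit 34, nat_lit 34, nat_lit 29, nat_lit 33, nat_lit 38, nat_lit 35, nat_lit 36, nat_lit 38] (nat_lit 4))) (KT.cons (KT.merge [nat_lit 4] [] (KT.cj [nat_lit 22, nat_lit 2, nat_lit 18, nat_lit 30, nat_lit 24, nat_lit 27, nat_lit 36, nat_lit 29, nat_lit 38, nat_lit 28, nat_lit 33, nat_lit 37, nat_lit 35] (nat_lit 4))) (KT.cons (KT.merge [nat_lit 8] [] (KT.cj [nat_lit 38, nat_lit 37, nat_lit 33, nat_lit 33, nat_lit 35, nat_lit 28, nat_lit 31, nat_lit 32, nat_lit 26, nat_lit 35, nat_lit 1, nat_lit 15, nat_lit 20] (nat_lit 1))) KT.nil)))) [nat_lit 4, nat_lit 14, nat_lit 14, nat_lit 16] _ _ (by decide +kernel)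

theorem o8lk49 (b : Cx τ s M o8L) : KK s 3 o8cA (GoodM M s o8cR) (E s [nat_lit 44, nat_lit 54, nat_lit 54, nat_lit 56, nat_lit 58]) 10 :=
  KH.kk (o8ckh b) [] KKs.nil (KT.split (KT.cons (KT.merge [nat_lit 9] [] (KT.cj [nat_lit 22, nat_lit 43, nat_lit 20, nat_lit 38, nat_lit 25, nat_lit 25, nat_lit 37, nat_lit 32, nat_lit 29, nat_lit 37, nat_lit 38, nat_lit 34, nat_lit 37] (nat_lit 10))) (KT.cons (KT.merge [nat_lit 5] [] (KT.cj [nat_lit 12, nat_lit 46, nat_lit 27, nat_lit 22, nat_lit 26, nat_lit 32, nat_lit 34, nat_lit 31, nat_lit 28, nat_lit 32, nat_lit 34, nat_lit 39, nat_lit 36] (nat_lit 1))) (KT.cons (KT.merge [nat_lit 4] [] (KT.cj [nat_lit 25, nat_lit 47, nat_lit 39, nat_lit 34, nat_lit 23, nat_lit 28, nat_lit 34, nat_lit 36, nat_lit 28, nat_lit 33, nat_lit 34, nat_lit 32, nat_lit 37, nat_lit 39] (nat_lit 1))) KT.nil)))) [nat_lit 4, nat_lit 14, nat_lit 14, nat_lit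 16, nat_lit 18] _ _ (by decide +kernel)

theorem o8lk50 (b : Cx τ s M o8L) : KK s 3 o8cA (GoodM M s o8cR) (E s [nat_lit 44, nat_lit 54, nat_lit 54, nat_lit 56, nat_lit 58, nat_lit 58]) 10 :=
  KH.kk (o8ckh b) [] KKs.nil (KT.split (KT.cons (KT.merge [nat_lit 4] [] (KT.cj [nat_lit 39, nat_lit 37, nat_lit 32, nat_lit 32, nat_lit 38, nat_lit 30, nat_lit 32, nat_lit 35, nat_lit 25, nat_lit 25, nat_lit 58, nat_lit 1, nat_lit 15, nat_lit 56] (nat_lit 10))) (KT.cons (KT.merge [nat_lit 11] [] (KT.cj [nat_lit 34, nat_lit 53, nat_lit 6, nat_lit 32, nat_lit 29, nat_lit 58, nat_lit 36, nat_lit 30, nat_lit 28, nat_lit 39, nat_lit 36] (nat_lit 4))) (KT.cons (KT.merge [nat_lit 5] [] (KT.cj [nat_lit 4, nat_lit 17, nat_lit 49, nat_lit 35, nat_lit 24, nat_lit 38, nat_lit 33, nat_lit 30, nat_lit 28, nat_lit 39, nat_lit 37, nat_lit 35] (nat_lit 10))) KT.nil)))) [nat_lit 4, nat_lit 14,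 nat_lit 14, nat_lit 16, nat_lit 18, nat_lit 18] _ _ (by decide +kernel)

theorem o8lk51 (b : Cx τ s M o8L) : KK s 3 o8cA (GoodM M s o8cR) (E s [nat_lit 44, nat_lit 54, nat_lit 54, nat_lit 56, nat_lit 56]) 10 :=
  KH.kk (o8ckh b) [] KKs.nil (KT.split (KT.cons (KT.merge [nat_lit 8] [] (KT.cj [nat_lit 36, nat_lit 39, nat_lit 32, nat_lit 35, nat_lit 31, nat_lit 33, nat_lit 34, nat_lit 22, nat_lit 28, nat_lit 28, nat_lit 1, nat_lit 16, nat_lit 35] (nat_lit 4))) (KT.cons (KT.merge [nat_lit 5] [] (KT.cj [nat_lit 66, nat_lit 24, nat_lit 16, nat_lit 33, nat_lit 28, nat_lit 24, nat_lit 39, nat_lit 35, nat_lit 31, nat_lit 34, nat_lit 32, nat_lit 32, nat_lit 38] (nat_lit 0))) (KT.cons (KT.merge [nat_lit 4] [] (KT.cj [nat_lit 51, nat_lit 26, nat_lit 4, nat_lit 31, nat_lit 25, nat_lit 31, nat_lit 31, nat_lit 28, nat_lit 37, nat_lit 35, nat_lit 33, nat_lit 39, nat_lit 37] (nat_lit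 0))) KT.nil)))) [nat_lit 4, nat_lit 14, nat_lit 14, nat_lit 16, nat_lit 16] _ _ (by decide +kernel)

theorem o8lk52 (b : Cx τ s M o8L) : KK s 3 o8cA (GoodM M s o8cR) (E s [nat_lit 44, nat_lit 54, nat_lit 54, nat_lit 56, nat_lit 56, nat_lit 58]) 10 :=
  KH.kk (o8ckh b) [] KKs.nil (KT.split (KT.cons (KT.merge [nat_lit 4] [] (KT.cj [nat_lit 49, nat_lit 53, nat_lit 34, nat_lit 34, nat_lit 22, nat_lit 37, nat_lit 34, nat_lit 30, nat_lit 28, nat_lit 37, nat_lit 37, nat_lit 34, nat_lit 38, nat_lit 37] (nat_lit 1))) (KT.cons (KT.merge [nat_lit 9] [] (KT.cj [nat_lit 40, nat_lit 45, nat_lit 25, nat_lit 27, nat_lit 23, nat_lit 31, nat_lit 32, nat_lit 28, nat_lit 35, nat_lit 33, nat_lit 37, nat_lit 32, nat_lit 38] (nat_lit 0))) (KT.cons (KT.merge [nat_lit 5] [] (KT.cj [nat_lit 42, nat_lit 1, nat_lit 24, nat_lit 39, nat_lit 24, nat_lit 32, nat_lit 28, nat_lit 39, nat_lit 28, nat_lit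 37, nat_lit 37, nat_lit 34, nat_lit 39, nat_lit 39] (nat_lit 1))) KT.nil)))) [nat_lit 4, nat_lit 14, nat_lit 14, nat_lit 16, nat_lit 16, nat_lit 18] _ _ (by decide +kernel)

theorem o8lk53 (b : Cx τ s M o8L) : KK s 3 o8cA (GoodM M s o8cR) (E s [nat_lit 44, nat_lit 54, nat_lit 54, nat_lit 56, nat_lit 56, nat_lit 58, nat_lit 58]) 10 :=
  KH.kk (o8ckh b) [] KKs.nil (KT.split (KT.cons (KT.merge [nat_lit 5] [] (KT.cj [nat_lit 21, nat_lit 25, nat_lit 10, nat_lit 23, nat_lit 23, nat_lit 24, nat_lit 31, nat_lit 37, nat_lit 30, nat_lit 36, nat_lit 34, nat_lit 36, nat_lit 32] (nat_lit 4))) (KT.cons (KT.merge [nat_lit 4] [] (KT.cj [nat_lit 36, nat_lit 39, nat_lit 33, nat_lit 37, nat_lit 37, nat_lit 29, nat_lit 39, nat_lit 37, nat_lit 23, nat_lit 26, nat_lit 26, nat_lit 15, nat_lit 17] (nat_lit 4))) (KT.cons (KT.merge [nat_lit 10] [] (KT.cj [nat_lit 1, nat_lit 42, nat_lit 33,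 nat_lit 25, nat_lit 23, nat_lit 36, nat_lit 33, nat_lit 28, nat_lit 28, nat_lit 33, nat_lit 36, nat_lit 33, nat_lit 39] (nat_lit 1))) KT.nil)))) [nat_lit 4, nat_lit 14, nat_lit 14, nat_lit 16, nat_lit 16, nat_lit 18, nat_lit 18] _ _ (by decide +kernel)

theorem o8lk54 (b : Cx τ s M o8L) : KK s 3 o8cA (GoodM M s o8cR) (E s [nat_lit 44]) 4 :=
  KH.kk (o8ckh b) [([nat_lit 44], nat_lit 8), ([nat_lit 44, nat_lit 54], nat_lit 9), ([nat_lit 44, nat_lit 54, nat_lit 56], nat_lit 9), ([nat_lit 44, nat_lit 54, nat_lit 56, nat_lit 56], nat_lit 10), ([nat_lit 44, nat_lit 54, nat_lit 56, nat_lit 56, nat_lit 58], nat_lit 10), ([nat_lit 44, nat_lit 54, nat_lit 56, nat_lit 56, nat_lit 58, nat_lit 58], nat_lit 10), ([nat_lit 44, nat_lit 54, nat_lit 54], nat_lit 10), ([nat_lit 44, nat_lit 54, nat_lit 54, nat_lit 58], nat_lit 10), ([nat_lit 44, nat_lit 54, nat_lit 54, nat_lit 58, nat_lit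 58], nat_lit 10), ([nat_lit 44, nat_lit 54, nat_lit 54, nat_lit 56], nat_lit 10), ([nat_lit 44, nat_lit 54, nat_lit 54, nat_lit 56, nat_lit 58], nat_lit 10), ([nat_lit 44, nat_lit 54, nat_lit 54, nat_lit 56, nat_lit 58, nat_lit 58], nat_lit 10), ([nat_lit 44, nat_lit 54, nat_lit 54, nat_lit 56, nat_lit 56], nat_lit 10), ([nat_lit 44, nat_lit 54, nat_lit 54, nat_lit 56, nat_lit 56, nat_lit 58], nat_lit 10), ([nat_lit 44, nat_lit 54, nat_lit 54, nat_lit 56, nat_lit 56, nat_lit 58, nat_lit 58], nat_lit 10)] (KKs.cons (o8lk35 b) (KKs.cons (o8lk38 b) (KKs.cons (o8lk41 b) (KKs.cons (o8lk42 b) (KKs.cons (o8lk43 b) (KKs.cons (o8lk44 b) (KKs.cons (o8lk45 b) (KKs.cons (o8lk46 b) (KKs.cons (o8lk47 b) (KKs.cons (o8lk48 b) (KKs.cons (o8lk49 b) (KKs.cons (o8lk50 b) (KKs.cons (o8lk51 b) (KKs.cons (o8lk52 b) (KKs.cons (o8lk53 b) KKs.nil))))))))))))))) (KT.merge [nat_lit 3] [nat_lit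 7, nat_lit 11, nat_lit 12] (KT.merge [nat_lit 1, nat_lit 20, nat_lit 23] [nat_lit 1, nat_lit 2, nat_lit 5, nat_lit 7, nat_lit 8, nat_lit 11] (KT.merge [nat_lit 7] [nat_lit 3, nat_lit 5, nat_lit 7] (KT.split (KT.cons (KT.into [] (nat_lit 0) []) (KT.cons (KT.split (KT.cons (KT.into [] (nat_lit 1) []) (KT.cons (KT.into [] (nat_lit 2) []) (KT.cons (KT.split (KT.cons (KT.into [] (nat_lit 3) []) (KT.cons (KT.into [] (nat_lit 4) []) (KT.cons (KT.into [] (nat_lit 5) []) KT.nil)))) KT.nil)))) (KT.cons (KT.split (KT.cons (KT.split (KT.cons (KT.into [] (nat_lit 6) []) (KT.cons (KT.into [] (nat_lit 7) []) (KT.cons (KT.into [] (nat_lit 8) []) KT.nil)))) (KT.cons (KT.split (KT.cons (KT.into [] (nat_lit 9) []) (KT.cons (KT.into [] (nat_lit 10) []) (KT.cons (KT.into [] (nat_lit 11) []) KT.nil)))) (KT.cons (KT.split (KT.cons (KT.into [] (nat_lit 12) []) (KT.cons (KT.into [] (nat_lit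 13) []) (KT.cons (KT.into [] (nat_lit 14) []) KT.nil)))) KT.nil)))) KT.nil))))))) [nat_lit 4] _ _ (by decide +kernel)

theorem o8lk55 (b : Cx τ s M o8L) : KK s 3 o8cA (GoodM M s o8cR) (E s [nat_lit 44, nat_lit 46]) 4 :=
  KH.kk (o8ckh b) [] KKs.nil (KT.merge [nat_lit 3] [nat_lit 11, nat_lit 13] (KT.merge [nat_lit 1, nat_lit 20, nat_lit 23] [nat_lit 1, nat_lit 2, nat_lit 11] (KT.merge [nat_lit 4] [nat_lit 3, nat_lit 5, nat_lit 7] (KT.split (KT.cons (KT.merge [nat_lit 8] [nat_lit 3, nat_lit 4] (KT.merge [nat_lit 11] [] (KT.merge [nat_lit 14] [nat_lit 1] (KT.merge [nat_lit 12] [] (KT.cj [nat_lit 37, nat_lit 38, nat_lit 35, nat_lit 35, nat_lit 35, nat_lit 26, nat_lit 22, nat_lit 18, nat_lit 56] (nat_lit 1)))))) (KT.cons (KT.merge [nat_lit 8] [nat_lit 3, nat_lit 4] (KT.merge [nat_lit 11] [] (KT.merge [nat_lit 14] [nat_lit 1] (KT.prune (nat_lit 11) (nat_lit 1) [])))) (KT.cons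 (KT.merge [nat_lit 8] [nat_lit 3, nat_lit 4] (KT.merge [nat_lit 11] [] (KT.merge [nat_lit 14] [nat_lit 1] (KT.prune (nat_lit 11) (nat_lit 2) [])))) KT.nil))))))) [nat_lit 4, nat_lit 6] _ _ (by decide +kernel)

theorem o8lk56 (b : Cx τ s M o8L) : KK s 3 o8cA (GoodM M s o8cR) (E s [nat_lit 42]) 7 :=
  KH.kk (o8ckh b) [] KKs.nil (KT.merge [nat_lit 11] [nat_lit 5, nat_lit 7] (KT.merge [nat_lit 12] [] (KT.split (KT.cons (KT.merge [nat_lit 6] [] (KT.split (KT.cons (KT.cj [nat_lit 51, nat_lit 44, nat_lit 27, nat_lit 39, nat_lit 24, nat_lit 34, nat_lit 29, nat_lit 29, nat_lit 39, nat_lit 34, nat_lit 37, nat_lit 39] (nat_lit 3)) (KT.cons (KT.cj [nat_lit 49, nat_lit 1, nat_lit 39, nat_lit 58, nat_lit 23, nat_lit 31, nat_lit 38, nat_lit 31, nat_lit 33, nat_lit 34, nat_lit 32, nat_lit 36] (nat_lit 6)) (KT.cons (KT.cj [nat_lit 23, nat_lit 6, nat_lit 33, nat_lit 35, nat_lit 26,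 nat_lit 36, nat_lit 29, nat_lit 34, nat_lit 36, nat_lit 32, nat_lit 36, nat_lit 36] (nat_lit 2)) KT.nil))))) (KT.cons (KT.merge [nat_lit 3] [] (KT.merge [nat_lit 8] [] (KT.cj [nat_lit 4, nat_lit 47, nat_lit 39, nat_lit 23, nat_lit 23, nat_lit 35, nat_lit 29, nat_lit 32, nat_lit 28, nat_lit 34, nat_lit 34, nat_lit 33, nat_lit 36, nat_lit 36, nat_lit 36] (nat_lit 1)))) (KT.cons (KT.merge [nat_lit 2] [] (KT.merge [nat_lit 9] [] (KT.cj [nat_lit 37, nat_lit 20, nat_lit 59, nat_lit 29, nat_lit 23, nat_lit 28, nat_lit 34, nat_lit 31, nat_lit 39, nat_lit 32, nat_lit 32, nat_lit 37, nat_lit 37] (nat_lit 1)))) KT.nil)))))) [nat_lit 2] _ _ (by decide +kernel)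

theorem o8lk57 (b : Cx τ s M o8L) : KK s 3 o8cA (GoodM M s o8cR) (E s [nat_lit 42]) 6 :=
  KH.kk (o8ckh b) [([nat_lit 42], nat_lit 7)] (KKs.cons (o8lk56 b) KKs.nil) (KT.split (KT.cons (KT.into [] (nat_lit 0) []) (KT.cons (KT.merge [nat_lit 11] [nat_lit 5, nat_lit 6] (KT.merge [nat_lit 3] [] (KT.merge [nat_lit 0, nat_lit 11, nat_lit 13] [] (KT.merge [nat_lit 6] [] (KT.merge [nat_lit 9] [] (KT.cj [nat_lit 9, nat_lit 48, nat_lit 12, nat_lit 58, nat_lit 38, nat_lit 58, nat_lit 32, nat_lit 31, nat_lit 36, nat_lit 33, nat_lit 35, nat_lit 36, nat_lit 39] (nat_lit 1))))))) (KT.cons (KT.merge [nat_lit 11] [nat_lit 5] (KT.merge [nat_lit 2] [] (KT.merge [nat_lit 1, nat_lit 10, nat_lit 12, nat_lit 18, nat_lit 20, nat_lit 23] [nat_lit 3] (KT.merge [nat_lit 6] [] (KT.merge [nat_lit 8] [] (KT.cj [nat_lit 51, nat_lit 17, nat_lit 6, nat_lit 23, nat_lit 31, nat_lit 22, nat_lit 37,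 nat_lit 30, nat_lit 28, nat_lit 37, nat_lit 34, nat_lit 33] (nat_lit 1))))))) KT.nil)))) [nat_lit 2] _ _ (by decide +kernel)

theorem o8lk58 (b : Cx τ s M o8L) : KK s 3 o8cA (GoodM M s o8cR) (E s [nat_lit 42, nat_lit 50]) 6 :=
  KH.kk (o8ckh b) [] KKs.nil (KT.split (KT.cons (KT.merge [nat_lit 2] [nat_lit 5, nat_lit 7] (KT.merge [nat_lit 12] [nat_lit 4] (KT.merge [nat_lit 6] [nat_lit 1] (KT.merge [nat_lit 18] [] (KT.merge [nat_lit 16] [] (KT.cj [nat_lit 36, nat_lit 54, nat_lit 0, nat_lit 33, nat_lit 26, nat_lit 37, nat_lit 30, nat_lit 29, nat_lit 34, nat_lit 37, nat_lit 34, nat_lit 36, nat_lit 38] (nat_lit 1))))))) (KT.cons (KT.merge [nat_lit 2] [nat_lit 0, nat_lit 5, nat_lit 6] (KT.merge [nat_lit 12] [nat_lit 4] (KT.merge [nat_lit 6] [nat_lit 1] (KT.merge [nat_lit 18] [] (KT.prune (nat_lit 11) (nat_lit 1) []))))) (KT.cons (KT.merge [nat_lit 2] [nat_lit 1, nat_lit 5]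 (KT.merge [nat_lit 12] [nat_lit 4] (KT.merge [nat_lit 6] [nat_lit 1] (KT.merge [nat_lit 18] [] (KT.prune (nat_lit 11) (nat_lit 2) []))))) KT.nil)))) [nat_lit 2, nat_lit 10] _ _ (by decide +kernel)

theorem o8lk59 (b : Cx τ s M o8L) : KK s 3 o8cA (GoodM M s o8cR) (E s [nat_lit 42, nat_lit 50, nat_lit 50]) 6 :=
  KH.kk (o8ckh b) [] KKs.nil (KT.split (KT.cons (KT.merge [nat_lit 3] [nat_lit 5, nat_lit 7] (KT.merge [nat_lit 12] [nat_lit 5] (KT.merge [nat_lit 7] [nat_lit 0] (KT.merge [nat_lit 18] [] (KT.merge [nat_lit 17] [] (KT.cj [nat_lit 36, nat_lit 33, nat_lit 36, nat_lit 31, nat_lit 28, nat_lit 39, nat_lit 23, nat_lit 32, nat_lit 39, nat_lit 11, nat_lit 21] (nat_lit 1))))))) (KT.cons (KT.merge [nat_lit 3] [nat_lit 1, nat_lit 5, nat_lit 6] (KT.merge [nat_lit 12] [nat_lit 5] (KT.merge [nat_lit 7] [nat_lit 0] (KT.merge [nat_lit 18] [] (KT.prune (nat_lit 11) (nat_lit 2)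 []))))) (KT.cons (KT.merge [nat_lit 3] [nat_lit 0, nat_lit 5] (KT.merge [nat_lit 12] [nat_lit 5] (KT.merge [nat_lit 7] [nat_lit 0] (KT.merge [nat_lit 18] [] (KT.prune (nat_lit 11) (nat_lit 1) []))))) KT.nil)))) [nat_lit 2, nat_lit 10, nat_lit 10] _ _ (by decide +kernel)

theorem o8lk60 (b : Cx τ s M o8L) : KK s 3 o8cA (GoodM M s o8cR) (E s [nat_lit 42, nat_lit 46]) 7 :=
  KH.kk (o8ckh b) [] KKs.nil (KT.merge [nat_lit 11] [nat_lit 3, nat_lit 7] (KT.merge [nat_lit 8] [nat_lit 3, nat_lit 5] (KT.split (KT.cons (KT.merge [nat_lit 3] [] (KT.merge [nat_lit 0, nat_lit 11, nat_lit 12] [] (KT.cj [nat_lit 6, nat_lit 40, nat_lit 31, nat_lit 58, nat_lit 28, nat_lit 28, nat_lit 28, nat_lit 28, nat_lit 36, nat_lit 33, nat_lit 36, nat_lit 32, nat_lit 38, nat_lit 36] (nat_lit 1)))) (KT.cons (KT.merge [nat_lit 2] [] (KT.merge [nat_lit 9, nat_lit 12, nat_lit 18] [] (KT.cj [nat_lit 8,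 nat_lit 35, nat_lit 8, nat_lit 37, nat_lit 26, nat_lit 22, nat_lit 32, nat_lit 28, nat_lit 33, nat_lit 38, nat_lit 32, nat_lit 36, nat_lit 36] (nat_lit 1)))) (KT.cons (KT.merge [nat_lit 6] [] (KT.split (KT.cons (KT.cj [nat_lit 10, nat_lit 56, nat_lit 32, nat_lit 31, nat_lit 25, nat_lit 28, nat_lit 39, nat_lit 31, nat_lit 33, nat_lit 34, nat_lit 38] (nat_lit 0)) (KT.cons (KT.cj [nat_lit 37, nat_lit 38, nat_lit 38, nat_lit 35, nat_lit 33, nat_lit 29, nat_lit 30, nat_lit 59, nat_lit 26, nat_lit 53, nat_lit 16] (nat_lit 11)) (KT.cons (KT.cj [nat_lit 45, nat_lit 43, nat_lit 14, nat_lit 39, nat_lit 25, nat_lit 59, nat_lit 38, nat_lit 34, nat_lit 29, nat_lit 33, nat_lit 38, nat_lit 34, nat_lit 32] (nat_lit 7)) KT.nil))))) KT.nil)))))) [nat_lit 2, nat_lit 6] _ _ (by decide +kernel)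

theorem o8lk61 (b : Cx τ s M o8L) : KK s 3 o8cA (GoodM M s o8cR) (E s [nat_lit 42, nat_lit 46]) 6 :=
  KH.kk (o8ckh b) [([nat_lit 42, nat_lit 46], nat_lit 7)] (KKs.cons (o8lk60 b) KKs.nil) (KT.split (KT.cons (KT.into [] (nat_lit 0) []) (KT.cons (KT.merge [nat_lit 11] [nat_lit 3, nat_lit 6] (KT.merge [nat_lit 3] [nat_lit 3] (KT.merge [nat_lit 0, nat_lit 11, nat_lit 12] [nat_lit 3] (KT.merge [nat_lit 6] [] (KT.merge [nat_lit 15, nat_lit 18] [] (KT.cj [nat_lit 50, nat_lit 10, nat_lit 56, nat_lit 31, nat_lit 26, nat_lit 26, nat_lit 32, nat_lit 36, nat_lit 30, nat_lit 37, nat_lit 37, nat_lit 35, nat_lit 39, nat_lit 36] (nat_lit 1))))))) (KT.cons (KT.merge [nat_lit 11] [nat_lit 3] (KT.merge [nat_lit 2] [nat_lit 2] (KT.merge [nat_lit 1, nat_lit 10, nat_lit 13, nat_lit 20, nat_lit 22] [] (KT.merge [nat_lit 6] [] (KT.merge [nat_lit 14, nat_lit 19] [] (KT.cj [nat_lit 36, nat_lit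 49, nat_lit 0, nat_lit 35, nat_lit 30, nat_lit 23, nat_lit 38, nat_lit 29, nat_lit 30, nat_lit 38, nat_lit 32, nat_lit 38, nat_lit 37] (nat_lit 1))))))) KT.nil)))) [nat_lit 2, nat_lit 6] _ _ (by decide +kernel)

theorem o8lk62 (b : Cx τ s M o8L) : KK s 3 o8cA (GoodM M s o8cR) (E s [nat_lit 42, nat_lit 46, nat_lit 50]) 6 :=
  KH.kk (o8ckh b) [] KKs.nil (KT.split (KT.cons (KT.merge [nat_lit 2] [nat_lit 7] (KT.merge [nat_lit 8] [nat_lit 3] (KT.merge [nat_lit 6] [nat_lit 1] (KT.prune (nat_lit 10) (nat_lit 1) [])))) (KT.cons (KT.merge [nat_lit 2] [nat_lit 0, nat_lit 6] (KT.merge [nat_lit 8] [nat_lit 3, nat_lit 4] (KT.merge [nat_lit 6] [nat_lit 1] (KT.prune (nat_lit 10) (nat_lit 1) [nat_lit 0])))) (KT.cons (KT.merge [nat_lit 2] [nat_lit 1] (KT.merge [nat_lit 8] [nat_lit 3, nat_lit 5] (KT.merge [nat_lit 6] [nat_lit 1] (KT.prune (nat_lit 10) (nat_lit 1) [nat_lit 1])))) KT.nil))))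 [nat_lit 2, nat_lit 6, nat_lit 10] _ _ (by decide +kernel)

theorem o8lk63 (b : Cx τ s M o8L) : KK s 3 o8cA (GoodM M s o8cR) (E s [nat_lit 42, nat_lit 46, nat_lit 50, nat_lit 50]) 6 :=
  KH.kk (o8ckh b) [] KKs.nil (KT.split (KT.cons (KT.merge [nat_lit 3] [nat_lit 4, nat_lit 7] (KT.merge [nat_lit 8] [nat_lit 3, nat_lit 4] (KT.merge [nat_lit 7] [nat_lit 0] (KT.prune (nat_lit 10) (nat_lit 2) [])))) (KT.cons (KT.merge [nat_lit 3] [nat_lit 1, nat_lit 4, nat_lit 6] (KT.merge [nat_lit 8] [nat_lit 3, nat_lit 5] (KT.merge [nat_lit 7] [nat_lit 0] (KT.prune (nat_lit 10) (nat_lit 2) [nat_lit 1])))) (KT.cons (KT.merge [nat_lit 3] [nat_lit 0, nat_lit 4] (KT.merge [nat_lit 8] [nat_lit 3] (KT.merge [nat_lit 7] [nat_lit 0] (KT.prune (nat_lit 10) (nat_lit 2) [nat_lit 0])))) KT.nil)))) [nat_lit 2, nat_lit 6, nat_lit 10, nat_lit 10] _ _ (by decide +kernel)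

theorem o8lk64 (b : Cx τ s M o8L) : KK s 3 o8cA (GoodM M s o8cR) (E s [nat_lit 42, nat_lit 46, nat_lit 46]) 7 :=
  KH.kk (o8ckh b) [] KKs.nil (KT.merge [nat_lit 11] [nat_lit 2, nat_lit 4, nat_lit 7] (KT.merge [nat_lit 9] [nat_lit 3, nat_lit 5] (KT.split (KT.cons (KT.merge [nat_lit 2] [] (KT.merge [nat_lit 9, nat_lit 13, nat_lit 19] [] (KT.cj [nat_lit 14, nat_lit 53, nat_lit 59, nat_lit 24, nat_lit 59, nat_lit 36, nat_lit 33, nat_lit 28, nat_lit 28, nat_lit 35, nat_lit 36, nat_lit 33] (nat_lit 1)))) (KT.cons (KT.merge [nat_lit 6] [] (KT.split (KT.cons (KT.cj [nat_lit 42, nat_lit 19, nat_lit 0, nat_lit 34, nat_lit 30, nat_lit 24, nat_lit 34, nat_lit 30, nat_lit 29, nat_lit 36, nat_lit 32, nat_lit 32, nat_lit 37] (nat_lit 5)) (KT.cons (KT.cj [nat_lit 39, nat_lit 19, nat_lit 24, nat_lit 36, nat_lit 23, nat_lit 30, nat_lit 35, nat_lit 31, nat_lit 37, nat_lit 37, nat_lit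 33, nat_lit 37] (nat_lit 12)) (KT.cons (KT.cj [nat_lit 23, nat_lit 4, nat_lit 32, nat_lit 34, nat_lit 26, nat_lit 30, nat_lit 29, nat_lit 30, nat_lit 32, nat_lit 32, nat_lit 34] (nat_lit 10)) KT.nil))))) (KT.cons (KT.merge [nat_lit 3] [] (KT.merge [nat_lit 0, nat_lit 11] [] (KT.cj [nat_lit 26, nat_lit 2, nat_lit 22, nat_lit 27, nat_lit 30, nat_lit 33, nat_lit 30, nat_lit 38, nat_lit 37, nat_lit 35, nat_lit 36, nat_lit 36, nat_lit 36] (nat_lit 1)))) KT.nil)))))) [nat_lit 2, nat_lit 6, nat_lit 6] _ _ (by decide +kernel)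

theorem o8lk65 (b : Cx τ s M o8L) : KK s 3 o8cA (GoodM M s o8cR) (E s [nat_lit 42, nat_lit 46, nat_lit 46]) 6 :=
  KH.kk (o8ckh b) [([nat_lit 42, nat_lit 46, nat_lit 46], nat_lit 7)] (KKs.cons (o8lk64 b) KKs.nil) (KT.split (KT.cons (KT.into [] (nat_lit 0) []) (KT.cons (KT.merge [nat_lit 11] [nat_lit 2, nat_lit 4, nat_lit 6] (KT.merge [nat_lit 3] [nat_lit 2] (KT.merge [nat_lit 0, nat_lit 11] [nat_lit 2] (KT.merge [nat_lit 6] [] (KT.merge [nat_lit 15, nat_lit 19] [] (KT.cj [nat_lit 36, nat_lit 39, nat_lit 35, nat_lit 30, nat_lit 38, nat_lit 32, nat_lit 27, nat_lit 58, nat_lit 34, nat_lit 3, nat_lit 20] (nat_lit 1))))))) (KT.cons (KT.merge [nat_lit 11] [nat_lit 2, nat_lit 4] (KT.merge [nat_lit 2] [nat_lit 3] (KT.merge [nat_lit 1, nat_lit 10, nat_lit 19, nat_lit 20] [nat_lit 2] (KT.merge [nat_lit 6] [] (KT.merge [nat_lit 14, nat_lit 18] [] (KT.cj [nat_lit 18, nat_lit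 56, nat_lit 27, nat_lit 25, nat_lit 22, nat_lit 30, nat_lit 36, nat_lit 30, nat_lit 34, nat_lit 38, nat_lit 32, nat_lit 32, nat_lit 39] (nat_lit 1))))))) KT.nil)))) [nat_lit 2, nat_lit 6, nat_lit 6] _ _ (by decide +kernel)

theorem o8lk66 (b : Cx τ s M o8L) : KK s 3 o8cA (GoodM M s o8cR) (E s [nat_lit 42, nat_lit 46, nat_lit 46, nat_lit 50]) 6 :=
  KH.kk (o8ckh b) [] KKs.nil (KT.split (KT.cons (KT.merge [nat_lit 2] [nat_lit 4, nat_lit 7] (KT.merge [nat_lit 9] [nat_lit 3] (KT.merge [nat_lit 6] [nat_lit 1] (KT.prune (nat_lit 10) (nat_lit 2) [])))) (KT.cons (KT.merge [nat_lit 2] [nat_lit 0, nat_lit 4, nat_lit 6] (KT.merge [nat_lit 9] [nat_lit 3, nat_lit 5] (KT.merge [nat_lit 6] [nat_lit 1] (KT.prune (nat_lit 10) (nat_lit 2) [nat_lit 0])))) (KT.cons (KT.merge [nat_lit 2] [nat_lit 1, nat_lit 4] (KT.merge [nat_lit 9] [nat_lit 3, nat_lit 4] (KT.merge [nat_lit 6] [nat_lit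 1] (KT.prune (nat_lit 10) (nat_lit 2) [nat_lit 1])))) KT.nil)))) [nat_lit 2, nat_lit 6, nat_lit 6, nat_lit 10] _ _ (by decide +kernel)

theorem o8lk67 (b : Cx τ s M o8L) : KK s 3 o8cA (GoodM M s o8cR) (E s [nat_lit 42, nat_lit 46, nat_lit 46, nat_lit 50, nat_lit 50]) 6 :=
  KH.kk (o8ckh b) [] KKs.nil (KT.split (KT.cons (KT.merge [nat_lit 3] [nat_lit 7] (KT.merge [nat_lit 9] [nat_lit 3, nat_lit 4] (KT.merge [nat_lit 7] [nat_lit 0] (KT.prune (nat_lit 10) (nat_lit 1) [])))) (KT.cons (KT.merge [nat_lit 3] [nat_lit 1, nat_lit 6] (KT.merge [nat_lit 9] [nat_lit 3] (KT.merge [nat_lit 7] [nat_lit 0] (KT.prune (nat_lit 10) (nat_lit 1) [nat_lit 1])))) (KT.cons (KT.merge [nat_lit 3] [nat_lit 0] (KT.merge [nat_lit 9] [nat_lit 3, nat_lit 5] (KT.merge [nat_lit 7] [nat_lit 0] (KT.prune (nat_lit 10) (nat_lit 1) [nat_lit 0])))) KT.nil)))) [nat_lit 2, nat_lit 6, nat_lit 6, nat_lit 10,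 nat_lit 10] _ _ (by decide +kernel)

theorem o8lk68 (b : Cx τ s M o8L) : KK s 3 o8cA (GoodM M s o8cR) (E s [nat_lit 42, nat_lit 44]) 3 :=
  KH.kk (o8ckh b) [] KKs.nil (KT.split (KT.cons (KT.merge [nat_lit 3] [nat_lit 7, nat_lit 11, nat_lit 12] (KT.merge [nat_lit 1, nat_lit 20, nat_lit 23] [nat_lit 1, nat_lit 7, nat_lit 11] (KT.merge [nat_lit 7] [nat_lit 3, nat_lit 5, nat_lit 9] (KT.merge [nat_lit 11] [nat_lit 5, nat_lit 6] (KT.merge [nat_lit 12] [nat_lit 4] (KT.split (KT.cons (KT.merge [nat_lit 18] [nat_lit 1] (KT.prune (nat_lit 11) (nat_lit 2) [])) (KT.cons (KT.merge [nat_lit 18] [nat_lit 1] (KT.merge [nat_lit 9] [] (KT.cj [nat_lit 39, nat_lit 34, nat_lit 34, nat_lit 28, nat_lit 32, nat_lit 39, nat_lit 29, nat_lit 25, nat_lit 32, nat_lit 22, nat_lit 5, nat_lit 28] (nat_lit 1)))) (KT.cons (KT.merge [nat_lit 18] [nat_lit 1] (KT.prune (nat_lit 11) (nat_lit 1) [])) KT.nil)))))))))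 (KT.cons (KT.merge [nat_lit 3] [nat_lit 11, nat_lit 13] (KT.merge [nat_lit 1, nat_lit 20, nat_lit 23] [nat_lit 1, nat_lit 4, nat_lit 11] (KT.merge [nat_lit 7] [nat_lit 3, nat_lit 5, nat_lit 9] (KT.merge [nat_lit 11] [nat_lit 3, nat_lit 6] (KT.prune (nat_lit 8) (nat_lit 2) [nat_lit 3]))))) (KT.cons (KT.merge [nat_lit 3] [nat_lit 6, nat_lit 11] (KT.merge [nat_lit 1, nat_lit 20, nat_lit 23] [nat_lit 1, nat_lit 5, nat_lit 6, nat_lit 11] (KT.merge [nat_lit 7] [nat_lit 3, nat_lit 5, nat_lit 9] (KT.merge [nat_lit 11] [nat_lit 2, nat_lit 4, nat_lit 6] (KT.prune (nat_lit 8) (nat_lit 1) [nat_lit 2, nat_lit 4]))))) KT.nil)))) [nat_lit 2, nat_lit 4] _ _ (by decide +kernel)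

theorem o8lk69 (b : Cx τ s M o8L) : KK s 3 o8cA (GoodM M s o8cR) (E s [nat_lit 42, nat_lit 42]) 3 :=
  KH.kk (o8ckh b) [([nat_lit 42], nat_lit 6), ([nat_lit 42, nat_lit 50], nat_lit 6), ([nat_lit 42, nat_lit 50, nat_lit 50], nat_lit 6), ([nat_lit 42, nat_lit 46], nat_lit 6), ([nat_lit 42, nat_lit 46, nat_lit 50], nat_lit 6), ([nat_lit 42, nat_lit 46, nat_lit 50, nat_lit 50], nat_lit 6), ([nat_lit 42, nat_lit 46, nat_lit 46], nat_lit 6), ([nat_lit 42, nat_lit 46, nat_lit 46, nat_lit 50], nat_lit 6), ([nat_lit 42, nat_lit 46, nat_lit 46, nat_lit 50, nat_lit 50], nat_lit 6)] (KKs.cons (o8lk57 b) (KKs.cons (o8lk58 b) (KKs.cons (o8lk59 b) (KKs.cons (o8lk61 b) (KKs.cons (o8lk62 b) (KKs.cons (o8lk63 b) (KKs.cons (o8lk65 b) (KKs.cons (o8lk66 b) (KKs.cons (o8lk67 b) KKs.nil))))))))) (KT.split (KT.cons (KT.merge [nat_lit 5] [nat_lit 7, nat_lit 11, nat_lit 12] (KT.split (KT.cons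 (KT.into [nat_lit 2, nat_lit 0] (nat_lit 0) [nat_lit 3, nat_lit 5, nat_lit 8]) (KT.cons (KT.into [nat_lit 2, nat_lit 0] (nat_lit 2) [nat_lit 2, nat_lit 5, nat_lit 7, nat_lit 8, nat_lit 11]) (KT.cons (KT.into [nat_lit 2, nat_lit 0] (nat_lit 1) [nat_lit 5, nat_lit 6, nat_lit 8, nat_lit 10]) KT.nil))))) (KT.cons (KT.merge [nat_lit 5] [nat_lit 2, nat_lit 6, nat_lit 8, nat_lit 10, nat_lit 13] (KT.split (KT.cons (KT.into [nat_lit 2, nat_lit 0] (nat_lit 6) [nat_lit 3, nat_lit 9, nat_lit 10]) (KT.cons (KT.into [nat_lit 2, nat_lit 0] (nat_lit 8) [nat_lit 2, nat_lit 7, nat_lit 9, nat_lit 10]) (KT.cons (KT.into [nat_lit 2, nat_lit 0] (nat_lit 7) [nat_lit 6, nat_lit 9, nat_lit 10]) KT.nil))))) (KT.cons (KT.merge [nat_lit 5] [nat_lit 3, nat_lit 9] (KT.split (KT.cons (KT.into [nat_lit 2, nat_lit 0] (nat_lit 3) [nat_lit 3, nat_lit 4, nat_lit 11]) (KT.cons (KT.into [nat_lit 2, nat_lit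 0] (nat_lit 5) [nat_lit 2, nat_lit 4, nat_lit 7]) (KT.cons (KT.into [nat_lit 2, nat_lit 0] (nat_lit 4) [nat_lit 4, nat_lit 6, nat_lit 10]) KT.nil))))) KT.nil)))) [nat_lit 2, nat_lit 2] _ _ (by decide +kernel)

theorem o8lk70 (b : Cx τ s M o8L) : KK s 3 o8cA (GoodM M s o8cR) (E s [nat_lit 40, nat_lit 48, nat_lit 48]) 7 :=
  KH.kk (o8ckh b) [] KKs.nil (KT.merge [nat_lit 2] [nat_lit 0, nat_lit 5, nat_lit 6] (KT.split (KT.cons (KT.merge [nat_lit 6] [nat_lit 1] (KT.merge [nat_lit 14] [nat_lit 0] (KT.split (KT.cons (KT.cj [nat_lit 52, nat_lit 28, nat_lit 0, nat_lit 32, nat_lit 38, nat_lit 24, nat_lit 38, nat_lit 34, nat_lit 29, nat_lit 38, nat_lit 37, nat_lit 35, nat_lit 39, nat_lit 39] (nat_lit 10)) (KT.cons (KT.cj [nat_lit 2, nat_lit 64, nat_lit 53, nat_lit 36, nat_lit 26, nat_lit 34, nat_lit 32, nat_lit 29, nat_lit 32, nat_lit 35, nat_lit 38, nat_lit 36] (nat_lit 2))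 (KT.cons (KT.cj [nat_lit 6, nat_lit 18, nat_lit 25, nat_lit 59, nat_lit 24, nat_lit 38, nat_lit 28, nat_lit 28, nat_lit 36, nat_lit 35, nat_lit 38, nat_lit 37] (nat_lit 7)) KT.nil)))))) (KT.cons (KT.merge [nat_lit 6] [nat_lit 1] (KT.merge [nat_lit 14] [nat_lit 0] (KT.merge [nat_lit 11, nat_lit 12] [] (KT.cj [nat_lit 17, nat_lit 34, nat_lit 19, nat_lit 32, nat_lit 25, nat_lit 34, nat_lit 29, nat_lit 30, nat_lit 37, nat_lit 38, nat_lit 32] (nat_lit 1))))) (KT.cons (KT.merge [nat_lit 6] [nat_lit 1] (KT.merge [nat_lit 14] [nat_lit 0] (KT.merge [nat_lit 10, nat_lit 13] [] (KT.cj [nat_lit 37, nat_lit 37, nat_lit 32, nat_lit 32, nat_lit 34, nat_lit 29, nat_lit 29, nat_lit 32, nat_lit 30, nat_lit 22, nat_lit 33, nat_lit 22, nat_lit 16, nat_lit 35] (nat_lit 1))))) KT.nil))))) [nat_lit 0, nat_lit 8, nat_lit 8] _ _ (by decide +kernel)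

theorem o8lk71 (b : Cx τ s M o8L) : KK s 3 o8cA (GoodM M s o8cR) (E s [nat_lit 40, nat_lit 48, nat_lit 48]) 5 :=
  KH.kk (o8ckh b) [([nat_lit 40, nat_lit 48, nat_lit 48], nat_lit 7)] (KKs.cons (o8lk70 b) KKs.nil) (KT.merge [nat_lit 4] [nat_lit 1, nat_lit 2, nat_lit 5, nat_lit 7, nat_lit 8, nat_lit 11] (KT.split (KT.cons (KT.into [] (nat_lit 0) []) (KT.cons (KT.merge [nat_lit 2] [nat_lit 1, nat_lit 5] (KT.merge [nat_lit 3, nat_lit 9] [nat_lit 3] (KT.merge [nat_lit 6] [nat_lit 1] (KT.merge [nat_lit 14] [nat_lit 1] (KT.merge [nat_lit 15, nat_lit 17] [] (KT.cj [nat_lit 37, nat_lit 39, nat_lit 33, nat_lit 39, nat_lit 29, nat_lit 33, nat_lit 31, nat_lit 37, nat_lit 22, nat_lit 26, nat_lit 36, nat_lit 1, nat_lit 57, nat_lit 0] (nat_lit 1))))))) (KT.cons (KT.merge [nat_lit 2] [nat_lit 5, nat_lit 7] (KT.merge [nat_lit 2, nat_lit 8] [nat_lit 2, nat_lit 4] (KT.merge [nat_lit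 6] [nat_lit 1] (KT.merge [nat_lit 14] [] (KT.merge [nat_lit 14, nat_lit 16] [] (KT.cj [nat_lit 37, nat_lit 37, nat_lit 35, nat_lit 38, nat_lit 36, nat_lit 31, nat_lit 39, nat_lit 39, nat_lit 29, nat_lit 59, nat_lit 30, nat_lit 19, nat_lit 27] (nat_lit 1))))))) KT.nil))))) [nat_lit 0, nat_lit 8, nat_lit 8] _ _ (by decide +kernel)

theorem o8lk72 (b : Cx τ s M o8L) : KK s 3 o8cA (GoodM M s o8cR) (E s [nat_lit 40]) 4 :=
  KH.kk (o8ckh b) [([nat_lit 40, nat_lit 48, nat_lit 48], nat_lit 5)] (KKs.cons (o8lk71 b) KKs.nil) (KT.split (KT.cons (KT.merge [nat_lit 4] [nat_lit 1, nat_lit 2, nat_lit 5, nat_lit 7, nat_lit 8] (KT.split (KT.cons (KT.merge [nat_lit 2] [nat_lit 0, nat_lit 5, nat_lit 6] (KT.merge [nat_lit 7] [nat_lit 0] (KT.merge [nat_lit 11] [nat_lit 2] (KT.prune (nat_lit 10) (nat_lit 1) [nat_lit 1])))) (KT.cons (KT.merge [nat_lit 2] [nat_lit 1, nat_lit 5] (KT.merge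 [nat_lit 7] [nat_lit 0] (KT.merge [nat_lit 0] [] (KT.prune (nat_lit 10) (nat_lit 1) [])))) (KT.cons (KT.merge [nat_lit 2] [nat_lit 5, nat_lit 7] (KT.merge [nat_lit 7] [nat_lit 0] (KT.merge [nat_lit 11] [nat_lit 2] (KT.prune (nat_lit 10) (nat_lit 1) [nat_lit 0])))) KT.nil))))) (KT.cons (KT.merge [nat_lit 4] [nat_lit 1, nat_lit 2, nat_lit 5, nat_lit 7, nat_lit 8, nat_lit 10] (KT.split (KT.cons (KT.merge [nat_lit 0] [nat_lit 0, nat_lit 5, nat_lit 6] (KT.merge [nat_lit 6] [nat_lit 1, nat_lit 2] (KT.merge [nat_lit 11] [] (KT.prune (nat_lit 10) (nat_lit 2) [nat_lit 0])))) (KT.cons (KT.merge [nat_lit 0] [nat_lit 0, nat_lit 3, nat_lit 5] (KT.merge [nat_lit 6] [nat_lit 1, nat_lit 2] (KT.merge [nat_lit 11] [] (KT.prune (nat_lit 10) (nat_lit 2) [])))) (KT.cons (KT.merge [nat_lit 0] [nat_lit 0, nat_lit 2, nat_lit 5, nat_lit 7] (KT.merge [nat_lit 6] [nat_lit 1, nat_lit 2] (KT.merge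 [nat_lit 11] [] (KT.prune (nat_lit 10) (nat_lit 2) [nat_lit 1])))) KT.nil))))) (KT.cons (KT.into [] (nat_lit 0) []) KT.nil)))) [nat_lit 0] _ _ (by decide +kernel)

theorem o8lk73 (b : Cx τ s M o8L) : KK s 3 o8cA (GoodM M s o8cR) (E s [nat_lit 40, nat_lit 46, nat_lit 48]) 5 :=
  KH.kk (o8ckh b) [] KKs.nil (KT.merge [nat_lit 4] [nat_lit 0, nat_lit 2, nat_lit 4, nat_lit 9, nat_lit 11] (KT.split (KT.cons (KT.merge [nat_lit 0] [nat_lit 2] (KT.merge [nat_lit 6] [nat_lit 1, nat_lit 2] (KT.merge [nat_lit 10] [nat_lit 2] (KT.prune (nat_lit 10) (nat_lit 1) [])))) (KT.cons (KT.merge [nat_lit 0] [nat_lit 7] (KT.merge [nat_lit 6] [nat_lit 1, nat_lit 2] (KT.merge [nat_lit 10] [nat_lit 2] (KT.prune (nat_lit 10) (nat_lit 1) [nat_lit 1])))) (KT.cons (KT.merge [nat_lit 0] [nat_lit 3, nat_lit 6] (KT.merge [nat_lit 6] [nat_lit 1, nat_lit 2] (KT.merge [nat_lit 10] [nat_lit 2] (KT.prune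 (nat_lit 10) (nat_lit 1) [nat_lit 0])))) KT.nil))))) [nat_lit 0, nat_lit 6, nat_lit 8] _ _ (by decide +kernel)

theorem o8lk74 (b : Cx τ s M o8L) : KK s 3 o8cA (GoodM M s o8cR) (E s [nat_lit 40, nat_lit 46, nat_lit 48, nat_lit 48, nat_lit 52, nat_lit 56, nat_lit 56]) 9 :=
  KH.kk (o8ckh b) [] KKs.nil (KT.merge [nat_lit 6] [nat_lit 1] (KT.merge [nat_lit 15] [nat_lit 0] (KT.split (KT.cons (KT.cj [nat_lit 22, nat_lit 49, nat_lit 37, nat_lit 30, nat_lit 22, nat_lit 39, nat_lit 33, nat_lit 28, nat_lit 35, nat_lit 36, nat_lit 34, nat_lit 37, nat_lit 37] (nat_lit 3)) (KT.cons (KT.cj [nat_lit 54, nat_lit 33, nat_lit 19, nat_lit 24, nat_lit 35, nat_lit 58, nat_lit 35, nat_lit 39, nat_lit 30, nat_lit 28, nat_lit 39, nat_lit 33, nat_lit 34] (nat_lit 0)) (KT.cons (KT.cj [nat_lit 38, nat_lit 38, nat_lit 35, nat_lit 38, nat_lit 32, nat_lit 31, nat_lit 38, nat_lit 28, nat_lit 36,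 nat_lit 23, nat_lit 36, nat_lit 67, nat_lit 39] (nat_lit 5)) KT.nil)))))) [nat_lit 0, nat_lit 6, nat_lit 8, nat_lit 8, nat_lit 12, nat_lit 16, nat_lit 16] _ _ (by decide +kernel)

theorem o8lk75 (b : Cx τ s M o8L) : KK s 3 o8cA (GoodM M s o8cR) (E s [nat_lit 40, nat_lit 46, nat_lit 48, nat_lit 48, nat_lit 52]) 7 :=
  KH.kk (o8ckh b) [([nat_lit 40, nat_lit 46, nat_lit 48, nat_lit 48, nat_lit 52, nat_lit 56, nat_lit 56], nat_lit 9)] (KKs.cons (o8lk74 b) KKs.nil) (KT.merge [nat_lit 2] [nat_lit 1, nat_lit 4] (KT.split (KT.cons (KT.merge [nat_lit 6] [nat_lit 1] (KT.merge [nat_lit 15] [nat_lit 0] (KT.merge [nat_lit 11, nat_lit 13] [] (KT.cj [nat_lit 22, nat_lit 12, nat_lit 0, nat_lit 29, nat_lit 27, nat_lit 22, nat_lit 32, nat_lit 29, nat_lit 34, nat_lit 37, nat_lit 35, nat_lit 39, nat_lit 37] (nat_lit 1))))) (KT.cons (KT.merge [nat_lit 6] [nat_lit 1] (KT.merge [nat_lit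 15] [nat_lit 0] (KT.merge [nat_lit 10, nat_lit 12] [] (KT.cj [nat_lit 46, nat_lit 22, nat_lit 39, nat_lit 22, nat_lit 31, nat_lit 36, nat_lit 31, nat_lit 36, nat_lit 39, nat_lit 32, nat_lit 39, nat_lit 36, nat_lit 36] (nat_lit 1))))) (KT.cons (KT.into [] (nat_lit 0) []) KT.nil))))) [nat_lit 0, nat_lit 6, nat_lit 8, nat_lit 8, nat_lit 12] _ _ (by decide +kernel)

theorem o8lk76 (b : Cx τ s M o8L) : KK s 3 o8cA (GoodM M s o8cR) (E s [nat_lit 40, nat_lit 46, nat_lit 48, nat_lit 48]) 5 :=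
  KH.kk (o8ckh b) [([nat_lit 40, nat_lit 46, nat_lit 48, nat_lit 48, nat_lit 52], nat_lit 7)] (KKs.cons (o8lk75 b) KKs.nil) (KT.merge [nat_lit 4] [nat_lit 0, nat_lit 2, nat_lit 4, nat_lit 9, nat_lit 11] (KT.split (KT.cons (KT.merge [nat_lit 2] [nat_lit 0, nat_lit 4, nat_lit 6] (KT.merge [nat_lit 2, nat_lit 8] [nat_lit 2, nat_lit 4] (KT.merge [nat_lit 6] [nat_lit 1] (KT.merge [nat_lit 15] [nat_lit 1] (KT.merge [nat_lit 11, nat_lit 13] [] (KT.cj [nat_lit 37, nat_lit 60, nat_lit 1, nat_lit 25, nat_lit 30, nat_lit 23, nat_lit 32, nat_lit 31, nat_lit 33, nat_lit 38, nat_lit 32, nat_lit 37] (nat_lit 1))))))) (KT.cons (KT.into [] (nat_lit 0) []) (KT.cons (KT.merge [nat_lit 2] [nat_lit 4, nat_lit 7] (KT.merge [nat_lit 3, nat_lit 9] [nat_lit 3] (KT.merge [nat_lit 6] [nat_lit 1] (KT.merge [nat_lit 15] [] (KT.merge [nat_lit 11, nat_lit 13] [] (KT.cj [nat_lit 33, nat_lit 39, nat_lit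 57, nat_lit 32, nat_lit 28, nat_lit 23, nat_lit 28, nat_lit 28, nat_lit 35, nat_lit 36, nat_lit 33, nat_lit 37] (nat_lit 1))))))) KT.nil))))) [nat_lit 0, nat_lit 6, nat_lit 8, nat_lit 8] _ _ (by decide +kernel)

theorem o8lk77 (b : Cx τ s M o8L) : KK s 3 o8cA (GoodM M s o8cR) (E s [nat_lit 40, nat_lit 46]) 4 :=
  KH.kk (o8ckh b) [([nat_lit 40, nat_lit 46, nat_lit 48], nat_lit 5), ([nat_lit 40, nat_lit 46, nat_lit 48, nat_lit 48], nat_lit 5)] (KKs.cons (o8lk73 b) (KKs.cons (o8lk76 b) KKs.nil)) (KT.split (KT.cons (KT.merge [nat_lit 4] [nat_lit 0, nat_lit 2, nat_lit 4, nat_lit 9, nat_lit 11] (KT.split (KT.cons (KT.merge [nat_lit 2] [nat_lit 0, nat_lit 4, nat_lit 6] (KT.merge [nat_lit 0] [nat_lit 0, nat_lit 2, nat_lit 4] (KT.merge [nat_lit 10] [nat_lit 3] (KT.prune (nat_lit 10) (nat_lit 2) [])))) (KT.cons (KT.merge [nat_lit 2] [nat_lit 1, nat_lit 4] (KT.merge [nat_lit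 0] [nat_lit 2, nat_lit 4] (KT.merge [nat_lit 10] [nat_lit 3] (KT.prune (nat_lit 10) (nat_lit 2) [nat_lit 0])))) (KT.cons (KT.merge [nat_lit 2] [nat_lit 4, nat_lit 7] (KT.merge [nat_lit 0] [nat_lit 1, nat_lit 2, nat_lit 4] (KT.merge [nat_lit 10] [nat_lit 3] (KT.prune (nat_lit 10) (nat_lit 2) [nat_lit 1])))) KT.nil))))) (KT.cons (KT.into [] (nat_lit 0) []) (KT.cons (KT.into [] (nat_lit 1) []) KT.nil)))) [nat_lit 0, nat_lit 6] _ _ (by decide +kernel)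

theorem o8lk78 (b : Cx τ s M o8L) : KK s 3 o8cA (GoodM M s o8cR) (E s [nat_lit 40, nat_lit 46, nat_lit 46]) 5 :=
  KH.kk (o8ckh b) [] KKs.nil (KT.merge [nat_lit 4] [nat_lit 2, nat_lit 6, nat_lit 10] (KT.split (KT.cons (KT.merge [nat_lit 2] [nat_lit 0, nat_lit 6] (KT.merge [nat_lit 7] [nat_lit 0] (KT.merge [nat_lit 13] [nat_lit 3] (KT.merge [nat_lit 17] [nat_lit 0] (KT.prune (nat_lit 11) (nat_lit 1) []))))) (KT.cons (KT.merge [nat_lit 2] [nat_lit 1] (KT.merge [nat_lit 7] [nat_lit 0] (KT.merge [nat_lit 13] [nat_lit 3] (KT.merge [nat_lit 17] [nat_lit 0] (KT.prune (nat_lit 11) (nat_lit 2) []))))) (KT.cons (KT.merge [nat_lit 2] [nat_lit 7] (KT.merge [nat_lit 7] [nat_lit 0] (KT.merge [nat_lit 13] [nat_lit 3] (KT.merge [nat_lit 17] [nat_lit 0] (KT.merge [nat_lit 10] [] (KT.cj [nat_lit 55, nat_lit 29, nat_lit 8, nat_lit 26, nat_lit 39, nat_lit 59, nat_lit 37, nat_lit 29,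 nat_lit 31, nat_lit 39, nat_lit 36, nat_lit 34] (nat_lit 1))))))) KT.nil))))) [nat_lit 0, nat_lit 6, nat_lit 6] _ _ (by decide +kernel)

theorem o8lk79 (b : Cx τ s M o8L) : KK s 3 o8cA (GoodM M s o8cR) (E s [nat_lit 40, nat_lit 46, nat_lit 46, nat_lit 48, nat_lit 48, nat_lit 52, nat_lit 52, nat_lit 56]) 9 :=
  KH.kk (o8ckh b) [] KKs.nil (KT.merge [nat_lit 6] [nat_lit 1] (KT.merge [nat_lit 17] [nat_lit 0] (KT.split (KT.cons (KT.cj [nat_lit 26, nat_lit 1, nat_lit 27, nat_lit 25, nat_lit 23, nat_lit 38, nat_lit 31, nat_lit 35, nat_lit 36, nat_lit 35, nat_lit 37, nat_lit 38] (nat_lit 11)) (KT.cons (KT.cj [nat_lit 56, nat_lit 31, nat_lit 24, nat_lit 33, nat_lit 39, nat_lit 31, nat_lit 36, nat_lit 39, nat_lit 34, nat_lit 36, nat_lit 38] (nat_lit 12)) (KT.cons (KT.cj [nat_lit 39, nat_lit 32, nat_lit 36, nat_lit 34, nat_lit 28, nat_lit 30, nat_lit 36, nat_lit 29, nat_lit 23,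 nat_lit 26, nat_lit 32, nat_lit 37, nat_lit 45] (nat_lit 6)) KT.nil)))))) [nat_lit 0, nat_lit 6, nat_lit 6, nat_lit 8, nat_lit 8, nat_lit 12, nat_lit 12, nat_lit 16] _ _ (by decide +kernel)

theorem o8lk80 (b : Cx τ s M o8L) : KK s 3 o8cA (GoodM M s o8cR) (E s [nat_lit 40, nat_lit 46, nat_lit 46, nat_lit 48, nat_lit 48, nat_lit 52, nat_lit 52]) 7 :=
  KH.kk (o8ckh b) [([nat_lit 40, nat_lit 46, nat_lit 46, nat_lit 48, nat_lit 48, nat_lit 52, nat_lit 52, nat_lit 56], nat_lit 9)] (KKs.cons (o8lk79 b) KKs.nil) (KT.merge [nat_lit 2] [nat_lit 7] (KT.split (KT.cons (KT.merge [nat_lit 6] [nat_lit 1] (KT.merge [nat_lit 17] [nat_lit 0] (KT.merge [nat_lit 10] [] (KT.cj [nat_lit 58, nat_lit 14, nat_lit 17, nat_lit 30, nat_lit 30, nat_lit 22, nat_lit 37, nat_lit 39, nat_lit 30, nat_lit 35, nat_lit 32, nat_lit 36] (nat_lit 1))))) (KT.cons (KT.into [] (nat_lit 0) []) (KT.cons (KT.merge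 [nat_lit 6] [nat_lit 1] (KT.merge [nat_lit 17] [nat_lit 0] (KT.merge [nat_lit 11] [] (KT.cj [nat_lit 35, nat_lit 64, nat_lit 59, nat_lit 29, nat_lit 32, nat_lit 31, nat_lit 32, nat_lit 35, nat_lit 36, nat_lit 35, nat_lit 39] (nat_lit 1))))) KT.nil))))) [nat_lit 0, nat_lit 6, nat_lit 6, nat_lit 8, nat_lit 8, nat_lit 12, nat_lit 12] _ _ (by decide +kernel)

theorem o8lk81 (b : Cx τ s M o8L) : KK s 3 o8cA (GoodM M s o8cR) (E s [nat_lit 40, nat_lit 46, nat_lit 46, nat_lit 48, nat_lit 48]) 5 :=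
  KH.kk (o8ckh b) [([nat_lit 40, nat_lit 46, nat_lit 46, nat_lit 48, nat_lit 48, nat_lit 52, nat_lit 52], nat_lit 7)] (KKs.cons (o8lk80 b) KKs.nil) (KT.merge [nat_lit 4] [nat_lit 2, nat_lit 6, nat_lit 11] (KT.split (KT.cons (KT.merge [nat_lit 2] [nat_lit 0, nat_lit 6] (KT.merge [nat_lit 3, nat_lit 9] [nat_lit 3] (KT.merge [nat_lit 6] [nat_lit 1] (KT.merge [nat_lit 17] [nat_lit 0] (KT.merge [nat_lit 10] [] (KT.cj [nat_lit 36, nat_lit 12, nat_lit 0, nat_lit 59, nat_lit 32, nat_lit 22, nat_lit 36, nat_lit 35, nat_lit 31, nat_lit 34, nat_lit 32, nat_lit 32, nat_lit 37, nat_lit 37] (nat_lit 1))))))) (KT.cons (KT.merge [nat_lit 2] [nat_lit 1] (KT.merge [nat_lit 2, nat_lit 8] [nat_lit 2, nat_lit 4] (KT.merge [nat_lit 6] [nat_lit 1] (KT.merge [nat_lit 17] [nat_lit 0] (KT.merge [nat_lit 10] [] (KT.cj [nat_lit 33, nat_lit 34, nat_lit 36, nat_lit 29, nat_lit 34, nat_lit 34, nat_lit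 32, nat_lit 27, nat_lit 23, nat_lit 26, nat_lit 46, nat_lit 35] (nat_lit 1))))))) (KT.cons (KT.into [] (nat_lit 0) []) KT.nil))))) [nat_lit 0, nat_lit 6, nat_lit 6, nat_lit 8, nat_lit 8] _ _ (by decide +kernel)

theorem o8lk82 (b : Cx τ s M o8L) : KK s 3 o8cA (GoodM M s o8cR) (E s [nat_lit 40, nat_lit 44, nat_lit 46, nat_lit 46]) 4 :=
  KH.kk (o8ckh b) [] KKs.nil (KT.merge [nat_lit 3] [nat_lit 4, nat_lit 10, nat_lit 13] (KT.merge [nat_lit 4] [nat_lit 2, nat_lit 6, nat_lit 10] (KT.merge [nat_lit 7] [nat_lit 2, nat_lit 7] (KT.merge [nat_lit 9] [nat_lit 5] (KT.split (KT.cons (KT.merge [nat_lit 13] [nat_lit 3] (KT.merge [nat_lit 17] [nat_lit 0] (KT.prune (nat_lit 11) (nat_lit 2) []))) (KT.cons (KT.merge [nat_lit 13] [nat_lit 3] (KT.merge [nat_lit 17] [nat_lit 0] (KT.prune (nat_lit 11) (nat_lit 1) []))) (KT.cons (KT.merge [nat_lit 13] [nat_lit 3] (KT.merge [nat_lit 17]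 [nat_lit 0] (KT.merge [nat_lit 10] [] (KT.cj [nat_lit 24, nat_lit 20, nat_lit 8, nat_lit 26, nat_lit 58, nat_lit 22, nat_lit 36, nat_lit 31, nat_lit 35, nat_lit 28, nat_lit 33, nat_lit 37, nat_lit 34, nat_lit 33] (nat_lit 1))))) KT.nil)))))))) [nat_lit 0, nat_lit 4, nat_lit 6, nat_lit 6] _ _ (by decide +kernel)

theorem o8lk83 (b : Cx τ s M o8L) : KK s 3 o8cA (GoodM M s o8cR) (E s [nat_lit 40, nat_lit 44]) 3 :=
  KH.kk (o8ckh b) [([nat_lit 40, nat_lit 44, nat_lit 46, nat_lit 46], nat_lit 4)] (KKs.cons (o8lk82 b) KKs.nil) (KT.split (KT.cons (KT.merge [nat_lit 3] [nat_lit 4, nat_lit 6] (KT.merge [nat_lit 4] [nat_lit 1, nat_lit 2, nat_lit 5, nat_lit 7, nat_lit 8] (KT.merge [nat_lit 7] [nat_lit 2, nat_lit 7] (KT.merge [nat_lit 9] [nat_lit 0, nat_lit 4, nat_lit 6] (KT.split (KT.cons (KT.prune (nat_lit 9) (nat_lit 1) [nat_lit 1]) (KT.cons (KT.prune (nat_lit 9) (nat_lit 1)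 [nat_lit 1, nat_lit 3]) (KT.cons (KT.prune (nat_lit 9) (nat_lit 1) [nat_lit 1, nat_lit 2]) KT.nil)))))))) (KT.cons (KT.merge [nat_lit 3] [nat_lit 4, nat_lit 7, nat_lit 11, nat_lit 12] (KT.merge [nat_lit 4] [nat_lit 0, nat_lit 2, nat_lit 4, nat_lit 9, nat_lit 11] (KT.merge [nat_lit 7] [nat_lit 2, nat_lit 7] (KT.merge [nat_lit 9] [nat_lit 1, nat_lit 7] (KT.split (KT.cons (KT.prune (nat_lit 9) (nat_lit 2) [nat_lit 0, nat_lit 2]) (KT.cons (KT.prune (nat_lit 9) (nat_lit 2) [nat_lit 0]) (KT.cons (KT.prune (nat_lit 9) (nat_lit 2) [nat_lit 0, nat_lit 3]) KT.nil)))))))) (KT.cons (KT.into [] (nat_lit 0) []) KT.nil)))) [nat_lit 0, nat_lit 4] _ _ (by decide +kernel)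

theorem o8lk84 (b : Cx τ s M o8L) : KK s 3 o8cA (GoodM M s o8cR) (E s [nat_lit 40, nat_lit 42]) 6 :=
  KH.kk (o8ckh b) [] KKs.nil (KT.split (KT.cons (KT.merge [nat_lit 2] [nat_lit 0, nat_lit 5, nat_lit 6] (KT.merge [nat_lit 7] [nat_lit 0] (KT.merge [nat_lit 2, nat_lit 10, nat_lit 12] [nat_lit 2] (KT.merge [nat_lit 14] [nat_lit 0] (KT.split (KT.cons (KT.cj [nat_lit 37, nat_lit 38, nat_lit 32, nat_lit 39, nat_lit 29, nat_lit 29, nat_lit 39, nat_lit 37, nat_lit 24, nat_lit 27, nat_lit 25, nat_lit 41] (nat_lit 4)) (KT.cons (KT.cj [nat_lit 32, nat_lit 2, nat_lit 33, nat_lit 23, nat_lit 27, nat_lit 28, nat_lit 34, nat_lit 33, nat_lit 28, nat_lit 33, nat_lit 35, nat_lit 39, nat_lit 37] (nat_lit 1)) (KT.cons (KT.cj [nat_lit 37, nat_lit 35, nat_lit 33, nat_lit 35, nat_lit 29, nat_lit 34, nat_lit 34, nat_lit 38, nat_lit 25, nat_lit 19, nat_lit 55] (nat_lit 7)) KT.nil))))))))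 (KT.cons (KT.merge [nat_lit 2] [nat_lit 1, nat_lit 5] (KT.merge [nat_lit 7] [nat_lit 0] (KT.merge [nat_lit 9, nat_lit 10, nat_lit 12, nat_lit 22] [] (KT.prune (nat_lit 10) (nat_lit 1) [nat_lit 1])))) (KT.cons (KT.merge [nat_lit 2] [nat_lit 5, nat_lit 7] (KT.merge [nat_lit 7] [nat_lit 0] (KT.merge [nat_lit 0, nat_lit 11, nat_lit 13] [nat_lit 1, nat_lit 3] (KT.prune (nat_lit 10) (nat_lit 2) [nat_lit 0])))) KT.nil)))) [nat_lit 0, nat_lit 2] _ _ (by decide +kernel)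

theorem o8lk85 (b : Cx τ s M o8L) : KK s 3 o8cA (GoodM M s o8cR) (E s [nat_lit 40, nat_lit 42, nat_lit 50]) 6 :=
  KH.kk (o8ckh b) [] KKs.nil (KT.split (KT.cons (KT.merge [nat_lit 3] [nat_lit 1, nat_lit 5, nat_lit 6] (KT.merge [nat_lit 7] [nat_lit 1, nat_lit 4] (KT.merge [nat_lit 6, nat_lit 12] [nat_lit 1, nat_lit 2] (KT.prune (nat_lit 10) (nat_lit 1) [nat_lit 1])))) (KT.cons (KT.merge [nat_lit 3] [nat_lit 0, nat_lit 5] (KT.merge [nat_lit 7] [nat_lit 1, nat_lit 4] (KT.merge [nat_lit 6, nat_lit 12] [nat_lit 1, nat_lit 2] (KT.prune (nat_lit 10) (nat_lit 2) [nat_lit 1])))) (KT.cons (KT.merge [nat_lit 3] [nat_lit 5, nat_lit 7] (KT.merge [nat_lit 7] [nat_lit 1, nat_lit 4] (KT.merge [nat_lit 2, nat_lit 11] [nat_lit 3] (KT.merge [nat_lit 14] [] (KT.prune (nat_lit 11) (nat_lit 2) []))))) KT.nil)))) [nat_lit 0, nat_lit 2, nat_lit 10] _ _ (by decide +kernel)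

theorem o8lk86 (b : Cx τ s M o8L) : KK s 3 o8cA (GoodM M s o8cR) (E s [nat_lit 40, nat_lit 42, nat_lit 50, nat_lit 50]) 6 :=
  KH.kk (o8ckh b) [] KKs.nil (KT.split (KT.cons (KT.merge [nat_lit 9] [nat_lit 0, nat_lit 4] (KT.merge [nat_lit 3] [] (KT.merge [nat_lit 7, nat_lit 13] [nat_lit 0, nat_lit 3] (KT.prune (nat_lit 10) (nat_lit 2) [nat_lit 0])))) (KT.cons (KT.merge [nat_lit 9] [nat_lit 0, nat_lit 4, nat_lit 6] (KT.merge [nat_lit 2] [] (KT.merge [nat_lit 2, nat_lit 13] [] (KT.merge [nat_lit 14] [nat_lit 1] (KT.prune (nat_lit 11) (nat_lit 2) []))))) (KT.cons (KT.merge [nat_lit 9] [nat_lit 0, nat_lit 4, nat_lit 7] (KT.merge [nat_lit 7] [nat_lit 5] (KT.merge [nat_lit 7, nat_lit 13] [nat_lit 0, nat_lit 3] (KT.prune (nat_lit 10) (nat_lit 1) [])))) KT.nil)))) [nat_lit 0, nat_lit 2, nat_lit 10, nat_lit 10] _ _ (by decide +kernel)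

theorem o8lk87 (b : Cx τ s M o8L) : KK s 3 o8cA (GoodM M s o8cR) (E s [nat_lit 40, nat_lit 42, nat_lit 46, nat_lit 52]) 7 :=
  KH.kk (o8ckh b) [] KKs.nil (KT.merge [nat_lit 2] [nat_lit 1, nat_lit 4] (KT.merge [nat_lit 7] [nat_lit 0] (KT.merge [nat_lit 0, nat_lit 11, nat_lit 12] [nat_lit 2] (KT.merge [nat_lit 15] [nat_lit 0] (KT.split (KT.cons (KT.cj [nat_lit 36, nat_lit 33, nat_lit 35, nat_lit 39, nat_lit 35, nat_lit 29, nat_lit 33, nat_lit 34, nat_lit 30, nat_lit 26, nat_lit 30, nat_lit 34, nat_lit 0, nat_lit 58] (nat_lit 5)) (KT.cons (KT.cj [nat_lit 39, nat_lit 39, nat_lit 36, nat_lit 33, nat_lit 34, nat_lit 30, nat_lit 39, nat_lit 29, nat_lit 36, nat_lit 23, nat_lit 30, nat_lit 44, nat_lit 23] (nat_lit 1)) (KT.cons (KT.cj [nat_lit 6, nat_lit 23, nat_lit 8, nat_lit 0, nat_lit 35, nat_lit 23, nat_lit 32, nat_lit 30, nat_lit 32, nat_lit 35, nat_lit 32, nat_lit 39,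 nat_lit 37] (nat_lit 4)) KT.nil)))))))) [nat_lit 0, nat_lit 2, nat_lit 6, nat_lit 12] _ _ (by decide +kernel)

theorem o8lk88 (b : Cx τ s M o8L) : KK s 3 o8cA (GoodM M s o8cR) (E s [nat_lit 40, nat_lit 42, nat_lit 46, nat_lit 50]) 6 :=
  KH.kk (o8ckh b) [] KKs.nil (KT.split (KT.cons (KT.merge [nat_lit 3] [nat_lit 1, nat_lit 6] (KT.merge [nat_lit 7] [nat_lit 1, nat_lit 4] (KT.merge [nat_lit 6, nat_lit 12] [nat_lit 1, nat_lit 2] (KT.prune (nat_lit 10) (nat_lit 1) [nat_lit 0])))) (KT.cons (KT.merge [nat_lit 3] [nat_lit 0] (KT.merge [nat_lit 7] [nat_lit 1, nat_lit 4] (KT.merge [nat_lit 6, nat_lit 12] [nat_lit 1, nat_lit 2] (KT.prune (nat_lit 10) (nat_lit 2) [nat_lit 0])))) (KT.cons (KT.merge [nat_lit 3] [nat_lit 7] (KT.merge [nat_lit 7] [nat_lit 1, nat_lit 4] (KT.merge [nat_lit 6, nat_lit 12] [nat_lit 1, nat_lit 2] (KT.merge [nat_lit 15] [] (KT.prune (nat_lit 11) (nat_lit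 1) []))))) KT.nil)))) [nat_lit 0, nat_lit 2, nat_lit 6, nat_lit 10] _ _ (by decide +kernel)

theorem o8lk89 (b : Cx τ s M o8L) : KK s 3 o8cA (GoodM M s o8cR) (E s [nat_lit 40, nat_lit 42, nat_lit 46, nat_lit 50, nat_lit 50]) 6 :=
  KH.kk (o8ckh b) [] KKs.nil (KT.split (KT.cons (KT.merge [nat_lit 9] [nat_lit 1, nat_lit 7] (KT.merge [nat_lit 3] [nat_lit 2] (KT.merge [nat_lit 7, nat_lit 13] [nat_lit 0, nat_lit 3] (KT.merge [nat_lit 15] [nat_lit 1] (KT.prune (nat_lit 11) (nat_lit 1) []))))) (KT.cons (KT.merge [nat_lit 9] [nat_lit 1] (KT.merge [nat_lit 2] [nat_lit 3] (KT.merge [nat_lit 2, nat_lit 13] [nat_lit 1] (KT.prune (nat_lit 10) (nat_lit 1) [nat_lit 1])))) (KT.cons (KT.merge [nat_lit 9] [nat_lit 1, nat_lit 6] (KT.merge [nat_lit 7] [nat_lit 5] (KT.merge [nat_lit 7, nat_lit 13] [nat_lit 0, nat_lit 3] (KT.prune (nat_lit 10) (nat_lit 2) [])))) KT.nil)))) [nat_lit 0, nat_lit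 2, nat_lit 6, nat_lit 10, nat_lit 10] _ _ (by decide +kernel)

theorem o8lk90 (b : Cx τ s M o8L) : KK s 3 o8cA (GoodM M s o8cR) (E s [nat_lit 40, nat_lit 42, nat_lit 46, nat_lit 46, nat_lit 52, nat_lit 52]) 7 :=
  KH.kk (o8ckh b) [] KKs.nil (KT.merge [nat_lit 2] [nat_lit 7] (KT.merge [nat_lit 7] [nat_lit 0] (KT.split (KT.cons (KT.merge [nat_lit 17] [nat_lit 0] (KT.merge [nat_lit 9, nat_lit 10] [] (KT.cj [nat_lit 23, nat_lit 30, nat_lit 18, nat_lit 29, nat_lit 22, nat_lit 32, nat_lit 34, nat_lit 34, nat_lit 28, nat_lit 32, nat_lit 34, nat_lit 37, nat_lit 38] (nat_lit 1)))) (KT.cons (KT.merge [nat_lit 17] [nat_lit 0] (KT.split (KT.cons (KT.cj [nat_lit 51, nat_lit 27, nat_lit 47, nat_lit 31, nat_lit 25, nat_lit 25, nat_lit 29, nat_lit 30, nat_lit 28, nat_lit 37, nat_lit 35, nat_lit 39] (nat_lit 9)) (KT.cons (KT.cj [nat_lit 56, nat_lit 53, nat_lit 1, nat_lit 24, nat_lit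 32, nat_lit 23, nat_lit 36, nat_lit 33, nat_lit 28, nat_lit 33, nat_lit 35, nat_lit 38] (nat_lit 7)) (KT.cons (KT.cj [nat_lit 45, nat_lit 27, nat_lit 23, nat_lit 39, nat_lit 28, nat_lit 31, nat_lit 28, nat_lit 38, nat_lit 35, nat_lit 37, nat_lit 37, nat_lit 38] (nat_lit 5)) KT.nil))))) (KT.cons (KT.merge [nat_lit 17] [nat_lit 0] (KT.merge [nat_lit 8, nat_lit 11] [] (KT.cj [nat_lit 27, nat_lit 41, nat_lit 27, nat_lit 36, nat_lit 26, nat_lit 37, nat_lit 35, nat_lit 30, nat_lit 34, nat_lit 34, nat_lit 34, nat_lit 36] (nat_lit 1)))) KT.nil)))))) [nat_lit 0, nat_lit 2, nat_lit 6, nat_lit 6, nat_lit 12, nat_lit 12] _ _ (by decide +kernel)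

theorem o8lk91 (b : Cx τ s M o8L) : KK s 3 o8cA (GoodM M s o8cR) (E s [nat_lit 40, nat_lit 42, nat_lit 46, nat_lit 46, nat_lit 50]) 6 :=
  KH.kk (o8ckh b) [] KKs.nil (KT.split (KT.cons (KT.merge [nat_lit 3] [nat_lit 1, nat_lit 4, nat_lit 6] (KT.merge [nat_lit 7] [nat_lit 1, nat_lit 4] (KT.merge [nat_lit 6, nat_lit 12] [nat_lit 1, nat_lit 2] (KT.prune (nat_lit 10) (nat_lit 1) [])))) (KT.cons (KT.merge [nat_lit 3] [nat_lit 0, nat_lit 4] (KT.merge [nat_lit 7] [nat_lit 1, nat_lit 4] (KT.merge [nat_lit 6, nat_lit 12] [nat_lit 1, nat_lit 2] (KT.prune (nat_lit 10) (nat_lit 2) [])))) (KT.cons (KT.merge [nat_lit 3] [nat_lit 4, nat_lit 7] (KT.merge [nat_lit 7] [nat_lit 1, nat_lit 4] (KT.merge [nat_lit 0, nat_lit 11] [nat_lit 0, nat_lit 3] (KT.merge [nat_lit 17] [nat_lit 1] (KT.merge [nat_lit 9, nat_lit 10] [] (KT.cj [nat_lit 36, nat_lit 33, nat_lit 33, nat_lit 35, nat_lit 35,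 nat_lit 29, nat_lit 29, nat_lit 29, nat_lit 34, nat_lit 24, nat_lit 35, nat_lit 19] (nat_lit 1))))))) KT.nil)))) [nat_lit 0, nat_lit 2, nat_lit 6, nat_lit 6, nat_lit 10] _ _ (by decide +kernel)

theorem o8lk92 (b : Cx τ s M o8L) : KK s 3 o8cA (GoodM M s o8cR) (E s [nat_lit 40, nat_lit 42, nat_lit 46, nat_lit 46, nat_lit 50, nat_lit 50]) 6 :=
  KH.kk (o8ckh b) [] KKs.nil (KT.split (KT.cons (KT.merge [nat_lit 9] [nat_lit 5, nat_lit 6] (KT.merge [nat_lit 3] [nat_lit 3] (KT.merge [nat_lit 7, nat_lit 13] [nat_lit 0, nat_lit 3] (KT.prune (nat_lit 10) (nat_lit 1) [nat_lit 0])))) (KT.cons (KT.merge [nat_lit 9] [nat_lit 5, nat_lit 7] (KT.merge [nat_lit 2] [nat_lit 2] (KT.merge [nat_lit 0, nat_lit 11] [nat_lit 0, nat_lit 2] (KT.prune (nat_lit 10) (nat_lit 2) [nat_lit 1])))) (KT.cons (KT.merge [nat_lit 9] [nat_lit 5] (KT.merge [nat_lit 7] [nat_lit 5] (KT.merge [nat_lit 7, nat_lit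 13] [nat_lit 0, nat_lit 3] (KT.merge [nat_lit 3] [] (KT.merge [nat_lit 9, nat_lit 10] [] (KT.cj [nat_lit 21, nat_lit 4, nat_lit 19, nat_lit 28, nat_lit 59, nat_lit 27, nat_lit 33, nat_lit 29, nat_lit 34, nat_lit 37, nat_lit 35] (nat_lit 1))))))) KT.nil)))) [nat_lit 0, nat_lit 2, nat_lit 6, nat_lit 6, nat_lit 10, nat_lit 10] _ _ (by decide +kernel)

theorem o8lk93 (b : Cx τ s M o8L) : KK s 3 o8cA (GoodM M s o8cR) (E s [nat_lit 40, nat_lit 42, nat_lit 46, nat_lit 46]) 4 :=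
  KH.kk (o8ckh b) [([nat_lit 40, nat_lit 42, nat_lit 46, nat_lit 46, nat_lit 52, nat_lit 52], nat_lit 7), ([nat_lit 40, nat_lit 42, nat_lit 46, nat_lit 46, nat_lit 50], nat_lit 6), ([nat_lit 40, nat_lit 42, nat_lit 46, nat_lit 46, nat_lit 50, nat_lit 50], nat_lit 6)] (KKs.cons (o8lk90 b) (KKs.cons (o8lk91 b) (KKs.cons (o8lk92 b) KKs.nil))) (KT.merge [nat_lit 4] [nat_lit 1, nat_lit 7, nat_lit 8, nat_lit 12] (KT.split (KT.cons (KT.split (KT.cons (KT.merge [nat_lit 2] [nat_lit 0, nat_lit 6] (KT.merge [nat_lit 7] [nat_lit 0] (KT.merge [nat_lit 0, nat_lit 11] [nat_lit 0] (KT.prune (nat_lit 10) (nat_lit 1) [nat_lit 1])))) (KT.cons (KT.merge [nat_lit 2] [nat_lit 1] (KT.merge [nat_lit 7] [nat_lit 0] (KT.merge [nat_lit 2, nat_lit 10, nat_lit 13] [nat_lit 0, nat_lit 2] (KT.prune (nat_lit 10) (nat_lit 2) [nat_lit 0])))) (KT.cons (KT.into [] (nat_lit 0) []) KT.nil)))) (KT.cons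 (KT.into [] (nat_lit 1) []) (KT.cons (KT.into [] (nat_lit 2) []) KT.nil))))) [nat_lit 0, nat_lit 2, nat_lit 6, nat_lit 6] _ _ (by decide +kernel)

theorem o8lk94 (b : Cx τ s M o8L) : KK s 3 o8cA (GoodM M s o8cR) (E s [nat_lit 40, nat_lit 42]) 3 :=
  KH.kk (o8ckh b) [([nat_lit 40, nat_lit 42], nat_lit 6), ([nat_lit 40, nat_lit 42, nat_lit 50], nat_lit 6), ([nat_lit 40, nat_lit 42, nat_lit 50, nat_lit 50], nat_lit 6), ([nat_lit 40, nat_lit 42, nat_lit 46, nat_lit 52], nat_lit 7), ([nat_lit 40, nat_lit 42, nat_lit 46, nat_lit 50], nat_lit 6), ([nat_lit 40, nat_lit 42, nat_lit 46, nat_lit 50, nat_lit 50], nat_lit 6), ([nat_lit 40, nat_lit 42, nat_lit 46, nat_lit 46], nat_lit 4)] (KKs.cons (o8lk84 b) (KKs.cons (o8lk85 b) (KKs.cons (o8lk86 b) (KKs.cons (o8lk87 b) (KKs.cons (o8lk88 b) (KKs.cons (o8lk89 b) (KKs.cons (o8lk93 b) KKs.nil))))))) (KT.split (KT.cons (KT.merge [nat_lit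 4] [nat_lit 1, nat_lit 3, nat_lit 7, nat_lit 9] (KT.split (KT.cons (KT.into [] (nat_lit 0) []) (KT.cons (KT.into [] (nat_lit 1) []) (KT.cons (KT.into [] (nat_lit 2) []) KT.nil))))) (KT.cons (KT.merge [nat_lit 4] [nat_lit 1, nat_lit 2, nat_lit 7, nat_lit 13] (KT.split (KT.cons (KT.split (KT.cons (KT.merge [nat_lit 2] [nat_lit 0, nat_lit 4, nat_lit 6] (KT.merge [nat_lit 7] [nat_lit 0] (KT.merge [nat_lit 8, nat_lit 11, nat_lit 12] [] (KT.prune (nat_lit 10) (nat_lit 2) [nat_lit 0])))) (KT.cons (KT.into [] (nat_lit 3) []) (KT.cons (KT.merge [nat_lit 2] [nat_lit 4, nat_lit 7] (KT.merge [nat_lit 7] [nat_lit 0] (KT.merge [nat_lit 2, nat_lit 10] [nat_lit 1, nat_lit 2] (KT.prune (nat_lit 10) (nat_lit 1) [nat_lit 1])))) KT.nil)))) (KT.cons (KT.into [] (nat_lit 4) []) (KT.cons (KT.into [] (nat_lit 5) []) KT.nil))))) (KT.cons (KT.into [] (nat_lit 6) []) KT.nil)))) [nat_lit 0, nat_lit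 2] _ _ (by decide +kernel)

theorem o8lk95 (b : Cx τ s M o8L) : KK s 3 o8cA (GoodM M s o8cR) (E s [nat_lit 40, nat_lit 42, nat_lit 44]) 3 :=
  KH.kk (o8ckh b) [] KKs.nil (KT.split (KT.cons (KT.merge [nat_lit 3] [nat_lit 4, nat_lit 6] (KT.merge [nat_lit 2, nat_lit 4] [nat_lit 1, nat_lit 7] (KT.merge [nat_lit 7] [nat_lit 2, nat_lit 7] (KT.prune (nat_lit 7) (nat_lit 1) [nat_lit 1, nat_lit 2, nat_lit 5, nat_lit 6])))) (KT.cons (KT.merge [nat_lit 3] [nat_lit 4, nat_lit 7, nat_lit 11, nat_lit 12] (KT.merge [nat_lit 2, nat_lit 4] [nat_lit 0, nat_lit 4, nat_lit 9] (KT.merge [nat_lit 7] [nat_lit 2, nat_lit 7] (KT.prune (nat_lit 7) (nat_lit 1) [nat_lit 0, nat_lit 3, nat_lit 7])))) (KT.cons (KT.merge [nat_lit 3] [nat_lit 4, nat_lit 10, nat_lit 13] (KT.merge [nat_lit 2, nat_lit 4] [nat_lit 5, nat_lit 6, nat_lit 8] (KT.merge [nat_lit 7] [nat_lit 2, nat_lit 7] (KT.prune (nat_lit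 7) (nat_lit 1) [nat_lit 4])))) KT.nil)))) [nat_lit 0, nat_lit 2, nat_lit 4] _ _ (by decide +kernel)

theorem o8lk96 (b : Cx τ s M o8L) : KK s 3 o8cA (GoodM M s o8cR) (E s [nat_lit 40, nat_lit 42, nat_lit 42]) 6 :=
  KH.kk (o8ckh b) [] KKs.nil (KT.split (KT.cons (KT.merge [nat_lit 0] [nat_lit 0] (KT.merge [nat_lit 7] [nat_lit 0] (KT.merge [nat_lit 7, nat_lit 12] [nat_lit 0, nat_lit 2] (KT.prune (nat_lit 10) (nat_lit 2) [nat_lit 0])))) (KT.cons (KT.merge [nat_lit 0] [nat_lit 0, nat_lit 3, nat_lit 7] (KT.merge [nat_lit 7] [nat_lit 0] (KT.merge [nat_lit 7, nat_lit 12] [nat_lit 0, nat_lit 2] (KT.prune (nat_lit 10) (nat_lit 1) [nat_lit 0])))) (KT.cons (KT.merge [nat_lit 0] [nat_lit 0, nat_lit 2, nat_lit 6] (KT.merge [nat_lit 7] [nat_lit 0] (KT.merge [nat_lit 2, nat_lit 11] [nat_lit 0] (KT.merge [nat_lit 14] [] (KT.prune (nat_lit 11) (nat_lit 1) []))))) KT.nil)))) [nat_lit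 0, nat_lit 2, nat_lit 2] _ _ (by decide +kernel)

theorem o8lk97 (b : Cx τ s M o8L) : KK s 3 o8cA (GoodM M s o8cR) (E s [nat_lit 40, nat_lit 42, nat_lit 42, nat_lit 50, nat_lit 52]) 7 :=
  KH.kk (o8ckh b) [] KKs.nil (KT.merge [nat_lit 0] [nat_lit 0, nat_lit 2] (KT.merge [nat_lit 7] [nat_lit 1, nat_lit 4] (KT.merge [nat_lit 0, nat_lit 11, nat_lit 13] [nat_lit 0, nat_lit 2] (KT.merge [nat_lit 14] [nat_lit 1] (KT.split (KT.cons (KT.cj [nat_lit 49, nat_lit 36, nat_lit 26, nat_lit 59, nat_lit 33, nat_lit 28, nat_lit 28, nat_lit 28, nat_lit 35, nat_lit 35, nat_lit 32, nat_lit 37, nat_lit 39] (nat_lit 1)) (KT.cons (KT.cj [nat_lit 12, nat_lit 8, nat_lit 24, nat_lit 26, nat_lit 31, nat_lit 29, nat_lit 36, nat_lit 30, nat_lit 37, nat_lit 34, nat_lit 36, nat_lit 32, nat_lit 36, nat_lit 36] (nat_lit 4)) (KT.cons (KT.cj [nat_lit 36, nat_lit 38, nat_lit 32, nat_lit 34, nat_lit 37,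 nat_lit 28, nat_lit 32, nat_lit 34, nat_lit 24, nat_lit 26, nat_lit 59, nat_lit 41, nat_lit 9] (nat_lit 10)) KT.nil)))))))) [nat_lit 0, nat_lit 2, nat_lit 2, nat_lit 10, nat_lit 12] _ _ (by decide +kernel)

theorem o8lk98 (b : Cx τ s M o8L) : KK s 3 o8cA (GoodM M s o8cR) (E s [nat_lit 40, nat_lit 42, nat_lit 42]) 4 :=
  KH.kk (o8ckh b) [([nat_lit 40, nat_lit 42, nat_lit 42], nat_lit 6), ([nat_lit 40, nat_lit 42, nat_lit 42, nat_lit 50, nat_lit 52], nat_lit 7)] (KKs.cons (o8lk96 b) (KKs.cons (o8lk97 b) KKs.nil)) (KT.merge [nat_lit 5] [nat_lit 0, nat_lit 2, nat_lit 4, nat_lit 6, nat_lit 8, nat_lit 10] (KT.split (KT.cons (KT.into [] (nat_lit 0) []) (KT.cons (KT.split (KT.cons (KT.merge [nat_lit 0] [nat_lit 0, nat_lit 3, nat_lit 6] (KT.merge [nat_lit 7] [nat_lit 1, nat_lit 4] (KT.merge [nat_lit 8, nat_lit 10, nat_lit 12] [nat_lit 3] (KT.prune (nat_lit 10) (nat_lit 1) [nat_lit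 0])))) (KT.cons (KT.into [] (nat_lit 1) []) (KT.cons (KT.merge [nat_lit 0] [nat_lit 0, nat_lit 7] (KT.merge [nat_lit 7] [nat_lit 1, nat_lit 4] (KT.merge [nat_lit 8, nat_lit 10, nat_lit 12] [nat_lit 2] (KT.prune (nat_lit 10) (nat_lit 2) [nat_lit 1])))) KT.nil)))) (KT.cons (KT.into [nat_lit 0] (nat_lit 0) [nat_lit 1, nat_lit 2, nat_lit 6, nat_lit 8]) KT.nil))))) [nat_lit 0, nat_lit 2, nat_lit 2] _ _ (by decide +kernel)

theorem o8lk99 (b : Cx τ s M o8L) : KK s 3 o8cA (GoodM M s o8cR) (E s [nat_lit 40, nat_lit 42, nat_lit 42, nat_lit 46]) 6 :=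
  KH.kk (o8ckh b) [] KKs.nil (KT.split (KT.cons (KT.merge [nat_lit 0] [nat_lit 2, nat_lit 5, nat_lit 6] (KT.merge [nat_lit 7] [nat_lit 0] (KT.merge [nat_lit 0, nat_lit 11] [nat_lit 1, nat_lit 2] (KT.prune (nat_lit 10) (nat_lit 2) [nat_lit 1])))) (KT.cons (KT.merge [nat_lit 0] [nat_lit 5] (KT.merge [nat_lit 7] [nat_lit 0] (KT.merge [nat_lit 7, nat_lit 12] [nat_lit 0, nat_lit 2] (KT.prune (nat_lit 10) (nat_lit 1) [nat_lit 1])))) (KT.cons (KT.merge [nat_lit 0] [nat_lit 3, nat_lit 5, nat_lit 7] (KT.merge [nat_lit 7] [nat_lit 0] (KT.merge [nat_lit 7, nat_lit 12] [nat_lit 0, nat_lit 2] (KT.merge [nat_lit 15] [] (KT.prune (nat_lit 11) (nat_lit 2) []))))) KT.nil)))) [nat_lit 0, nat_lit 2, nat_lit 2, nat_lit 6] _ _ (by decide +kernel)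

theorem o8lk100 (b : Cx τ s M o8L) : KK s 3 o8cA (GoodM M s o8cR) (E s [nat_lit 40, nat_lit 42, nat_lit 42, nat_lit 46, nat_lit 50]) 7 :=
  KH.kk (o8ckh b) [] KKs.nil (KT.merge [nat_lit 0] [nat_lit 5] (KT.merge [nat_lit 7] [nat_lit 1, nat_lit 4] (KT.merge [nat_lit 1, nat_lit 10, nat_lit 19, nat_lit 20] [nat_lit 0, nat_lit 3] (KT.merge [nat_lit 15] [nat_lit 1] (KT.split (KT.cons (KT.cj [nat_lit 37, nat_lit 31, nat_lit 16, nat_lit 34, nat_lit 24, nat_lit 23, nat_lit 36, nat_lit 38, nat_lit 32, nat_lit 39, nat_lit 39] (nat_lit 1)) (KT.cons (KT.cj [nat_lit 36, nat_lit 36, nat_lit 34, nat_lit 36, nat_lit 33, nat_lit 29, nat_lit 32, nat_lit 34, nat_lit 26, nat_lit 59, nat_lit 28, nat_lit 3, nat_lit 46] (nat_lit 0)) (KT.cons (KT.cj [nat_lit 52, nat_lit 8, nat_lit 52, nat_lit 27, nat_lit 33, nat_lit 23, nat_lit 37, nat_lit 34, nat_lit 28, nat_lit 39, nat_lit 34, nat_lit 33,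 nat_lit 39] (nat_lit 4)) KT.nil)))))))) [nat_lit 0, nat_lit 2, nat_lit 2, nat_lit 6, nat_lit 10] _ _ (by decide +kernel)

theorem o8lk101 (b : Cx τ s M o8L) : KK s 3 o8cA (GoodM M s o8cR) (E s [nat_lit 40, nat_lit 42, nat_lit 42, nat_lit 46, nat_lit 50]) 6 :=
  KH.kk (o8ckh b) [([nat_lit 40, nat_lit 42, nat_lit 42, nat_lit 46, nat_lit 50], nat_lit 7)] (KKs.cons (o8lk100 b) KKs.nil) (KT.split (KT.cons (KT.into [] (nat_lit 0) []) (KT.cons (KT.merge [nat_lit 0] [nat_lit 3, nat_lit 5, nat_lit 7] (KT.merge [nat_lit 7] [nat_lit 1, nat_lit 4] (KT.merge [nat_lit 9, nat_lit 11, nat_lit 12, nat_lit 22] [] (KT.prune (nat_lit 10) (nat_lit 2) [nat_lit 1])))) (KT.cons (KT.merge [nat_lit 0] [nat_lit 2, nat_lit 5, nat_lit 6] (KT.merge [nat_lit 7] [nat_lit 1, nat_lit 4] (KT.merge [nat_lit 0, nat_lit 11] [nat_lit 1] (KT.prune (nat_lit 10) (nat_lit 1) [nat_lit 0])))) KT.nil)))) [nat_lit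 0, nat_lit 2, nat_lit 2, nat_lit 6, nat_lit 10] _ _ (by decide +kernel)

theorem o8lk102 (b : Cx τ s M o8L) : KK s 3 o8cA (GoodM M s o8cR) (E s [nat_lit 40, nat_lit 42, nat_lit 42, nat_lit 46, nat_lit 46]) 6 :=
  KH.kk (o8ckh b) [] KKs.nil (KT.split (KT.cons (KT.merge [nat_lit 0] [nat_lit 1, nat_lit 3, nat_lit 4, nat_lit 7] (KT.merge [nat_lit 7] [nat_lit 0] (KT.merge [nat_lit 7, nat_lit 12] [nat_lit 0, nat_lit 2] (KT.prune (nat_lit 10) (nat_lit 2) [])))) (KT.cons (KT.merge [nat_lit 0] [nat_lit 1, nat_lit 2, nat_lit 4, nat_lit 6] (KT.merge [nat_lit 7] [nat_lit 0] (KT.merge [nat_lit 7, nat_lit 12] [nat_lit 0, nat_lit 2] (KT.prune (nat_lit 10) (nat_lit 1) [])))) (KT.cons (KT.merge [nat_lit 0] [nat_lit 1, nat_lit 4] (KT.merge [nat_lit 7] [nat_lit 0] (KT.merge [nat_lit 7, nat_lit 12] [nat_lit 0, nat_lit 2] (KT.merge [nat_lit 17] [nat_lit 0] (KT.merge [nat_lit 8, nat_lit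 10] [] (KT.cj [nat_lit 7, nat_lit 27, nat_lit 41, nat_lit 22, nat_lit 29, nat_lit 23, nat_lit 38, nat_lit 34, nat_lit 30, nat_lit 36, nat_lit 34, nat_lit 32, nat_lit 37] (nat_lit 1))))))) KT.nil)))) [nat_lit 0, nat_lit 2, nat_lit 2, nat_lit 6, nat_lit 6] _ _ (by decide +kernel)

theorem o8lk103 (b : Cx τ s M o8L) : KK s 3 o8cA (GoodM M s o8cR) (E s [nat_lit 40, nat_lit 42, nat_lit 42, nat_lit 46, nat_lit 46, nat_lit 50, nat_lit 52, nat_lit 52, nat_lit 58, nat_lit 58]) 10 :=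
  KH.kk (o8ckh b) [] KKs.nil (KT.merge [nat_lit 17] [nat_lit 1] (KT.split (KT.cons (KT.cj [nat_lit 39, nat_lit 39, nat_lit 34, nat_lit 37, nat_lit 38, nat_lit 28, nat_lit 30, nat_lit 36, nat_lit 22, nat_lit 29, nat_lit 1, nat_lit 13, nat_lit 43] (nat_lit 0)) (KT.cons (KT.cj [nat_lit 14, nat_lit 44, nat_lit 21, nat_lit 29, nat_lit 27, nat_lit 34, nat_lit 34, nat_lit 30, nat_lit 34, nat_lit 36, nat_lit 32, nat_lit 38] (nat_lit 10)) (KT.cons (KT.cj [nat_lit 38, nat_lit 4, nat_lit 26, nat_lit 58, nat_lit 23, nat_lit 28, nat_lit 39, nat_lit 30, nat_lit 38, nat_lit 34, nat_lit 34, nat_lit 32, nat_lit 38] (nat_lit 8)) KT.nil))))) [nat_lit 0, nat_lit 2, nat_lit 2, nat_lit 6, nat_lit 6, nat_lit 10, nat_lit 12, nat_lit 12, nat_lit 18, nat_lit 18] _ _ (by decide +kernel)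

theorem o8lk104 (b : Cx τ s M o8L) : KK s 3 o8cA (GoodM M s o8cR) (E s [nat_lit 40, nat_lit 42, nat_lit 42, nat_lit 46, nat_lit 46, nat_lit 50, nat_lit 52, nat_lit 52]) 7 :=
  KH.kk (o8ckh b) [([nat_lit 40, nat_lit 42, nat_lit 42, nat_lit 46, nat_lit 46, nat_lit 50, nat_lit 52, nat_lit 52, nat_lit 58, nat_lit 58], nat_lit 10)] (KKs.cons (o8lk103 b) KKs.nil) (KT.merge [nat_lit 0] [nat_lit 1, nat_lit 3, nat_lit 4] (KT.merge [nat_lit 7] [nat_lit 1, nat_lit 4] (KT.split (KT.cons (KT.merge [nat_lit 17] [nat_lit 1] (KT.merge [nat_lit 8, nat_lit 10] [] (KT.cj [nat_lit 23, nat_lit 37, nat_lit 29, nat_lit 0, nat_lit 28, nat_lit 24, nat_lit 27, nat_lit 36, nat_lit 32, nat_lit 28, nat_lit 33, nat_lit 39, nat_lit 35] (nat_lit 1)))) (KT.cons (KT.merge [nat_lit 17] [nat_lit 1] (KT.merge [nat_lit 9, nat_lit 11] [] (KT.cj [nat_lit 18, nat_lit 57, nat_lit 27, nat_lit 35, nat_lit 22,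 nat_lit 22, nat_lit 39, nat_lit 30, nat_lit 28, nat_lit 35, nat_lit 33, nat_lit 38, nat_lit 38] (nat_lit 1)))) (KT.cons (KT.into [] (nat_lit 0) []) KT.nil)))))) [nat_lit 0, nat_lit 2, nat_lit 2, nat_lit 6, nat_lit 6, nat_lit 10, nat_lit 12, nat_lit 12] _ _ (by decide +kernel)

theorem o8lk105 (b : Cx τ s M o8L) : KK s 3 o8cA (GoodM M s o8cR) (E s [nat_lit 40, nat_lit 42, nat_lit 42, nat_lit 46, nat_lit 46, nat_lit 50]) 6 :=
  KH.kk (o8ckh b) [([nat_lit 40, nat_lit 42, nat_lit 42, nat_lit 46, nat_lit 46, nat_lit 50, nat_lit 52, nat_lit 52], nat_lit 7)] (KKs.cons (o8lk104 b) KKs.nil) (KT.split (KT.cons (KT.merge [nat_lit 0] [nat_lit 1, nat_lit 2, nat_lit 4, nat_lit 7] (KT.merge [nat_lit 7] [nat_lit 1, nat_lit 4] (KT.merge [nat_lit 0, nat_lit 11, nat_lit 12] [nat_lit 3] (KT.prune (nat_lit 10) (nat_lit 2) [nat_lit 1])))) (KT.cons (KT.merge [nat_lit 0] [nat_lit 1, nat_lit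 4, nat_lit 6] (KT.merge [nat_lit 7] [nat_lit 1, nat_lit 4] (KT.merge [nat_lit 1, nat_lit 10, nat_lit 13, nat_lit 20, nat_lit 22] [] (KT.prune (nat_lit 10) (nat_lit 1) [nat_lit 0])))) (KT.cons (KT.into [] (nat_lit 0) []) KT.nil)))) [nat_lit 0, nat_lit 2, nat_lit 2, nat_lit 6, nat_lit 6, nat_lit 10] _ _ (by decide +kernel)

theorem o8lk106 (b : Cx τ s M o8L) : KK s 3 o8cA (GoodM M s o8cR) (E s [nat_lit 40, nat_lit 42, nat_lit 42, nat_lit 44]) 3 :=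
  KH.kk (o8ckh b) [] KKs.nil (KT.split (KT.cons (KT.merge [nat_lit 3] [nat_lit 4, nat_lit 6] (KT.merge [nat_lit 1, nat_lit 20, nat_lit 23] [nat_lit 1, nat_lit 3, nat_lit 4, nat_lit 7, nat_lit 9, nat_lit 11] (KT.merge [nat_lit 7] [nat_lit 2, nat_lit 7] (KT.prune (nat_lit 7) (nat_lit 2) [nat_lit 0, nat_lit 2, nat_lit 5, nat_lit 7])))) (KT.cons (KT.merge [nat_lit 3] [nat_lit 4, nat_lit 7, nat_lit 11, nat_lit 12] (KT.merge [nat_lit 1, nat_lit 20, nat_lit 23] [nat_lit 1, nat_lit 3, nat_lit 5, nat_lit 11] (KT.merge [nat_lit 7] [nat_lit 2, nat_lit 7] (KT.prune (nat_lit 7) (nat_lit 2) [nat_lit 1, nat_lit 3, nat_lit 5])))) (KT.cons (KT.merge [nat_lit 3] [nat_lit 4, nat_lit 10, nat_lit 13] (KT.merge [nat_lit 1, nat_lit 20, nat_lit 23] [nat_lit 1, nat_lit 3, nat_lit 6, nat_lit 8, nat_lit 11] (KT.merge [nat_lit 7] [nat_lit 2, nat_lit 7] (KT.prune (nat_lit 7) (nat_lit 2) [nat_lit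 5, nat_lit 6])))) KT.nil)))) [nat_lit 0, nat_lit 2, nat_lit 2, nat_lit 4] _ _ (by decide +kernel)

theorem o8lk107 (b : Cx τ s M o8L) : KK s 3 o8cA (GoodM M s o8cR) (E s [nat_lit 40, nat_lit 42, nat_lit 42]) 2 :=
  KH.kk (o8ckh b) [([nat_lit 40, nat_lit 42, nat_lit 42], nat_lit 4), ([nat_lit 40, nat_lit 42, nat_lit 42, nat_lit 46], nat_lit 6), ([nat_lit 40, nat_lit 42, nat_lit 42, nat_lit 46, nat_lit 50], nat_lit 6), ([nat_lit 40, nat_lit 42, nat_lit 42, nat_lit 46, nat_lit 46], nat_lit 6), ([nat_lit 40, nat_lit 42, nat_lit 42, nat_lit 46, nat_lit 46, nat_lit 50], nat_lit 6), ([nat_lit 40, nat_lit 42, nat_lit 42, nat_lit 44], nat_lit 3)] (KKs.cons (o8lk98 b) (KKs.cons (o8lk99 b) (KKs.cons (o8lk101 b) (KKs.cons (o8lk102 b) (KKs.cons (o8lk105 b) (KKs.cons (o8lk106 b) KKs.nil)))))) (KT.split (KT.cons (KT.split (KT.cons (KT.into [] (nat_lit 0) []) (KT.cons (KT.merge [nat_lit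 5] [nat_lit 0, nat_lit 3, nat_lit 4, nat_lit 11, nat_lit 12] (KT.split (KT.cons (KT.into [] (nat_lit 1) []) (KT.cons (KT.into [] (nat_lit 2) []) (KT.cons (KT.into [nat_lit 0] (nat_lit 1) [nat_lit 2, nat_lit 6, nat_lit 8, nat_lit 11]) KT.nil))))) (KT.cons (KT.merge [nat_lit 5] [nat_lit 0, nat_lit 4, nat_lit 7, nat_lit 9, nat_lit 13] (KT.split (KT.cons (KT.into [] (nat_lit 3) []) (KT.cons (KT.into [] (nat_lit 4) []) (KT.cons (KT.into [nat_lit 0] (nat_lit 3) [nat_lit 0, nat_lit 2, nat_lit 6, nat_lit 8, nat_lit 10]) KT.nil))))) KT.nil)))) (KT.cons (KT.into [] (nat_lit 5) []) (KT.cons (KT.into [nat_lit 0] (nat_lit 5) [nat_lit 5, nat_lit 7, nat_lit 8, nat_lit 12, nat_lit 14, nat_lit 16]) KT.nil)))) [nat_lit 0, nat_lit 2, nat_lit 2] _ _ (by decide +kernel)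

theorem o8lk108 (b : Cx τ s M o8L) : KK s 3 o8cA (GoodM M s o8cR) (E s [nat_lit 40, nat_lit 40]) 1 :=
  KH.kk (o8ckh b) [([nat_lit 40], nat_lit 4), ([nat_lit 40, nat_lit 46], nat_lit 4), ([nat_lit 40, nat_lit 46, nat_lit 46], nat_lit 5), ([nat_lit 40, nat_lit 46, nat_lit 46, nat_lit 48, nat_lit 48], nat_lit 5), ([nat_lit 40, nat_lit 44], nat_lit 3), ([nat_lit 40, nat_lit 42], nat_lit 3), ([nat_lit 40, nat_lit 42, nat_lit 44], nat_lit 3), ([nat_lit 40, nat_lit 42, nat_lit 42], nat_lit 2)] (KKs.cons (o8lk72 b) (KKs.cons (o8lk77 b) (KKs.cons (o8lk78 b) (KKs.cons (o8lk81 b) (KKs.cons (o8lk83 b) (KKs.cons (o8lk94 b) (KKs.cons (o8lk95 b) (KKs.cons (o8lk107 b) KKs.nil)))))))) (KT.split (KT.cons (KT.split (KT.cons (KT.split (KT.cons (KT.into [nat_lit 2] (nat_lit 0) [nat_lit 0, nat_lit 3, nat_lit 5, nat_lit 8, nat_lit 11, nat_lit 15]) (KT.cons (KT.split (KT.cons (KT.into [nat_lit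 2, nat_lit 0] (nat_lit 2) [nat_lit 5, nat_lit 6, nat_lit 9, nat_lit 10, nat_lit 12]) (KT.cons (KT.into [nat_lit 2] (nat_lit 3) [nat_lit 1, nat_lit 2, nat_lit 9, nat_lit 11]) (KT.cons (KT.into [nat_lit 2] (nat_lit 2) [nat_lit 1, nat_lit 2, nat_lit 7, nat_lit 9, nat_lit 10, nat_lit 13]) KT.nil)))) (KT.cons (KT.into [nat_lit 2] (nat_lit 1) [nat_lit 0, nat_lit 3, nat_lit 8, nat_lit 11]) KT.nil)))) (KT.cons (KT.into [nat_lit 2, nat_lit 0] (nat_lit 4) [nat_lit 9, nat_lit 13]) (KT.cons (KT.into [nat_lit 2] (nat_lit 4) [nat_lit 2, nat_lit 5, nat_lit 7, nat_lit 10, nat_lit 13, nat_lit 17]) KT.nil)))) (KT.cons (KT.into [nat_lit 2] (nat_lit 7) [nat_lit 7, nat_lit 9, nat_lit 10, nat_lit 13, nat_lit 15, nat_lit 17]) (KT.cons (KT.split (KT.cons (KT.into [nat_lit 2] (nat_lit 5) [nat_lit 3, nat_lit 5, nat_lit 7, nat_lit 9, nat_lit 13, nat_lit 14, nat_lit 16]) (KT.cons (KT.into [nat_lit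 2, nat_lit 0] (nat_lit 6) [nat_lit 8, nat_lit 11, nat_lit 13, nat_lit 15, nat_lit 16]) (KT.cons (KT.into [nat_lit 2] (nat_lit 6) [nat_lit 3, nat_lit 5, nat_lit 7, nat_lit 9, nat_lit 13, nat_lit 14, nat_lit 17]) KT.nil)))) KT.nil)))) [nat_lit 0, nat_lit 0] _ _ (by decide +kernel)

theorem o8ckk (b : Cx τ s M o8L) : KK s 3 o8cA (GoodM M s o8cR) (E s []) 0 :=
  KH.kk (o8ckh b) [([nat_lit 56], nat_lit 9), ([nat_lit 54], nat_lit 8), ([nat_lit 52], nat_lit 7), ([nat_lit 50], nat_lit 7), ([nat_lit 50, nat_lit 52], nat_lit 7), ([nat_lit 50, nat_lit 52, nat_lit 52], nat_lit 7), ([nat_lit 48], nat_lit 6), ([nat_lit 48, nat_lit 50], nat_lit 7), ([nat_lit 48, nat_lit 50, nat_lit 52], nat_lit 7), ([nat_lit 48, nat_lit 50, nat_lit 52, nat_lit 52], nat_lit 7), ([nat_lit 48, nat_lit 50, nat_lit 50], nat_lit 7), ([nat_lit 48, nat_lit 50, nat_lit 50, nat_lit 52], nat_lit 7), ([nat_lit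 48, nat_lit 50, nat_lit 50, nat_lit 52, nat_lit 52], nat_lit 7), ([nat_lit 46], nat_lit 5), ([nat_lit 46, nat_lit 48], nat_lit 5), ([nat_lit 44], nat_lit 4), ([nat_lit 44, nat_lit 46], nat_lit 4), ([nat_lit 42], nat_lit 6), ([nat_lit 42, nat_lit 50], nat_lit 6), ([nat_lit 42, nat_lit 50, nat_lit 50], nat_lit 6), ([nat_lit 42, nat_lit 46], nat_lit 6), ([nat_lit 42, nat_lit 46, nat_lit 50], nat_lit 6), ([nat_lit 42, nat_lit 46, nat_lit 50, nat_lit 50], nat_lit 6), ([nat_lit 42, nat_lit 46, nat_lit 46], nat_lit 6), ([nat_lit 42, nat_lit 46, nat_lit 46, nat_lit 50], nat_lit 6), ([nat_lit 42, nat_lit 46, nat_lit 46, nat_lit 50, nat_lit 50], nat_lit 6), ([nat_lit 42, nat_lit 44], nat_lit 3), ([nat_lit 42, nat_lit 42], nat_lit 3), ([nat_lit 40], nat_lit 4), ([nat_lit 40, nat_lit 46], nat_lit 4), ([nat_lit 40, nat_lit 46, nat_lit 46], nat_lit 5), ([nat_lit 40, nat_lit 46,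 nat_lit 46, nat_lit 48, nat_lit 48], nat_lit 5), ([nat_lit 40, nat_lit 44], nat_lit 3), ([nat_lit 40, nat_lit 42], nat_lit 3), ([nat_lit 40, nat_lit 42, nat_lit 44], nat_lit 3), ([nat_lit 40, nat_lit 42, nat_lit 42], nat_lit 2), ([nat_lit 40, nat_lit 40], nat_lit 1)] (KKs.cons (o8lk4 b) (KKs.cons (o8lk7 b) (KKs.cons (o8lk8 b) (KKs.cons (o8lk9 b) (KKs.cons (o8lk10 b) (KKs.cons (o8lk12 b) (KKs.cons (o8lk17 b) (KKs.cons (o8lk18 b) (KKs.cons (o8lk19 b) (KKs.cons (o8lk20 b) (KKs.cons (o8lk22 b) (KKs.cons (o8lk23 b) (KKs.cons (o8lk24 b) (KKs.cons (o8lk26 b) (KKs.cons (o8lk27 b) (KKs.cons (o8lk54 b) (KKs.cons (o8lk55 b) (KKs.cons (o8lk57 b) (KKs.cons (o8lk58 b) (KKs.cons (o8lk59 b) (KKs.cons (o8lk61 b) (KKs.cons (o8lk62 b) (KKs.cons (o8lk63 b) (KKs.cons (o8lk65 b) (KKs.cons (o8lk66 b) (KKs.cons (o8lk67 b) (KKs.cons (o8lk68 b) (KKs.cons (o8lk69 b) (KKs.cons (o8lk72 b) (KKs.cons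 (o8lk77 b) (KKs.cons (o8lk78 b) (KKs.cons (o8lk81 b) (KKs.cons (o8lk83 b) (KKs.cons (o8lk94 b) (KKs.cons (o8lk95 b) (KKs.cons (o8lk107 b) (KKs.cons (o8lk108 b) KKs.nil))))))))))))))))))))))))))))))))))))) (KT.split (KT.cons (KT.split (KT.cons (KT.split (KT.cons (KT.split (KT.cons (KT.split (KT.cons (KT.split (KT.cons (KT.split (KT.cons (KT.split (KT.cons (KT.split (KT.cons (KT.split (KT.cons (KT.split (KT.cons (KT.split (KT.cons (KT.cj [] (nat_lit 13)) (KT.cons (KT.cj [nat_lit 20, nat_lit 40, nat_lit 0, nat_lit 32, nat_lit 59, nat_lit 33, nat_lit 28, nat_lit 39, nat_lit 28, nat_lit 32, nat_lit 32, nat_lit 39] (nat_lit 6)) (KT.cons (KT.cj [nat_lit 40, nat_lit 6, nat_lit 22, nat_lit 34, nat_lit 25, nat_lit 38, nat_lit 28, nat_lit 28, nat_lit 28, nat_lit 38, nat_lit 33, nat_lit 35, nat_lit 38] (nat_lit 6)) KT.nil)))) (KT.cons (KT.merge [nat_lit 5] [] (KT.cj [nat_lit 36,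 nat_lit 36, nat_lit 33, nat_lit 38, nat_lit 37, nat_lit 27, nat_lit 29, nat_lit 22, nat_lit 48, nat_lit 13] (nat_lit 6))) (KT.cons (KT.merge [nat_lit 4] [] (KT.cj [nat_lit 49, nat_lit 43, nat_lit 0, nat_lit 33, nat_lit 22, nat_lit 31, nat_lit 29, nat_lit 35, nat_lit 35, nat_lit 37, nat_lit 32, nat_lit 37, nat_lit 38] (nat_lit 6))) KT.nil)))) (KT.cons (KT.merge [nat_lit 3] [] (KT.merge [nat_lit 0] [] (KT.cj [nat_lit 38, nat_lit 38, nat_lit 34, nat_lit 36, nat_lit 38, nat_lit 28, nat_lit 38, nat_lit 34, nat_lit 23, nat_lit 58, nat_lit 29, nat_lit 19, nat_lit 31] (nat_lit 6)))) (KT.cons (KT.merge [nat_lit 2] [] (KT.merge [nat_lit 5] [] (KT.cj [nat_lit 1, nat_lit 8, nat_lit 17, nat_lit 34, nat_lit 23, nat_lit 30, nat_lit 33, nat_lit 31, nat_lit 34, nat_lit 38, nat_lit 38] (nat_lit 6)))) KT.nil)))) (KT.cons (KT.into [] (nat_lit 0) []) (KT.cons (KT.into [nat_lit 0] (nat_lit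 0) []) KT.nil)))) (KT.cons (KT.into [] (nat_lit 1) []) (KT.cons (KT.into [nat_lit 0] (nat_lit 1) []) KT.nil)))) (KT.cons (KT.into [] (nat_lit 2) []) (KT.cons (KT.into [nat_lit 0] (nat_lit 2) []) KT.nil)))) (KT.cons (KT.split (KT.cons (KT.into [] (nat_lit 3) []) (KT.cons (KT.into [] (nat_lit 4) []) (KT.cons (KT.into [] (nat_lit 5) []) KT.nil)))) (KT.cons (KT.split (KT.cons (KT.into [nat_lit 0] (nat_lit 3) [nat_lit 9]) (KT.cons (KT.into [nat_lit 0] (nat_lit 5) [nat_lit 9]) (KT.cons (KT.into [nat_lit 0] (nat_lit 4) [nat_lit 9]) KT.nil)))) KT.nil)))) (KT.cons (KT.split (KT.cons (KT.into [] (nat_lit 6) []) (KT.cons (KT.split (KT.cons (KT.into [] (nat_lit 7) []) (KT.cons (KT.into [] (nat_lit 8) []) (KT.cons (KT.into [] (nat_lit 9) []) KT.nil)))) (KT.cons (KT.split (KT.cons (KT.into [] (nat_lit 10) []) (KT.cons (KT.into [] (nat_lit 11) []) (KT.cons (KT.into [] (nat_lit 12)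 []) KT.nil)))) KT.nil)))) (KT.cons (KT.split (KT.cons (KT.into [nat_lit 0] (nat_lit 6) []) (KT.cons (KT.split (KT.cons (KT.into [nat_lit 0] (nat_lit 10) [nat_lit 8]) (KT.cons (KT.into [nat_lit 0] (nat_lit 12) [nat_lit 8]) (KT.cons (KT.into [nat_lit 0] (nat_lit 11) [nat_lit 8]) KT.nil)))) (KT.cons (KT.split (KT.cons (KT.into [nat_lit 0] (nat_lit 7) [nat_lit 9]) (KT.cons (KT.into [nat_lit 0] (nat_lit 9) [nat_lit 9]) (KT.cons (KT.into [nat_lit 0] (nat_lit 8) [nat_lit 9]) KT.nil)))) KT.nil)))) KT.nil)))) (KT.cons (KT.split (KT.cons (KT.into [] (nat_lit 13) []) (KT.cons (KT.into [] (nat_lit 14) []) (KT.cons (KT.into [nat_lit 0] (nat_lit 14) [nat_lit 2, nat_lit 8, nat_lit 10, nat_lit 12]) KT.nil)))) (KT.cons (KT.split (KT.cons (KT.into [nat_lit 2] (nat_lit 13) [nat_lit 2, nat_lit 6, nat_lit 8, nat_lit 10]) (KT.cons (KT.into [nat_lit 2] (nat_lit 14) [nat_lit 2, nat_lit 8,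 nat_lit 12]) (KT.cons (KT.into [nat_lit 2, nat_lit 0] (nat_lit 14) [nat_lit 6]) KT.nil)))) KT.nil)))) (KT.cons (KT.split (KT.cons (KT.into [] (nat_lit 15) []) (KT.cons (KT.into [] (nat_lit 16) []) (KT.cons (KT.into [nat_lit 2, nat_lit 0] (nat_lit 16) [nat_lit 9, nat_lit 12, nat_lit 15]) KT.nil)))) (KT.cons (KT.split (KT.cons (KT.into [nat_lit 0] (nat_lit 15) []) (KT.cons (KT.into [nat_lit 0] (nat_lit 16) [nat_lit 4, nat_lit 10, nat_lit 12, nat_lit 14]) (KT.cons (KT.into [nat_lit 2] (nat_lit 16) [nat_lit 4, nat_lit 8, nat_lit 10, nat_lit 12]) KT.nil)))) KT.nil)))) (KT.cons (KT.split (KT.cons (KT.split (KT.cons (KT.merge [nat_lit 4] [nat_lit 7, nat_lit 11] (KT.split (KT.cons (KT.into [] (nat_lit 17) []) (KT.cons (KT.into [] (nat_lit 18) []) (KT.cons (KT.into [] (nat_lit 19) []) KT.nil))))) (KT.cons (KT.merge [nat_lit 4] [nat_lit 3, nat_lit 7, nat_lit 9, nat_lit 11, nat_lit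 12] (KT.split (KT.cons (KT.into [] (nat_lit 20) []) (KT.cons (KT.into [] (nat_lit 21) []) (KT.cons (KT.into [] (nat_lit 22) []) KT.nil))))) (KT.cons (KT.merge [nat_lit 4] [nat_lit 2, nat_lit 7, nat_lit 8, nat_lit 11, nat_lit 13] (KT.split (KT.cons (KT.into [] (nat_lit 23) []) (KT.cons (KT.into [] (nat_lit 24) []) (KT.cons (KT.into [] (nat_lit 25) []) KT.nil))))) KT.nil)))) (KT.cons (KT.into [] (nat_lit 26) []) (KT.cons (KT.into [nat_lit 0] (nat_lit 26) [nat_lit 2, nat_lit 9]) KT.nil)))) (KT.cons (KT.split (KT.cons (KT.into [] (nat_lit 27) []) (KT.cons (KT.into [nat_lit 2, nat_lit 0] (nat_lit 26) [nat_lit 9, nat_lit 11, nat_lit 14, nat_lit 17]) (KT.cons (KT.into [nat_lit 2] (nat_lit 26) [nat_lit 2, nat_lit 10, nat_lit 14, nat_lit 16]) KT.nil)))) KT.nil)))) (KT.cons (KT.split (KT.cons (KT.split (KT.cons (KT.split (KT.cons (KT.into [] (nat_lit 28) []) (KT.cons (KT.into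 [] (nat_lit 29) []) (KT.cons (KT.split (KT.cons (KT.into [] (nat_lit 30) []) (KT.cons (KT.into [nat_lit 0] (nat_lit 30) [nat_lit 1, nat_lit 2, nat_lit 5, nat_lit 7, nat_lit 8, nat_lit 10, nat_lit 13]) (KT.cons (KT.into [] (nat_lit 31) []) KT.nil)))) KT.nil)))) (KT.cons (KT.into [] (nat_lit 32) []) (KT.cons (KT.into [nat_lit 0] (nat_lit 32) [nat_lit 2, nat_lit 5, nat_lit 7, nat_lit 9, nat_lit 10, nat_lit 12, nat_lit 15, nat_lit 16]) KT.nil)))) (KT.cons (KT.split (KT.cons (KT.into [] (nat_lit 33) []) (KT.cons (KT.into [] (nat_lit 34) []) (KT.cons (KT.into [nat_lit 0] (nat_lit 34) [nat_lit 3, nat_lit 5, nat_lit 7, nat_lit 11, nat_lit 12, nat_lit 16]) KT.nil)))) (KT.cons (KT.into [] (nat_lit 35) []) KT.nil)))) (KT.cons (KT.into [] (nat_lit 36) []) KT.nil)))) [] _ _ (by decide +kernel)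

theorem o8c (b : Cx τ s M o8L) (hn : ¬ 3 ^ 13 ∣ Nat.card M) : ∀ y ∈ M, y ^ 3 = 1 → GoodM M s o8cR y :=
  fun _ => (o8ckh b).allM (o8ckk b) hn

theorem o8lge109 (b : Cx τ s M o8L) : GE s [[nat_lit 53, nat_lit 47, nat_lit 34, nat_lit 38, nat_lit 23, nat_lit 34, nat_lit 31, nat_lit 36, nat_lit 39, nat_lit 32, nat_lit 37, nat_lit 38, nat_lit 38], [nat_lit 48, nat_lit 44, nat_lit 17, nat_lit 35, nat_lit 39, nat_lit 25, nat_lit 34, nat_lit 36, nat_lit 28, nat_lit 32, nat_lit 37]] 24 :=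
  GE.step b (GE.base []) _ [] (nat_lit 0) [nat_lit 1, nat_lit 0, nat_lit 1, nat_lit 0, nat_lit 1, nat_lit 0, nat_lit 1] (nat_lit 24) 24 (by decide +kernel)

theorem o8lge110 (b : Cx τ s M o8L) : GE s [[nat_lit 36, nat_lit 46, nat_lit 27, nat_lit 58, nat_lit 38, nat_lit 36, nat_lit 32, nat_lit 28, nat_lit 32, nat_lit 37, nat_lit 38, nat_lit 32, nat_lit 36], [nat_lit 53, nat_lit 47, nat_lit 34, nat_lit 38, nat_lit 23, nat_lit 34, nat_lit 31, nat_lit 36, nat_lit 39, nat_lit 32, nat_lit 37, nat_lit 38, nat_lit 38], [nat_lit 21, nat_lit 28, nat_lit 45, nat_lit 24, nat_lit 26, nat_lit 26, nat_lit 28, nat_lit 38, nat_lit 35, nat_lit 28, nat_lit 33, nat_lit 35, nat_lit 36]] 5832 :=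
  GE.step b (o8lge109 b) _ [([nat_lit 48, nat_lit 44, nat_lit 17, nat_lit 35, nat_lit 39, nat_lit 25, nat_lit 34, nat_lit 36, nat_lit 28, nat_lit 32, nat_lit 37], [nat_lit 4, nat_lit 1, nat_lit 4, nat_lit 1])] (nat_lit 176) [nat_lit 0, nat_lit 2, nat_lit 0, nat_lit 1, nat_lit 2, nat_lit 0, nat_lit 1, nat_lit 2, nat_lit 0, nat_lit 1, nat_lit 2] (nat_lit 243) 5832 (by decide +kernel)

theorem o8lge111 (b : Cx τ s M o8L) : GE s [[nat_lit 10, nat_lit 23, nat_lit 6, nat_lit 34, nat_lit 59, nat_lit 23, nat_lit 37, nat_lit 28, nat_lit 28, nat_lit 38, nat_lit 35], [nat_lit 38, nat_lit 33, nat_lit 33, nat_lit 37, nat_lit 39, nat_lit 31, nat_lit 38, nat_lit 31, nat_lit 22, nat_lit 59, nat_lit 28, nat_lit 0, nat_lit 54]] 5832 :=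
  GE.sub b (o8lge110 b) _ [([nat_lit 36, nat_lit 46, nat_lit 27, nat_lit 58, nat_lit 38, nat_lit 36, nat_lit 32, nat_lit 28, nat_lit 32, nat_lit 37, nat_lit 38, nat_lit 32, nat_lit 36], [nat_lit 1, nat_lit 3, nat_lit 1, nat_lit 3, nat_lit 0, nat_lit 0]), ([nat_lit 53, nat_lit 47, nat_lit 34, nat_lit 38, nat_lit 23, nat_lit 34, nat_lit 31, nat_lit 36, nat_lit 39, nat_lit 32, nat_lit 37, nat_lit 38, nat_lit 38], [nat_lit 3, nat_lit 2, nat_lit 3, nat_lit 2, nat_lit 4, nat_lit 3]), ([nat_lit 21, nat_lit 28, nat_lit 45, nat_lit 24, nat_lit 26, nat_lit 26, nat_lit 28, nat_lit 38, nat_lit 35, nat_lit 28, nat_lit 33, nat_lit 35, nat_lit 36], [nat_lit 4, nat_lit 5, nat_lit 6, nat_lit 5, nat_lit 6, nat_lit 4])] (by decide +kernel)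

theorem o8lge112 (b : Cx τ s M o8L) : GE s [[nat_lit 10, nat_lit 23, nat_lit 6, nat_lit 34, nat_lit 59, nat_lit 23, nat_lit 37, nat_lit 28, nat_lit 28, nat_lit 38, nat_lit 35], [nat_lit 47, nat_lit 43, nat_lit 20, nat_lit 39, nat_lit 58, nat_lit 24, nat_lit 38, nat_lit 33, nat_lit 28, nat_lit 28, nat_lit 36, nat_lit 34, nat_lit 32, nat_lit 38], [nat_lit 10, nat_lit 40, nat_lit 4, nat_lit 36, nat_lit 32, nat_lit 22, nat_lit 37, nat_lit 29, nat_lit 29, nat_lit 36, nat_lit 38, nat_lit 34, nat_lit 36]] 4245696 :=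
  GE.step b (o8lge111 b) _ [([nat_lit 38, nat_lit 33, nat_lit 33, nat_lit 37, nat_lit 39, nat_lit 31, nat_lit 38, nat_lit 31, nat_lit 22, nat_lit 59, nat_lit 28, nat_lit 0, nat_lit 54], [nat_lit 3, nat_lit 3, nat_lit 0, nat_lit 4, nat_lit 1, nat_lit 5])] (nat_lit 376) [nat_lit 2, nat_lit 1, nat_lit 0, nat_lit 2, nat_lit 0, nat_lit 1, nat_lit 2, nat_lit 0, nat_lit 1, nat_lit 0, nat_lit 2, nat_lit 0, nat_lit 1, nat_lit 0] (nat_lit 728) 4245696 (by decide +kernel)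

theorem o8lge113 (b : Cx τ s M o8L) : GE s [[nat_lit 39, nat_lit 48, nat_lit 47, nat_lit 25, nat_lit 27, nat_lit 23, nat_lit 28, nat_lit 31, nat_lit 36, nat_lit 32, nat_lit 35, nat_lit 36], [nat_lit 37, nat_lit 33, nat_lit 33, nat_lit 37, nat_lit 31, nat_lit 38, nat_lit 34, nat_lit 25, nat_lit 27, nat_lit 1, nat_lit 11, nat_lit 41]] 4245696 :=
  GE.sub b (o8lge112 b) _ [([nat_lit 10, nat_lit 23, nat_lit 6, nat_lit 34, nat_lit 59, nat_lit 23, nat_lit 37, nat_lit 28, nat_lit 28, nat_lit 38, nat_lit 35], [nat_lit 2, nat_lit 0, nat_lit 3, nat_lit 3, nat_lit 2, nat_lit 0, nat_lit 2]), ([nat_lit 47, nat_lit 43, nat_lit 20, nat_lit 39, nat_lit 58, nat_lit 24, nat_lit 38, nat_lit 33, nat_lit 28, nat_lit 28, nat_lit 36, nat_lit 34, nat_lit 32, nat_lit 38], [nat_lit 5, nat_lit 4, nat_lit 3, nat_lit 4, nat_lit 3, nat_lit 4, nat_lit 4]), ([nat_lit 10, nat_lit 40, nat_lit 4, nat_lit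 36, nat_lit 32, nat_lit 22, nat_lit 37, nat_lit 29, nat_lit 29, nat_lit 36, nat_lit 38, nat_lit 34, nat_lit 36], [nat_lit 4, nat_lit 5, nat_lit 7, nat_lit 6, nat_lit 5, nat_lit 6, nat_lit 6])] (by decide +kernel)

theorem o8lge114 (b : Cx τ s M o8L) : GE s [[nat_lit 39, nat_lit 48, nat_lit 47, nat_lit 25, nat_lit 27, nat_lit 23, nat_lit 28, nat_lit 31, nat_lit 36, nat_lit 32, nat_lit 35, nat_lit 36], [nat_lit 39, nat_lit 39, nat_lit 35, nat_lit 39, nat_lit 30, nat_lit 39, nat_lit 22, nat_lit 22, nat_lit 31, nat_lit 11, nat_lit 50], [nat_lit 21, nat_lit 12, nat_lit 33, nat_lit 58, nat_lit 24, nat_lit 33, nat_lit 31, nat_lit 34, nat_lit 34, nat_lit 34, nat_lit 32, nat_lit 37, nat_lit 38]] 4585351680 :=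
  GE.step b (o8lge113 b) _ [([nat_lit 37, nat_lit 33, nat_lit 33, nat_lit 37, nat_lit 31, nat_lit 38, nat_lit 34, nat_lit 25, nat_lit 27, nat_lit 1, nat_lit 11, nat_lit 41], [nat_lit 5, nat_lit 0, nat_lit 5, nat_lit 2, nat_lit 2])] (nat_lit 1502) [nat_lit 1, nat_lit 2, nat_lit 1, nat_lit 0, nat_lit 2, nat_lit 1, nat_lit 0, nat_lit 2, nat_lit 1, nat_lit 0, nat_lit 1, nat_lit 2, nat_lit 0, nat_lit 1, nat_lit 1] (nat_lit 1080) 4585351680 (by decide +kernel)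

theorem o8lge115 (b : Cx τ s M o8L) : GE s [[nat_lit 39, nat_lit 48, nat_lit 47, nat_lit 25, nat_lit 27, nat_lit 23, nat_lit 28, nat_lit 31, nat_lit 36, nat_lit 32, nat_lit 35, nat_lit 36], [nat_lit 12, nat_lit 46, nat_lit 42, nat_lit 35, nat_lit 29, nat_lit 23, nat_lit 30, nat_lit 29, nat_lit 35, nat_lit 36], [nat_lit 39, nat_lit 39, nat_lit 35, nat_lit 39, nat_lit 30, nat_lit 39, nat_lit 22, nat_lit 22, nat_lit 31, nat_lit 11, nat_lit 50]] 4952179814400 :=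
  GE.step b (o8lge114 b) _ [([nat_lit 21, nat_lit 12, nat_lit 33, nat_lit 58, nat_lit 24, nat_lit 33, nat_lit 31, nat_lit 34, nat_lit 34, nat_lit 34, nat_lit 32, nat_lit 37, nat_lit 38], [nat_lit 3, nat_lit 0, nat_lit 3, nat_lit 1, nat_lit 4, nat_lit 0, nat_lit 2, nat_lit 0, nat_lit 2])] (nat_lit 337) [nat_lit 1, nat_lit 2, nat_lit 1, nat_lit 0, nat_lit 2, nat_lit 0, nat_lit 2, nat_lit 1, nat_lit 0, nat_lit 2, nat_lit 1, nat_lit 0, nat_lit 2, nat_lit 1, nat_lit 0, nat_lit 1, nat_lit 2, nat_lit 0, nat_lit 1, nat_lit 2, nat_lit 0, nat_lit 1, nat_lit 2] (nat_lit 1080) 4952179814400 (by decide +kernel)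

theorem o8lge116 (b : Cx τ s M o8L) : GE s [[nat_lit 0], [nat_lit 2], [nat_lit 4], [nat_lit 6], [nat_lit 8], [nat_lit 10], [nat_lit 12], [nat_lit 14]] 4952179814400 :=
  GE.sub b (o8lge115 b) _ [([nat_lit 39, nat_lit 48, nat_lit 47, nat_lit 25, nat_lit 27, nat_lit 23, nat_lit 28, nat_lit 31, nat_lit 36, nat_lit 32, nat_lit 35, nat_lit 36], [nat_lit 1, nat_lit 12, nat_lit 2, nat_lit 3, nat_lit 15, nat_lit 5, nat_lit 2, nat_lit 15, nat_lit 10, nat_lit 4, nat_lit 6]), ([nat_lit 12, nat_lit 46, nat_lit 42, nat_lit 35, nat_lit 29, nat_lit 23, nat_lit 30, nat_lit 29, nat_lit 35, nat_lit 36], [nat_lit 4, nat_lit 6, nat_lit 6, nat_lit 2, nat_lit 5, nat_lit 14, nat_lit 15, nat_lit 13, nat_lit 17, nat_lit 13, nat_lit 10]), ([nat_lit 39, nat_lit 39, nat_lit 35, nat_lit 39, nat_lit 30, nat_lit 39, nat_lit 22, nat_lit 22, nat_lit 31, nat_lit 11, nat_lit 50], [nat_lit 4, nat_lit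 18, nat_lit 6, nat_lit 10, nat_lit 17, nat_lit 18, nat_lit 14, nat_lit 11, nat_lit 17, nat_lit 17, nat_lit 11])] (by decide +kernel)

theorem o8ge (b : Cx τ s M o8L) : GE s [[nat_lit 0], [nat_lit 2], [nat_lit 4], [nat_lit 6], [nat_lit 8], [nat_lit 10], [nat_lit 12], [nat_lit 14]] 4952179814400 :=
  (o8lge116 b)

theorem o8o (b : Cx τ s M o8L) : ∀ i : Fin o8cR.length, Nat.card (Subgroup.zpowers (vals s o8cR i)) = 3 :=
  b.cards o8cR Nat.prime_three [nat_lit 0, nat_lit 1, nat_lit 0, nat_lit 0, nat_lit 0, nat_lit 0, nat_lit 1, nat_lit 0, nat_lit 0, nat_lit 0, nat_lit 0, nat_lit 0, nat_lit 0] (by decide +kernel)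

theorem o8n (b : Cx τ s M o8L) : ∀ i j : Fin o8cR.length, i < j → ∀ g ∈ (genW (sv s) [[nat_lit 0], [nat_lit 2], [nat_lit 4], [nat_lit 6], [nat_lit 8], [nat_lit 10], [nat_lit 12], [nat_lit 14]]),
    (Subgroup.zpowers (vals s o8cR i)).map (MulAut.conj g).toMonoidHom ≠ Subgroup.zpowers (vals s o8cR j) :=
  fun i j hij g hg e => (by decide +kernel : ∀ i j : Fin o8cR.length, i < j → nth [] [[nat_lit 27, nat_lit 0, nat_lit 0], [nat_lit 9, nat_lit 9, nat_lit 9], [nat_lit 108, nat_lit 0, nat_lit 0], [nat_lit 135, nat_lit 0, nat_lit 0], [nat_lit 18, nat_lit 18, nat_lit 18], [nat_lit 27, nat_lit 27, nat_lit 27], [nat_lit 108, nat_lit 108, nat_lit 108], [nat_lit 0, nat_lit 0, nat_lit 27], [nat_lit 0, nat_lit 0, nat_lit 108], [nat_lit 0, nat_lit 0, nat_lit 135], [nat_lit 0, nat_lit 27, nat_lit 0], [nat_lit 0, nat_lit 108, nat_lit 0], [nat_lit 0, nat_lit 135, nat_lit 0]] i ≠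 nth [] [[nat_lit 27, nat_lit 0, nat_lit 0], [nat_lit 9, nat_lit 9, nat_lit 9], [nat_lit 108, nat_lit 0, nat_lit 0], [nat_lit 135, nat_lit 0, nat_lit 0], [nat_lit 18, nat_lit 18, nat_lit 18], [nat_lit 27, nat_lit 27, nat_lit 27], [nat_lit 108, nat_lit 108, nat_lit 108], [nat_lit 0, nat_lit 0, nat_lit 27], [nat_lit 0, nat_lit 0, nat_lit 108], [nat_lit 0, nat_lit 0, nat_lit 135], [nat_lit 0, nat_lit 27, nat_lit 0], [nat_lit 0, nat_lit 108, nat_lit 0], [nat_lit 0, nat_lit 135, nat_lit 0]] j) i j hij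
    (b.sep _ [ivl (nat_lit 0) (nat_lit 1080), ivl (nat_lit 1080) (nat_lit 1080), ivl (nat_lit 2160) (nat_lit 1080)] o8cR [[nat_lit 27, nat_lit 0, nat_lit 0], [nat_lit 9, nat_lit 9, nat_lit 9], [nat_lit 108, nat_lit 0, nat_lit 0], [nat_lit 135, nat_lit 0, nat_lit 0], [nat_lit 18, nat_lit 18, nat_lit 18], [nat_lit 27, nat_lit 27, nat_lit 27], [nat_lit 108, nat_lit 108, nat_lit 108], [nat_lit 0, nat_lit 0, nat_lit 27], [nat_lit 0, nat_lit 0, nat_lit 108], [nat_lit 0, nat_lit 0, nat_lit 135], [nat_lit 0, nat_lit 27, nat_lit 0], [nat_lit 0, nat_lit 108, nat_lit 0], [nat_lit 0, nat_lit 135, nat_lit 0]] (by decide +kernel) i j hg e)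

end Cfsg.Agent.FiC.F23
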