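import Cfsg.Agent.Fischer.O8C

set_option autoImplicit false
set_option maxRecDepth 100000
set_option linter.unusedSectionVars false

namespace Cfsg.Agent.FiC.F23
open Cfsg.Agent.Comp Cfsg.Agent.FiC

variable {G : Type*} [Group G] [Finite G] {D : Set G} {τ s : ℕ → G} {M : Subgroup G}

noncomputable def o8R : List (List Nat) := [[nat_lit 50, nat_lit 68, nat_lit 54, nat_lit 44, nat_lit 43, nat_lit 57, nat_lit 50, nat_lit 56, nat_lit 52, nat_lit 58], [nat_lit 28, nat_lit 59, nat_lit 50, nat_lit 54, nat_lit 57, nat_lit 54, nat_lit 59, nat_lit 59, nat_lit 56], [nat_lit 82, nat_lit 61, nat_lit 24, nat_lit 47, nat_lit 48, nat_lit 43, nat_lit 49, nat_lit 52, nat_lit 56, nat_lit 59], [nat_lit 39, nat_lit 34, nat_lit 20, nat_lit 48, nat_lit 78, nat_lit 57, nat_lit 49, nat_lit 49, nat_lit 58, nat_lit 55, nat_lit 52], [nat_lit 58, nat_lit 57, nat_lit 52, nat_lit 54, nat_lit 49, nat_lit 52,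 nat_lit 42, nat_lit 46, nat_lit 52], [nat_lit 30, nat_lit 55, nat_lit 78, nat_lit 52, nat_lit 48, nat_lit 54, nat_lit 58, nat_lit 53, nat_lit 58], [nat_lit 57, nat_lit 59, nat_lit 52, nat_lit 54, nat_lit 56, nat_lit 51, nat_lit 52, nat_lit 58]]

theorem o8mnc1 (b : Cx τ s (genW (sv s) [[nat_lit 0], [nat_lit 2], [nat_lit 4], [nat_lit 6], [nat_lit 8], [nat_lit 10], [nat_lit 12], [nat_lit 14], [nat_lit 16], [nat_lit 18]]) o8d6) (h0 : CU (genW (sv s) [[nat_lit 0], [nat_lit 2], [nat_lit 4], [nat_lit 6], [nat_lit 8], [nat_lit 10], [nat_lit 12], [nat_lit 14], [nat_lit 16], [nat_lit 18]]) s [] 29713078886400) : NC (genW (sv s) [[nat_lit 0], [nat_lit 2], [nat_lit 4], [nat_lit 6], [nat_lit 8], [nat_lit 10], [nat_lit 12], [nat_lit 14], [nat_lit 16], [nat_lit 18]]) s [[nat_lit 10], [nat_lit 57, nat_lit 14, nat_lit 56], [nat_lit 49, nat_lit 8, nat_lit 48], [nat_lit 50, nat_lit 68, nat_lit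 54, nat_lit 44, nat_lit 43, nat_lit 57, nat_lit 50, nat_lit 56, nat_lit 52, nat_lit 58]] [[nat_lit 8], [nat_lit 12, nat_lit 72, nat_lit 2, nat_lit 73, nat_lit 13], [nat_lit 2], [nat_lit 28, nat_lit 59, nat_lit 50, nat_lit 54, nat_lit 57, nat_lit 54, nat_lit 59, nat_lit 59, nat_lit 56]] :=
  NC.pc b (b.c.genW_le_NS _) _ _ (SE.and (SE.fx [nat_lit 0]) (SE.fx [nat_lit 6])) (by decide +kernel)

theorem o8mnc2 (b : Cx τ s (genW (sv s) [[nat_lit 0], [nat_lit 2], [nat_lit 4], [nat_lit 6], [nat_lit 8], [nat_lit 10], [nat_lit 12], [nat_lit 14], [nat_lit 16], [nat_lit 18]]) o8d6) (h0 : CU (genW (sv s) [[nat_lit 0], [nat_lit 2], [nat_lit 4], [nat_lit 6], [nat_lit 8], [nat_lit 10], [nat_lit 12], [nat_lit 14], [nat_lit 16], [nat_lit 18]]) s [] 29713078886400) : NC (genW (sv s) [[nat_lit 0], [nat_lit 2], [nat_lit 4], [nat_lit 6], [nat_lit 8], [nat_lit 10], [nat_lit 12], [nat_lit 14], [nat_lit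 16], [nat_lit 18]]) s [[nat_lit 10], [nat_lit 57, nat_lit 14, nat_lit 56], [nat_lit 49, nat_lit 8, nat_lit 48], [nat_lit 50, nat_lit 68, nat_lit 54, nat_lit 44, nat_lit 43, nat_lit 57, nat_lit 50, nat_lit 56, nat_lit 52, nat_lit 58]] [[nat_lit 6], [nat_lit 12, nat_lit 72, nat_lit 2, nat_lit 73, nat_lit 13], [nat_lit 2], [nat_lit 28, nat_lit 59, nat_lit 50, nat_lit 54, nat_lit 57, nat_lit 54, nat_lit 59, nat_lit 59, nat_lit 56]] :=
  NC.pc b (b.c.genW_le_NS _) _ _ (SE.and (SE.fx [nat_lit 0]) (SE.pre [nat_lit 6] (SE.tp (nat_lit 0)))) (by decide +kernel)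

theorem o8mnc3 (b : Cx τ s (genW (sv s) [[nat_lit 0], [nat_lit 2], [nat_lit 4], [nat_lit 6], [nat_lit 8], [nat_lit 10], [nat_lit 12], [nat_lit 14], [nat_lit 16], [nat_lit 18]]) o8d6) (h0 : CU (genW (sv s) [[nat_lit 0], [nat_lit 2], [nat_lit 4], [nat_lit 6], [nat_lit 8], [nat_lit 10], [nat_lit 12], [nat_lit 14], [nat_lit 16], [nat_lit 18]]) s [] 29713078886400) : NC (genW (sv s) [[nat_lit 0], [nat_lit 2], [nat_lit 4], [nat_lit 6], [nat_lit 8], [nat_lit 10], [nat_lit 12], [nat_lit 14], [nat_lit 16], [nat_lit 18]]) s [[nat_lit 57, nat_lit 14, nat_lit 56], [nat_lit 49, nat_lit 8, nat_lit 48], [nat_lit 50, nat_lit 68, nat_lit 54, nat_lit 44, nat_lit 43, nat_lit 57, nat_lit 50, nat_lit 56, nat_lit 52, nat_lit 58]] [[nat_lit 12, nat_lit 72, nat_lit 2, nat_lit 73, nat_lit 13], [nat_lit 2], [nat_lit 28, nat_lit 59, nat_lit 50, nat_lit 54, nat_lit 57, nat_lit 54, nat_lit 59, nat_lit 59,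 nat_lit 56]] :=
  NC.br b le_rfl (b.c.genW_le_NS _) _ _ (nat_lit 3) [[nat_lit 57, nat_lit 58, nat_lit 55, nat_lit 56, nat_lit 55, nat_lit 48, nat_lit 56, nat_lit 53, nat_lit 23, nat_lit 48], [nat_lit 74, nat_lit 49, nat_lit 22, nat_lit 54, nat_lit 42, nat_lit 42, nat_lit 56, nat_lit 49, nat_lit 49, nat_lit 56, nat_lit 53], [nat_lit 56, nat_lit 37, nat_lit 53, nat_lit 55, nat_lit 46, nat_lit 50, nat_lit 58, nat_lit 56, nat_lit 52, nat_lit 58, nat_lit 56]] [nat_lit 10] (SE.diff (SE.diff (SE.fx [nat_lit 2]) (SE.fx [nat_lit 0])) (SE.tp (nat_lit 1))) [([nat_lit 8], [nat_lit 0, nat_lit 1, nat_lit 2, nat_lit 0, nat_lit 1, nat_lit 2, nat_lit 1, nat_lit 0, nat_lit 2, nat_lit 0, nat_lit 0]), ([nat_lit 6], [nat_lit 0, nat_lit 1, nat_lit 2, nat_lit 0, nat_lit 1, nat_lit 2, nat_lit 1, nat_lit 0, nat_lit 2, nat_lit 0])] (NCs.cons (o8mnc1 b h0) (NCs.cons (o8mnc2 b h0) NCs.nil)) (by decide +kernel)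

theorem o8mnc4 (b : Cx τ s (genW (sv s) [[nat_lit 0], [nat_lit 2], [nat_lit 4], [nat_lit 6], [nat_lit 8], [nat_lit 10], [nat_lit 12], [nat_lit 14], [nat_lit 16], [nat_lit 18]]) o8d6) (h0 : CU (genW (sv s) [[nat_lit 0], [nat_lit 2], [nat_lit 4], [nat_lit 6], [nat_lit 8], [nat_lit 10], [nat_lit 12], [nat_lit 14], [nat_lit 16], [nat_lit 18]]) s [] 29713078886400) : NC (genW (sv s) [[nat_lit 0], [nat_lit 2], [nat_lit 4], [nat_lit 6], [nat_lit 8], [nat_lit 10], [nat_lit 12], [nat_lit 14], [nat_lit 16], [nat_lit 18]]) s [[nat_lit 10], [nat_lit 57, nat_lit 14, nat_lit 56], [nat_lit 49, nat_lit 8, nat_lit 48], [nat_lit 50, nat_lit 68, nat_lit 54, nat_lit 44, nat_lit 43, nat_lit 57, nat_lit 50, nat_lit 56, nat_lit 52, nat_lit 58]] [[nat_lit 48, nat_lit 10, nat_lit 49], [nat_lit 66, nat_lit 14, nat_lit 67], [nat_lit 2], [nat_lit 28, nat_lit 59, nat_lit 50, nat_lit 54, nat_lit 57, nat_lit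 54, nat_lit 59, nat_lit 59, nat_lit 56]] :=
  NC.pc b (b.c.genW_le_NS _) _ _ (SE.and (SE.fx [nat_lit 0]) (SE.fx [nat_lit 6])) (by decide +kernel)

theorem o8mnc5 (b : Cx τ s (genW (sv s) [[nat_lit 0], [nat_lit 2], [nat_lit 4], [nat_lit 6], [nat_lit 8], [nat_lit 10], [nat_lit 12], [nat_lit 14], [nat_lit 16], [nat_lit 18]]) o8d6) (h0 : CU (genW (sv s) [[nat_lit 0], [nat_lit 2], [nat_lit 4], [nat_lit 6], [nat_lit 8], [nat_lit 10], [nat_lit 12], [nat_lit 14], [nat_lit 16], [nat_lit 18]]) s [] 29713078886400) : NC (genW (sv s) [[nat_lit 0], [nat_lit 2], [nat_lit 4], [nat_lit 6], [nat_lit 8], [nat_lit 10], [nat_lit 12], [nat_lit 14], [nat_lit 16], [nat_lit 18]]) s [[nat_lit 10], [nat_lit 57, nat_lit 14, nat_lit 56], [nat_lit 49, nat_lit 8, nat_lit 48], [nat_lit 50, nat_lit 68, nat_lit 54, nat_lit 44, nat_lit 43, nat_lit 57, nat_lit 50, nat_lit 56, nat_lit 52, nat_lit 58]] [[nat_lit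 16], [nat_lit 66, nat_lit 14, nat_lit 67], [nat_lit 2], [nat_lit 28, nat_lit 59, nat_lit 50, nat_lit 54, nat_lit 57, nat_lit 54, nat_lit 59, nat_lit 59, nat_lit 56]] :=
  NC.pc b (b.c.genW_le_NS _) _ _ (SE.and (SE.fx [nat_lit 0]) (SE.fx [nat_lit 6])) (by decide +kernel)

theorem o8mnc6 (b : Cx τ s (genW (sv s) [[nat_lit 0], [nat_lit 2], [nat_lit 4], [nat_lit 6], [nat_lit 8], [nat_lit 10], [nat_lit 12], [nat_lit 14], [nat_lit 16], [nat_lit 18]]) o8d6) (h0 : CU (genW (sv s) [[nat_lit 0], [nat_lit 2], [nat_lit 4], [nat_lit 6], [nat_lit 8], [nat_lit 10], [nat_lit 12], [nat_lit 14], [nat_lit 16], [nat_lit 18]]) s [] 29713078886400) : NC (genW (sv s) [[nat_lit 0], [nat_lit 2], [nat_lit 4], [nat_lit 6], [nat_lit 8], [nat_lit 10], [nat_lit 12], [nat_lit 14], [nat_lit 16], [nat_lit 18]]) s [[nat_lit 10], [nat_lit 57, nat_lit 14, nat_lit 56], [nat_lit 49, nat_lit 8, nat_lit 48], [nat_lit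 50, nat_lit 68, nat_lit 54, nat_lit 44, nat_lit 43, nat_lit 57, nat_lit 50, nat_lit 56, nat_lit 52, nat_lit 58]] [[nat_lit 12], [nat_lit 66, nat_lit 14, nat_lit 67], [nat_lit 2], [nat_lit 28, nat_lit 59, nat_lit 50, nat_lit 54, nat_lit 57, nat_lit 54, nat_lit 59, nat_lit 59, nat_lit 56]] :=
  NC.pc b (b.c.genW_le_NS _) _ _ (SE.and (SE.fx [nat_lit 0]) (SE.pre [nat_lit 6] (SE.tp (nat_lit 0)))) (by decide +kernel)

theorem o8mnc7 (b : Cx τ s (genW (sv s) [[nat_lit 0], [nat_lit 2], [nat_lit 4], [nat_lit 6], [nat_lit 8], [nat_lit 10], [nat_lit 12], [nat_lit 14], [nat_lit 16], [nat_lit 18]]) o8d6) (h0 : CU (genW (sv s) [[nat_lit 0], [nat_lit 2], [nat_lit 4], [nat_lit 6], [nat_lit 8], [nat_lit 10], [nat_lit 12], [nat_lit 14], [nat_lit 16], [nat_lit 18]]) s [] 29713078886400) : NC (genW (sv s) [[nat_lit 0], [nat_lit 2], [nat_lit 4], [nat_lit 6], [nat_lit 8], [nat_lit 10], [nat_lit 12],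 [nat_lit 14], [nat_lit 16], [nat_lit 18]]) s [[nat_lit 57, nat_lit 14, nat_lit 56], [nat_lit 49, nat_lit 8, nat_lit 48], [nat_lit 50, nat_lit 68, nat_lit 54, nat_lit 44, nat_lit 43, nat_lit 57, nat_lit 50, nat_lit 56, nat_lit 52, nat_lit 58]] [[nat_lit 66, nat_lit 14, nat_lit 67], [nat_lit 2], [nat_lit 28, nat_lit 59, nat_lit 50, nat_lit 54, nat_lit 57, nat_lit 54, nat_lit 59, nat_lit 59, nat_lit 56]] :=
  NC.br b le_rfl (b.c.genW_le_NS _) _ _ (nat_lit 3) [[nat_lit 20, nat_lit 66, nat_lit 44, nat_lit 78, nat_lit 54, nat_lit 49, nat_lit 54, nat_lit 54, nat_lit 54, nat_lit 56], [nat_lit 57, nat_lit 58, nat_lit 58, nat_lit 53, nat_lit 57, nat_lit 57, nat_lit 52, nat_lit 48, nat_lit 58, nat_lit 31], [nat_lit 53, nat_lit 24, nat_lit 57, nat_lit 51, nat_lit 48, nat_lit 57, nat_lit 54, nat_lit 56, nat_lit 52, nat_lit 58, nat_lit 58]] [nat_lit 10] (SE.diff (SE.diff (SE.fx [nat_lit 2])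 (SE.fx [nat_lit 0])) (SE.tp (nat_lit 1))) [([nat_lit 48, nat_lit 10, nat_lit 49], [nat_lit 0, nat_lit 1, nat_lit 2, nat_lit 0, nat_lit 1, nat_lit 2, nat_lit 1, nat_lit 2, nat_lit 0]), ([nat_lit 16], [nat_lit 0, nat_lit 1, nat_lit 2, nat_lit 0, nat_lit 1, nat_lit 2, nat_lit 1, nat_lit 2, nat_lit 0]), ([nat_lit 12], [nat_lit 0, nat_lit 1, nat_lit 2, nat_lit 0, nat_lit 1, nat_lit 2, nat_lit 1, nat_lit 2, nat_lit 0])] (NCs.cons (o8mnc4 b h0) (NCs.cons (o8mnc5 b h0) (NCs.cons (o8mnc6 b h0) NCs.nil))) (by decide +kernel)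

theorem o8mnc8 (b : Cx τ s (genW (sv s) [[nat_lit 0], [nat_lit 2], [nat_lit 4], [nat_lit 6], [nat_lit 8], [nat_lit 10], [nat_lit 12], [nat_lit 14], [nat_lit 16], [nat_lit 18]]) o8d6) (h0 : CU (genW (sv s) [[nat_lit 0], [nat_lit 2], [nat_lit 4], [nat_lit 6], [nat_lit 8], [nat_lit 10], [nat_lit 12], [nat_lit 14], [nat_lit 16], [nat_lit 18]]) s [] 29713078886400) : NC (genW (sv s) [[nat_lit 0], [nat_lit 2], [nat_lit 4], [nat_lit 6], [nat_lit 8], [nat_lit 10], [nat_lit 12], [nat_lit 14], [nat_lit 16], [nat_lit 18]]) s [[nat_lit 10], [nat_lit 57, nat_lit 14, nat_lit 56], [nat_lit 49, nat_lit 8, nat_lit 48], [nat_lit 50, nat_lit 68, nat_lit 54, nat_lit 44, nat_lit 43, nat_lit 57, nat_lit 50, nat_lit 56, nat_lit 52, nat_lit 58]] [[nat_lit 48, nat_lit 10, nat_lit 49], [nat_lit 41, nat_lit 4, nat_lit 40], [nat_lit 2], [nat_lit 28, nat_lit 59, nat_lit 50, nat_lit 54, nat_lit 57, nat_lit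 54, nat_lit 59, nat_lit 59, nat_lit 56]] :=
  NC.pc b (b.c.genW_le_NS _) _ _ (SE.and (SE.fx [nat_lit 0]) (SE.fx [nat_lit 6])) (by decide +kernel)

theorem o8mnc9 (b : Cx τ s (genW (sv s) [[nat_lit 0], [nat_lit 2], [nat_lit 4], [nat_lit 6], [nat_lit 8], [nat_lit 10], [nat_lit 12], [nat_lit 14], [nat_lit 16], [nat_lit 18]]) o8d6) (h0 : CU (genW (sv s) [[nat_lit 0], [nat_lit 2], [nat_lit 4], [nat_lit 6], [nat_lit 8], [nat_lit 10], [nat_lit 12], [nat_lit 14], [nat_lit 16], [nat_lit 18]]) s [] 29713078886400) : NC (genW (sv s) [[nat_lit 0], [nat_lit 2], [nat_lit 4], [nat_lit 6], [nat_lit 8], [nat_lit 10], [nat_lit 12], [nat_lit 14], [nat_lit 16], [nat_lit 18]]) s [[nat_lit 10], [nat_lit 57, nat_lit 14, nat_lit 56], [nat_lit 49, nat_lit 8, nat_lit 48], [nat_lit 50, nat_lit 68, nat_lit 54, nat_lit 44, nat_lit 43, nat_lit 57, nat_lit 50, nat_lit 56, nat_lit 52, nat_lit 58]] [[nat_lit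 14], [nat_lit 41, nat_lit 4, nat_lit 40], [nat_lit 2], [nat_lit 28, nat_lit 59, nat_lit 50, nat_lit 54, nat_lit 57, nat_lit 54, nat_lit 59, nat_lit 59, nat_lit 56]] :=
  NC.pc b (b.c.genW_le_NS _) _ _ (SE.and (SE.fx [nat_lit 0]) (SE.fx [nat_lit 6])) (by decide +kernel)

theorem o8mnc10 (b : Cx τ s (genW (sv s) [[nat_lit 0], [nat_lit 2], [nat_lit 4], [nat_lit 6], [nat_lit 8], [nat_lit 10], [nat_lit 12], [nat_lit 14], [nat_lit 16], [nat_lit 18]]) o8d6) (h0 : CU (genW (sv s) [[nat_lit 0], [nat_lit 2], [nat_lit 4], [nat_lit 6], [nat_lit 8], [nat_lit 10], [nat_lit 12], [nat_lit 14], [nat_lit 16], [nat_lit 18]]) s [] 29713078886400) : NC (genW (sv s) [[nat_lit 0], [nat_lit 2], [nat_lit 4], [nat_lit 6], [nat_lit 8], [nat_lit 10], [nat_lit 12], [nat_lit 14], [nat_lit 16], [nat_lit 18]]) s [[nat_lit 57, nat_lit 14, nat_lit 56], [nat_lit 49, nat_lit 8, nat_lit 48], [nat_lit 50, nat_lit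 68, nat_lit 54, nat_lit 44, nat_lit 43, nat_lit 57, nat_lit 50, nat_lit 56, nat_lit 52, nat_lit 58]] [[nat_lit 41, nat_lit 4, nat_lit 40], [nat_lit 2], [nat_lit 28, nat_lit 59, nat_lit 50, nat_lit 54, nat_lit 57, nat_lit 54, nat_lit 59, nat_lit 59, nat_lit 56]] :=
  NC.br b le_rfl (b.c.genW_le_NS _) _ _ (nat_lit 3) [[nat_lit 28, nat_lit 39, nat_lit 58, nat_lit 46, nat_lit 42, nat_lit 56, nat_lit 58, nat_lit 52, nat_lit 52], [nat_lit 56, nat_lit 59, nat_lit 54, nat_lit 59, nat_lit 57, nat_lit 49, nat_lit 51, nat_lit 55, nat_lit 23, nat_lit 29], [nat_lit 59, nat_lit 52, nat_lit 49, nat_lit 52, nat_lit 50, nat_lit 53, nat_lit 43, nat_lit 78, nat_lit 44, nat_lit 35, nat_lit 37], [nat_lit 57, nat_lit 24, nat_lit 67, nat_lit 78, nat_lit 54, nat_lit 44, nat_lit 51, nat_lit 51, nat_lit 51, nat_lit 53, nat_lit 56], [nat_lit 26, nat_lit 84, nat_lit 32, nat_lit 79, nat_lit 45, nat_lit 42,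 nat_lit 54, nat_lit 54, nat_lit 50, nat_lit 58, nat_lit 55], [nat_lit 56, nat_lit 28, nat_lit 52, nat_lit 55, nat_lit 51, nat_lit 57, nat_lit 54, nat_lit 52, nat_lit 59, nat_lit 59, nat_lit 56], [nat_lit 57, nat_lit 57, nat_lit 57, nat_lit 54, nat_lit 56, nat_lit 59, nat_lit 51, nat_lit 57, nat_lit 44, nat_lit 58, nat_lit 66, nat_lit 41], [nat_lit 10, nat_lit 30, nat_lit 22, nat_lit 54, nat_lit 56, nat_lit 49, nat_lit 55, nat_lit 56, nat_lit 55, nat_lit 56, nat_lit 58, nat_lit 56]] [nat_lit 10] (SE.diff (SE.diff (SE.fx [nat_lit 2]) (SE.fx [nat_lit 0])) (SE.tp (nat_lit 1))) [([nat_lit 48, nat_lit 10, nat_lit 49], [nat_lit 0, nat_lit 1, nat_lit 2, nat_lit 4, nat_lit 6, nat_lit 5, nat_lit 0, nat_lit 1]), ([nat_lit 14], [nat_lit 0, nat_lit 2, nat_lit 3, nat_lit 0, nat_lit 7, nat_lit 3, nat_lit 0, nat_lit 4, nat_lit 3, nat_lit 1])] (NCs.cons (o8mnc8 b h0) (NCs.cons (o8mnc9 b h0) NCs.nil))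 (by decide +kernel)

theorem o8mnc11 (b : Cx τ s (genW (sv s) [[nat_lit 0], [nat_lit 2], [nat_lit 4], [nat_lit 6], [nat_lit 8], [nat_lit 10], [nat_lit 12], [nat_lit 14], [nat_lit 16], [nat_lit 18]]) o8d6) (h0 : CU (genW (sv s) [[nat_lit 0], [nat_lit 2], [nat_lit 4], [nat_lit 6], [nat_lit 8], [nat_lit 10], [nat_lit 12], [nat_lit 14], [nat_lit 16], [nat_lit 18]]) s [] 29713078886400) : NC (genW (sv s) [[nat_lit 0], [nat_lit 2], [nat_lit 4], [nat_lit 6], [nat_lit 8], [nat_lit 10], [nat_lit 12], [nat_lit 14], [nat_lit 16], [nat_lit 18]]) s [[nat_lit 57, nat_lit 14, nat_lit 56], [nat_lit 49, nat_lit 8, nat_lit 48], [nat_lit 50, nat_lit 68, nat_lit 54, nat_lit 44, nat_lit 43, nat_lit 57, nat_lit 50, nat_lit 56, nat_lit 52, nat_lit 58]] [[nat_lit 34, nat_lit 68, nat_lit 0, nat_lit 69, nat_lit 35], [nat_lit 2], [nat_lit 28, nat_lit 59, nat_lit 50, nat_lit 54, nat_lit 57, nat_lit 54,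 nat_lit 59, nat_lit 59, nat_lit 56]] :=
  NC.pc b (b.c.genW_le_NS _) _ _ (SE.and (SE.fx [nat_lit 0]) (SE.fx [nat_lit 2])) (by decide +kernel)

theorem o8mnc12 (b : Cx τ s (genW (sv s) [[nat_lit 0], [nat_lit 2], [nat_lit 4], [nat_lit 6], [nat_lit 8], [nat_lit 10], [nat_lit 12], [nat_lit 14], [nat_lit 16], [nat_lit 18]]) o8d6) (h0 : CU (genW (sv s) [[nat_lit 0], [nat_lit 2], [nat_lit 4], [nat_lit 6], [nat_lit 8], [nat_lit 10], [nat_lit 12], [nat_lit 14], [nat_lit 16], [nat_lit 18]]) s [] 29713078886400) : NC (genW (sv s) [[nat_lit 0], [nat_lit 2], [nat_lit 4], [nat_lit 6], [nat_lit 8], [nat_lit 10], [nat_lit 12], [nat_lit 14], [nat_lit 16], [nat_lit 18]]) s [[nat_lit 49, nat_lit 8, nat_lit 48], [nat_lit 50, nat_lit 68, nat_lit 54, nat_lit 44, nat_lit 43, nat_lit 57, nat_lit 50, nat_lit 56, nat_lit 52, nat_lit 58]] [[nat_lit 2], [nat_lit 28, nat_lit 59, nat_lit 50, nat_lit 54, nat_lit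 57, nat_lit 54, nat_lit 59, nat_lit 59, nat_lit 56]] :=
  NC.br b le_rfl (b.c.genW_le_NS _) _ _ (nat_lit 1) [[nat_lit 2], [nat_lit 57, nat_lit 59, nat_lit 55, nat_lit 56, nat_lit 54, nat_lit 49, nat_lit 55, nat_lit 29, nat_lit 57], [nat_lit 8, nat_lit 34, nat_lit 49, nat_lit 56, nat_lit 49, nat_lit 58, nat_lit 55, nat_lit 53, nat_lit 58, nat_lit 57]] [nat_lit 57, nat_lit 14, nat_lit 56] (SE.diff (SE.fx [nat_lit 2]) (SE.tp (nat_lit 0))) [([nat_lit 12, nat_lit 72, nat_lit 2, nat_lit 73, nat_lit 13], [nat_lit 0]), ([nat_lit 66, nat_lit 14, nat_lit 67], [nat_lit 0, nat_lit 1]), ([nat_lit 41, nat_lit 4, nat_lit 40], [nat_lit 0]), ([nat_lit 34, nat_lit 68, nat_lit 0, nat_lit 69, nat_lit 35], [nat_lit 0, nat_lit 1, nat_lit 2, nat_lit 2, nat_lit 1, nat_lit 2])] (NCs.cons (o8mnc3 b h0) (NCs.cons (o8mnc7 b h0) (NCs.cons (o8mnc10 b h0) (NCs.cons (o8mnc11 b h0) NCs.nil)))) (by decide +kernel)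

theorem o8mnc13 (b : Cx τ s (genW (sv s) [[nat_lit 0], [nat_lit 2], [nat_lit 4], [nat_lit 6], [nat_lit 8], [nat_lit 10], [nat_lit 12], [nat_lit 14], [nat_lit 16], [nat_lit 18]]) o8d6) (h0 : CU (genW (sv s) [[nat_lit 0], [nat_lit 2], [nat_lit 4], [nat_lit 6], [nat_lit 8], [nat_lit 10], [nat_lit 12], [nat_lit 14], [nat_lit 16], [nat_lit 18]]) s [] 29713078886400) : NC (genW (sv s) [[nat_lit 0], [nat_lit 2], [nat_lit 4], [nat_lit 6], [nat_lit 8], [nat_lit 10], [nat_lit 12], [nat_lit 14], [nat_lit 16], [nat_lit 18]]) s [[nat_lit 50, nat_lit 68, nat_lit 54, nat_lit 44, nat_lit 43, nat_lit 57, nat_lit 50, nat_lit 56, nat_lit 52, nat_lit 58]] [[nat_lit 28, nat_lit 59, nat_lit 50, nat_lit 54, nat_lit 57, nat_lit 54, nat_lit 59, nat_lit 59, nat_lit 56]] :=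
  NC.br b le_rfl (b.c.genW_le_NS _) _ _ (nat_lit 0) [[nat_lit 2], [nat_lit 56, nat_lit 59, nat_lit 52, nat_lit 55, nat_lit 48, nat_lit 51, nat_lit 59, nat_lit 43, nat_lit 44, nat_lit 52, nat_lit 3], [nat_lit 52, nat_lit 58, nat_lit 53, nat_lit 48, nat_lit 52, nat_lit 59, nat_lit 44, nat_lit 43, nat_lit 49, nat_lit 38, nat_lit 35, nat_lit 3], [nat_lit 58, nat_lit 56, nat_lit 53, nat_lit 54, nat_lit 56, nat_lit 50, nat_lit 49, nat_lit 47, nat_lit 42, nat_lit 45, nat_lit 33, nat_lit 1, nat_lit 3]] [nat_lit 49, nat_lit 8, nat_lit 48] (SE.fx [nat_lit 0]) [([nat_lit 2], [nat_lit 1, nat_lit 0, nat_lit 2, nat_lit 0, nat_lit 3, nat_lit 0])] (NCs.cons (o8mnc12 b h0) NCs.nil) (by decide +kernel)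

theorem o8mnc14 (b : Cx τ s (genW (sv s) [[nat_lit 0], [nat_lit 2], [nat_lit 4], [nat_lit 6], [nat_lit 8], [nat_lit 10], [nat_lit 12], [nat_lit 14], [nat_lit 16], [nat_lit 18]]) o8d6) (h0 : CU (genW (sv s) [[nat_lit 0], [nat_lit 2], [nat_lit 4], [nat_lit 6], [nat_lit 8], [nat_lit 10], [nat_lit 12], [nat_lit 14], [nat_lit 16], [nat_lit 18]]) s [] 29713078886400) : NC (genW (sv s) [[nat_lit 0], [nat_lit 2], [nat_lit 4], [nat_lit 6], [nat_lit 8], [nat_lit 10], [nat_lit 12], [nat_lit 14], [nat_lit 16], [nat_lit 18]]) s [[nat_lit 10], [nat_lit 57, nat_lit 14, nat_lit 56], [nat_lit 49, nat_lit 8, nat_lit 48], [nat_lit 50, nat_lit 68, nat_lit 54, nat_lit 44, nat_lit 43, nat_lit 57, nat_lit 50, nat_lit 56, nat_lit 52, nat_lit 58]] [[nat_lit 16], [nat_lit 12, nat_lit 72, nat_lit 2, nat_lit 73, nat_lit 13], [nat_lit 2], [nat_lit 57, nat_lit 58, nat_lit 58, nat_lit 55, nat_lit 56, nat_lit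 55, nat_lit 51, nat_lit 58, nat_lit 29]] :=
  NC.pc b (b.c.genW_le_NS _) _ _ (SE.and (SE.fx [nat_lit 0]) (SE.fx [nat_lit 6])) (by decide +kernel)

theorem o8mnc15 (b : Cx τ s (genW (sv s) [[nat_lit 0], [nat_lit 2], [nat_lit 4], [nat_lit 6], [nat_lit 8], [nat_lit 10], [nat_lit 12], [nat_lit 14], [nat_lit 16], [nat_lit 18]]) o8d6) (h0 : CU (genW (sv s) [[nat_lit 0], [nat_lit 2], [nat_lit 4], [nat_lit 6], [nat_lit 8], [nat_lit 10], [nat_lit 12], [nat_lit 14], [nat_lit 16], [nat_lit 18]]) s [] 29713078886400) : NC (genW (sv s) [[nat_lit 0], [nat_lit 2], [nat_lit 4], [nat_lit 6], [nat_lit 8], [nat_lit 10], [nat_lit 12], [nat_lit 14], [nat_lit 16], [nat_lit 18]]) s [[nat_lit 10], [nat_lit 57, nat_lit 14, nat_lit 56], [nat_lit 49, nat_lit 8, nat_lit 48], [nat_lit 50, nat_lit 68, nat_lit 54, nat_lit 44, nat_lit 43, nat_lit 57, nat_lit 50, nat_lit 56, nat_lit 52, nat_lit 58]] [[nat_lit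 6], [nat_lit 12, nat_lit 72, nat_lit 2, nat_lit 73, nat_lit 13], [nat_lit 2], [nat_lit 57, nat_lit 58, nat_lit 58, nat_lit 55, nat_lit 56, nat_lit 55, nat_lit 51, nat_lit 58, nat_lit 29]] :=
  NC.pc b (b.c.genW_le_NS _) _ _ (SE.and (SE.fx [nat_lit 0]) (SE.pre [nat_lit 6] (SE.tp (nat_lit 0)))) (by decide +kernel)

theorem o8mnc16 (b : Cx τ s (genW (sv s) [[nat_lit 0], [nat_lit 2], [nat_lit 4], [nat_lit 6], [nat_lit 8], [nat_lit 10], [nat_lit 12], [nat_lit 14], [nat_lit 16], [nat_lit 18]]) o8d6) (h0 : CU (genW (sv s) [[nat_lit 0], [nat_lit 2], [nat_lit 4], [nat_lit 6], [nat_lit 8], [nat_lit 10], [nat_lit 12], [nat_lit 14], [nat_lit 16], [nat_lit 18]]) s [] 29713078886400) : NC (genW (sv s) [[nat_lit 0], [nat_lit 2], [nat_lit 4], [nat_lit 6], [nat_lit 8], [nat_lit 10], [nat_lit 12], [nat_lit 14], [nat_lit 16], [nat_lit 18]]) s [[nat_lit 57, nat_lit 14, nat_lit 56], [nat_lit 49,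 nat_lit 8, nat_lit 48], [nat_lit 50, nat_lit 68, nat_lit 54, nat_lit 44, nat_lit 43, nat_lit 57, nat_lit 50, nat_lit 56, nat_lit 52, nat_lit 58]] [[nat_lit 12, nat_lit 72, nat_lit 2, nat_lit 73, nat_lit 13], [nat_lit 2], [nat_lit 57, nat_lit 58, nat_lit 58, nat_lit 55, nat_lit 56, nat_lit 55, nat_lit 51, nat_lit 58, nat_lit 29]] :=
  NC.br b le_rfl (b.c.genW_le_NS _) _ _ (nat_lit 3) [[nat_lit 56, nat_lit 49, nat_lit 52, nat_lit 51, nat_lit 51, nat_lit 45, nat_lit 48, nat_lit 37, nat_lit 53], [nat_lit 54, nat_lit 59, nat_lit 52, nat_lit 51, nat_lit 56, nat_lit 51, nat_lit 44, nat_lit 58, nat_lit 66, nat_lit 41], [nat_lit 57, nat_lit 26, nat_lit 49, nat_lit 51, nat_lit 51, nat_lit 49, nat_lit 56, nat_lit 52, nat_lit 56, nat_lit 59]] [nat_lit 10] (SE.diff (SE.diff (SE.fx [nat_lit 2]) (SE.fx [nat_lit 0])) (SE.tp (nat_lit 1))) [([nat_lit 16], [nat_lit 0, nat_lit 1, nat_lit 2, nat_lit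 0, nat_lit 1, nat_lit 2, nat_lit 0, nat_lit 2, nat_lit 1, nat_lit 0, nat_lit 1]), ([nat_lit 6], [nat_lit 0, nat_lit 1, nat_lit 2, nat_lit 0, nat_lit 1, nat_lit 2, nat_lit 0, nat_lit 1, nat_lit 0, nat_lit 0])] (NCs.cons (o8mnc14 b h0) (NCs.cons (o8mnc15 b h0) NCs.nil)) (by decide +kernel)

theorem o8mnc17 (b : Cx τ s (genW (sv s) [[nat_lit 0], [nat_lit 2], [nat_lit 4], [nat_lit 6], [nat_lit 8], [nat_lit 10], [nat_lit 12], [nat_lit 14], [nat_lit 16], [nat_lit 18]]) o8d6) (h0 : CU (genW (sv s) [[nat_lit 0], [nat_lit 2], [nat_lit 4], [nat_lit 6], [nat_lit 8], [nat_lit 10], [nat_lit 12], [nat_lit 14], [nat_lit 16], [nat_lit 18]]) s [] 29713078886400) : NC (genW (sv s) [[nat_lit 0], [nat_lit 2], [nat_lit 4], [nat_lit 6], [nat_lit 8], [nat_lit 10], [nat_lit 12], [nat_lit 14], [nat_lit 16], [nat_lit 18]]) s [[nat_lit 10], [nat_lit 57, nat_lit 14, nat_lit 56], [nat_lit 49, nat_lit 8,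 nat_lit 48], [nat_lit 50, nat_lit 68, nat_lit 54, nat_lit 44, nat_lit 43, nat_lit 57, nat_lit 50, nat_lit 56, nat_lit 52, nat_lit 58]] [[nat_lit 48, nat_lit 10, nat_lit 49], [nat_lit 66, nat_lit 14, nat_lit 67], [nat_lit 2], [nat_lit 57, nat_lit 58, nat_lit 58, nat_lit 55, nat_lit 56, nat_lit 55, nat_lit 51, nat_lit 58, nat_lit 29]] :=
  NC.pc b (b.c.genW_le_NS _) _ _ (SE.and (SE.fx [nat_lit 0]) (SE.fx [nat_lit 6])) (by decide +kernel)

theorem o8mnc18 (b : Cx τ s (genW (sv s) [[nat_lit 0], [nat_lit 2], [nat_lit 4], [nat_lit 6], [nat_lit 8], [nat_lit 10], [nat_lit 12], [nat_lit 14], [nat_lit 16], [nat_lit 18]]) o8d6) (h0 : CU (genW (sv s) [[nat_lit 0], [nat_lit 2], [nat_lit 4], [nat_lit 6], [nat_lit 8], [nat_lit 10], [nat_lit 12], [nat_lit 14], [nat_lit 16], [nat_lit 18]]) s [] 29713078886400) : NC (genW (sv s) [[nat_lit 0], [nat_lit 2], [nat_lit 4], [nat_lit 6], [nat_lit 8],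 [nat_lit 10], [nat_lit 12], [nat_lit 14], [nat_lit 16], [nat_lit 18]]) s [[nat_lit 10], [nat_lit 57, nat_lit 14, nat_lit 56], [nat_lit 49, nat_lit 8, nat_lit 48], [nat_lit 50, nat_lit 68, nat_lit 54, nat_lit 44, nat_lit 43, nat_lit 57, nat_lit 50, nat_lit 56, nat_lit 52, nat_lit 58]] [[nat_lit 14], [nat_lit 66, nat_lit 14, nat_lit 67], [nat_lit 2], [nat_lit 57, nat_lit 58, nat_lit 58, nat_lit 55, nat_lit 56, nat_lit 55, nat_lit 51, nat_lit 58, nat_lit 29]] :=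
  NC.pc b (b.c.genW_le_NS _) _ _ (SE.and (SE.fx [nat_lit 0]) (SE.fx [nat_lit 6])) (by decide +kernel)

theorem o8mnc19 (b : Cx τ s (genW (sv s) [[nat_lit 0], [nat_lit 2], [nat_lit 4], [nat_lit 6], [nat_lit 8], [nat_lit 10], [nat_lit 12], [nat_lit 14], [nat_lit 16], [nat_lit 18]]) o8d6) (h0 : CU (genW (sv s) [[nat_lit 0], [nat_lit 2], [nat_lit 4], [nat_lit 6], [nat_lit 8], [nat_lit 10], [nat_lit 12], [nat_lit 14], [nat_lit 16], [nat_lit 18]]) s [] 29713078886400) : NC (genW (sv s) [[nat_lit 0], [nat_lit 2], [nat_lit 4], [nat_lit 6], [nat_lit 8], [nat_lit 10], [nat_lit 12], [nat_lit 14], [nat_lit 16], [nat_lit 18]]) s [[nat_lit 10], [nat_lit 57, nat_lit 14, nat_lit 56], [nat_lit 49, nat_lit 8, nat_lit 48], [nat_lit 50, nat_lit 68, nat_lit 54, nat_lit 44, nat_lit 43, nat_lit 57, nat_lit 50, nat_lit 56, nat_lit 52, nat_lit 58]] [[nat_lit 6], [nat_lit 66, nat_lit 14, nat_lit 67],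 [nat_lit 2], [nat_lit 57, nat_lit 58, nat_lit 58, nat_lit 55, nat_lit 56, nat_lit 55, nat_lit 51, nat_lit 58, nat_lit 29]] :=
  NC.pc b (b.c.genW_le_NS _) _ _ (SE.and (SE.fx [nat_lit 0]) (SE.pre [nat_lit 6] (SE.tp (nat_lit 0)))) (by decide +kernel)

theorem o8mnc20 (b : Cx τ s (genW (sv s) [[nat_lit 0], [nat_lit 2], [nat_lit 4], [nat_lit 6], [nat_lit 8], [nat_lit 10], [nat_lit 12], [nat_lit 14], [nat_lit 16], [nat_lit 18]]) o8d6) (h0 : CU (genW (sv s) [[nat_lit 0], [nat_lit 2], [nat_lit 4], [nat_lit 6], [nat_lit 8], [nat_lit 10], [nat_lit 12], [nat_lit 14], [nat_lit 16], [nat_lit 18]]) s [] 29713078886400) : NC (genW (sv s) [[nat_lit 0], [nat_lit 2], [nat_lit 4], [nat_lit 6], [nat_lit 8], [nat_lit 10], [nat_lit 12], [nat_lit 14], [nat_lit 16], [nat_lit 18]]) s [[nat_lit 57, nat_lit 14, nat_lit 56], [nat_lit 49, nat_lit 8, nat_lit 48], [nat_lit 50, nat_lit 68, nat_lit 54, nat_lit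 44, nat_lit 43, nat_lit 57, nat_lit 50, nat_lit 56, nat_lit 52, nat_lit 58]] [[nat_lit 66, nat_lit 14, nat_lit 67], [nat_lit 2], [nat_lit 57, nat_lit 58, nat_lit 58, nat_lit 55, nat_lit 56, nat_lit 55, nat_lit 51, nat_lit 58, nat_lit 29]] :=
  NC.br b le_rfl (b.c.genW_le_NS _) _ _ (nat_lit 3) [[nat_lit 53, nat_lit 53, nat_lit 55, nat_lit 55, nat_lit 49, nat_lit 50, nat_lit 33], [nat_lit 57, nat_lit 54, nat_lit 58, nat_lit 48, nat_lit 55, nat_lit 59, nat_lit 46, nat_lit 64, nat_lit 45], [nat_lit 30, nat_lit 59, nat_lit 49, nat_lit 53, nat_lit 56, nat_lit 56, nat_lit 52, nat_lit 59, nat_lit 59, nat_lit 56], [nat_lit 53, nat_lit 55, nat_lit 56, nat_lit 54, nat_lit 48, nat_lit 44, nat_lit 44, nat_lit 59, nat_lit 25, nat_lit 46]] [nat_lit 10] (SE.diff (SE.diff (SE.fx [nat_lit 2]) (SE.fx [nat_lit 0])) (SE.tp (nat_lit 1))) [([nat_lit 48, nat_lit 10, nat_lit 49], [nat_lit 0, nat_lit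 1, nat_lit 2, nat_lit 0, nat_lit 1, nat_lit 2, nat_lit 0, nat_lit 2, nat_lit 0]), ([nat_lit 14], [nat_lit 0, nat_lit 1, nat_lit 3, nat_lit 0, nat_lit 1, nat_lit 3, nat_lit 0, nat_lit 3, nat_lit 0]), ([nat_lit 6], [nat_lit 0, nat_lit 1, nat_lit 2, nat_lit 0, nat_lit 3, nat_lit 2, nat_lit 0, nat_lit 1, nat_lit 1])] (NCs.cons (o8mnc17 b h0) (NCs.cons (o8mnc18 b h0) (NCs.cons (o8mnc19 b h0) NCs.nil))) (by decide +kernel)

theorem o8mnc21 (b : Cx τ s (genW (sv s) [[nat_lit 0], [nat_lit 2], [nat_lit 4], [nat_lit 6], [nat_lit 8], [nat_lit 10], [nat_lit 12], [nat_lit 14], [nat_lit 16], [nat_lit 18]]) o8d6) (h0 : CU (genW (sv s) [[nat_lit 0], [nat_lit 2], [nat_lit 4], [nat_lit 6], [nat_lit 8], [nat_lit 10], [nat_lit 12], [nat_lit 14], [nat_lit 16], [nat_lit 18]]) s [] 29713078886400) : NC (genW (sv s) [[nat_lit 0], [nat_lit 2], [nat_lit 4], [nat_lit 6], [nat_lit 8], [nat_lit 10], [nat_lit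 12], [nat_lit 14], [nat_lit 16], [nat_lit 18]]) s [[nat_lit 10], [nat_lit 57, nat_lit 14, nat_lit 56], [nat_lit 49, nat_lit 8, nat_lit 48], [nat_lit 50, nat_lit 68, nat_lit 54, nat_lit 44, nat_lit 43, nat_lit 57, nat_lit 50, nat_lit 56, nat_lit 52, nat_lit 58]] [[nat_lit 48, nat_lit 10, nat_lit 49], [nat_lit 41, nat_lit 4, nat_lit 40], [nat_lit 2], [nat_lit 57, nat_lit 58, nat_lit 58, nat_lit 55, nat_lit 56, nat_lit 55, nat_lit 51, nat_lit 58, nat_lit 29]] :=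
  NC.pc b (b.c.genW_le_NS _) _ _ (SE.and (SE.fx [nat_lit 0]) (SE.fx [nat_lit 6])) (by decide +kernel)

theorem o8mnc22 (b : Cx τ s (genW (sv s) [[nat_lit 0], [nat_lit 2], [nat_lit 4], [nat_lit 6], [nat_lit 8], [nat_lit 10], [nat_lit 12], [nat_lit 14], [nat_lit 16], [nat_lit 18]]) o8d6) (h0 : CU (genW (sv s) [[nat_lit 0], [nat_lit 2], [nat_lit 4], [nat_lit 6], [nat_lit 8], [nat_lit 10], [nat_lit 12], [nat_lit 14], [nat_lit 16], [nat_lit 18]]) s [] 29713078886400) : NC (genW (sv s) [[nat_lit 0], [nat_lit 2], [nat_lit 4], [nat_lit 6], [nat_lit 8], [nat_lit 10], [nat_lit 12], [nat_lit 14], [nat_lit 16], [nat_lit 18]]) s [[nat_lit 10], [nat_lit 57, nat_lit 14, nat_lit 56], [nat_lit 49, nat_lit 8, nat_lit 48], [nat_lit 50, nat_lit 68, nat_lit 54, nat_lit 44, nat_lit 43, nat_lit 57, nat_lit 50, nat_lit 56, nat_lit 52, nat_lit 58]] [[nat_lit 8], [nat_lit 41, nat_lit 4, nat_lit 40], [nat_lit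 2], [nat_lit 57, nat_lit 58, nat_lit 58, nat_lit 55, nat_lit 56, nat_lit 55, nat_lit 51, nat_lit 58, nat_lit 29]] :=
  NC.pc b (b.c.genW_le_NS _) _ _ (SE.and (SE.fx [nat_lit 0]) (SE.fx [nat_lit 6])) (by decide +kernel)

theorem o8mnc23 (b : Cx τ s (genW (sv s) [[nat_lit 0], [nat_lit 2], [nat_lit 4], [nat_lit 6], [nat_lit 8], [nat_lit 10], [nat_lit 12], [nat_lit 14], [nat_lit 16], [nat_lit 18]]) o8d6) (h0 : CU (genW (sv s) [[nat_lit 0], [nat_lit 2], [nat_lit 4], [nat_lit 6], [nat_lit 8], [nat_lit 10], [nat_lit 12], [nat_lit 14], [nat_lit 16], [nat_lit 18]]) s [] 29713078886400) : NC (genW (sv s) [[nat_lit 0], [nat_lit 2], [nat_lit 4], [nat_lit 6], [nat_lit 8], [nat_lit 10], [nat_lit 12], [nat_lit 14], [nat_lit 16], [nat_lit 18]]) s [[nat_lit 57, nat_lit 14, nat_lit 56], [nat_lit 49, nat_lit 8, nat_lit 48], [nat_lit 50, nat_lit 68, nat_lit 54, nat_lit 44, nat_lit 43, nat_lit 57,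 nat_lit 50, nat_lit 56, nat_lit 52, nat_lit 58]] [[nat_lit 41, nat_lit 4, nat_lit 40], [nat_lit 2], [nat_lit 57, nat_lit 58, nat_lit 58, nat_lit 55, nat_lit 56, nat_lit 55, nat_lit 51, nat_lit 58, nat_lit 29]] :=
  NC.br b le_rfl (b.c.genW_le_NS _) _ _ (nat_lit 3) [[nat_lit 40, nat_lit 67, nat_lit 59, nat_lit 45, nat_lit 50, nat_lit 57, nat_lit 50, nat_lit 53, nat_lit 58, nat_lit 55], [nat_lit 14, nat_lit 26, nat_lit 22, nat_lit 50, nat_lit 55, nat_lit 48, nat_lit 59, nat_lit 54, nat_lit 57, nat_lit 58, nat_lit 58], [nat_lit 16, nat_lit 51, nat_lit 26, nat_lit 55, nat_lit 51, nat_lit 51, nat_lit 48, nat_lit 55, nat_lit 57, nat_lit 54, nat_lit 59]] [nat_lit 10] (SE.diff (SE.diff (SE.fx [nat_lit 2]) (SE.fx [nat_lit 0])) (SE.tp (nat_lit 1))) [([nat_lit 48, nat_lit 10, nat_lit 49], [nat_lit 0, nat_lit 1, nat_lit 2, nat_lit 0, nat_lit 2, nat_lit 1, nat_lit 0, nat_lit 1, nat_lit 1,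 nat_lit 1]), ([nat_lit 8], [nat_lit 0, nat_lit 1, nat_lit 2, nat_lit 0, nat_lit 1, nat_lit 2, nat_lit 0, nat_lit 2, nat_lit 1, nat_lit 0, nat_lit 0])] (NCs.cons (o8mnc21 b h0) (NCs.cons (o8mnc22 b h0) NCs.nil)) (by decide +kernel)

theorem o8mnc24 (b : Cx τ s (genW (sv s) [[nat_lit 0], [nat_lit 2], [nat_lit 4], [nat_lit 6], [nat_lit 8], [nat_lit 10], [nat_lit 12], [nat_lit 14], [nat_lit 16], [nat_lit 18]]) o8d6) (h0 : CU (genW (sv s) [[nat_lit 0], [nat_lit 2], [nat_lit 4], [nat_lit 6], [nat_lit 8], [nat_lit 10], [nat_lit 12], [nat_lit 14], [nat_lit 16], [nat_lit 18]]) s [] 29713078886400) : NC (genW (sv s) [[nat_lit 0], [nat_lit 2], [nat_lit 4], [nat_lit 6], [nat_lit 8], [nat_lit 10], [nat_lit 12], [nat_lit 14], [nat_lit 16], [nat_lit 18]]) s [[nat_lit 57, nat_lit 14, nat_lit 56], [nat_lit 49, nat_lit 8, nat_lit 48], [nat_lit 50, nat_lit 68, nat_lit 54, nat_lit 44, nat_lit 43,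 nat_lit 57, nat_lit 50, nat_lit 56, nat_lit 52, nat_lit 58]] [[nat_lit 34, nat_lit 68, nat_lit 0, nat_lit 69, nat_lit 35], [nat_lit 2], [nat_lit 57, nat_lit 58, nat_lit 58, nat_lit 55, nat_lit 56, nat_lit 55, nat_lit 51, nat_lit 58, nat_lit 29]] :=
  NC.pc b (b.c.genW_le_NS _) _ _ (SE.and (SE.fx [nat_lit 0]) (SE.fx [nat_lit 2])) (by decide +kernel)

theorem o8mnc25 (b : Cx τ s (genW (sv s) [[nat_lit 0], [nat_lit 2], [nat_lit 4], [nat_lit 6], [nat_lit 8], [nat_lit 10], [nat_lit 12], [nat_lit 14], [nat_lit 16], [nat_lit 18]]) o8d6) (h0 : CU (genW (sv s) [[nat_lit 0], [nat_lit 2], [nat_lit 4], [nat_lit 6], [nat_lit 8], [nat_lit 10], [nat_lit 12], [nat_lit 14], [nat_lit 16], [nat_lit 18]]) s [] 29713078886400) : NC (genW (sv s) [[nat_lit 0], [nat_lit 2], [nat_lit 4], [nat_lit 6], [nat_lit 8], [nat_lit 10], [nat_lit 12], [nat_lit 14], [nat_lit 16], [nat_lit 18]]) s [[nat_lit 49, nat_lit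 8, nat_lit 48], [nat_lit 50, nat_lit 68, nat_lit 54, nat_lit 44, nat_lit 43, nat_lit 57, nat_lit 50, nat_lit 56, nat_lit 52, nat_lit 58]] [[nat_lit 2], [nat_lit 57, nat_lit 58, nat_lit 58, nat_lit 55, nat_lit 56, nat_lit 55, nat_lit 51, nat_lit 58, nat_lit 29]] :=
  NC.br b le_rfl (b.c.genW_le_NS _) _ _ (nat_lit 1) [[nat_lit 2], [nat_lit 56, nat_lit 28, nat_lit 56, nat_lit 54, nat_lit 51, nat_lit 55, nat_lit 52, nat_lit 59, nat_lit 53, nat_lit 57], [nat_lit 57, nat_lit 57, nat_lit 51, nat_lit 55, nat_lit 55, nat_lit 46, nat_lit 46, nat_lit 50, nat_lit 40, nat_lit 55]] [nat_lit 57, nat_lit 14, nat_lit 56] (SE.diff (SE.fx [nat_lit 2]) (SE.tp (nat_lit 0))) [([nat_lit 12, nat_lit 72, nat_lit 2, nat_lit 73, nat_lit 13], [nat_lit 0]), ([nat_lit 66, nat_lit 14, nat_lit 67], [nat_lit 0, nat_lit 1]), ([nat_lit 41, nat_lit 4, nat_lit 40], [nat_lit 0]), ([nat_lit 34, nat_lit 68, nat_lit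 0, nat_lit 69, nat_lit 35], [nat_lit 0, nat_lit 1, nat_lit 2, nat_lit 2, nat_lit 1, nat_lit 2])] (NCs.cons (o8mnc16 b h0) (NCs.cons (o8mnc20 b h0) (NCs.cons (o8mnc23 b h0) (NCs.cons (o8mnc24 b h0) NCs.nil)))) (by decide +kernel)

theorem o8mnc26 (b : Cx τ s (genW (sv s) [[nat_lit 0], [nat_lit 2], [nat_lit 4], [nat_lit 6], [nat_lit 8], [nat_lit 10], [nat_lit 12], [nat_lit 14], [nat_lit 16], [nat_lit 18]]) o8d6) (h0 : CU (genW (sv s) [[nat_lit 0], [nat_lit 2], [nat_lit 4], [nat_lit 6], [nat_lit 8], [nat_lit 10], [nat_lit 12], [nat_lit 14], [nat_lit 16], [nat_lit 18]]) s [] 29713078886400) : NC (genW (sv s) [[nat_lit 0], [nat_lit 2], [nat_lit 4], [nat_lit 6], [nat_lit 8], [nat_lit 10], [nat_lit 12], [nat_lit 14], [nat_lit 16], [nat_lit 18]]) s [[nat_lit 50, nat_lit 68, nat_lit 54, nat_lit 44, nat_lit 43, nat_lit 57, nat_lit 50, nat_lit 56, nat_lit 52, nat_lit 58]] [[nat_lit 57,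 nat_lit 58, nat_lit 58, nat_lit 55, nat_lit 56, nat_lit 55, nat_lit 51, nat_lit 58, nat_lit 29]] :=
  NC.br b le_rfl (b.c.genW_le_NS _) _ _ (nat_lit 0) [[nat_lit 2], [nat_lit 53, nat_lit 53, nat_lit 54, nat_lit 49, nat_lit 52, nat_lit 55, nat_lit 45, nat_lit 59, nat_lit 37, nat_lit 58, nat_lit 3, nat_lit 1]] [nat_lit 49, nat_lit 8, nat_lit 48] (SE.fx [nat_lit 0]) [([nat_lit 2], [nat_lit 1, nat_lit 0, nat_lit 1, nat_lit 0, nat_lit 1, nat_lit 0, nat_lit 1, nat_lit 0, nat_lit 1, nat_lit 0])] (NCs.cons (o8mnc25 b h0) NCs.nil) (by decide +kernel)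

theorem o8f (b : Cx τ s (genW (sv s) [[nat_lit 0], [nat_lit 2], [nat_lit 4], [nat_lit 6], [nat_lit 8], [nat_lit 10], [nat_lit 12], [nat_lit 14], [nat_lit 16], [nat_lit 18]]) o8d6) (h0 : CU (genW (sv s) [[nat_lit 0], [nat_lit 2], [nat_lit 4], [nat_lit 6], [nat_lit 8], [nat_lit 10], [nat_lit 12], [nat_lit 14], [nat_lit 16], [nat_lit 18]]) s [] 29713078886400) : ∀ r ∈ o8cR.map (List.map (2 * 10 + ·)), GoodM (genW (sv s) [[nat_lit 0], [nat_lit 2], [nat_lit 4], [nat_lit 6], [nat_lit 8], [nat_lit 10], [nat_lit 12], [nat_lit 14], [nat_lit 16], [nat_lit 18]]) s o8R (E s r) :=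
  b.goodM _ _ [[], [], [], [], [], [], [], [nat_lit 2, nat_lit 0, nat_lit 64, nat_lit 61, nat_lit 49, nat_lit 49, nat_lit 79, nat_lit 48, nat_lit 48, nat_lit 48, nat_lit 59, nat_lit 53, nat_lit 54, nat_lit 57], [nat_lit 85, nat_lit 2, nat_lit 0, nat_lit 40, nat_lit 72, nat_lit 54, nat_lit 44, nat_lit 42, nat_lit 57, nat_lit 52, nat_lit 52, nat_lit 52, nat_lit 59, nat_lit 56], [nat_lit 57, nat_lit 55, nat_lit 57, nat_lit 50, nat_lit 50, nat_lit 55, nat_lit 43, nat_lit 43, nat_lit 48, nat_lit 37, nat_lit 41, nat_lit 3, nat_lit 1], [nat_lit 57, nat_lit 54, nat_lit 52, nat_lit 49, nat_lit 53, nat_lit 51, nat_lit 52, nat_lit 78, nat_lit 43, nat_lit 39, nat_lit 65, nat_lit 1, nat_lit 3], [nat_lit 0, nat_lit 2, nat_lit 0, nat_lit 66, nat_lit 57, nat_lit 46, nat_lit 44, nat_lit 53, nat_lit 50, nat_lit 48, nat_lit 50, nat_lit 52, nat_lit 54, nat_lit 52, nat_lit 58], [nat_lit 16, nat_lit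 0, nat_lit 2, nat_lit 53, nat_lit 60, nat_lit 55, nat_lit 78, nat_lit 44, nat_lit 48, nat_lit 52, nat_lit 51, nat_lit 58, nat_lit 55, nat_lit 52, nat_lit 57, nat_lit 59]] [nat_lit 0, nat_lit 1, nat_lit 2, nat_lit 3, nat_lit 4, nat_lit 5, nat_lit 6, nat_lit 0, nat_lit 2, nat_lit 3, nat_lit 0, nat_lit 2, nat_lit 3] (by decide +kernel) rfl

theorem o8o' (b : Cx τ s (genW (sv s) [[nat_lit 0], [nat_lit 2], [nat_lit 4], [nat_lit 6], [nat_lit 8], [nat_lit 10], [nat_lit 12], [nat_lit 14], [nat_lit 16], [nat_lit 18]]) o8d6) (h0 : CU (genW (sv s) [[nat_lit 0], [nat_lit 2], [nat_lit 4], [nat_lit 6], [nat_lit 8], [nat_lit 10], [nat_lit 12], [nat_lit 14], [nat_lit 16], [nat_lit 18]]) s [] 29713078886400) : ∀ i : Fin o8R.length, Nat.card (Subgroup.zpowers (vals s o8R i)) = 3 :=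
  b.cards o8R Nat.prime_three [nat_lit 0, nat_lit 1, nat_lit 0, nat_lit 0, nat_lit 0, nat_lit 0, nat_lit 1] (by decide +kernel)

theorem o8n' (b : Cx τ s (genW (sv s) [[nat_lit 0], [nat_lit 2], [nat_lit 4], [nat_lit 6], [nat_lit 8], [nat_lit 10], [nat_lit 12], [nat_lit 14], [nat_lit 16], [nat_lit 18]]) o8d6) (h0 : CU (genW (sv s) [[nat_lit 0], [nat_lit 2], [nat_lit 4], [nat_lit 6], [nat_lit 8], [nat_lit 10], [nat_lit 12], [nat_lit 14], [nat_lit 16], [nat_lit 18]]) s [] 29713078886400) : ∀ i j : Fin o8R.length, i < j → ∀ g ∈ (genW (sv s) [[nat_lit 0], [nat_lit 2], [nat_lit 4], [nat_lit 6], [nat_lit 8], [nat_lit 10], [nat_lit 12], [nat_lit 14], [nat_lit 16], [nat_lit 18]]),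
    (Subgroup.zpowers (vals s o8R i)).map (MulAut.conj g).toMonoidHom ≠ Subgroup.zpowers (vals s o8R j) := by
  intro i j hij g hg e
  have hp : ∀ w, o8d6.eqs [(w ++ w ++ w, [])] = true → E s w ^ 3 = 1 := fun w h => by
    simpa [pow_succ, mul_assoc] using b.eq1 _ _ h
  have h := b.sep _ [ivl (nat_lit 0) (nat_lit 3240)] o8R [[nat_lit 27], [nat_lit 27], [nat_lit 108], [nat_lit 135], [nat_lit 54], [nat_lit 81], [nat_lit 324]] (by decide +kernel) i j hg e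
  obtain ⟨rfl, rfl⟩ := (by decide +kernel : ∀ i j : Fin o8R.length, i < j → nth [] [[nat_lit 27], [nat_lit 27], [nat_lit 108], [nat_lit 135], [nat_lit 54], [nat_lit 81], [nat_lit 324]] i = nth [] [[nat_lit 27], [nat_lit 27], [nat_lit 108], [nat_lit 135], [nat_lit 54], [nat_lit 81], [nat_lit 324]] j →
    i = ⟨0, by decide⟩ ∧ j = ⟨1, by decide⟩) i j hij h
  exact NC.zp3 (o8mnc13 b h0) (o8mnc26 b h0) (hp _ (by decide +kernel)) hg e

end Cfsg.Agent.FiC.F23
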