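import Mathlib
import Cfsg.Agent.Fischer.Chk2

set_option autoImplicit false

namespace Cfsg.Agent.Fischer.PlaneLem

open Cfsg.Agent.Fischer Cfsg.Agent.Fischer.Chk

def ag0F_0 : ℕ := 0x800000019000200028004100000003800410001000180041000080030004100030000800410002800200041000180010004100038000000410000000280031000100038003100020001800310000800400031000400008003100018002000310003800100031000280000003100010002800090002000380009000000018000900030004000090004000300009000380020000900028001000090001800000009000400028002100008003800210003000180021000280040002100018003000210003800080021000000010002100010000000210000800280011000300038001100040001800110001800400011000380030001100028000800110000000200011000200000001100030002800010004000380001000080018000100038004000010002800300001000180008000100010002000010002000100001000000028003b000000028001b000000038001b0000000280043000000038004300000001800430000000280033000000038003300000001800330000000400033000000028000b000000038000b000000018000b000000040000b000000030000b00000002800230000000380023000000018002300000004000230000000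3000230000000080023000000028001300000003800130000000180013000000040001300000003000130000000080013000000020001300000002800030000000380003000000018000300000004000030000000300003000000008000300000002000030000000100003000180038002900038001800290002000400029000000030002900010000800290004000200029000080010002900030000000290001800280039000280018003900000004000390001000300039000200008003900008002000390003000100039000400000003900038002800190002800380019000100040001900020003000190000000080019000300020001900040001000190000800000019000200028004100000003800410001000180041000080030004100030000800410002800200041000180010004100038000000410000000280031000100038003100020001800310000800400031000400008003100018002000310003800100031000280000003100010002800090002000380009000000018000900030004000090004000300009000380020000900028001000090001800000009000400028002100008003800210003000180021000280040002100018003000210003800080021000000010002100010000000210000800280011000300038001100040001800110001800400011000380030001100028000800110000000200011000200000001100030002800010004000380001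0000800180001000380040000100028003000010001800080001000100020000100020001000010000000280033000000040001300000002800340000000400014000000038002300000003800240000000300013000000020002b0000000400023000000010003b000000038003300000002800430000000300014000000020002c0000000400024000000010003c00000003800340000000280044000000008001b000000008001c0003800100031000300010003900028004000210004000100018000280020004100018004000110004000200029000000028001300000003800430000000280014000000030002300000004000030000000380044000000030002400000004000040000000380003000400038000000030003800110000000380004000380020000800040003000080003000200018000300028000000000001000230000000300043000000040000b000000030000300000001000240000000300044000000028003b000000038001b000000040000c000000030000b00000003000040000000280003000000028003c000000038001c000000030000c000000028001b00038002800180000000280004000000028001c0002800100008000300040000900038002800190002000100000000400010001900030002000190001800080000000000040001b000000030001b000000040001c000000038000b000000010001b000000030001c000000028000b000000020001b00000002000030000000180003000000038000c000000010001c000000020000b000000028000c000000020001c000000010000b0000000200004000000010000300000001800040000000080003000000020000c000000010000c00000001000040000000080004000400038000100038002000090003000280001000280010000900020001000010001800080001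
def ag0F_1 : ℕ := 0x28003b000000028001b000000038001b0000000280043000000038004300000001800430000000280033000000038003300000001800330000000400033000000028000b000000038000b000000018000b000000040000b000000030000b00000002800230000000380023000000018002300000004000230000000300023000000008002300000002800130000000380013000000018001300000004000130000000300013000000008001300000002000130000000280003000000038000300000001800030000000400003000000030000300000000800030000000200003000000010000300018003800290003800180029000200040002900000003000290001000080029000400020002900008001000290003000000029000180028003900028001800390000000400039000100030003900020000800390000800200039000300010003900040000000390003800280019000280038001900010004000190002000300019000000008001900030002000190004000100019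
def ag0F_c (q : ℕ) : ℕ := (bif Nat.blt q 1 then ag0F_0 else ag0F_1)
def ag0F (n : ℕ) : ℕ := Nat.land (Nat.shiftRight (ag0F_c (Nat.div n 256)) (Nat.mul 52 (Nat.mod n 256))) 4503599627370495
def ag0J_0 : ℕ := 0x49860000000000000000000000490600000000000000000000004886000000000000000000000048060000000000000000000000478600000000000000000000004706000000000000000000000046860000000000000000000000460600000000000000000000004586000000000000000000000045060000000000000000000000448600000000000000000000004406000000000000000000000043860000000000000000000000430600000000000000000000004286000000000000000000000042060000000000000000000000418600000000000000000000004106000000000000000000000040860000000000000000000000400600000000000000000000003f8600000000000000000000003f0600000000000000000000003e8600000000000000000000003e0600000000000000000000003d8600000000000000000000003d0600000000000000000000003c8600000000000000000000003c0600000000000000000000003b8600000000000000000000003b0600000000000000000000003a8600000000000000000000003a060000000000000000000000398600000000000000000000003906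0000000000000000000000388600000000000000000000003806000000000000000000000037860000000000000000000000370600000000000000000000003686000000000000000000000036060000000000000000000000358600000000000000000000003506000000000000000000000034860000000000000000000000340600000000000000000000003386000000000000000000000033060000000000000000000000328600000000000000000000003206000000000000000000000031860000000000000000000000188a0000000000000000000000140a0000000000000000000000180a00000000000000000000002b8a0000000000000000000000230a00000000000000000000000e8a0000000000000000000000310a00000000000000000000002c0a00000000000000000000000e0a00000000000000000000001b0a00000000000000000000000b8a00000000000000000000000d0a0000000000000000000000280a00000000000000000000001a8a0000000000000000000000170a00000000000000000000002d8a00000000000000000000002f0a00000000000000000000000b0a00000000000000000000002d0a0000000000000000000000220a0000000000000000000000088a0000000000000000000000238a00000000000000000000002c8a00000000000000000000000c8a0000000000000000000000308a00000000000000000000002e0a000000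0000000000000000070a00000000000000000000001b8a0000000000000000000000160a00000000000000000000001f8a00000000000000000000000a0a0000000000000000000000218a00000000000000000000001a0a0000000000000000000000050a00000000000000000000000a8a0000000000000000000000060a000000000000000000000013b6000000000000000000000013a60000000000000000000000241600000000000000000000001c3600000000000000000000001246000000000000000000000024060000000000000000000000125600000000000000000000001c26000000000000000000000013d6000000000000000000000013c600000000000000000000001f360000000000000000000000269600000000000000000000001dc600000000000000000000001dd60000000000000000000000268600000000000000000000001f2600000000000000000000001106000000000000000000000011160000000000000000000000101600000000000000000000000f9600000000000000000000000f5600000000000000000000000f860000000000000000000000100600000000000000000000000f460000000000000000000000251600000000000000000000001f56000000000000000000000025c600000000000000000000001d5600000000000000000000001d4600000000000000000000002506000000000000000000000025d6000000000000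00000000001f4600000000000000000000001c560000000000000000000000271600000000000000000000001cc600000000000000000000001d3600000000000000000000001d2600000000000000000000001cd60000000000000000000000270600000000000000000000001c46000000000000000000000001160000000000000000000000021600000000000000000000000f360000000000000000000000118600000000000000000000001196000000000000000000000002060000000000000000000000010600000000000000000000000f260000000000000000000000261600000000000000000000001db600000000000000000000001ca60000000000000000000000260600000000000000000000001cb600000000000000000000001da6000000000000000000000010d6000000000000000000000010c60000000000000000000000123600000000000000000000001e86000000000000000000000024960000000000000000000000248600000000000000000000001e9600000000000000000000001226000000000000000000000010b6000000000000000000000010a60000000000000000000000018600000000000000000000000286000000000000000000000000160000000000000000000000029600000000000000000000000196000000000000000000000000060000000000000000000000009600000000000000000000000086000000000000000000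0000300a00000000000000000000002f8a00000000004440001f00002e8100000000000a00000120002e8100000000000000000000002e8a00000000007a4000214000168100000000000000000000002b0a00000000000000000000002a8a00000000000000000000002a0a0000000000000000000000298a0000000000000000000000290a0000000000000000000000288a00000000007500004b8000278100000000007700002780002781000000000074800039800027810000000000490000274000278100000000007680003940002781000000000048800049200027810000000000000000000000278a000000000003c0001e400003010000148000024000030000240100000c0000024000052000250100000c80000a00000100001e8100001400000240000000001d810000e200000840003ea0001d4000009d8000900000248000020100008c80000840000200001e810000000000000000000000228a0000000000000000000000210a000000000006400001200020810000000000000000000000208a0000000000000000000000200a00000000000fc0003e40001e0100000000007a00002140001e0100000000000a000000e0001e0100000000000000000000001e0a00008c80000800001e60001c810000e10000080000216000122000000000000800001e60000781000000000000000009000002070000140000060000002000138100000c000002000000000012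01000000000000000026000001870000000000000000000000198a0000000000000000000000190a0000000000000000000000178a0000000000000000000000168a00000000000440000420001581000000000006000005000015810000000000000000000000158a0000000000000000000000150a000000000046400001e00014810000000000000000000000148a000000000006000000e00013010000000000000000000000130a00000000000bc0002740001281000000000044000003e0001281000000000006000000200012810000000000000000000000128a00001000000400001e4000108100000000000400001e6000090100000000000400001e400003810000000000000000080000010700007c00004000001e8000008100001000000400001e40000081000000000000000007000000870000140000024000000000020100000c000002000000000001010000000000000000060000000700000000000000000000000d8a00000000000000000000000c0a00000000000a000000000009810000000000000000000000098a0000000000000000000000090a000000000006000000000008010000000000000000000000080a0000000000000000000000078a0000000000000000000000068a0000000000000000000000058a000000000008000001e0000481000000000002400000000004810000000000000000000000048a000000000004000001e0000401000000000002000000000004010000000000000000000000040a000000000002000000e00003810000000000000000000000038a000000000000000000e00003010000000000000000000000030a0000000000000000000000000f0000000000000000000000000f0000000000000000000000000f0000000000000000000000000f0000000000000000000000000f0000000000000000000000000f0000000000000000000000000f0000000000000000000000000f0000000000000000000000000f0000000000000000000000000f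
def ag0J_1 : ℕ := 0x670a0000000000000000000000668a0000000000000000000000660a0000000000000000000000658a0000000000000000000000650a0000000000000000000000648a0000000000000000000000640a0000000000000000000000638a0000000000000000000000630a0000000000000000000000628a0000000000000000000000620a0000000000000000000000618a0000000000000000000000610a0000000000000000000000608a0000000000000000000000600a00000000000000000000005f8a00000000000000000000005f0a00000000000000000000005e8a00000000000000000000005e0a00000000000000000000005d8a00000000000000000000005d0a00000000000000000000005c8a00000000000000000000005c0a00000000000000000000005b8a00000000000000000000005b0a00000000000000000000005a8a00000000000000000000005a0a0000000000000000000000598a0000000000000000000000590a0000000000000000000000588a0000000000000000000000580a0000000000000000000000578a0000000000000000000000570a0000000000000000000000568a0000000000000000000000560a0000000000000000000000558a000000000000000000000055060000000000000000000000548600000000000000000000005406000000000000000000000053860000000000000000000000530600000000000000000000005286000000000000000000000052060000000000000000000000518600000000000000000000005106000000000000000000000050860000000000000000000000500600000000000000000000004f8600000000000000000000004f0600000000000000000000004e8600000000000000000000004e0600000000000000000000004d8600000000000000000000004d0600000000000000000000004c8600000000000000000000004c0600000000000000000000004b8600000000000000000000004b0600000000000000000000004a8600000000000000000000004a06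
def ag0J_c (q : ℕ) : ℕ := (bif Nat.blt q 1 then ag0J_0 else ag0J_1)
def ag0J (n : ℕ) : ℕ := Nat.land (Nat.shiftRight (ag0J_c (Nat.div n 256)) (Nat.mul 104 (Nat.mod n 256))) 20282409603651670423947251286015
def ag0P_0 : ℕ := 0x0
def ag0P (n : ℕ) : ℕ := Nat.land (Nat.shiftRight ag0P_0 (Nat.mul 32 n)) 4294967295

theorem ag0_check0 : steps false 9 10 ag0F ag0J ag0P 0 315 = true := by decide +kernel

theorem ag0_all : ∀ n < 315, step false 9 10 ag0F ag0J ag0P n = true := by
  intro n hn
  exact steps_spec 315 ag0_check0 n (by omega) (by omega)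

theorem ag0_aux {G : Type*} [Group G] {D : Set G} (hS : Setting D false) {p q r p20 p02 p22 p11 p21 p12 : G}
    (mp : p ∈ D) (mq : q ∈ D) (mr : r ∈ D) (mp20 : p20 ∈ D) (mp02 : p02 ∈ D) (mp22 : p22 ∈ D) (mp11 : p11 ∈ D) (mp21 : p21 ∈ D) (mp12 : p12 ∈ D)
    (h0 : p * q * p = p20)
    (h1 : p * r * p = p02)
    (h2 : q * r * q = p22)
    (h3 : p * p22 * p = p11)
    (h4 : q * p02 * q = p21)
    (h5 : p * p21 * p = p12)
    (h6 : ¬ Commute p q)
    (h7 : ¬ Commute p r)
    (h8 : ¬ Commute q r)
    (h9 : ¬ Commute q p02)
    : (p * r * p = p02) ∧ (p * p02 * p = r) ∧ (p * q * p = p20) ∧ (p * p11 * p = p22) ∧ (p * p12 * p = p21) ∧ (p * p20 * p = q) ∧ (p * p21 * p = p12) ∧ (p * p22 * p = p11) ∧ (r * p * r = p02) ∧ (r * p02 * r = p) ∧ (r * q * r = p22) ∧ (r * p11 * r = p21) ∧ (r * p12 * r = p20) ∧ (r * p20 * r = p12) ∧ (r * p21 * r = p11) ∧ (r * p22 * r = q) ∧ (p02 * p * p02 = r) ∧ (p02 * r * p02 = p) ∧ (p02 * q * p02 = p21) ∧ (p02 * p11 * p02 = p20) ∧ (p02 * p12 * p02 = p22) ∧ (p02 * p20 * p02 = p11) ∧ (p02 * p21 * p02 = q) ∧ (p02 * p22 * p02 = p12) ∧ (q * p *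 q = p20) ∧ (q * r * q = p22) ∧ (q * p02 * q = p21) ∧ (q * p11 * q = p12) ∧ (q * p12 * q = p11) ∧ (q * p20 * q = p) ∧ (q * p21 * q = p02) ∧ (q * p22 * q = r) ∧ (p11 * p * p11 = p22) ∧ (p11 * r * p11 = p21) ∧ (p11 * p02 * p11 = p20) ∧ (p11 * q * p11 = p12) ∧ (p11 * p12 * p11 = q) ∧ (p11 * p20 * p11 = p02) ∧ (p11 * p21 * p11 = r) ∧ (p11 * p22 * p11 = p) ∧ (p12 * p * p12 = p21) ∧ (p12 * r * p12 = p20) ∧ (p12 * p02 * p12 = p22) ∧ (p12 * q * p12 = p11) ∧ (p12 * p11 * p12 = q) ∧ (p12 * p20 * p12 = r) ∧ (p12 * p21 * p12 = p) ∧ (p12 * p22 * p12 = p02) ∧ (p20 * p * p20 = q) ∧ (p20 * r * p20 = p12) ∧ (p20 * p02 * p20 = p11) ∧ (p20 * q * p20 = p) ∧ (p20 * p11 * p20 = p02) ∧ (p20 * p12 * p20 = r) ∧ (p20 * p21 * p20 = p22) ∧ (p20 * p22 * p20 = p21) ∧ (p21 * p * p21 = p12) ∧ (p21 * r * p21 = p11) ∧ (p21 * p02 * p21 = q) ∧ (p21 * q * p21 = p02) ∧ (p21 * p11 * p21 = r) ∧ (p21 * p12 * p21 = p) ∧ (p21 * p20 * p21 = p22) ∧ (p21 * p22 * p21 = p20) ∧ (p22 * p * p22 = p11) ∧ (p22 * r * p22 = q) ∧ (p22 * p02 * p22 = p12) ∧ (p22 * q * p22 = r) ∧ (p22 * p11 * p22 = p) ∧ (p22 * p12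 * p22 = p02) ∧ (p22 * p20 * p22 = p21) ∧ (p22 * p21 * p22 = p20) ∧ (p ≠ r) ∧ (p ≠ p02) ∧ (p ≠ q) ∧ (p ≠ p11) ∧ (p ≠ p12) ∧ (p ≠ p20) ∧ (p ≠ p21) ∧ (p ≠ p22) ∧ (r ≠ p02) ∧ (r ≠ q) ∧ (r ≠ p11) ∧ (r ≠ p12) ∧ (r ≠ p20) ∧ (r ≠ p21) ∧ (r ≠ p22) ∧ (p02 ≠ q) ∧ (p02 ≠ p11) ∧ (p02 ≠ p12) ∧ (p02 ≠ p20) ∧ (p02 ≠ p21) ∧ (p02 ≠ p22) ∧ (q ≠ p11) ∧ (q ≠ p12) ∧ (q ≠ p20) ∧ (q ≠ p21) ∧ (q ≠ p22) ∧ (p11 ≠ p12) ∧ (p11 ≠ p20) ∧ (p11 ≠ p21) ∧ (p11 ≠ p22) ∧ (p12 ≠ p20) ∧ (p12 ≠ p21) ∧ (p12 ≠ p22) ∧ (p20 ≠ p21) ∧ (p20 ≠ p22) ∧ (p21 ≠ p22) := by
  let g : ℕ → G := fun n => [p, q, r, p20, p02, p22, p11, p21, p12].getD n p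
  have hv := val_mem hS.conj (ngen := 9) (g := g) mp
    (fun n hn => by interval_cases n <;> assumption) ag0P
  have e0 : val g 9 ag0P 0 = p := val_gen _ _ (by norm_num)
  have e1 : val g 9 ag0P 1 = q := val_gen _ _ (by norm_num)
  have e2 : val g 9 ag0P 2 = r := val_gen _ _ (by norm_num)
  have e3 : val g 9 ag0P 3 = p20 := val_gen _ _ (by norm_num)
  have e4 : val g 9 ag0P 4 = p02 := val_gen _ _ (by norm_num)
  have e5 : val g 9 ag0P 5 = p22 := val_gen _ _ (by norm_num)
  have e6 : val g 9 ag0P 6 = p11 := val_gen _ _ (by norm_num)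
  have e7 : val g 9 ag0P 7 = p21 := val_gen _ _ (by norm_num)
  have e8 : val g 9 ag0P 8 = p12 := val_gen _ _ (by norm_num)
  have hs := sound (J := ag0J) (F := ag0F) (nhyp := 10) hS hv (fun n hn => by
    interval_cases n
    · exact holds_T 0 1 3 (by decide +kernel) (by rw [e0, e1, e3]; exact h0)
    · exact holds_T 0 2 4 (by decide +kernel) (by rw [e0, e2, e4]; exact h1)
    · exact holds_T 1 2 5 (by decide +kernel) (by rw [e1, e2, e5]; exact h2)
    · exact holds_T 0 5 6 (by decide +kernel) (by rw [e0, e5, e6]; exact h3)
    · exact holds_T 1 4 7 (by decide +kernel) (by rw [e1, e4, e7]; exact h4)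
    · exact holds_T 0 7 8 (by decide +kernel) (by rw [e0, e7, e8]; exact h5)
    · exact holds_N 0 1 (by decide +kernel) (by rw [e0, e1]; exact h6)
    · exact holds_N 0 2 (by decide +kernel) (by rw [e0, e2]; exact h7)
    · exact holds_N 1 2 (by decide +kernel) (by rw [e1, e2]; exact h8)
    · exact holds_N 1 4 (by decide +kernel) (by rw [e1, e4]; exact h9)
    ) ag0_all
  have g0 := of_holds_T 0 2 4 (hs 207 (by norm_num)) (by decide +kernel)
  rw [e0, e2, e4] at g0
  have g1 := of_holds_T 0 4 2 (hs 208 (by norm_num)) (by decide +kernel)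
  rw [e0, e4, e2] at g1
  have g2 := of_holds_T 0 1 3 (hs 209 (by norm_num)) (by decide +kernel)
  rw [e0, e1, e3] at g2
  have g3 := of_holds_T 0 6 5 (hs 210 (by norm_num)) (by decide +kernel)
  rw [e0, e6, e5] at g3
  have g4 := of_holds_T 0 8 7 (hs 211 (by norm_num)) (by decide +kernel)
  rw [e0, e8, e7] at g4
  have g5 := of_holds_T 0 3 1 (hs 212 (by norm_num)) (by decide +kernel)
  rw [e0, e3, e1] at g5
  have g6 := of_holds_T 0 7 8 (hs 213 (by norm_num)) (by decide +kernel)
  rw [e0, e7, e8] at g6
  have g7 := of_holds_T 0 5 6 (hs 214 (by norm_num)) (by decide +kernel)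
  rw [e0, e5, e6] at g7
  have g8 := of_holds_T 2 0 4 (hs 215 (by norm_num)) (by decide +kernel)
  rw [e2, e0, e4] at g8
  have g9 := of_holds_T 2 4 0 (hs 216 (by norm_num)) (by decide +kernel)
  rw [e2, e4, e0] at g9
  have g10 := of_holds_T 2 1 5 (hs 217 (by norm_num)) (by decide +kernel)
  rw [e2, e1, e5] at g10
  have g11 := of_holds_T 2 6 7 (hs 218 (by norm_num)) (by decide +kernel)
  rw [e2, e6, e7] at g11
  have g12 := of_holds_T 2 8 3 (hs 219 (by norm_num)) (by decide +kernel)
  rw [e2, e8, e3] at g12
  have g13 := of_holds_T 2 3 8 (hs 220 (by norm_num)) (by decide +kernel)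
  rw [e2, e3, e8] at g13
  have g14 := of_holds_T 2 7 6 (hs 221 (by norm_num)) (by decide +kernel)
  rw [e2, e7, e6] at g14
  have g15 := of_holds_T 2 5 1 (hs 222 (by norm_num)) (by decide +kernel)
  rw [e2, e5, e1] at g15
  have g16 := of_holds_T 4 0 2 (hs 223 (by norm_num)) (by decide +kernel)
  rw [e4, e0, e2] at g16
  have g17 := of_holds_T 4 2 0 (hs 224 (by norm_num)) (by decide +kernel)
  rw [e4, e2, e0] at g17
  have g18 := of_holds_T 4 1 7 (hs 225 (by norm_num)) (by decide +kernel)
  rw [e4, e1, e7] at g18
  have g19 := of_holds_T 4 6 3 (hs 226 (by norm_num)) (by decide +kernel)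
  rw [e4, e6, e3] at g19
  have g20 := of_holds_T 4 8 5 (hs 227 (by norm_num)) (by decide +kernel)
  rw [e4, e8, e5] at g20
  have g21 := of_holds_T 4 3 6 (hs 228 (by norm_num)) (by decide +kernel)
  rw [e4, e3, e6] at g21
  have g22 := of_holds_T 4 7 1 (hs 229 (by norm_num)) (by decide +kernel)
  rw [e4, e7, e1] at g22
  have g23 := of_holds_T 4 5 8 (hs 230 (by norm_num)) (by decide +kernel)
  rw [e4, e5, e8] at g23
  have g24 := of_holds_T 1 0 3 (hs 231 (by norm_num)) (by decide +kernel)
  rw [e1, e0, e3] at g24
  have g25 := of_holds_T 1 2 5 (hs 232 (by norm_num)) (by decide +kernel)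
  rw [e1, e2, e5] at g25
  have g26 := of_holds_T 1 4 7 (hs 233 (by norm_num)) (by decide +kernel)
  rw [e1, e4, e7] at g26
  have g27 := of_holds_T 1 6 8 (hs 234 (by norm_num)) (by decide +kernel)
  rw [e1, e6, e8] at g27
  have g28 := of_holds_T 1 8 6 (hs 235 (by norm_num)) (by decide +kernel)
  rw [e1, e8, e6] at g28
  have g29 := of_holds_T 1 3 0 (hs 236 (by norm_num)) (by decide +kernel)
  rw [e1, e3, e0] at g29
  have g30 := of_holds_T 1 7 4 (hs 237 (by norm_num)) (by decide +kernel)
  rw [e1, e7, e4] at g30
  have g31 := of_holds_T 1 5 2 (hs 238 (by norm_num)) (by decide +kernel)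
  rw [e1, e5, e2] at g31
  have g32 := of_holds_T 6 0 5 (hs 239 (by norm_num)) (by decide +kernel)
  rw [e6, e0, e5] at g32
  have g33 := of_holds_T 6 2 7 (hs 240 (by norm_num)) (by decide +kernel)
  rw [e6, e2, e7] at g33
  have g34 := of_holds_T 6 4 3 (hs 241 (by norm_num)) (by decide +kernel)
  rw [e6, e4, e3] at g34
  have g35 := of_holds_T 6 1 8 (hs 242 (by norm_num)) (by decide +kernel)
  rw [e6, e1, e8] at g35
  have g36 := of_holds_T 6 8 1 (hs 243 (by norm_num)) (by decide +kernel)
  rw [e6, e8, e1] at g36
  have g37 := of_holds_T 6 3 4 (hs 244 (by norm_num)) (by decide +kernel)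
  rw [e6, e3, e4] at g37
  have g38 := of_holds_T 6 7 2 (hs 245 (by norm_num)) (by decide +kernel)
  rw [e6, e7, e2] at g38
  have g39 := of_holds_T 6 5 0 (hs 246 (by norm_num)) (by decide +kernel)
  rw [e6, e5, e0] at g39
  have g40 := of_holds_T 8 0 7 (hs 247 (by norm_num)) (by decide +kernel)
  rw [e8, e0, e7] at g40
  have g41 := of_holds_T 8 2 3 (hs 248 (by norm_num)) (by decide +kernel)
  rw [e8, e2, e3] at g41
  have g42 := of_holds_T 8 4 5 (hs 249 (by norm_num)) (by decide +kernel)
  rw [e8, e4, e5] at g42
  have g43 := of_holds_T 8 1 6 (hs 250 (by norm_num)) (by decide +kernel)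
  rw [e8, e1, e6] at g43
  have g44 := of_holds_T 8 6 1 (hs 251 (by norm_num)) (by decide +kernel)
  rw [e8, e6, e1] at g44
  have g45 := of_holds_T 8 3 2 (hs 252 (by norm_num)) (by decide +kernel)
  rw [e8, e3, e2] at g45
  have g46 := of_holds_T 8 7 0 (hs 253 (by norm_num)) (by decide +kernel)
  rw [e8, e7, e0] at g46
  have g47 := of_holds_T 8 5 4 (hs 254 (by norm_num)) (by decide +kernel)
  rw [e8, e5, e4] at g47
  have g48 := of_holds_T 3 0 1 (hs 255 (by norm_num)) (by decide +kernel)
  rw [e3, e0, e1] at g48
  have g49 := of_holds_T 3 2 8 (hs 256 (by norm_num)) (by decide +kernel)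
  rw [e3, e2, e8] at g49
  have g50 := of_holds_T 3 4 6 (hs 257 (by norm_num)) (by decide +kernel)
  rw [e3, e4, e6] at g50
  have g51 := of_holds_T 3 1 0 (hs 258 (by norm_num)) (by decide +kernel)
  rw [e3, e1, e0] at g51
  have g52 := of_holds_T 3 6 4 (hs 259 (by norm_num)) (by decide +kernel)
  rw [e3, e6, e4] at g52
  have g53 := of_holds_T 3 8 2 (hs 260 (by norm_num)) (by decide +kernel)
  rw [e3, e8, e2] at g53
  have g54 := of_holds_T 3 7 5 (hs 261 (by norm_num)) (by decide +kernel)
  rw [e3, e7, e5] at g54
  have g55 := of_holds_T 3 5 7 (hs 262 (by norm_num)) (by decide +kernel)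
  rw [e3, e5, e7] at g55
  have g56 := of_holds_T 7 0 8 (hs 263 (by norm_num)) (by decide +kernel)
  rw [e7, e0, e8] at g56
  have g57 := of_holds_T 7 2 6 (hs 264 (by norm_num)) (by decide +kernel)
  rw [e7, e2, e6] at g57
  have g58 := of_holds_T 7 4 1 (hs 265 (by norm_num)) (by decide +kernel)
  rw [e7, e4, e1] at g58
  have g59 := of_holds_T 7 1 4 (hs 266 (by norm_num)) (by decide +kernel)
  rw [e7, e1, e4] at g59
  have g60 := of_holds_T 7 6 2 (hs 267 (by norm_num)) (by decide +kernel)
  rw [e7, e6, e2] at g60
  have g61 := of_holds_T 7 8 0 (hs 268 (by norm_num)) (by decide +kernel)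
  rw [e7, e8, e0] at g61
  have g62 := of_holds_T 7 3 5 (hs 269 (by norm_num)) (by decide +kernel)
  rw [e7, e3, e5] at g62
  have g63 := of_holds_T 7 5 3 (hs 270 (by norm_num)) (by decide +kernel)
  rw [e7, e5, e3] at g63
  have g64 := of_holds_T 5 0 6 (hs 271 (by norm_num)) (by decide +kernel)
  rw [e5, e0, e6] at g64
  have g65 := of_holds_T 5 2 1 (hs 272 (by norm_num)) (by decide +kernel)
  rw [e5, e2, e1] at g65
  have g66 := of_holds_T 5 4 8 (hs 273 (by norm_num)) (by decide +kernel)
  rw [e5, e4, e8] at g66
  have g67 := of_holds_T 5 1 2 (hs 274 (by norm_num)) (by decide +kernel)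
  rw [e5, e1, e2] at g67
  have g68 := of_holds_T 5 6 0 (hs 275 (by norm_num)) (by decide +kernel)
  rw [e5, e6, e0] at g68
  have g69 := of_holds_T 5 8 4 (hs 276 (by norm_num)) (by decide +kernel)
  rw [e5, e8, e4] at g69
  have g70 := of_holds_T 5 3 7 (hs 277 (by norm_num)) (by decide +kernel)
  rw [e5, e3, e7] at g70
  have g71 := of_holds_T 5 7 3 (hs 278 (by norm_num)) (by decide +kernel)
  rw [e5, e7, e3] at g71
  have g72 := of_holds_NE 0 2 (hs 279 (by norm_num)) (by decide +kernel)
  rw [e0, e2] at g72
  have g73 := of_holds_NE 0 4 (hs 280 (by norm_num)) (by decide +kernel)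
  rw [e0, e4] at g73
  have g74 := of_holds_NE 0 1 (hs 281 (by norm_num)) (by decide +kernel)
  rw [e0, e1] at g74
  have g75 := of_holds_NE 0 6 (hs 282 (by norm_num)) (by decide +kernel)
  rw [e0, e6] at g75
  have g76 := of_holds_NE 0 8 (hs 283 (by norm_num)) (by decide +kernel)
  rw [e0, e8] at g76
  have g77 := of_holds_NE 0 3 (hs 284 (by norm_num)) (by decide +kernel)
  rw [e0, e3] at g77
  have g78 := of_holds_NE 0 7 (hs 285 (by norm_num)) (by decide +kernel)
  rw [e0, e7] at g78
  have g79 := of_holds_NE 0 5 (hs 286 (by norm_num)) (by decide +kernel)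
  rw [e0, e5] at g79
  have g80 := of_holds_NE 2 4 (hs 287 (by norm_num)) (by decide +kernel)
  rw [e2, e4] at g80
  have g81 := of_holds_NE 2 1 (hs 288 (by norm_num)) (by decide +kernel)
  rw [e2, e1] at g81
  have g82 := of_holds_NE 2 6 (hs 289 (by norm_num)) (by decide +kernel)
  rw [e2, e6] at g82
  have g83 := of_holds_NE 2 8 (hs 290 (by norm_num)) (by decide +kernel)
  rw [e2, e8] at g83
  have g84 := of_holds_NE 2 3 (hs 291 (by norm_num)) (by decide +kernel)
  rw [e2, e3] at g84
  have g85 := of_holds_NE 2 7 (hs 292 (by norm_num)) (by decide +kernel)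
  rw [e2, e7] at g85
  have g86 := of_holds_NE 2 5 (hs 293 (by norm_num)) (by decide +kernel)
  rw [e2, e5] at g86
  have g87 := of_holds_NE 4 1 (hs 294 (by norm_num)) (by decide +kernel)
  rw [e4, e1] at g87
  have g88 := of_holds_NE 4 6 (hs 295 (by norm_num)) (by decide +kernel)
  rw [e4, e6] at g88
  have g89 := of_holds_NE 4 8 (hs 296 (by norm_num)) (by decide +kernel)
  rw [e4, e8] at g89
  have g90 := of_holds_NE 4 3 (hs 297 (by norm_num)) (by decide +kernel)
  rw [e4, e3] at g90
  have g91 := of_holds_NE 4 7 (hs 298 (by norm_num)) (by decide +kernel)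
  rw [e4, e7] at g91
  have g92 := of_holds_NE 4 5 (hs 299 (by norm_num)) (by decide +kernel)
  rw [e4, e5] at g92
  have g93 := of_holds_NE 1 6 (hs 300 (by norm_num)) (by decide +kernel)
  rw [e1, e6] at g93
  have g94 := of_holds_NE 1 8 (hs 301 (by norm_num)) (by decide +kernel)
  rw [e1, e8] at g94
  have g95 := of_holds_NE 1 3 (hs 302 (by norm_num)) (by decide +kernel)
  rw [e1, e3] at g95
  have g96 := of_holds_NE 1 7 (hs 303 (by norm_num)) (by decide +kernel)
  rw [e1, e7] at g96
  have g97 := of_holds_NE 1 5 (hs 304 (by norm_num)) (by decide +kernel)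
  rw [e1, e5] at g97
  have g98 := of_holds_NE 6 8 (hs 305 (by norm_num)) (by decide +kernel)
  rw [e6, e8] at g98
  have g99 := of_holds_NE 6 3 (hs 306 (by norm_num)) (by decide +kernel)
  rw [e6, e3] at g99
  have g100 := of_holds_NE 6 7 (hs 307 (by norm_num)) (by decide +kernel)
  rw [e6, e7] at g100
  have g101 := of_holds_NE 6 5 (hs 308 (by norm_num)) (by decide +kernel)
  rw [e6, e5] at g101
  have g102 := of_holds_NE 8 3 (hs 309 (by norm_num)) (by decide +kernel)
  rw [e8, e3] at g102
  have g103 := of_holds_NE 8 7 (hs 310 (by norm_num)) (by decide +kernel)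
  rw [e8, e7] at g103
  have g104 := of_holds_NE 8 5 (hs 311 (by norm_num)) (by decide +kernel)
  rw [e8, e5] at g104
  have g105 := of_holds_NE 3 7 (hs 312 (by norm_num)) (by decide +kernel)
  rw [e3, e7] at g105
  have g106 := of_holds_NE 3 5 (hs 313 (by norm_num)) (by decide +kernel)
  rw [e3, e5] at g106
  have g107 := of_holds_NE 7 5 (hs 314 (by norm_num)) (by decide +kernel)
  rw [e7, e5] at g107
  exact ⟨g0, g1, g2, g3, g4, g5, g6, g7, g8, g9, g10, g11, g12, g13, g14, g15, g16, g17, g18, g19, g20, g21, g22, g23, g24, g25, g26, g27, g28, g29, g30, g31, g32, g33, g34, g35, g36, g37, g38, g39, g40, g41, g42, g43, g44, g45, g46, g47, g48, g49, g50, g51, g52, g53, g54, g55, g56, g57, g58, g59, g60, g61, g62, g63, g64, g65, g66, g67, g68, g69, g70, g71, g72, g73, g74, g75, g76, g77, g78, g79, g80, g81, g82, g83, g84, g85, g86, g87, g88, g89, g90, g91, g92, g93, g94, g95, g96, g97, g98, g99, g100, g101, g102, g103, g104, g105, g106, g107⟩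

theorem ag0 {G : Type*} [Group G] {D : Set G} (hS : Setting D false) {p q r : G}
    (mp : p ∈ D) (mq : q ∈ D) (mr : r ∈ D)
    (h0 : ¬ Commute p q)
    (h1 : ¬ Commute p r)
    (h2 : ¬ Commute q r)
    (h3 : ¬ Commute q (p * r * p))
    : (p * r * p = (p * r * p)) ∧ (p * (p * r * p) * p = r) ∧ (p * q * p = (p * q * p)) ∧ (p * (p * (q * r * q) * p) * p = (q * r * q)) ∧ (p * (p * (q * (p * r * p) * q) * p) * p = (q * (p * r * p) * q)) ∧ (p * (p * q * p) * p = q) ∧ (p * (q * (p * r * p) * q) * p = (p * (q * (p * r * p) * q) * p)) ∧ (p * (q * r * q) * p = (p * (q * r * q) * p)) ∧ (r * p * r = (p * r * p)) ∧ (r * (p * r * p) * r = p) ∧ (r * q * r = (q * r * q)) ∧ (r * (p * (q * r * q) * p) * r = (q * (p * r * p) * q)) ∧ (r * (p * (q * (p * r * p) * q) * p) * r = (p * q * p)) ∧ (r * (p * q * p) * r = (p * (q * (p * r * p) * q) * p)) ∧ (r * (q * (p * r * p) * q) * r = (p * (q * r * q) * p)) ∧ (r * (q * r * q) * r = q) ∧ ((p * r * p) * p * (p * r * p) = r) ∧ ((p * r * p) * r * (p * r * p) = p) ∧ ((p * r * p) * q * (p * r * p) = (q * (p * r * p) * q)) ∧ ((p * r *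 p) * (p * (q * r * q) * p) * (p * r * p) = (p * q * p)) ∧ ((p * r * p) * (p * (q * (p * r * p) * q) * p) * (p * r * p) = (q * r * q)) ∧ ((p * r * p) * (p * q * p) * (p * r * p) = (p * (q * r * q) * p)) ∧ ((p * r * p) * (q * (p * r * p) * q) * (p * r * p) = q) ∧ ((p * r * p) * (q * r * q) * (p * r * p) = (p * (q * (p * r * p) * q) * p)) ∧ (q * p * q = (p * q * p)) ∧ (q * r * q = (q * r * q)) ∧ (q * (p * r * p) * q = (q * (p * r * p) * q)) ∧ (q * (p * (q * r * q) * p) * q = (p * (q * (p * r * p) * q) * p)) ∧ (q * (p * (q * (p * r * p) * q) * p) * q = (p * (q * r * q) * p)) ∧ (q * (p * q * p) * q = p) ∧ (q * (q * (p * r * p) * q) * q = (p * r * p)) ∧ (q * (q * r * q) * q = r) ∧ ((p * (q * r * q) * p) * p * (p * (q * r * q) * p) = (q * r * q)) ∧ ((p * (q * r * q) * p) * r * (p * (q * r * q) * p) = (q * (p * r * p) * q)) ∧ ((p * (q * r * q) * p) * (p * r * p) * (p * (q * r * q) * p) = (p * q * p)) ∧ ((p * (q * r * q) * p) * q * (p * (q * r * q) * p) = (p * (q * (p * r * p) * q) * p)) ∧ ((p * (q * r * q) * p) * (p * (q * (p * r * p) * q) * p) * (p * (q * r * q)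 * p) = q) ∧ ((p * (q * r * q) * p) * (p * q * p) * (p * (q * r * q) * p) = (p * r * p)) ∧ ((p * (q * r * q) * p) * (q * (p * r * p) * q) * (p * (q * r * q) * p) = r) ∧ ((p * (q * r * q) * p) * (q * r * q) * (p * (q * r * q) * p) = p) ∧ ((p * (q * (p * r * p) * q) * p) * p * (p * (q * (p * r * p) * q) * p) = (q * (p * r * p) * q)) ∧ ((p * (q * (p * r * p) * q) * p) * r * (p * (q * (p * r * p) * q) * p) = (p * q * p)) ∧ ((p * (q * (p * r * p) * q) * p) * (p * r * p) * (p * (q * (p * r * p) * q) * p) = (q * r * q)) ∧ ((p * (q * (p * r * p) * q) * p) * q * (p * (q * (p * r * p) * q) * p) = (p * (q * r * q) * p)) ∧ ((p * (q * (p * r * p) * q) * p) * (p * (q * r * q) * p) * (p * (q * (p * r * p) * q) * p) = q) ∧ ((p * (q * (p * r * p) * q) * p) * (p * q * p) * (p * (q * (p * r * p) * q) * p) = r) ∧ ((p * (q * (p * r * p) * q) * p) * (q * (p * r * p) * q) * (p * (q * (p * r * p) * q) * p) = p) ∧ ((p * (q * (p * r * p) * q) * p) * (q * r * q) * (p * (q * (p * r * p) * q) * p) = (p * r * p)) ∧ ((p * q * p) * p * (p * q * p) = q) ∧ ((p * q * p) * r * (p * q * p) = (p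 * (q * (p * r * p) * q) * p)) ∧ ((p * q * p) * (p * r * p) * (p * q * p) = (p * (q * r * q) * p)) ∧ ((p * q * p) * q * (p * q * p) = p) ∧ ((p * q * p) * (p * (q * r * q) * p) * (p * q * p) = (p * r * p)) ∧ ((p * q * p) * (p * (q * (p * r * p) * q) * p) * (p * q * p) = r) ∧ ((p * q * p) * (q * (p * r * p) * q) * (p * q * p) = (q * r * q)) ∧ ((p * q * p) * (q * r * q) * (p * q * p) = (q * (p * r * p) * q)) ∧ ((q * (p * r * p) * q) * p * (q * (p * r * p) * q) = (p * (q * (p * r * p) * q) * p)) ∧ ((q * (p * r * p) * q) * r * (q * (p * r * p) * q) = (p * (q * r * q) * p)) ∧ ((q * (p * r * p) * q) * (p * r * p) * (q * (p * r * p) * q) = q) ∧ ((q * (p * r * p) * q) * q * (q * (p * r * p) * q) = (p * r * p)) ∧ ((q * (p * r * p) * q) * (p * (q * r * q) * p) * (q * (p * r * p) * q) = r) ∧ ((q * (p * r * p) * q) * (p * (q * (p * r * p) * q) * p) * (q * (p * r * p) * q) = p) ∧ ((q * (p * r * p) * q) * (p * q * p) * (q * (p * r * p) * q) = (q * r * q)) ∧ ((q * (p * r * p) * q) * (q * r * q) * (q * (p * r * p) * q) = (p * q * p)) ∧ ((q * r * q) * p * (q * r * q) = (p *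 (q * r * q) * p)) ∧ ((q * r * q) * r * (q * r * q) = q) ∧ ((q * r * q) * (p * r * p) * (q * r * q) = (p * (q * (p * r * p) * q) * p)) ∧ ((q * r * q) * q * (q * r * q) = r) ∧ ((q * r * q) * (p * (q * r * q) * p) * (q * r * q) = p) ∧ ((q * r * q) * (p * (q * (p * r * p) * q) * p) * (q * r * q) = (p * r * p)) ∧ ((q * r * q) * (p * q * p) * (q * r * q) = (q * (p * r * p) * q)) ∧ ((q * r * q) * (q * (p * r * p) * q) * (q * r * q) = (p * q * p)) ∧ (p ≠ r) ∧ (p ≠ (p * r * p)) ∧ (p ≠ q) ∧ (p ≠ (p * (q * r * q) * p)) ∧ (p ≠ (p * (q * (p * r * p) * q) * p)) ∧ (p ≠ (p * q * p)) ∧ (p ≠ (q * (p * r * p) * q)) ∧ (p ≠ (q * r * q)) ∧ (r ≠ (p * r * p)) ∧ (r ≠ q) ∧ (r ≠ (p * (q * r * q) * p)) ∧ (r ≠ (p * (q * (p * r * p) * q) * p)) ∧ (r ≠ (p * q * p)) ∧ (r ≠ (q * (p * r * p) * q)) ∧ (r ≠ (q * r * q)) ∧ ((p * r * p) ≠ q) ∧ ((p * r * p) ≠ (p * (q * r * q) * p)) ∧ ((p * r * p) ≠ (p * (q * (p * r * p) * q) * p)) ∧ ((p * r * p) ≠ (p * q * p)) ∧ ((p * r * p) ≠ (q * (p * r * p) * q)) ∧ ((p * r * p) ≠ (q * r * q)) ∧ (q ≠ (p * (q * r * q) * p)) ∧ (q ≠ (p * (q * (p * r * p) * q) * p))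 ∧ (q ≠ (p * q * p)) ∧ (q ≠ (q * (p * r * p) * q)) ∧ (q ≠ (q * r * q)) ∧ ((p * (q * r * q) * p) ≠ (p * (q * (p * r * p) * q) * p)) ∧ ((p * (q * r * q) * p) ≠ (p * q * p)) ∧ ((p * (q * r * q) * p) ≠ (q * (p * r * p) * q)) ∧ ((p * (q * r * q) * p) ≠ (q * r * q)) ∧ ((p * (q * (p * r * p) * q) * p) ≠ (p * q * p)) ∧ ((p * (q * (p * r * p) * q) * p) ≠ (q * (p * r * p) * q)) ∧ ((p * (q * (p * r * p) * q) * p) ≠ (q * r * q)) ∧ ((p * q * p) ≠ (q * (p * r * p) * q)) ∧ ((p * q * p) ≠ (q * r * q)) ∧ ((q * (p * r * p) * q) ≠ (q * r * q)) :=
  ag0_aux hS mp mq mr (hS.conj _ mp _ mq) (hS.conj _ mp _ mr) (hS.conj _ mq _ mr) (hS.conj _ mp _ (hS.conj _ mq _ mr)) (hS.conj _ mq _ (hS.conj _ mp _ mr)) (hS.conj _ mp _ (hS.conj _ mq _ (hS.conj _ mp _ mr))) rfl rfl rfl rfl rfl rfl h0 h1 h2 h3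

def agOp : Fin 9 → Fin 9 → Fin 9 :=
  ![![0, 2, 1, 6, 8, 7, 3, 5, 4], ![2, 1, 0, 8, 7, 6, 5, 4, 3], ![1, 0, 2, 7, 6, 8, 4, 3, 5], ![6, 8, 7, 3, 5, 4, 0, 2, 1], ![8, 7, 6, 5, 4, 3, 2, 1, 0], ![7, 6, 8, 4, 3, 5, 1, 0, 2], ![3, 5, 4, 0, 2, 1, 6, 8, 7], ![5, 4, 3, 2, 1, 0, 8, 7, 6], ![4, 3, 5, 1, 0, 2, 7, 6, 8]]

theorem ag {G : Type*} [Group G] {D : Set G} (hS : Setting D false) {p q r : G}
    (mp : p ∈ D) (mq : q ∈ D) (mr : r ∈ D)
    (h0 : ¬ Commute p q)
    (h1 : ¬ Commute p r)
    (h2 : ¬ Commute q r)
    (h3 : ¬ Commute q (p * r * p))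
    : ∃ g : Fin 9 → G, (∀ i, g i ∈ D) ∧ Function.Injective g ∧ (∀ i j, g i * g j * g i = g (agOp i j)) ∧ g 0 = p ∧ g 3 = q ∧ g 1 = r := by
  obtain ⟨g0, g1, g2, g3, g4, g5, g6, g7, g8, g9, g10, g11, g12, g13, g14, g15, g16, g17, g18, g19, g20, g21, g22, g23, g24, g25, g26, g27, g28, g29, g30, g31, g32, g33, g34, g35, g36, g37, g38, g39, g40, g41, g42, g43, g44, g45, g46, g47, g48, g49, g50, g51, g52, g53, g54, g55, g56, g57, g58, g59, g60, g61, g62, g63, g64, g65, g66, g67, g68, g69, g70, g71, g72, g73, g74, g75, g76, g77, g78, g79, g80, g81, g82, g83, g84, g85, g86, g87, g88, g89, g90, g91, g92, g93, g94, g95, g96, g97, g98, g99, g100, g101, g102, g103, g104, g105, g106, g107⟩ := ag0 hS mp mq mr h0 h1 h2 h3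
  have hsq : ∀ x ∈ D, x * x * x = x := fun x hx => by rw [hS.sq x hx, one_mul]
  refine ⟨![p, r, (p * r * p), q, (p * (q * r * q) * p), (p * (q * (p * r * p) * q) * p), (p * q * p), (q * (p * r * p) * q), (q * r * q)], fun i => ?_, fun i j h => ?_, fun i j => ?_, rfl, rfl, rfl⟩
  · fin_cases i
    exacts [mp, mr, (hS.conj _ mp _ mr), mq, (hS.conj _ mp _ (hS.conj _ mq _ mr)), (hS.conj _ mp _ (hS.conj _ mq _ (hS.conj _ mp _ mr))), (hS.conj _ mp _ mq), (hS.conj _ mq _ (hS.conj _ mp _ mr)), (hS.conj _ mq _ mr)]
  · fin_cases i <;> fin_cases j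
    exacts [rfl, (g72 h).elim, (g73 h).elim, (g74 h).elim, (g75 h).elim, (g76 h).elim, (g77 h).elim, (g78 h).elim, (g79 h).elim, (g72 h.symm).elim, rfl, (g80 h).elim, (g81 h).elim, (g82 h).elim, (g83 h).elim, (g84 h).elim, (g85 h).elim, (g86 h).elim, (g73 h.symm).elim, (g80 h.symm).elim, rfl, (g87 h).elim, (g88 h).elim, (g89 h).elim, (g90 h).elim, (g91 h).elim, (g92 h).elim, (g74 h.symm).elim, (g81 h.symm).elim, (g87 h.symm).elim, rfl, (g93 h).elim, (g94 h).elim, (g95 h).elim, (g96 h).elim, (g97 h).elim, (g75 h.symm).elim, (g82 h.symm).elim, (g88 h.symm).elim, (g93 h.symm).elim, rfl, (g98 h).elim, (g99 h).elim, (g100 h).elim, (g101 h).elim, (g76 h.symm).elim, (g83 h.symm).elim, (g89 h.symm).elim, (g94 h.symm).elim, (g98 h.symm).elim, rfl, (g102 h).elim, (g103 h).elim, (g104 h).elim, (g77 h.symm).elim, (g84 h.symm).elim, (g90 h.symm).elim, (g95 h.symm).elim, (g99 h.symm).elim, (g102 h.symm).elim, rfl, (g105 h).elim, (g106 h).elim, (g78 h.symm).elim, (g85 h.symm).elim, (g91 h.symm).elim, (g96 h.symm).elim, (g100 h.symm).elim, (g103 h.symm).elim, (g105 h.symm).elim,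 rfl, (g107 h).elim, (g79 h.symm).elim, (g86 h.symm).elim, (g92 h.symm).elim, (g97 h.symm).elim, (g101 h.symm).elim, (g104 h.symm).elim, (g106 h.symm).elim, (g107 h.symm).elim, rfl]
  · fin_cases i <;> fin_cases j
    exacts [hsq _ mp, g0, g1, g2, g3, g4, g5, g6, g7, g8, hsq _ mr, g9, g10, g11, g12, g13, g14, g15, g16, g17, hsq _ (hS.conj _ mp _ mr), g18, g19, g20, g21, g22, g23, g24, g25, g26, hsq _ mq, g27, g28, g29, g30, g31, g32, g33, g34, g35, hsq _ (hS.conj _ mp _ (hS.conj _ mq _ mr)), g36, g37, g38, g39, g40, g41, g42, g43, g44, hsq _ (hS.conj _ mp _ (hS.conj _ mq _ (hS.conj _ mp _ mr))), g45, g46, g47, g48, g49, g50, g51, g52, g53, hsq _ (hS.conj _ mp _ mq), g54, g55, g56, g57, g58, g59, g60, g61, g62, hsq _ (hS.conj _ mq _ (hS.conj _ mp _ mr)), g63, g64, g65, g66, g67, g68, g69, g70, g71, hsq _ (hS.conj _ mq _ mr)]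

def da0F_0 : ℕ := 0x10002300000001000030000000200003000000010002b000000020002b000000000002b000000010001b000000020001b000000000001b000000028001b000000010000b000000020000b000000000000b000000028000b000000018000b000000020001100020000000110001800280011000280018001100008000800110000000100021000100000002100008002800210001800180021000280008002100020001000010001000200001000280028000100008001800010001800080001000180010002900008002000290000000000029000100018002900020000800290002800100019000200020001900008000000190001000280019000000008001900010001000090002800200009000180000000900020002800090000000180009000000010002300000001000030000000200003000000010002b000000020002b000000000002b000000010001b000000020001b000000000001b000000028001b000000010000b000000020000b000000000000b000000028000b000000018000b0000000200011000200000001100018002800110002800180011000080008001100000001000210001000000021000080028002100018001800210002800080021000200010000100010002000010002800280001000080018000100018000800010001800100029000080020002900000000000290001000180029000200008002900028001000190002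000200019000080000001900010002800190000000080019000100010000900028002000090001800000009000200028000900000001800090000000180003000000018000400000002800230002800100018000000028000300028002000080000000280013000000028000b0000000200013000000028000c000000020000b00028002800010002000200019000000020000c000000020001b000200010000000028001000190001800000008000000028001b000000028001c00000002000030000000180013000000008001b000000010001c00000002000040000000000013000000008001c0000000080003000000010000b000100010000900000001000040000000080004000280020000900020001000010001800000009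
def da0F (n : ℕ) : ℕ := Nat.land (Nat.shiftRight da0F_0 (Nat.mul 52 n)) 4503599627370495
def da0J_0 : ℕ := 0x278a0000000000000000000000270a0000000000000000000000268a0000000000000000000000260a0000000000000000000000258a0000000000000000000000250a0000000000000000000000248a0000000000000000000000240a0000000000000000000000238a0000000000000000000000230a0000000000000000000000228a0000000000000000000000220a0000000000000000000000218a0000000000000000000000210a0000000000000000000000208a0000000000000000000000200600000000000000000000001f8600000000000000000000001f0600000000000000000000001e8600000000000000000000001e0600000000000000000000001d8600000000000000000000001d0600000000000000000000001c8600000000000000000000001c0600000000000000000000001b8600000000000000000000001b0600000000000000000000001a8600000000000000000000001a060000000000000000000000198600000000000000000000001906000000000000000000000018860000000000000000000000180600000000000000000000001786000000000000000000000017060000000000000000000000168600000000000000000000001606000000000000000000000015860000000000000000000000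15060000000000000000000000148600000000000000000000001406000000000000000000000013860000000000000000000000130600000000000000000000001286000000000000000000000012060000000000000000000000118600000000000000000000000d0a0000000000000000000000048a0000000000000000000000070a00000000000000000000000e0a0000000000000000000000100a00000000000000000000000f0a0000000000000000000000068a00000000000000000000000a0a0000000000000000000000110a0000000000000000000000080a0000000000000000000000030a00000000000000000000000c0a0000000000000000000000038a00000000000000000000000d8a0000000000000000000000060a000000000000000000000009b6000000000000000000000009a600000000000000000000000fb600000000000000000000000fa6000000000000000000000002a6000000000000000000000009d6000000000000000000000009c600000000000000000000000eb600000000000000000000000b2600000000000000000000000ea6000000000000000000000000860000000000000000000000009600000000000000000000000b86000000000000000000000008b6000000000000000000000008a600000000000000000000000fd600000000000000000000000ed600000000000000000000000ba600000000000000000000000fc600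000000000000000000000ec60000000000000000000000090600000000000000000000000b06000000000000000000000008d600000000000000000000000916000000000000000000000008c600000000000000000000000286000000000000000000000001060000000000000000000000000600000000000000000000000116000000000000000000000000160000000000000000000000108a000000000022800000e000018100000000002e00000100000e0100000800000a0000000000098100000000000400000020000a01000000000000000015000001070000000000000000190000028b00000000000000000000000c8a0000000000000000150000028b000000000004000001e0000a8100000000000000000000000a8a000008000024000001000008b00000040000020000114000028100000000000200001160000581000000000002000011400003010000000000000000040000008700000800000a00000000000081000000000000000003000000070000000000000000000000078a000000000004000000000005010000000000000000000000050a0000000000000000080000028b0000000000000000000000040a00000000000a00000000000201000000000002000000e00002010000000000000000030000028b000000000003c00000000001810000000000000000000000018a0000000000000000000000000f0000000000000000000000000f0000000000000000000000000f0000000000000000000000000f0000000000000000000000000f0000000000000000000000000f0000000000000000000000000f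
def da0J (n : ℕ) : ℕ := Nat.land (Nat.shiftRight da0J_0 (Nat.mul 104 n)) 20282409603651670423947251286015
def da0P_0 : ℕ := 0x0
def da0P (n : ℕ) : ℕ := Nat.land (Nat.shiftRight da0P_0 (Nat.mul 32 n)) 4294967295

theorem da0_check0 : steps false 6 7 da0F da0J da0P 0 125 = true := by decide +kernel

theorem da0_all : ∀ n < 125, step false 6 7 da0F da0J da0P n = true := by
  intro n hn
  exact steps_spec 125 da0_check0 n (by omega) (by omega)

theorem da0_aux {G : Type*} [Group G] {D : Set G} (hS : Setting D false) {p q r s02 s13 s03 : G}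
    (mp : p ∈ D) (mq : q ∈ D) (mr : r ∈ D) (ms02 : s02 ∈ D) (ms13 : s13 ∈ D) (ms03 : s03 ∈ D)
    (h0 : q * p * q = s02)
    (h1 : p * r * p = s13)
    (h2 : q * s13 * q = s03)
    (h3 : ¬ Commute p q)
    (h4 : ¬ Commute p r)
    (h5 : Commute q r)
    (h6 : q ≠ r)
    : (q * s02 * q = p) ∧ (q * s03 * q = s13) ∧ (q * p * q = s02) ∧ (q * s13 * q = s03) ∧ (q * r * q = r) ∧ (s02 * q * s02 = p) ∧ (s02 * s03 * s02 = r) ∧ (s02 * p * s02 = q) ∧ (s02 * s13 * s02 = s13) ∧ (s02 * r * s02 = s03) ∧ (s03 * q * s03 = s13) ∧ (s03 * s02 * s03 = r) ∧ (s03 * p * s03 = p) ∧ (s03 * s13 * s03 = q) ∧ (s03 * r * s03 = s02) ∧ (p * q * p = s02) ∧ (p * s02 * p = q) ∧ (p * s03 * p = s03) ∧ (p * s13 * p = r) ∧ (p * r * p = s13) ∧ (s13 * q * s13 = s03) ∧ (s13 * s02 * s13 = s02) ∧ (s13 * s03 * s13 = q) ∧ (s13 * p * s13 = r) ∧ (s13 * r * s13 = p) ∧ (r * q * r = q) ∧ (r * s02 * r = s03) ∧ (r * s03 * r = s02) ∧ (r * p * r = s13) ∧ (r * s13 * r = p) ∧ (q ≠ s02) ∧ (q ≠ s03) ∧ (q ≠ p) ∧ (q ≠ s13) ∧ (q ≠ r) ∧ (s02 ≠ s03) ∧ (s02 ≠ p) ∧ (s02 ≠ s13) ∧ (s02 ≠ r) ∧ (s03 ≠ p) ∧ (s03 ≠ s13) ∧ (s03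 ≠ r) ∧ (p ≠ s13) ∧ (p ≠ r) ∧ (s13 ≠ r) := by
  let g : ℕ → G := fun n => [p, q, r, s02, s13, s03].getD n p
  have hv := val_mem hS.conj (ngen := 6) (g := g) mp
    (fun n hn => by interval_cases n <;> assumption) da0P
  have e0 : val g 6 da0P 0 = p := val_gen _ _ (by norm_num)
  have e1 : val g 6 da0P 1 = q := val_gen _ _ (by norm_num)
  have e2 : val g 6 da0P 2 = r := val_gen _ _ (by norm_num)
  have e3 : val g 6 da0P 3 = s02 := val_gen _ _ (by norm_num)
  have e4 : val g 6 da0P 4 = s13 := val_gen _ _ (by norm_num)
  have e5 : val g 6 da0P 5 = s03 := val_gen _ _ (by norm_num)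
  have hs := sound (J := da0J) (F := da0F) (nhyp := 7) hS hv (fun n hn => by
    interval_cases n
    · exact holds_T 1 0 3 (by decide +kernel) (by rw [e1, e0, e3]; exact h0)
    · exact holds_T 0 2 4 (by decide +kernel) (by rw [e0, e2, e4]; exact h1)
    · exact holds_T 1 4 5 (by decide +kernel) (by rw [e1, e4, e5]; exact h2)
    · exact holds_N 0 1 (by decide +kernel) (by rw [e0, e1]; exact h3)
    · exact holds_N 0 2 (by decide +kernel) (by rw [e0, e2]; exact h4)
    · exact holds_C hS hv 1 2 (by decide +kernel) (by rw [e1, e2]; exact h5)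
    · exact holds_NE 1 2 (by decide +kernel) (by rw [e1, e2]; exact h6)
    ) da0_all
  have g0 := of_holds_T 1 3 0 (hs 80 (by norm_num)) (by decide +kernel)
  rw [e1, e3, e0] at g0
  have g1 := of_holds_T 1 5 4 (hs 81 (by norm_num)) (by decide +kernel)
  rw [e1, e5, e4] at g1
  have g2 := of_holds_T 1 0 3 (hs 82 (by norm_num)) (by decide +kernel)
  rw [e1, e0, e3] at g2
  have g3 := of_holds_T 1 4 5 (hs 83 (by norm_num)) (by decide +kernel)
  rw [e1, e4, e5] at g3
  have g4 := of_holds_T 1 2 2 (hs 84 (by norm_num)) (by decide +kernel)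
  rw [e1, e2] at g4
  have g5 := of_holds_T 3 1 0 (hs 85 (by norm_num)) (by decide +kernel)
  rw [e3, e1, e0] at g5
  have g6 := of_holds_T 3 5 2 (hs 86 (by norm_num)) (by decide +kernel)
  rw [e3, e5, e2] at g6
  have g7 := of_holds_T 3 0 1 (hs 87 (by norm_num)) (by decide +kernel)
  rw [e3, e0, e1] at g7
  have g8 := of_holds_T 3 4 4 (hs 88 (by norm_num)) (by decide +kernel)
  rw [e3, e4] at g8
  have g9 := of_holds_T 3 2 5 (hs 89 (by norm_num)) (by decide +kernel)
  rw [e3, e2, e5] at g9
  have g10 := of_holds_T 5 1 4 (hs 90 (by norm_num)) (by decide +kernel)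
  rw [e5, e1, e4] at g10
  have g11 := of_holds_T 5 3 2 (hs 91 (by norm_num)) (by decide +kernel)
  rw [e5, e3, e2] at g11
  have g12 := of_holds_T 5 0 0 (hs 92 (by norm_num)) (by decide +kernel)
  rw [e5, e0] at g12
  have g13 := of_holds_T 5 4 1 (hs 93 (by norm_num)) (by decide +kernel)
  rw [e5, e4, e1] at g13
  have g14 := of_holds_T 5 2 3 (hs 94 (by norm_num)) (by decide +kernel)
  rw [e5, e2, e3] at g14
  have g15 := of_holds_T 0 1 3 (hs 95 (by norm_num)) (by decide +kernel)
  rw [e0, e1, e3] at g15
  have g16 := of_holds_T 0 3 1 (hs 96 (by norm_num)) (by decide +kernel)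
  rw [e0, e3, e1] at g16
  have g17 := of_holds_T 0 5 5 (hs 97 (by norm_num)) (by decide +kernel)
  rw [e0, e5] at g17
  have g18 := of_holds_T 0 4 2 (hs 98 (by norm_num)) (by decide +kernel)
  rw [e0, e4, e2] at g18
  have g19 := of_holds_T 0 2 4 (hs 99 (by norm_num)) (by decide +kernel)
  rw [e0, e2, e4] at g19
  have g20 := of_holds_T 4 1 5 (hs 100 (by norm_num)) (by decide +kernel)
  rw [e4, e1, e5] at g20
  have g21 := of_holds_T 4 3 3 (hs 101 (by norm_num)) (by decide +kernel)
  rw [e4, e3] at g21
  have g22 := of_holds_T 4 5 1 (hs 102 (by norm_num)) (by decide +kernel)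
  rw [e4, e5, e1] at g22
  have g23 := of_holds_T 4 0 2 (hs 103 (by norm_num)) (by decide +kernel)
  rw [e4, e0, e2] at g23
  have g24 := of_holds_T 4 2 0 (hs 104 (by norm_num)) (by decide +kernel)
  rw [e4, e2, e0] at g24
  have g25 := of_holds_T 2 1 1 (hs 105 (by norm_num)) (by decide +kernel)
  rw [e2, e1] at g25
  have g26 := of_holds_T 2 3 5 (hs 106 (by norm_num)) (by decide +kernel)
  rw [e2, e3, e5] at g26
  have g27 := of_holds_T 2 5 3 (hs 107 (by norm_num)) (by decide +kernel)
  rw [e2, e5, e3] at g27
  have g28 := of_holds_T 2 0 4 (hs 108 (by norm_num)) (by decide +kernel)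
  rw [e2, e0, e4] at g28
  have g29 := of_holds_T 2 4 0 (hs 109 (by norm_num)) (by decide +kernel)
  rw [e2, e4, e0] at g29
  have g30 := of_holds_NE 1 3 (hs 110 (by norm_num)) (by decide +kernel)
  rw [e1, e3] at g30
  have g31 := of_holds_NE 1 5 (hs 111 (by norm_num)) (by decide +kernel)
  rw [e1, e5] at g31
  have g32 := of_holds_NE 1 0 (hs 112 (by norm_num)) (by decide +kernel)
  rw [e1, e0] at g32
  have g33 := of_holds_NE 1 4 (hs 113 (by norm_num)) (by decide +kernel)
  rw [e1, e4] at g33
  have g34 := of_holds_NE 1 2 (hs 114 (by norm_num)) (by decide +kernel)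
  rw [e1, e2] at g34
  have g35 := of_holds_NE 3 5 (hs 115 (by norm_num)) (by decide +kernel)
  rw [e3, e5] at g35
  have g36 := of_holds_NE 3 0 (hs 116 (by norm_num)) (by decide +kernel)
  rw [e3, e0] at g36
  have g37 := of_holds_NE 3 4 (hs 117 (by norm_num)) (by decide +kernel)
  rw [e3, e4] at g37
  have g38 := of_holds_NE 3 2 (hs 118 (by norm_num)) (by decide +kernel)
  rw [e3, e2] at g38
  have g39 := of_holds_NE 5 0 (hs 119 (by norm_num)) (by decide +kernel)
  rw [e5, e0] at g39
  have g40 := of_holds_NE 5 4 (hs 120 (by norm_num)) (by decide +kernel)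
  rw [e5, e4] at g40
  have g41 := of_holds_NE 5 2 (hs 121 (by norm_num)) (by decide +kernel)
  rw [e5, e2] at g41
  have g42 := of_holds_NE 0 4 (hs 122 (by norm_num)) (by decide +kernel)
  rw [e0, e4] at g42
  have g43 := of_holds_NE 0 2 (hs 123 (by norm_num)) (by decide +kernel)
  rw [e0, e2] at g43
  have g44 := of_holds_NE 4 2 (hs 124 (by norm_num)) (by decide +kernel)
  rw [e4, e2] at g44
  exact ⟨g0, g1, g2, g3, g4, g5, g6, g7, g8, g9, g10, g11, g12, g13, g14, g15, g16, g17, g18, g19, g20, g21, g22, g23, g24, g25, g26, g27, g28, g29, g30, g31, g32, g33, g34, g35, g36, g37, g38, g39, g40, g41, g42, g43, g44⟩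

theorem da0 {G : Type*} [Group G] {D : Set G} (hS : Setting D false) {p q r : G}
    (mp : p ∈ D) (mq : q ∈ D) (mr : r ∈ D)
    (h0 : ¬ Commute p q)
    (h1 : ¬ Commute p r)
    (h2 : Commute q r)
    (h3 : q ≠ r)
    : (q * (q * p * q) * q = p) ∧ (q * (q * (p * r * p) * q) * q = (p * r * p)) ∧ (q * p * q = (q * p * q)) ∧ (q * (p * r * p) * q = (q * (p * r * p) * q)) ∧ (q * r * q = r) ∧ ((q * p * q) * q * (q * p * q) = p) ∧ ((q * p * q) * (q * (p * r * p) * q) * (q * p * q) = r) ∧ ((q * p * q) * p * (q * p * q) = q) ∧ ((q * p * q) * (p * r * p) * (q * p * q) = (p * r * p)) ∧ ((q * p * q) * r * (q * p * q) = (q * (p * r * p) * q)) ∧ ((q * (p * r * p) * q) * q * (q * (p * r * p) * q) = (p * r * p)) ∧ ((q * (p * r * p) * q) * (q * p * q) * (q * (p * r * p) * q) = r) ∧ ((q * (p * r * p) * q) * p * (q * (p * r * p) * q) = p) ∧ ((q * (p * r * p) * q) * (p * r * p) * (q * (p * r * p) * q) = q) ∧ ((q * (p * r * p) * q) * r * (q * (p * r * p) * q) = (q * p * q)) ∧ (p * q * p = (q * p * q)) ∧ (p * (q * p * q) * p = q) ∧ (p * (q * (p * r * p) * q) * p = (q * (p * r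 * p) * q)) ∧ (p * (p * r * p) * p = r) ∧ (p * r * p = (p * r * p)) ∧ ((p * r * p) * q * (p * r * p) = (q * (p * r * p) * q)) ∧ ((p * r * p) * (q * p * q) * (p * r * p) = (q * p * q)) ∧ ((p * r * p) * (q * (p * r * p) * q) * (p * r * p) = q) ∧ ((p * r * p) * p * (p * r * p) = r) ∧ ((p * r * p) * r * (p * r * p) = p) ∧ (r * q * r = q) ∧ (r * (q * p * q) * r = (q * (p * r * p) * q)) ∧ (r * (q * (p * r * p) * q) * r = (q * p * q)) ∧ (r * p * r = (p * r * p)) ∧ (r * (p * r * p) * r = p) ∧ (q ≠ (q * p * q)) ∧ (q ≠ (q * (p * r * p) * q)) ∧ (q ≠ p) ∧ (q ≠ (p * r * p)) ∧ (q ≠ r) ∧ ((q * p * q) ≠ (q * (p * r * p) * q)) ∧ ((q * p * q) ≠ p) ∧ ((q * p * q) ≠ (p * r * p)) ∧ ((q * p * q) ≠ r) ∧ ((q * (p * r * p) * q) ≠ p) ∧ ((q * (p * r * p) * q) ≠ (p * r * p)) ∧ ((q * (p * r * p) * q) ≠ r) ∧ (p ≠ (p * r * p)) ∧ (p ≠ r) ∧ ((p * r * p) ≠ r) :=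
  da0_aux hS mp mq mr (hS.conj _ mq _ mp) (hS.conj _ mp _ mr) (hS.conj _ mq _ (hS.conj _ mp _ mr)) rfl rfl rfl h0 h1 h2 h3

def daOp : Fin 6 → Fin 6 → Fin 6 :=
  ![![0, 3, 4, 1, 2, 5], ![3, 1, 5, 0, 4, 2], ![4, 5, 2, 3, 0, 1], ![1, 0, 2, 3, 5, 4], ![2, 1, 0, 5, 4, 3], ![0, 2, 1, 4, 3, 5]]

theorem da {G : Type*} [Group G] {D : Set G} (hS : Setting D false) {p q r : G}
    (mp : p ∈ D) (mq : q ∈ D) (mr : r ∈ D)
    (h0 : ¬ Commute p q)
    (h1 : ¬ Commute p r)
    (h2 : Commute q r)
    (h3 : q ≠ r)
    : ∃ g : Fin 6 → G, (∀ i, g i ∈ D) ∧ Function.Injective g ∧ (∀ i j, g i * g j * g i = g (daOp i j)) ∧ g 3 = p ∧ g 0 = q ∧ g 5 = r := by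
  obtain ⟨g0, g1, g2, g3, g4, g5, g6, g7, g8, g9, g10, g11, g12, g13, g14, g15, g16, g17, g18, g19, g20, g21, g22, g23, g24, g25, g26, g27, g28, g29, g30, g31, g32, g33, g34, g35, g36, g37, g38, g39, g40, g41, g42, g43, g44⟩ := da0 hS mp mq mr h0 h1 h2 h3
  have hsq : ∀ x ∈ D, x * x * x = x := fun x hx => by rw [hS.sq x hx, one_mul]
  refine ⟨![q, (q * p * q), (q * (p * r * p) * q), p, (p * r * p), r], fun i => ?_, fun i j h => ?_, fun i j => ?_, rfl, rfl, rfl⟩
  · fin_cases i
    exacts [mq, (hS.conj _ mq _ mp), (hS.conj _ mq _ (hS.conj _ mp _ mr)), mp, (hS.conj _ mp _ mr), mr]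
  · fin_cases i <;> fin_cases j
    exacts [rfl, (g30 h).elim, (g31 h).elim, (g32 h).elim, (g33 h).elim, (g34 h).elim, (g30 h.symm).elim, rfl, (g35 h).elim, (g36 h).elim, (g37 h).elim, (g38 h).elim, (g31 h.symm).elim, (g35 h.symm).elim, rfl, (g39 h).elim, (g40 h).elim, (g41 h).elim, (g32 h.symm).elim, (g36 h.symm).elim, (g39 h.symm).elim, rfl, (g42 h).elim, (g43 h).elim, (g33 h.symm).elim, (g37 h.symm).elim, (g40 h.symm).elim, (g42 h.symm).elim, rfl, (g44 h).elim, (g34 h.symm).elim, (g38 h.symm).elim, (g41 h.symm).elim, (g43 h.symm).elim, (g44 h.symm).elim, rfl]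
  · fin_cases i <;> fin_cases j
    exacts [hsq _ mq, g0, g1, g2, g3, g4, g5, hsq _ (hS.conj _ mq _ mp), g6, g7, g8, g9, g10, g11, hsq _ (hS.conj _ mq _ (hS.conj _ mp _ mr)), g12, g13, g14, g15, g16, g17, hsq _ mp, g18, g19, g20, g21, g22, g23, hsq _ (hS.conj _ mp _ mr), g24, g25, g26, g27, g28, g29, hsq _ mr]

end Cfsg.Agent.Fischer.PlaneLem
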