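import Cfsg.Agent.Fischer.Cov
import Cfsg.Agent.Fischer.M23Core
import Cfsg.Agent.S2091

/-!
Unitary coordinates on the neighbours of a transposition of `Fi₂₂`; the centraliser of a
transposition is the perfect double cover of `U₆(2)`.
-/

set_option autoImplicit false
set_option maxRecDepth 100000

namespace Cfsg.Agent.Fischer

open Cfsg.Agent.Comp Cfsg.Agent.Herm Module Function

namespace U6

variable {F V : Type*} [Field F] [AddCommGroup V] [Module F V] {σ : F →+* F}
  {B : V →ₛₗ[σ] V →ₗ[F] F}

/-- the projective transvections -/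
def TV [FiniteDimensional F V] (hB : HF B) : Set (SUG B ⧸ Subgroup.center (SUG B)) :=
  {y | ∃ u, Is B u ∧ tp hB u = y}

theorem uc_tp [FiniteDimensional F V] (S : Sp B) : UC B (TV S.hB) (tp S.hB) := by
  haveI := S.finite
  have hB := S.hB
  have hF := S.hF
  have h3 : 3 ≤ finrank F V := by rw [S.hn]; norm_num
  have sq : ∀ u, Is B u → tp hB u * tp hB u = 1 := fun u hu => by
    rw [tp, ← QuotientGroup.mk_mul, ts_sq hB hF hu.2]; rfl
  refine ⟨⟨⟨?_, ?_⟩, ?_⟩, fun u hu => ⟨u, hu, rfl⟩, fun _ h => h,
    fun u c hu hc => tp_smul hB hF hu.2 hc,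
    fun u v hu hv e => smul_of_ts hB hF hv.1 hu.2 hv.2 (ts_eq_of_tp hB hF h3 hu.2 hv.2 e),
    fun u v hu hv => tp_op hB hF hu.2 hv.2⟩
  · rintro _ ⟨u, hu, rfl⟩
    exact orderOf_eq_prime (by rw [pow_two, sq u hu]) (tp_ne_one hB hF h3 hu.1 hu.2)
  · rintro _ ⟨u, hu, rfl⟩ _ ⟨v, hv, rfl⟩
    have h1 := tp_op hB hF hu.2 hv.2
    by_cases h : B u v = 0
    · left
      rw [h, zero_smul, add_zero] at h1
      rw [pow_two, ← mul_assoc, h1, sq v hv]
    · right
      have h2 := tp_op hB hF hv.2 hu.2
      have e : v + B u v • u = B u v • (u + B v u • v) := by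
        rw [smul_add, smul_smul, add_comm, ← hB.symm u v, mul_comm, norm_eq_one hF hB.toInv h, one_smul]
      rw [e, tp_smul hB hF (hv.op S hu).2 h, ← h2] at h1
      calc (tp hB u * tp hB v) ^ 3 = (tp hB u * tp hB v * tp hB u) * (tp hB v * tp hB u * tp hB v) := by
            simp only [pow_succ, pow_zero, one_mul, mul_assoc]
        _ = tp hB v * (tp hB u * (tp hB v * tp hB v) * tp hB u) * tp hB v := by
            rw [h1]; simp only [mul_assoc]
        _ = 1 := by rw [sq v hv, mul_one, sq u hu, mul_one, sq v hv]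
  · rintro _ ⟨u, hu, rfl⟩ _ ⟨v, hv, rfl⟩
    exact ⟨_, hu.op S hv, (tp_op hB hF hu.2 hv.2).symm⟩

theorem Sp.simple [FiniteDimensional F V] (S : Sp B) :
    IsSimpleGroup (SUG B ⧸ Subgroup.center (SUG B)) :=
  haveI := S.finite
  S.hB.isSimpleGroup S.hF (by rw [S.hn]; norm_num) (by rw [S.hn]; norm_num)

theorem closure_TV [FiniteDimensional F V] (S : Sp B) : Subgroup.closure (TV S.hB) = ⊤ := by
  haveI := S.finite
  haveI := S.simple
  have hn : (Subgroup.closure (TV S.hB)).Normal := ⟨fun n hn g => by
    obtain ⟨g, rfl⟩ := QuotientGroup.mk_surjective g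
    induction hn using Subgroup.closure_induction with
    | mem y hy =>
      obtain ⟨u, hu, rfl⟩ := hy
      rw [tp_conj S.hB g hu.2]
      exact Subgroup.subset_closure ⟨_, ⟨fun e => hu.1 ((UG.apply_eq_zero g.1).1 e),
        by rw [mem_UG.1 g.1.2, hu.2]⟩, rfl⟩
    | one => simpa using one_mem _
    | mul a b _ _ iha ihb => simpa [mul_assoc] using mul_mem iha ihb
    | inv a _ iha => simpa [mul_assoc] using inv_mem iha⟩
  refine hn.eq_bot_or_eq_top.resolve_left fun e => ?_
  obtain ⟨y, hy⟩ := (uc_tp S).nonempty S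
  exact tt_ne_one (uc_tp S).cl.tt hy (Subgroup.mem_bot.1 (e ▸ Subgroup.subset_closure hy))

def e4 : Nat → E4 | 0 => .z | 1 => .o | 2 => .w | _ => .v
def num : E4 → Nat | .z => 0 | .o => 1 | .w => 2 | .v => 3
def dec (c : Nat) : List E4 := [e4 (c % 4), e4 (c / 4 % 4), e4 (c / 16 % 4), e4 (c / 64 % 4),
  e4 (c / 256 % 4), e4 (c / 1024 % 4)]
def I6 : List (List E4) := [unit 0, unit 1, unit 2, unit 3, unit 4, unit 5]
def cd (x : List E4) : Nat := num (form I6 (unit 0) x) + 4 * num (form I6 (unit 1) x) +
  16 * num (form I6 (unit 2) x) + 64 * num (form I6 (unit 3) x) + 256 * num (form I6 (unit 4) x) +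
  1024 * num (form I6 (unit 5) x)
def mulOK (y x : List E4) : Bool :=
  vz (vadd y x) || vz (vadd y (vsm .w x)) || vz (vadd y (vsm .v x))
def tw : List E4 → List E4 | [] => [] | a :: x => a.mul .w :: x
/-- the basis with the first vector multiplied by `ω` -/
def ub (ω : F) (u : ℕ → V) : ℕ → V | 0 => ω • u 0 | k + 1 => u (k + 1)

section
variable {ω : F} (h : Om σ ω) {u : ℕ → V} (hu : Gram B ω u I6)
include h

theorem io_inj {a b : E4} (e : io ω a = io ω b) : a = b := by
  have : io ω (a.add b) = 0 := by rw [io_add h, e, ← two_mul, ← one_add_one_eq_two, h.two, zero_mul]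
  rw [io_eq_zero h] at this
  revert this; cases a <;> cases b <;> decide

omit h in
theorem vec_ub_succ (u : ℕ → V) (k : ℕ) (x : List E4) :
    vec ω (ub ω u) (k + 1) x = vec ω u (k + 1) x := by
  induction x generalizing k with
  | nil => rfl
  | cons a x ih => simp only [vec, ih]; rfl

theorem vec_ub (u : ℕ → V) (x : List E4) : vec ω (ub ω u) 0 x = vec ω u 0 (tw x) := by
  cases x with
  | nil => rfl
  | cons a x => simp only [vec, tw, vec_ub_succ, ub, smul_smul, io_mul h]; rfl

include hu

theorem Gram.ub : Gram B ω (ub ω u) I6 := by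
  have h2 := h.two
  have h3 := h.sq
  intro i j
  have z1 : ∀ j, (((I6.getD 0 []).getD (j + 1) .z)) = .z := fun j => by simp [I6, unit]
  have z2 : ∀ j, (((I6.getD (j + 1) []).getD 0 .z)) = .z := fun j => by
    rcases j with _ | _ | _ | _ | _ | j <;> simp [I6, unit]
  rcases i with _ | i <;> rcases j with _ | j <;> simp only [U6.ub, map_smul, b_smul_left, hu _ _,
    smul_eq_mul, z1, z2, h.cj]
  · simp only [I6, unit, List.getD_cons_zero, io]; grind
  · simp [io]
  · simp [io]

theorem cd_congr {x y : List E4} (e : vec ω u 0 x = vec ω u 0 y) : cd x = cd y := by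
  have : ∀ a, form I6 a x = form I6 a y := fun a => io_inj h (by rw [← hu.form h, ← hu.form h, e])
  simp only [cd, this]

theorem is_of_cd {x : List E4} (hx : form I6 x x = .z ∧ cd x ≠ 0) : Is B (vec ω u 0 x) :=
  ⟨fun e => hx.2 (cd_congr h hu (y := []) e), by rw [hu.form h, hx.1]; rfl⟩

omit hu in
theorem tp_mulOK [FiniteDimensional F V] (S : Sp B) {x y : List E4} (hx : Is B (vec ω u 0 x))
    (e : mulOK y x = true) : tp S.hB (vec ω u 0 y) = tp S.hB (vec ω u 0 x) := by
  haveI := S.finite
  simp only [mulOK, Bool.or_eq_true] at e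
  rcases e with (e | e) | e <;> rw [Gram.eq_of_vz S h u e]
  all_goals rw [vec_vsm h, tp_smul S.hB S.hF hx.2 (io_ne_zero h (by decide))]

end

end U6

open U6

namespace F22
open Cfsg.Agent.Comp.Fi22

def VT : Nat := 0xd0d201e55979ea5e05251cf4ca4440cf1ab5fd07d9d240348b4e34614a995dd22d3c98cd9ed5e9b99845a112f16f9310bddb34fd5f14ed90c1afd1e1cc54c93d1d90f75d81445de518dc04ef5531a5d5657c40bd5909a5fed079ff5aa5a81aada2466d6090053456a9c545215957552a1825b41289e118a1885c51fa93152a4b81b9081d66587405050d3a4b05784b09c15145351b5d7319c44b1a0de4155005d4156d032dfad4746592d48291cd2c58f4219995d793353f1374a1431d555f41fd9f59ff9f84dadc2d7d011589182d4a4dc4c35a7d0691744cdd99624f09b95fc1ca1741c01075675f6deede65c19164921cd1110ec1c1dd507e58e1924dd0641429aa9ee5aed6fd1c95d5d6d48dd14e0d790c91fb92e16e9c25dfd204235cb10e92542f46a58c512576dd5d9d0bad544679695410229799ee9e81ae5b656d509d461185fc44b4bd91d17145d97d58c9690140bf5854c74b0d4d19902c9da9931bed391c3d775f95301750709bc1959b9d31924de09099fdd759f550119b9f7d0f98d4ce414986165d6b54197bd6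7dbb5be9781dd51619dd6adc61f690d0e24d5575d2614255813a1f34c451b484d485ead9d5d093e4081e95fa5a9d49159dd41a31ab9151449a6d5593401a46dd765db995d9b598443dac4669225394ce10656ede44944021af5fbda79cc9de912933d104db54f12917a9699f2449455d88dbd560538d5a59e54016c1ffd4a1e69500a41634c94f055097e9819ad0009f90e5996d09079dc4dfe9cd43e17adb24969b559a9ad9569810b503048d18a4fe5325dd97b5999274404584b796f57f9451bfd6b9e90354d59d44d00b3197d0b521d914684c40d65795329d059113b423d12dbd00d55c10141d4154189349c296bd4e45052b10e5579e6d0415340593cdd342cdc1024546411d0247213858512156810ada5000de9dedd3642e441d779849941119e5d9099fd621ba50b9a447fdc39271240e753b11f17b9be52855f5eb980470d5fd0fddc18647117dd655b14a09ec4361f0df505ad5ed6e528dfb543957d5b942d56ddf5bbd83d5f96504e1b113c5a95c89e21ea9965801889ded60d524191514ac1ad5a55b593d48159e9724d75d31631d7dc7107de846c4084eb5dbd2b4b845b5435e7da90ed5dddd11264511abd0c4599f81f9d6d9ae914d7050f5ebdb69194171bc45413f4e999adba9b21389f21f655d0a69da5f5d294734d9d34d2391355c4975835840b7df79ef9871d845bd77d339b44371a34a595a97694544f4a848b11a10d91f4d69471ed0f31575a055e5add99dccd4c52d10a51c569d981bf98f1df9af98399f5744e79efde31095d9544d9d97f54d4a657c110113906db6d8947a5c8df99950210031a7504413db75bb9644489f449050dd1e4055e146119bdc649340a92490ed90dd219f9900cb4955a21c49c857edf118e41b19c1e50000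

def IX : Nat := 0x8de095640058a788cc00616769e400000000024c132a29ec00304b55180041d8e4dc000000000091a01896ec002faaa8d4004f48ba4c0000000002a900000001eb000000005500000001dd1f27788000810725c000a84307f4007618630c0000000000733605a91c00350a798c002ea8163c0000000000f41296f21c003182309c00a722871800000000014c000000006900000000e3000000023244d55220009b4856d800631e31900022607a2400000000027d2513e86800180a868c00300491d000000000014e5743d1c00031d718d0001668f6e40000000000c80000000130000000017b000000001c670a98d80000000000aa0000000275000000019a2300913400000000010400000002390000000164a0a991d40000000000ac000000005b00000002929b98a01400428cc324009684b888005464e5480000000001569b13f0e00067e7c18c006e879a0c0000000001c471d338640017e3e794003b4488200000000001ce605b73c4007bd7ea44001601524000000000004e000000003a000000017d00000000cb878418480075d412040033cb135c00aa14a26000000000022f0c9c1654003880a2c8004b57fac400000000002683eb23c800018681e80054123640000000000129000000027f0000000173000000009b0bceb79000470a3248005215c0e40079a9d37800000000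01ff4d033418006b59455c0036da68600000000001ed0a40d3a40050c3b52c00598e7acc0000000000010000000257000000025000000001746a4029340000000001d9000000020d00000002a4342150dc00000000006e000000012000000001a1945192cc0000000000a2000000001300000000173e9cb99c0020ce8800003541b6f40070c0fac000000000000c338787e4006c0e50f800915ec2f40000000000b986e9b2b8006b2215b4007a9c0a1800000000025f9741f23c009d1ab4d4005e8bc6a000000000020c000000001e0000000095000000022a82e60348007848025c00609e2600002182b5a40000000002494b8a68c4008194073000a5e521c400000000013b3152f1b4005d420890007ec650d400000000028a000000009a000000005d000000006156a69a20007a5aa27800108da8f400595ca2840000000001d56bddb80c0043160140004aa954740000000001157c8407b800695d349c009c12b680000000000210000000011f000000007d00000001263d9c262c0000000002a3000000014200000001010587728000000000015400000000cd00000002a727cb703800000000022300000002940000000201399242380057e56ad4002b65864c009cdd04680000000001250000000057000000013800000002ae4b266aac000000000246000000002a00000001b313e2d5dc0000000000fd00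000002a5000000014577c5485000a1caf11c000d2655b80061d61a340000000002ac000000003100000000d1000000000b73db17d800000000005600000001d200000002ad5a0f887c00000000010b000000025c00000001532e0627f800118ec0a0008969a2d000a319701c0000000000660000000163000000000400000001d16360e2740000000001dc00000001b4000000001493d3969000000000022b0000000240000000026f5603f99000659d651c00809f1020000769e66400000000011e92a43720003ba6a384006ba2c8a40000000001e824d4f8c0005f0a44340030a5e7e800000000013c6743c844002fc6785c00828bb9540000000000ff000000013100000000d6000000028456cb087400682704ac007b9f21000049da574c0000000002102856572800279e96a8008f4423680000000001d54752aa540080daf76c001410c5800000000001150000000126000000011f000000007d62cf6708006a17a2f00023e5d07c004d6746ac00000000020c2f6457b0007e4ce1e0000f9b03940000000000b9a19ea700002ba1ba6c005b5ac88400000000025f000000022a000000001e000000009534a0b980000d5fb194001b4c54bc008917508000000000028a5a4860ac0025de120000601827880000000002491c697948008c52e298007320650000000000013b0000000061000000009a00000000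5da215a9a400000000020100000002230000000294238e649000000000010100000002a30000000142280161dc0000000002a7000000015400000000cd0389f2dc0046a7374000ad55f9580064cad9600000000001256e459a3c001c15d0f4008d0c75c40000000000c8a248981c006da6d214001918c78c00000000027d1d0c012400868944f80068c602a000000000014e000000001c0000000130000000017b8d99c2a400a4d3d22c006ee80624008d4beaa80000000002a99e5859d80056637824008cd629e000000000024c4dd07638009ec4ca8800518c12d400000000009100000001dd00000001eb00000000558807c9dc0071a9c8a00021c4a5bc0009cc608c00000000014c30dd8618005c2041c8007f6a10c000000000007363cbaa040091cd81680098cd429c0000000000f40000000232000000006900000000e32211355400000000029200000000ac000000005b0166e62800000000019a00000000aa00000002751348c024000000000164000000010400000002391d682a640054951938003250a3300088a5a12c000000000156acd6639c003a4290340052d430ec000000000001379e6a74002491c28c000e5485700000000001ff860db69800419340cc0055dad6500000000001ed000000017400000002570000000250935a90080024058054003c5816dc00a45ef5f800000000004ea0db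a1e4000e26c4fc0018d9f9f00000000001c4820ed12000865c74cc007945f8f80000000001ce00000000cb000000003a000000017d84a1e104006415048c003ca0fac8001e8061a0000000000129262a852800205d75040035ccf2c400000000022fac52d5fc0065432704002c8e2028000000000026000000009b000000027f00000001737902f3ac00000000001700000000a2000000001399cfa72c0000000002a400000001d9000000020d0dcd08540000000001a1000000006e00000001202ce5146400ac1c303c00800833a0006f4d506c00000000000c000000026f000000022b0000000240991580fc0000000001d1000000016300000000042758d83800000000001400000001dc00000001b46924f4e4006641da780051d9675800022027c400000000011e000000014500000000fd00000002a5851df1500000000002ae00000000570000000138aad2c9980000000001b30000000246000000002a5dc4f8b400a35875840011e872bc005b8349940000000002ac0000000153000000010b000000025c7f8b818800000000000b000000003100000000d17d9cf6c40000000002ad000000005600000001d287d683e00001e8c65c000a0463b0002d225a680000000000669560a2ec008459d0f00085cbf19c0000000000ff8a5ae8b0007224a90c00384ee9a80000000001e87e8c2978008c09353c00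4357c29000000000013c0000000284000000013100000000d68755b2c000028b2388005feb14b400705950c80000000000261a07a0180048d9054000ac8f283c0000000001292c4d733c0052898aa0005048175c00000000022f0000000173000000009b000000027f3ade40bc00651576b40069a1836c000cd064d00000000001ed0ed4b50c0039eb359800034e90a40000000000015703952000a74de7980028c924700000000001ff00000002500000000174000000025700a4d6a4008f9e517c00122083b4004ce1971c0000000001ce5fa917bc0005490160006dcf160400000000004e9f06367c001e6836e8004fc389b00000000001c4000000017d00000000cb000000003a1061287800000000012000000001a1000000006e464b3944000000000013000000001700000000a272e673e800000000020d00000002a400000001d9854373400006dbd3540003eb070c003a20020c00000000000c501cc8180094871a5c0029a314b800000000013b082245d400194357ec004bc6d31400000000028a78980608000ad692180020097784000000000249000000005d0000000061000000009a9a688568005805043000a551d4a80076e036bc00000000011574d27694004ada09c000101ee7c800000000021036a3d10800728a1594006a89e7a40000000001d5000000007d0000000126000000011f7098b3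d8008856d6b000702867a800a6cae86c00000000025f6ad359d0002f1a85e80007c8f97400000000020c3943e6c0007b0bd914001e1f93380000000000b90000000095000000022a000000001e980d282c0000000000cd00000002a700000001542dc0e27c000000000294000000020100000002234908e398000000000142000000010100000002a31dca005800961932b4007411a9cc0095ab557c00000000012529e6335000a058f2e80016a473600000000000f408c27318008a1c6a70005bc8712800000000014c0c1fda8400618c3760001c97081000000000007300000000e3000000023200000000695548844c002a1a31800012474300004fa1a25000000000014e5c63431c00a3db9164000f4705740000000000c878c646300081e8922400215b69b400000000027d000000017b000000001c00000001302a636670002d546304006393741c00a8a7b130000000000091aaa352f80022e934f400625bba000000000002a99e233588009da7961400825598dc00000000024c000000005500000001dd00000001eb9de201f000000000023900000001640000000104a6475a0800000000005b000000029200000000ac628059b8000000000275000000019a00000000aa0244d2300012e22968009395254400330c942800000000015600000001d200000002ad00000000563e21f5a000000000025c00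00000153000000010b189fe2e00000000000d1000000000b00000000316c5f673c00a68b48940065c07a30003b02811800000000006600000001b4000000001400000001dc4e5a493c000000000240000000026f000000022b0fe6456000000000000400000001d100000001638389d634007c40880800a7999074007594765800000000011e000000002a00000001b300000002468b57713c0000000002a5000000014500000000fd1521477c00000000013800000002ae000000005799aab4b0009956e0d0005868d61c002bc47a1c0000000002ac2910d5f000979fa3080053e3024c00000000013c19e172fc002ee55828000f2116740000000000ff9a8e13b8008b2296b80090dc89280000000001e800000000d6000000028400000001312c21d56c0000000001100000000261000000007b6226b8ec000000000226000000006f00000001921f967510000000000216000000009600000000a569d09a2c009526840800210d9a7c006c8c42d80000000001d40000000111000000008d00000001187699e37400000000005100000001f40000000259372af66c00000000001900000001320000000178a38e07240010c1157800908fe1d800815be3e40000000000df000000007f00000000ef000000023a2adfc170000000000198000000024400000000f000c4532800000000018300000001f300000001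2814e9894c00779cd1b000a16414380043d009c40000000001848b9e75ac003f179178003aaa08f00000000002131aa3f92000084f746c000b5214d80000000000257c06b8e000459f76fc005b117988000000000296000000016a00000001f8000000013a0bab4714000000000128000000018300000001f394c53a6000000000023a000000007f00000000ef170ab7f00000000000f00000000198000000024432803114009c50f400001b1de7340043a8590400000000018400000000a500000002160000000096a2da742400000000007b000000011000000002618ed889ac0000000001920000000226000000006f5107e59c002d9b23100040a549a000a7c843640000000001d40000000178000000001900000001327268e3800000000001180000000111000000008d375da678000000000259000000005100000001f466cdcabc003e6056f80057843044001da423f80000000000df9896c45c008e1f01ac006fd167dc0000000002968f0eaa80005ae2e79c00178fc5e40000000002134d82d484009206a8fc0046c213dc000000000025000000013a000000016a00000001f87142ead00000000001f400000002590000000051abd9b37000000000013200000001780000000019381c9a3800000000008d00000001180000000111678dd768003f876908006f8f9814000455e10c0000000000df0000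00024400000000f00000000198114ca00c0000000001f300000001280000000183a625314c0000000000ef000000023a000000007f7f05c2ac009050ea14004027143c007346c778000000000184000000006f0000000192000000022659d441f800000000009600000000a500000002164268b69c000000000261000000007b00000001109ae3b620003669f21000310b66c8009a1029500000000001d43dd1b08400485360b4008fe481a80000000000257ddbf4580045e625b0001ae387c00000000002965e45e3f000a823c3a80079d6b8b800000000021300000001f8000000013a000000016aad1c50b8000601234c0092c446d40040cf520800000000025b871bc04000270367d4009e9e04200000000001495d8e4068000b1221480089e7e4500000000001a200000000220000000099000000008a41591a4000452279f80006976390001482c4880000000001a2209033d40034c18048006d64b11000000000025b4227a780000421c6f0007d49c0d8000000000149000000008a00000000220000000099a4105644000d9f527000781089e8006f010870000000000149488520b0009f91489c003901a5d80000000001a2111b592c003d48240c00048d306000000000025b0000000099000000008a00000000226469041400000000011200000000fb00000002a66e1720900000000002a6000000011200000000fb091b85c80000000000fb00000002a600000001125c8246e0009c94d3cc003ce7253400534f39c8000000000000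

def J : List Spec := [(([], 2), 36), (([], 3), 22), (([], 4), 28), (([], 5), 84), (([], 6), 192), (([], 7), 21), (([], 8), 76), (([1, 2, 3, 7, 4, 3, 2, 1], 0), 97)]

def sch : List Nat := [1, 3, 2, 6, 5, 4, 1, 0, 3, 5, 2, 6, 1, 3, 5, 4, 2, 0, 3, 6, 1, 4, 2, 5, 3, 1, 0, 1, 5, 6]

def P5 : List Spec := [(([], 7), 21), (([], 2), 36), (([3, 4, 5, 2, 3, 4, 1, 2, 3, 7, 6, 5, 4, 3, 2, 1], 0), 203), (([3, 7, 4, 5, 3, 4, 1, 2, 3, 7, 6, 5, 4, 3, 2, 1], 0), 237), (([1, 2, 3, 7, 4, 5, 3, 4, 2, 3, 7, 6, 5, 4, 3, 2], 1), 643)]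

def P6 : List Spec := [(([], 2), 36), (([], 4), 28), (([], 7), 21), (([1, 2, 3, 7, 4, 3, 2, 1], 0), 97), (([3, 7, 4, 3], 2), 3)]

def P7 : List Spec := [(([3, 7, 4, 3], 2), 3), (([], 7), 21), (([], 4), 28), (([], 2), 36), (([5, 4, 3, 7, 6, 5, 4, 3], 2), 92), (([], 6), 192), (([1, 2, 3, 7, 4, 5, 3, 4, 2, 3, 7, 6, 5, 4, 3, 2], 1), 643)]

def O0 : List Spec := [(([8, 7, 5, 4, 3], 2), 18), (([], 4), 28), (([6, 5, 4, 3], 2), 38), (([8, 3, 4, 1, 2, 3, 7, 6, 5, 4, 3, 2, 1], 0), 69), (([8, 7, 3, 4, 1, 2, 3, 7, 5, 4, 3, 2, 1], 0), 70), (([8, 3, 7, 5, 2, 3, 4, 1, 2, 3, 7, 6, 5, 4, 3, 2, 1], 0), 268)]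

def O1 : List Spec := [(([7, 6, 5, 4], 3), 24), (([], 4), 28), (([6, 5, 4, 3], 2), 38), (([3, 7, 4, 3], 2), 3), (([3, 4, 1, 2, 3, 7, 6, 5, 4, 3, 2, 1], 0), 40), (([7, 2, 3, 4, 1, 2, 3, 7, 6, 5, 4, 3, 2, 1], 0), 80)]

def O2 : List Spec := [(([7, 8, 5, 4, 3, 7, 6, 5, 4, 3], 2), 211), (([], 4), 28), (([6, 5, 4, 3], 2), 38), (([3, 4, 2, 3, 7, 8, 1, 2, 3, 7, 6, 5, 4, 3, 2, 1], 0), 202), (([6, 5, 4, 3, 7, 8, 1, 2, 3, 7, 6, 5, 4, 3, 2, 1], 0), 236), (([6, 5, 4, 3, 7, 8, 3, 4, 5, 2, 3, 4, 1, 2, 3, 7, 6, 5, 4, 3, 2, 1], 0), 352)]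

def q0 : Spec := (([4, 3, 7, 8, 3, 4, 1, 2, 3, 7, 5, 4, 3, 2, 1], 0), 183)

def q1 : Spec := (([3, 4, 2, 3, 7, 8, 3, 4, 1, 2, 3, 7, 5, 4, 3, 2, 1], 0), 159)

def q2 : Spec := (([3], 2), 14)

def vt (i : Nat) : List E4 := dec (Nat.land (Nat.shiftRight VT (Nat.mul 12 i)) 4095)
def ix (c : Nat) : Nat := Nat.land (Nat.shiftRight IX (Nat.mul 10 c)) 1023
def I : List Nat := List.range' 1 693

theorem tab_ok : tabOK 9 3510 12 T U J sch I
    (fun j i i' => mulOK (vt i') (tv I6 (vt j) (vt i))) = true := by decide +kernel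

theorem vt_ok : ∀ i ∈ I, (form I6 (vt i) (vt i) = .z ∧ cd (vt i) ≠ 0) ∧ ix (cd (vt i)) = i ∧
    ix (cd (vsm .w (vt i))) = i ∧ ix (cd (vsm .v (vt i))) = i := by decide +kernel

theorem mem_I {i : ℕ} : i ∈ I ↔ i ∈ Set.Ico 1 (693 + 1) := by
  simp only [I, List.mem_range'_1, Set.mem_Ico]

/-- the transposition at the point `0` -/
noncomputable abbrev x0 : Cfsg.Spor.Fi22 := ev s b0

theorem loc_I : loc D x0 = tp '' {i | i ∈ I} := by
  rw [pm.loc_x]; congr 1; ext i; exact mem_I.symm

section
variable {F V : Type*} [Field F] [AddCommGroup V] [Module F V] {σ : F →+* F}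
  {B : V →ₛₗ[σ] V →ₗ[F] F} [FiniteDimensional F V] (S : Sp B) {ω : F} (h : Om σ ω) {u : ℕ → V}
  (hu : Gram B ω u I6)
include S h hu

theorem fi_tv : ∃ θ, FI (loc D x0) (TV S.hB) θ ∧
    ∀ i ∈ I, θ (tp i) = U6.tp S.hB (vec ω u 0 (vt i)) := by
  haveI := S.finite
  have is : ∀ i ∈ I, Is B (vec ω u 0 (vt i)) := fun i hi => is_of_cd h hu (vt_ok i hi).1
  have uc := uc_tp S
  have sub : (fun i => U6.tp S.hB (vec ω u 0 (vt i))) '' {i | i ∈ I} ⊆ TV S.hB := by
    rintro _ ⟨i, hi, rfl⟩; exact uc.mem _ (is i hi)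
  have inj : ∀ i ∈ I, ∀ i' ∈ I, U6.tp S.hB (vec ω u 0 (vt i)) = U6.tp S.hB (vec ω u 0 (vt i')) →
      i = i' := fun i hi i' hi' e => by
    obtain ⟨c, hc⟩ := uc.inj _ _ (is i hi) (is i' hi') e
    obtain ⟨a, rfl⟩ := exists_io S.hF S.hB.toInv h c
    obtain ⟨-, a1, a2, a3⟩ := vt_ok i hi
    rw [← (vt_ok i' hi').2.1]
    cases a with
    | z => exact absurd (by simpa [io] using hc) (is i' hi').1
    | o => rw [cd_congr h hu (y := vt i) (by simpa [io] using hc), a1]
    | w => rw [cd_congr h hu (hc.trans (vec_vsm h u 0 _ _).symm), a2]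
    | v => rw [cd_congr h hu (hc.trans (vec_vsm h u 0 _ _).symm), a3]
  obtain ⟨θ, e1, e2⟩ := pm.tab (fun i => U6.tp S.hB (vec ω u 0 (vt i))) (by norm_num) J sch I _ tab_ok
    (fun j hj i hi i' _ e => by
      have := (is j hj).op S (is i hi)
      rw [uc.op _ _ (is j hj) (is i hi), ← hu.tv h] at *
      exact (tp_mulOK h S this e).symm) inj
    ⟨fun d hd => uc.cl.tt.1 d (sub hd), fun d hd e he => uc.cl.tt.2 d (sub hd) e (sub he)⟩
  refine ⟨θ, ?_, e2⟩
  rw [← Set.eq_of_subset_of_ncard_le sub ?_ (uc.ncard_le S).1, loc_I]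
  · exact e1
  · rw [← e1.ncard, ← loc_I, pm.ncard_loc_x]; exact (uc.ncard_le S).2

end

theorem memY {A : List Spec} (hA : ∀ a ∈ A, a.2 ∈ I) :
    ∀ y ∈ A.map fun a => tp a.2, y ∈ loc D x0 := fun y hy => by
  obtain ⟨a, ha, rfl⟩ := List.mem_map.1 hy
  rw [loc_I]; exact ⟨_, hA a ha, rfl⟩

theorem prod_mem {A : List Spec} (hA : ∀ a ∈ A, a.2 ∈ I) :
    (A.map fun a => tp a.2).prod ∈ Subgroup.closure (loc D x0) :=
  Subgroup.list_prod_mem _ fun y hy => Subgroup.subset_closure (memY hA y hy)

theorem x0_mem : x0 ∈ Subgroup.closure (loc D x0) := by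
  have := prod_mem (A := P5) (by decide +kernel)
  rwa [pm.prod_spec lett rfl (by norm_num) (w := b0) (by decide +kernel)] at this

theorem w5 : (P6.map fun a => tp a.2).prod = ev s (b0 ++ wpow [0, 1, 2, 3, 4, 7] 5) :=
  pm.prod_spec lett rfl (by norm_num) (by decide +kernel)

theorem closure_loc : Subgroup.closure (loc D x0) = Subgroup.centralizer {x0} := by
  apply le_antisymm
  · exact (Subgroup.closure_le _).2 fun u hu =>
      Subgroup.mem_centralizer_singleton_iff.2 hu.2.2.symm
  intro g hg
  have h1 := (stab.2 g).2 ((pm.cent g).2 (Subgroup.mem_centralizer_singleton_iff.1 hg))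
  refine genW_le.2 (fun w hw => ?_) h1
  rcases (by decide : ∀ w ∈ W0, w = b0 ∨ w = wpow [0, 1, 2, 3, 4, 7] 5 ∨
    ∃ j ∈ [2, 3, 4, 5, 6, 7, 8], w = [j]) w hw with rfl | rfl | ⟨j, hj, rfl⟩
  · exact x0_mem
  · have := prod_mem (A := P6) (by decide +kernel)
    rw [w5, ev_append] at this
    exact (mul_mem_cancel_left x0_mem).1 this
  · have : ∀ j ∈ [2, 3, 4, 5, 6, 7, 8], j < 9 ∧ lp.getD j 0 ∈ I := by decide +kernel
    rw [ev_single, lett j (this j hj).1, loc_I]
    exact Subgroup.subset_closure ⟨_, (this j hj).2, rfl⟩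

theorem card_cent : Nat.card (Subgroup.centralizer ({x0} : Set Cfsg.Spor.Fi22)) = 18393661440 := by
  have e : Subgroup.centralizer ({x0} : Set Cfsg.Spor.Fi22) = genW s W0 := by
    ext g; rw [stab.2, pm.cent, Subgroup.mem_centralizer_singleton_iff]; rfl
  have := (genW s W0).index_mul_card
  rw [stab.1, card.2.1] at this
  rw [e]; omega

/-- the centraliser of the transposition at the point `0` -/
abbrev H0 : Subgroup Cfsg.Spor.Fi22 := Subgroup.closure (loc D x0)

/-- the central involution -/
noncomputable def z0 : H0 := ⟨x0, x0_mem⟩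

theorem z0_cen (g : H0) : Commute g z0 :=
  Subtype.ext (Subgroup.mem_centralizer_singleton_iff.1 (closure_loc ▸ g.2))

theorem nohom {A A' : List Spec} {q q' : Spec} (hA : ∀ a ∈ q :: A, a.2 ∈ I)
    (hA' : ∀ a ∈ q' :: A', a.2 ∈ I) (hl : A.length = 6 ∧ A'.length = 6)
    (p : prodOK 9 3510 T U lp A [] = true) (p' : prodOK 9 3510 T U lp A' b0 = true)
    (n : ∀ a ∈ A, noC 9 3510 693 T U q a.2 = true) (n' : ∀ a ∈ A', noC 9 3510 693 T U q' a.2 = true)
    (f : H0 →* H0) (hf : ∀ z ∈ (q :: A).zip (q' :: A'), ∀ y y' : H0, y.1 = tp z.1.2 →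
      y'.1 = tp z.2.2 → f y = y' ∨ f y = y' * z0) : False := by
  have hY := pm.cl.loc x0
  have m : ∀ {i}, i ∈ I → tp i ∈ loc D x0 := fun hi => loc_I ▸ ⟨_, hi, rfl⟩
  let ι : ∀ i, i ∈ I → H0 := fun i hi => ⟨tp i, Subgroup.subset_closure (m hi)⟩
  have cube : ∀ i hi j hj, ¬ Commute (tp i) (tp j) → (ι i hi * ι j hj) ^ 3 = 1 := fun i hi j hj h =>
    Subtype.ext ((hY.tt.2 _ (m hi) _ (m hj)).resolve_left fun e => h
      (commute_of_sq (hY.sq (m hi)) (hY.sq (m hj)) e))
  have zz : z0 * z0 = 1 := Subtype.ext pm.x2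
  have zn : z0 ≠ 1 := fun e => pm.x_ne (congrArg Subtype.val e)
  have z3 : ∀ g : H0, g ^ 3 = 1 → (g * z0) ^ 3 ≠ 1 := fun g h e => zn (by
    rw [(z0_cen g).mul_pow, h, one_mul, pow_succ, pow_two, zz, one_mul] at e; exact e)
  obtain ⟨ε, hε, e0⟩ : ∃ ε : H0, (ε = 1 ∨ ε = z0) ∧ f (ι _ (hA q (by simp))) =
      ι _ (hA' q' (by simp)) * ε := by
    rcases hf (q, q') (by simp) (ι _ (hA q (by simp))) (ι _ (hA' q' (by simp))) rfl rfl with e | e
    exacts [⟨1, Or.inl rfl, by rw [e, mul_one]⟩, ⟨z0, Or.inr rfl, e⟩]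
  have all : ∀ z ∈ A.zip A', ∀ y y' : H0, y.1 = tp z.1.2 → y'.1 = tp z.2.2 → f y = y' * ε := by
    intro z hz y y' hy hy'
    have h1 := List.of_mem_zip hz
    have i1 := hA _ (List.mem_cons_of_mem _ h1.1)
    have i2 := hA' _ (List.mem_cons_of_mem _ h1.2)
    obtain rfl : y = ι _ i1 := Subtype.ext hy
    obtain rfl : y' = ι _ i2 := Subtype.ext hy'
    have c1 := congrArg f (cube _ (hA q (by simp)) _ i1 (pm.noC_spec _ _ (n _ h1.1)))
    have c2 := z3 _ (cube _ (hA' q' (by simp)) _ i2 (pm.noC_spec _ _ (n' _ h1.2)))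
    rw [map_pow, map_mul, map_one, e0] at c1
    rcases hf z (by simp [hz]) _ _ hy hy' with e | e <;> rcases hε with rfl | rfl <;> rw [e] at c1 ⊢
    · rw [mul_one]
    · exact absurd (by rw [← c1, mul_assoc, mul_assoc, (z0_cen _).eq]) c2
    · exact absurd (by rw [← c1, mul_one, mul_assoc]) c2
  have prod : ∀ (A A' : List Spec) (hA : ∀ a ∈ A, a.2 ∈ I) (hA' : ∀ a ∈ A', a.2 ∈ I),
      A.length = A'.length →
      (∀ z ∈ A.zip A', ∀ y y' : H0, y.1 = tp z.1.2 → y'.1 = tp z.2.2 → f y = y' * ε) →
      f ⟨_, prod_mem hA⟩ = ⟨_, prod_mem hA'⟩ * ε ^ A.length := by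
    intro A
    induction A with
    | nil =>
      rintro (_ | _) _ _ h _
      · exact (map_one f).trans (Subtype.ext (by simp))
      · simp at h
    | cons a A ih =>
      rintro (_ | ⟨a', A'⟩) hA hA' h H
      · simp at h
      have h1 := ih A' (fun b hb => hA b (List.mem_cons_of_mem _ hb))
        (fun b hb => hA' b (List.mem_cons_of_mem _ hb)) (by simpa using h)
        fun z hz => H z (by simp [hz])
      have h2 := H (a, a') (by simp) (ι _ (hA a (by simp))) (ι _ (hA' a' (by simp))) rfl rfl
      have c : ∀ g : H0, ε * g = g * ε := fun g => by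
        rcases hε with rfl | rfl
        exacts [by simp, (z0_cen g).eq.symm]
      refine (map_mul f (ι _ (hA a (by simp))) ⟨_, prod_mem fun b hb =>
        hA b (List.mem_cons_of_mem _ hb)⟩).trans ?_
      rw [h1, h2, List.length_cons, pow_succ', mul_assoc, ← mul_assoc ε, c, mul_assoc, ← mul_assoc]
      rfl
  have := prod A A' (fun b hb => hA b (List.mem_cons_of_mem _ hb))
    (fun b hb => hA' b (List.mem_cons_of_mem _ hb)) (by omega) all
  have e6 : ε ^ 6 = 1 := by
    rcases hε with rfl | rfl
    exacts [one_pow _, by rw [show 6 = 2 * 3 from rfl, pow_mul, pow_two, zz, one_pow]]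
  simp only [pm.prod_spec lett rfl (by norm_num) p, pm.prod_spec lett rfl (by norm_num) p', hl.1, e6,
    mul_one] at this
  exact zn (this.symm.trans (map_one f))

theorem perfect_H0 (hU : ∀ a ∈ loc D x0, ∀ b ∈ loc D x0, ∃ g ∈ H0, g * a * g⁻¹ = b) :
    Group.IsPerfect H0 :=
  perfect_of_odd (pm.cl.loc x0) hU (memY (A := P7) (by decide +kernel)) (by decide)
    (pm.prod_spec lett rfl (by norm_num) (w := []) (by decide +kernel))

section
variable {F V : Type*} [Field F] [AddCommGroup V] [Module F V] {σ : F →+* F}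
  {B : V →ₛₗ[σ] V →ₗ[F] F} [FiniteDimensional F V] (S : Sp B) {ω : F} (h : Om σ ω) {u : ℕ → V}
  (hu : Gram B ω u I6)
include S h hu

theorem uc_loc : ∃ p, UC B (loc D x0) p := by
  obtain ⟨θ, e, -⟩ := fi_tv S h hu
  obtain ⟨η, e', -⟩ := e.exists_symm
  exact ⟨_, (uc_tp S).fi e'⟩

theorem exists_dc : ∃ π : H0 →* SUG B ⧸ Subgroup.center (SUG B), DC π z0 ∧
    ∀ i ∈ I, ∀ y : H0, y.1 = tp i → π y = U6.tp S.hB (vec ω u 0 (vt i)) := by
  haveI := S.simple
  haveI := card.1
  obtain ⟨θ, e, e2⟩ := fi_tv S h hu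
  obtain ⟨p, hp⟩ := uc_loc S h hu
  have m : ∀ {i}, i ∈ I → tp i ∈ loc D x0 := fun hi => loc_I ▸ ⟨_, hi, rfl⟩
  have hz : Subgroup.center (SUG B ⧸ Subgroup.center (SUG B)) = ⊥ :=
    (Subgroup.Normal.eq_bot_or_eq_top inferInstance).resolve_right fun e' =>
      pm.noC_spec (([], 2), 36) 22 (by decide +kernel)
        ((e.comm (m (by decide +kernel)) (m (by decide +kernel))).1
          (Subgroup.mem_center_iff.1 (e' ▸ Subgroup.mem_top _) _))
  obtain ⟨π, a1, a2, a3⟩ := e.exists_hom (closure_TV S) hz
  have zn : z0 ≠ 1 := fun e => pm.x_ne (congrArg Subtype.val e)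
  have z1 : π z0 = 1 := (a2 _).2 fun y hy => hy.2.2
  refine ⟨π, ⟨perfect_H0 fun a ha b hb => hp.trans S ha hb, a1, fun g => ⟨fun hg => ?_, ?_⟩, zn,
    z0_cen⟩, fun i hi y hy => ?_⟩
  · have c := H2.Schur.card_eq_of_surjective a1
    rw [S.card, show Nat.card H0 = 18393661440 by rw [H0, closure_loc, card_cent]] at c
    obtain ⟨y, -, hy⟩ := (Nat.card_eq_two_iff' (1 : π.ker)).1 (by omega)
    by_contra hn
    rw [not_or] at hn
    exact hn.2 (congrArg Subtype.val ((hy ⟨g, hg⟩ fun e => hn.1 (congrArg Subtype.val e)).trans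
      (hy ⟨z0, z1⟩ fun e => zn (congrArg Subtype.val e)).symm))
  · rintro (rfl | rfl)
    exacts [map_one π, z1]
  · rw [← e2 i hi, ← a3 _ (m hi)]
    exact congrArg π (Subtype.ext hy)

end

theorem gram_std {F : Type*} [Field F] [Fintype F] (hF : Nat.card F = 2 ^ 2) (ω : F) :
    Gram (sB hF 6) ω (fun k => if h : k < 6 then Pi.single ⟨k, h⟩ 1 else 0) I6 := by
  intro i j
  by_cases hi : i < 6
  · by_cases hj : j < 6
    · simp only [dif_pos hi, dif_pos hj, stdB_single_left, map_one, one_mul, Pi.single_apply,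
        Fin.mk.injEq]
      interval_cases i <;> interval_cases j <;> rfl
    · obtain ⟨j, rfl⟩ : ∃ k, j = k + 6 := ⟨j - 6, by omega⟩
      simp only [dif_neg hj, map_zero]
      interval_cases i <;> simp [I6, unit, io]
  · obtain ⟨i, rfl⟩ : ∃ k, i = k + 6 := ⟨i - 6, by omega⟩
    simp [I6, io]

theorem sp_std {F : Type*} [Field F] [Fintype F] (hF : Nat.card F = 2 ^ 2) : Sp (sB hF 6) :=
  ⟨hf_sB hF 6, hF, by simp⟩

/-- the class of transpositions of `Fi₂₂` is locally unitary -/
theorem u22 : M22.U22 := by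
  have hF : Nat.card (GaloisField 2 2) = 2 ^ 2 := GaloisField.card 2 2 (by norm_num)
  letI := Fintype.ofFinite (GaloisField 2 2)
  obtain ⟨ω, h⟩ := exists_om hF (hf_sB hF 6).toInv
  obtain ⟨p, hp⟩ := uc_loc (sp_std hF) h (gram_std hF ω)
  refine ⟨_, _, _, _, sp_std hF, fun x hx => ?_⟩
  obtain ⟨g, rfl⟩ := pm.trans' pm.x_mem hx
  exact ⟨_, hp.fi ((pm.fi_conj g).loc pm.x_mem)⟩

theorem exists_dc' (F : Type*) [Field F] [Fintype F] (hF : Fintype.card F = 4) :
    ∃ π : H0 →* PSU 6 F 2, DC π z0 := by
  have hF' : Nat.card F = 2 ^ 2 := by rw [Nat.card_eq_fintype_card, hF]; rfl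
  obtain ⟨ω, h⟩ := exists_om hF' (hf_sB hF' 6).toInv
  obtain ⟨π, h1, -⟩ := exists_dc (sp_std hF') h (gram_std hF' ω)
  exact ⟨_, h1.comp (Orth.quotCenterEquiv (toSUG hF' 6)).symm⟩

/-- every perfect double cover of `U₆(2)` is the centraliser of a transposition in `Fi₂₂` -/
theorem cover {F : Type*} [Field F] [Fintype F] (hF : Fintype.card F = 4) {X : Type*} [Group X]
    {ξ : X →* PSU 6 F 2} {d : X} (hX : DC ξ d) : ∃ e : X ≃* H0, e d = z0 := by
  have hF' : Nat.card F = 2 ^ 2 := by rw [Nat.card_eq_fintype_card, hF]; rfl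
  have S := sp_std hF'
  obtain ⟨ω, h⟩ := exists_om hF' (hf_sB hF' 6).toInv
  obtain ⟨u, g0⟩ : ∃ u, Gram (sB hF' 6) ω u I6 := ⟨_, gram_std hF' ω⟩
  have g1 := g0.ub h
  have g2 := g1.ub h
  obtain ⟨π₀, a0, b0⟩ := exists_dc S h g0
  obtain ⟨π₁, a1, b1⟩ := exists_dc S h g1
  obtain ⟨π₂, a2, b2⟩ := exists_dc S h g2
  have key : ∀ {ζ : H0 →* SUG (sB hF' 6) ⧸ Subgroup.center _}, DC ζ z0 → ∀ a b : H0, ζ a = ζ b →
      a = b ∨ a = b * z0 := fun hζ a b e => by
    rcases (hζ.ker (b⁻¹ * a)).1 (by rw [map_mul, map_inv, e, inv_mul_cancel]) with e | e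
    exacts [Or.inl (inv_mul_eq_one.1 e).symm, Or.inr (inv_mul_eq_iff_eq_mul.1 e)]
  have c1 : ∀ z ∈ (q0 :: O0).zip (q1 :: O1), z.1.2 ∈ I ∧ z.2.2 ∈ I ∧
    mulOK (tw (vt z.1.2)) (vt z.2.2) = true := by decide +kernel
  have c2 : ∀ z ∈ (q0 :: O0).zip (q2 :: O2), z.1.2 ∈ I ∧ z.2.2 ∈ I ∧
    mulOK (tw (tw (vt z.1.2))) (vt z.2.2) = true := by decide +kernel
  have n1 := @nohom O0 O1 q0 q1 (by decide +kernel) (by decide +kernel) (by decide)
    (by decide +kernel) (by decide +kernel) (by decide +kernel) (by decide +kernel)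
  have n2 := @nohom O0 O2 q0 q2 (by decide +kernel) (by decide +kernel) (by decide)
    (by decide +kernel) (by decide +kernel) (by decide +kernel) (by decide +kernel)
  refine (hX.comp (Orth.quotCenterEquiv (toSUG hF' 6))).equiv_three a0 a1 a2
    (fun f e => n1 f fun z hz y y' hy hy' => key a0 _ _ ?_)
    (fun f e => n2 f fun z hz y y' hy hy' => key a0 _ _ ?_)
    (fun f e => n1 f fun z hz y y' hy hy' => key a1 _ _ ?_)
    (H2.Schur.has_congr (S2091.result hF) (Orth.quotCenterEquiv (toSUG hF' 6)) (MulEquiv.refl _))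
  · obtain ⟨i1, i2, i3⟩ := c1 z hz
    rw [← MonoidHom.comp_apply, e, b1 _ i1 y hy, b0 _ i2 y' hy', vec_ub h,
      tp_mulOK h S (is_of_cd h g0 (vt_ok _ i2).1) i3]
  · obtain ⟨i1, i2, i3⟩ := c2 z hz
    rw [← MonoidHom.comp_apply, e, b2 _ i1 y hy, b0 _ i2 y' hy', vec_ub h, vec_ub h,
      tp_mulOK h S (is_of_cd h g0 (vt_ok _ i2).1) i3]
  · obtain ⟨i1, i2, i3⟩ := c1 z hz
    rw [← MonoidHom.comp_apply, e, b2 _ i1 y hy, b1 _ i2 y' hy', vec_ub h,
      tp_mulOK h S (is_of_cd h g1 (vt_ok _ i2).1) i3]

end F22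

end Cfsg.Agent.Fischer
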