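import Cfsg.Agent.Fischer.UE0
import Cfsg.Agent.Fischer.UE

set_option autoImplicit false
set_option maxRecDepth 100000
set_option synthInstance.maxSize 2048
set_option Elab.async false
set_option linter.unusedSectionVars false
set_option linter.unusedVariables false

namespace Cfsg.Agent.FiC.U62
open Cfsg.Agent.Comp Cfsg.Agent.FiC

variable {G : Type*} [Group G] [Finite G] {D : Set G} {τ s : ℕ → G}

open scoped commutatorElement

noncomputable def aW : List (List Nat) := [[nat_lit 58], [nat_lit 60], [nat_lit 62], [nat_lit 64], [nat_lit 66], [nat_lit 68]]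

noncomputable def BW : List (List Nat) := [[nat_lit 58], [nat_lit 60], [nat_lit 62], [nat_lit 64], [nat_lit 66], [nat_lit 68], [nat_lit 70]]

noncomputable def LW : List (List Nat) := [[nat_lit 58], [nat_lit 60], [nat_lit 62], [nat_lit 64], [nat_lit 66], [nat_lit 68], [nat_lit 70], [nat_lit 74]]

noncomputable def JW : List (List Nat) := [[nat_lit 62], [nat_lit 64], [nat_lit 66], [nat_lit 68]]

theorem aPC (b : Base D τ s e2 9196830720) : PC s 3 aW :=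
  Cx.pcs b.x _ _ [[[]], [[nat_lit 3, nat_lit 7], [nat_lit 6]], [[nat_lit 0, nat_lit 4], [nat_lit 0, nat_lit 3], []], [[nat_lit 2], [nat_lit 2], [], []], [[], [nat_lit 1], [], [], []], [[], [], [], [], [], []]] (by decide +kernel)

theorem uage1 (b : Base D τ s e2 9196830720) : GE s [[nat_lit 46, nat_lit 42, nat_lit 36, nat_lit 38, nat_lit 47, nat_lit 1, nat_lit 11, nat_lit 42, nat_lit 57, nat_lit 81]] 3 :=
  GE.step b.x (GE.base []) _ [] (nat_lit 0) [nat_lit 0, nat_lit 0] (nat_lit 3) 3 (by decide +kernel)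

theorem uage2 (b : Base D τ s e2 9196830720) : GE s [[nat_lit 58], [nat_lit 60], [nat_lit 62], [nat_lit 64], [nat_lit 66], [nat_lit 68]] 729 :=
  GE.step b.x (uage1 b) _ [([nat_lit 46, nat_lit 42, nat_lit 36, nat_lit 38, nat_lit 47, nat_lit 1, nat_lit 11, nat_lit 42, nat_lit 57, nat_lit 81], [nat_lit 9, nat_lit 10, nat_lit 4])] (nat_lit 1) [nat_lit 0, nat_lit 1, nat_lit 2, nat_lit 4, nat_lit 5, nat_lit 1, nat_lit 0, nat_lit 3, nat_lit 4, nat_lit 0, nat_lit 0] (nat_lit 243) 729 (by decide +kernel)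

theorem aGE (b : Base D τ s e2 9196830720) : GE s aW (3 ^ aW.length) :=
  (uage2 b)

theorem aFr (b : Base D τ s e2 9196830720) : ⁅genW (sv s) aW, genW (sv s) aW⁆ = genW (sv s) (List.drop 3 aW) :=
  (b.x.frat Nat.prime_three ((aPC b).pgrp three_pos) ((aPC b).nz 0 3) [[], [nat_lit 0, nat_lit 5], [nat_lit 1, nat_lit 5], [nat_lit 5], [], [], [nat_lit 1, nat_lit 4], [], [nat_lit 1, nat_lit 2], [nat_lit 5], [nat_lit 4], [], [nat_lit 0, nat_lit 4], [nat_lit 0, nat_lit 3], [], [], [], [], [nat_lit 4], [nat_lit 4], [], [], [], [], [], [nat_lit 5], [], [], [], [], [], [], [], [], [], []] [[], [nat_lit 4], [], [], [], []] [[nat_lit 2, nat_lit 5], [nat_lit 0, nat_lit 2, nat_lit 5], [nat_lit 5]] [((nat_lit 2), (nat_lit 1)), ((nat_lit 1), (nat_lit 0)), ((nat_lit 3), (nat_lit 0))] (by decide +kernel) (by decide +kernel)).2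

theorem uacu3 (b : Base D τ s e2 9196830720) : CU ⊤ s [[nat_lit 56, nat_lit 50, nat_lit 0, nat_lit 51, nat_lit 57], [nat_lit 26], [nat_lit 52], [nat_lit 50], [nat_lit 0]] 1 :=
  CU.down b.x le_rfl (CU.cut (CU.cut (zcu9 (e1_down (e2_down b))) (by decide +kernel)) (by decide +kernel)) (nat_lit 15) [[nat_lit 46], [nat_lit 48]] [nat_lit 56, nat_lit 50, nat_lit 0, nat_lit 51, nat_lit 57] [nat_lit 0, nat_lit 1, nat_lit 0] (nat_lit 6) 1 (by decide +kernel)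

theorem uacu4 (b : Base D τ s e2 9196830720) : CU ⊤ s [[nat_lit 72], [nat_lit 6], [nat_lit 10, nat_lit 50, nat_lit 11], [nat_lit 31, nat_lit 72, nat_lit 30], [nat_lit 60, nat_lit 50, nat_lit 61]] 1 :=
  CU.mono b.x le_rfl (uacu3 b) [[nat_lit 72], [nat_lit 6], [nat_lit 10, nat_lit 50, nat_lit 11], [nat_lit 31, nat_lit 72, nat_lit 30], [nat_lit 60, nat_lit 50, nat_lit 61]] [nat_lit 0, nat_lit 72, nat_lit 16, nat_lit 32, nat_lit 37, nat_lit 26, nat_lit 37, nat_lit 42, nat_lit 48] [[nat_lit 6], [nat_lit 8], [nat_lit 2], [nat_lit 4], [nat_lit 0]] (by decide +kernel)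

theorem uacu5 (b : Base D τ s e2 9196830720) : CU ⊤ s [[nat_lit 31, nat_lit 72, nat_lit 30], [nat_lit 60, nat_lit 50, nat_lit 61], [nat_lit 64], [nat_lit 66], [nat_lit 68]] 1 :=
  CU.clo b.x [[nat_lit 31, nat_lit 72, nat_lit 30], [nat_lit 60, nat_lit 50, nat_lit 61], [nat_lit 64], [nat_lit 66], [nat_lit 68]] [[nat_lit 72], [nat_lit 6], [nat_lit 10, nat_lit 50, nat_lit 11]] (CU.sub (uacu4 b) _ (by decide +kernel)) [nat_lit 0, nat_lit 1] [[nat_lit 0], [nat_lit 2], [nat_lit 4], [nat_lit 6], [nat_lit 8]] [nat_lit 4, nat_lit 3, nat_lit 4, nat_lit 3, nat_lit 0, nat_lit 2, nat_lit 2, nat_lit 1, nat_lit 3, nat_lit 3, nat_lit 4] (by decide +kernel)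

theorem uacu6 (b : Base D τ s e2 9196830720) : CU ⊤ s [[nat_lit 60, nat_lit 50, nat_lit 61], [nat_lit 64], [nat_lit 66], [nat_lit 68]] 3 :=
  CU.up b.x le_rfl b.ns (uacu5 b) (nat_lit 1) [] (SE.and (SE.fx [nat_lit 4]) (SE.fx [nat_lit 2, nat_lit 6])) [] (nat_lit 3) 3 NCs.nil (by decide +kernel)

theorem uacu7 (b : Base D τ s e2 9196830720) : CU ⊤ s [[nat_lit 64], [nat_lit 66], [nat_lit 68]] 81 :=
  CU.up b.x le_rfl b.ns (uacu6 b) (nat_lit 0) [] (SE.diff (SE.diff (SE.diff (SE.diff (SE.fx [nat_lit 0]) (SE.fx [nat_lit 4])) (SE.fx [nat_lit 2])) (SE.fx [nat_lit 2, nat_lit 4])) (SE.fx [nat_lit 2, nat_lit 5])) [] (nat_lit 27) 81 NCs.nil (by decide +kernel)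

theorem uage8 (b : Base D τ s e2 9196830720) : GE s [[nat_lit 62], [nat_lit 64], [nat_lit 66], [nat_lit 68]] 81 :=
  GE.step b.x (GE.base []) _ [] (nat_lit 4) [nat_lit 0, nat_lit 1, nat_lit 2, nat_lit 3, nat_lit 0, nat_lit 1, nat_lit 2, nat_lit 3] (nat_lit 81) 81 (by decide +kernel)

theorem aCJ (b : Base D τ s e2 9196830720) : Cen ⊤ s (List.drop 3 aW) = genW (sv s) JW :=
  (CU.eq b.x le_rfl (uacu7 b) (uage8 b) (nat_lit 0) (by decide +kernel)).1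

theorem uacu9 (b : Base D τ s e2 9196830720) : CU ⊤ s [[nat_lit 72, nat_lit 58, nat_lit 0, nat_lit 59, nat_lit 73], [nat_lit 26], [nat_lit 52], [nat_lit 50], [nat_lit 0]] 1 :=
  CU.down b.x le_rfl (CU.cut (CU.cut (zcu9 (e1_down (e2_down b))) (by decide +kernel)) (by decide +kernel)) (nat_lit 15) [[nat_lit 46], [nat_lit 48]] [nat_lit 72, nat_lit 58, nat_lit 0, nat_lit 59, nat_lit 73] [nat_lit 0, nat_lit 1, nat_lit 0] (nat_lit 6) 1 (by decide +kernel)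

theorem uacu10 (b : Base D τ s e2 9196830720) : CU ⊤ s [[nat_lit 72], [nat_lit 43, nat_lit 72, nat_lit 42], [nat_lit 58, nat_lit 72, nat_lit 59], [nat_lit 4, nat_lit 72, nat_lit 5], [nat_lit 41, nat_lit 24, nat_lit 40]] 1 :=
  CU.mono b.x le_rfl (uacu9 b) [[nat_lit 72], [nat_lit 43, nat_lit 72, nat_lit 42], [nat_lit 58, nat_lit 72, nat_lit 59], [nat_lit 4, nat_lit 72, nat_lit 5], [nat_lit 41, nat_lit 24, nat_lit 40]] [nat_lit 81, nat_lit 0, nat_lit 72, nat_lit 36, nat_lit 2, nat_lit 39, nat_lit 39, nat_lit 26] [[nat_lit 4], [nat_lit 6], [nat_lit 2], [nat_lit 8], [nat_lit 0]] (by decide +kernel)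

theorem uacu11 (b : Base D τ s e2 9196830720) : CU ⊤ s [[nat_lit 41, nat_lit 24, nat_lit 40], [nat_lit 58], [nat_lit 60], [nat_lit 62]] 1 :=
  CU.clo b.x [[nat_lit 41, nat_lit 24, nat_lit 40], [nat_lit 58], [nat_lit 60], [nat_lit 62]] [[nat_lit 72], [nat_lit 43, nat_lit 72, nat_lit 42], [nat_lit 58, nat_lit 72, nat_lit 59], [nat_lit 4, nat_lit 72, nat_lit 5]] (CU.sub (uacu10 b) _ (by decide +kernel)) [nat_lit 0] [[nat_lit 0], [nat_lit 2], [nat_lit 4], [nat_lit 6]] [nat_lit 1, nat_lit 2, nat_lit 3, nat_lit 2, nat_lit 1, nat_lit 2, nat_lit 0, nat_lit 2] (by decide +kernel)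

theorem uacu12 (b : Base D τ s e2 9196830720) : CU ⊤ s [[nat_lit 58], [nat_lit 60], [nat_lit 62]] 3 :=
  CU.up b.x le_rfl b.ns (uacu11 b) (nat_lit 0) [] (SE.diff (SE.fx [nat_lit 4]) (SE.fx [nat_lit 2, nat_lit 2, nat_lit 2])) [] (nat_lit 3) 3 NCs.nil (by decide +kernel)

theorem uage13 (b : Base D τ s e2 9196830720) : GE s [[nat_lit 68]] 3 :=
  GE.step b.x (GE.base []) _ [] (nat_lit 0) [nat_lit 0, nat_lit 0] (nat_lit 3) 3 (by decide +kernel)

theorem aCZ (b : Base D τ s e2 9196830720) : Cen ⊤ s aW = genW (sv s) [[nat_lit 68]] :=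
  (CU.eq b.x le_rfl (CU.sub (uacu12 b) aW (by decide +kernel)) (uage13 b) (nat_lit 0) (by decide +kernel)).1

theorem aEl (b : Base D τ s e2 9196830720) : IsElementaryAbelian 3 (genW (sv s) JW) :=
  b.x.elem _ _ (by decide +kernel)

theorem aLJ (b : Base D τ s e2 9196830720) : genW (sv s) LW ≤ Subgroup.normalizer (genW (sv s) JW : Set G) :=
  b.x.nz _ _ [[[nat_lit 0, nat_lit 2, nat_lit 6], [nat_lit 2, nat_lit 6], [nat_lit 4], [nat_lit 6]], [[nat_lit 0, nat_lit 2, nat_lit 5], [nat_lit 2, nat_lit 6], [nat_lit 4, nat_lit 7], [nat_lit 6]], [[nat_lit 0], [nat_lit 2], [nat_lit 4], [nat_lit 6]], [[nat_lit 0], [nat_lit 2], [nat_lit 4], [nat_lit 6]], [[nat_lit 0], [nat_lit 2], [nat_lit 4], [nat_lit 6]], [[nat_lit 0], [nat_lit 2], [nat_lit 4], [nat_lit 6]], [[nat_lit 1, nat_lit 3, nat_lit 7], [nat_lit 4, nat_lit 7], [nat_lit 3], [nat_lit 7]], [[nat_lit 3, nat_lit 5], [nat_lit 0, nat_lit 2,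 nat_lit 4, nat_lit 7], [nat_lit 0, nat_lit 3, nat_lit 5, nat_lit 6], [nat_lit 1, nat_lit 2, nat_lit 5]]] (by decide +kernel)

theorem aPf (b : Base D τ s e2 9196830720) : genW (sv s) LW ≤ ⁅genW (sv s) LW, genW (sv s) LW⁆ :=
  b.x.perf _ [[nat_lit 1, nat_lit 4, nat_lit 0, nat_lit 4, nat_lit 8, nat_lit 0, nat_lit 5, nat_lit 0, nat_lit 5], [nat_lit 4, nat_lit 1, nat_lit 4, nat_lit 0, nat_lit 4, nat_lit 1, nat_lit 4], [nat_lit 0, nat_lit 4, nat_lit 8, nat_lit 5, nat_lit 1, nat_lit 5, nat_lit 1, nat_lit 4, nat_lit 0], [nat_lit 0, nat_lit 0, nat_lit 5, nat_lit 8, nat_lit 1, nat_lit 1, nat_lit 5, nat_lit 0, nat_lit 4, nat_lit 1], [nat_lit 0, nat_lit 8, nat_lit 4, nat_lit 1, nat_lit 5, nat_lit 1, nat_lit 4, nat_lit 0], [nat_lit 4, nat_lit 8, nat_lit 4, nat_lit 8], [nat_lit 5, nat_lit 8, nat_lit 0, nat_lit 0, nat_lit 4, nat_lit 0, nat_lit 8, nat_lit 4], [nat_lit 0, nat_lit 0, nat_lit 8, nat_lit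 1, nat_lit 1, nat_lit 8, nat_lit 0, nat_lit 0, nat_lit 8]] [((nat_lit 7), (nat_lit 1)), ((nat_lit 5), (nat_lit 1)), ((nat_lit 6), (nat_lit 0)), ((nat_lit 5), (nat_lit 4)), ((nat_lit 7), (nat_lit 6))] (by decide +kernel)

theorem aSL (b : Base D τ s e2 9196830720) : E s [nat_lit 72] ∈ Subgroup.normalizer (genW (sv s) LW : Set G) :=
  b.x.nz _ [[nat_lit 72]] [[[nat_lit 0, nat_lit 8, nat_lit 10], [nat_lit 1, nat_lit 3, nat_lit 4, nat_lit 11], [nat_lit 4, nat_lit 9, nat_lit 11], [nat_lit 6], [nat_lit 9, nat_lit 10], [nat_lit 10], [nat_lit 13], [nat_lit 14]]] (by decide +kernel) (ev_mem_genW List.mem_cons_self)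

theorem aOr (b : Base D τ s e2 9196830720) {y : G} (hy : y ∈ genW (sv s) JW) : ∃ r ∈ [] :: [[nat_lit 68], [nat_lit 64], [nat_lit 62]], ∃ n ∈ genW (sv s) LW, n * y * n⁻¹ = E s r :=
  b.x.orb3 (aEl b) LW _ [([], (nat_lit 3)), ([], (nat_lit 2)), ([nat_lit 1, nat_lit 12], (nat_lit 2)), ([], (nat_lit 1)), ([nat_lit 14, nat_lit 0, nat_lit 3], (nat_lit 1)), ([nat_lit 12, nat_lit 2], (nat_lit 2)), ([nat_lit 0, nat_lit 12, nat_lit 12], (nat_lit 1)), ([nat_lit 0], (nat_lit 2)), ([nat_lit 0, nat_lit 14, nat_lit 3], (nat_lit 1)), ([nat_lit 0, nat_lit 13], (nat_lit 1)), ([nat_lit 12, nat_lit 14, nat_lit 1], (nat_lit 0)), ([nat_lit 14, nat_lit 0, nat_lit 2], (nat_lit 0)), ([nat_lit 1, nat_lit 12, nat_lit 14], (nat_lit 2)), ([nat_lit 0, nat_lit 2], (nat_lit 2)), ([nat_lit 14, nat_lit 1, nat_lit 2], (nat_lit 0)), ([nat_lit 13, nat_lit 14, nat_lit 1], (nat_lit 2)), ([nat_lit 12, nat_lit 14], (nat_lit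 0)), ([nat_lit 1, nat_lit 13], (nat_lit 2)), ([nat_lit 12], (nat_lit 1)), ([nat_lit 14, nat_lit 2, nat_lit 13], (nat_lit 0)), ([nat_lit 14, nat_lit 1], (nat_lit 0)), ([nat_lit 1, nat_lit 14, nat_lit 1], (nat_lit 2)), ([nat_lit 3], (nat_lit 2)), ([nat_lit 14], (nat_lit 0)), ([nat_lit 14], (nat_lit 2)), ([nat_lit 14, nat_lit 0, nat_lit 13], (nat_lit 0)), ([nat_lit 0, nat_lit 13], (nat_lit 2)), ([], (nat_lit 0)), ([nat_lit 12, nat_lit 14, nat_lit 3], (nat_lit 0)), ([nat_lit 13, nat_lit 14, nat_lit 1], (nat_lit 1)), ([nat_lit 1], (nat_lit 1)), ([nat_lit 1], (nat_lit 2)), ([nat_lit 13, nat_lit 14], (nat_lit 1)), ([nat_lit 12, nat_lit 12], (nat_lit 1)), ([nat_lit 14, nat_lit 0, nat_lit 12], (nat_lit 0)), ([nat_lit 14, nat_lit 1, nat_lit 3], (nat_lit 0)), ([nat_lit 1, nat_lit 13], (nat_lit 1)), ([nat_lit 14, nat_lit 0], (nat_lit 1)), ([nat_lit 12], (nat_lit 2)), ([nat_lit 3, nat_lit 14],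 (nat_lit 2)), ([nat_lit 12, nat_lit 14, nat_lit 0], (nat_lit 0)), ([nat_lit 0, nat_lit 14], (nat_lit 2)), ([nat_lit 13, nat_lit 14], (nat_lit 2)), ([nat_lit 14, nat_lit 1], (nat_lit 1)), ([nat_lit 12, nat_lit 14, nat_lit 0], (nat_lit 1)), ([nat_lit 0, nat_lit 12], (nat_lit 1)), ([nat_lit 14, nat_lit 2], (nat_lit 1)), ([nat_lit 0, nat_lit 12], (nat_lit 2)), ([nat_lit 12, nat_lit 14], (nat_lit 2)), ([nat_lit 12, nat_lit 14, nat_lit 2], (nat_lit 0)), ([nat_lit 2, nat_lit 12], (nat_lit 2)), ([nat_lit 14, nat_lit 0], (nat_lit 2)), ([nat_lit 0, nat_lit 13, nat_lit 14], (nat_lit 1)), ([nat_lit 0, nat_lit 14, nat_lit 1], (nat_lit 1)), ([nat_lit 12], (nat_lit 0)), ([nat_lit 14, nat_lit 1, nat_lit 3], (nat_lit 1)), ([nat_lit 14, nat_lit 3], (nat_lit 0)), ([nat_lit 0], (nat_lit 1)), ([nat_lit 14, nat_lit 2, nat_lit 12], (nat_lit 0)), ([nat_lit 14, nat_lit 0, nat_lit 3], (nat_lit 0)), ([nat_lit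 1, nat_lit 14], (nat_lit 1)), ([nat_lit 14, nat_lit 3], (nat_lit 1)), ([nat_lit 13], (nat_lit 2)), ([nat_lit 13], (nat_lit 1)), ([nat_lit 1, nat_lit 2], (nat_lit 2)), ([nat_lit 12, nat_lit 14, nat_lit 1], (nat_lit 1)), ([nat_lit 3, nat_lit 14, nat_lit 1], (nat_lit 2)), ([nat_lit 14], (nat_lit 1)), ([nat_lit 12, nat_lit 14], (nat_lit 1)), ([nat_lit 0, nat_lit 3, nat_lit 14], (nat_lit 2)), ([nat_lit 2], (nat_lit 2)), ([nat_lit 14, nat_lit 2], (nat_lit 0)), ([nat_lit 1, nat_lit 12], (nat_lit 1)), ([nat_lit 0, nat_lit 3], (nat_lit 2)), ([nat_lit 0, nat_lit 14], (nat_lit 1)), ([nat_lit 1, nat_lit 14], (nat_lit 2)), ([nat_lit 14, nat_lit 1, nat_lit 2], (nat_lit 1)), ([nat_lit 0, nat_lit 14, nat_lit 0], (nat_lit 1)), ([nat_lit 14, nat_lit 1], (nat_lit 2)), ([nat_lit 1, nat_lit 3], (nat_lit 2)), ([nat_lit 14, nat_lit 0], (nat_lit 0))] (by decide +kernel) hy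

theorem aNC (b : Base D τ s e2 9196830720) : ∀ r ∈ [] :: [[nat_lit 64], [nat_lit 62]], NC ⊤ s [[nat_lit 68]] [r] := fun r hr =>
  NC.pc b.x b.ns _ _ (SE.fx [nat_lit 0]) ((by decide +kernel : ∀ r ∈ [] :: [[nat_lit 64], [nat_lit 62]], e2.ncp [[nat_lit 68]] [r] (SE.fx [nat_lit 0]) = true) r hr)

noncomputable def NW : List (List Nat) := [[nat_lit 70], [nat_lit 76], [nat_lit 78]]

theorem uacu14 (b : Base D τ s e2 9196830720) : CU ⊤ s [[nat_lit 38, nat_lit 72, nat_lit 39], [nat_lit 52], [nat_lit 50], [nat_lit 0]] 6 :=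
  CU.down b.x le_rfl (CU.cut (CU.cut (zcu8 (e1_down (e2_down b))) (by decide +kernel)) (by decide +kernel)) (nat_lit 7) [[nat_lit 40], [nat_lit 42], [nat_lit 44], [nat_lit 46]] [nat_lit 38, nat_lit 72, nat_lit 39] [nat_lit 0, nat_lit 1, nat_lit 3, nat_lit 2, nat_lit 1, nat_lit 1, nat_lit 1] (nat_lit 32) 6 (by decide +kernel)

theorem uacu15 (b : Base D τ s e2 9196830720) : CU ⊤ s [[nat_lit 10, nat_lit 30, nat_lit 6, nat_lit 31, nat_lit 11], [nat_lit 38, nat_lit 72, nat_lit 39], [nat_lit 52], [nat_lit 50], [nat_lit 0]] 1 :=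
  CU.down b.x le_rfl (uacu14 b) (nat_lit 15) [[nat_lit 48, nat_lit 46], [nat_lit 40, nat_lit 44, nat_lit 40, nat_lit 47]] [nat_lit 10, nat_lit 30, nat_lit 6, nat_lit 31, nat_lit 11] [nat_lit 0, nat_lit 1, nat_lit 0] (nat_lit 6) 1 (by decide +kernel)

theorem uacu16 (b : Base D τ s e2 9196830720) : CU ⊤ s [[nat_lit 71, nat_lit 56, nat_lit 70], [nat_lit 32, nat_lit 24, nat_lit 33], [nat_lit 43, nat_lit 72, nat_lit 42], [nat_lit 72], [nat_lit 0]] 1 :=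
  CU.mono b.x le_rfl (uacu15 b) [[nat_lit 71, nat_lit 56, nat_lit 70], [nat_lit 32, nat_lit 24, nat_lit 33], [nat_lit 43, nat_lit 72, nat_lit 42], [nat_lit 72], [nat_lit 0]] [nat_lit 46, nat_lit 44, nat_lit 41, nat_lit 37, nat_lit 38, nat_lit 1, nat_lit 21, nat_lit 35, nat_lit 59] [[nat_lit 8], [nat_lit 4], [nat_lit 6], [nat_lit 0], [nat_lit 2]] (by decide +kernel)

theorem uacu17 (b : Base D τ s e2 9196830720) : CU ⊤ s [[nat_lit 32, nat_lit 24, nat_lit 33], [nat_lit 43, nat_lit 72, nat_lit 42], [nat_lit 72], [nat_lit 0], [nat_lit 68]] 1 :=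
  CU.clo b.x [[nat_lit 32, nat_lit 24, nat_lit 33], [nat_lit 43, nat_lit 72, nat_lit 42], [nat_lit 72], [nat_lit 0], [nat_lit 68]] [[nat_lit 71, nat_lit 56, nat_lit 70]] (CU.sub (uacu16 b) _ (by decide +kernel)) [nat_lit 0, nat_lit 1, nat_lit 2, nat_lit 3] [[nat_lit 0], [nat_lit 2], [nat_lit 4], [nat_lit 6], [nat_lit 8]] [nat_lit 3, nat_lit 4] (by decide +kernel)

theorem uacu18 (b : Base D τ s e2 9196830720) : CU ⊤ s [[nat_lit 43, nat_lit 72, nat_lit 42], [nat_lit 72], [nat_lit 0], [nat_lit 68]] 3 :=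
  CU.up b.x le_rfl b.ns (uacu17 b) (nat_lit 7) [] (SE.and (SE.diff (SE.fx [nat_lit 6]) (SE.fx [nat_lit 0])) (SE.fx [nat_lit 0, nat_lit 4, nat_lit 0])) [] (nat_lit 3) 3 NCs.nil (by decide +kernel)

theorem uacu19 (b : Base D τ s e2 9196830720) : CU ⊤ s [[nat_lit 72], [nat_lit 0], [nat_lit 68]] 18 :=
  CU.up b.x le_rfl b.ns (uacu18 b) (nat_lit 3) [] (SE.diff (SE.diff (SE.and (SE.fx [nat_lit 4]) (SE.fx [nat_lit 0])) (SE.fx [nat_lit 2])) (SE.tp (nat_lit 0))) [] (nat_lit 6) 18 NCs.nil (by decide +kernel)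

theorem uacu20 (b : Base D τ s e2 9196830720) : CU ⊤ s [[nat_lit 72], [nat_lit 0]] 25920 :=
  CU.mono b.x le_rfl (CU.cut (CU.cut (zcu7 (e1_down (e2_down b))) (by decide +kernel)) (by decide +kernel)) [[nat_lit 72], [nat_lit 0]] [nat_lit 46, nat_lit 49, nat_lit 43, nat_lit 41, nat_lit 36, nat_lit 36, nat_lit 5, nat_lit 51, nat_lit 1] [[nat_lit 2], [nat_lit 0]] (by decide +kernel)

theorem uage21 (b : Base D τ s e2 9196830720) : GE s [[nat_lit 42, nat_lit 42, nat_lit 26, nat_lit 42, nat_lit 42], [nat_lit 18, nat_lit 4, nat_lit 48, nat_lit 46]] 6 :=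
  GE.step b.x (GE.base []) _ [] (nat_lit 2) [nat_lit 1, nat_lit 0, nat_lit 1] (nat_lit 6) 6 (by decide +kernel)

theorem uage22 (b : Base D τ s e2 9196830720) : GE s [[nat_lit 18, nat_lit 8, nat_lit 43, nat_lit 44, nat_lit 26, nat_lit 42, nat_lit 48], [nat_lit 42, nat_lit 42, nat_lit 26, nat_lit 42, nat_lit 42], [nat_lit 8, nat_lit 4, nat_lit 44, nat_lit 41, nat_lit 36, nat_lit 41, nat_lit 48]] 192 :=
  GE.step b.x (uage21 b) _ [([nat_lit 18, nat_lit 4, nat_lit 48, nat_lit 46], [nat_lit 5, nat_lit 1, nat_lit 2, nat_lit 0, nat_lit 0])] (nat_lit 181) [nat_lit 0, nat_lit 2, nat_lit 0, nat_lit 1, nat_lit 2, nat_lit 0, nat_lit 0, nat_lit 1] (nat_lit 32) 192 (by decide +kernel)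

theorem uage23 (b : Base D τ s e2 9196830720) : GE s [[nat_lit 49, nat_lit 41, nat_lit 27, nat_lit 39, nat_lit 41, nat_lit 3, nat_lit 33, nat_lit 34], [nat_lit 18, nat_lit 8, nat_lit 43, nat_lit 44, nat_lit 26, nat_lit 42, nat_lit 48]] 25920 :=
  GE.step b.x (uage22 b) _ [([nat_lit 42, nat_lit 42, nat_lit 26, nat_lit 42, nat_lit 42], [nat_lit 1, nat_lit 2, nat_lit 1, nat_lit 1, nat_lit 1, nat_lit 3, nat_lit 0]), ([nat_lit 8, nat_lit 4, nat_lit 44, nat_lit 41, nat_lit 36, nat_lit 41, nat_lit 48], [nat_lit 2, nat_lit 5, nat_lit 3, nat_lit 4, nat_lit 2, nat_lit 4, nat_lit 2])] (nat_lit 1) [nat_lit 0, nat_lit 1, nat_lit 0, nat_lit 1, nat_lit 0, nat_lit 1, nat_lit 0, nat_lit 1, nat_lit 0, nat_lit 1, nat_lit 0, nat_lit 1, nat_lit 0, nat_lit 1] (nat_lit 135) 25920 (by decide +kernel)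

theorem uace24 (b : Base D τ s e2 9196830720) : Cen ⊤ s [[nat_lit 72], [nat_lit 0]] = genW (sv s) [[nat_lit 49, nat_lit 41, nat_lit 27, nat_lit 39, nat_lit 41, nat_lit 3, nat_lit 33, nat_lit 34], [nat_lit 18, nat_lit 8, nat_lit 43, nat_lit 44, nat_lit 26, nat_lit 42, nat_lit 48]] :=
  (CU.eq b.x le_rfl (uacu20 b) (uage23 b) (nat_lit 3) (by decide +kernel)).1

theorem uanc25 (b : Base D τ s e2 9196830720) : NC ⊤ s [[nat_lit 68, nat_lit 0, nat_lit 69], [nat_lit 72], [nat_lit 0]] [[nat_lit 68, nat_lit 0, nat_lit 69], [nat_lit 43, nat_lit 72, nat_lit 42], [nat_lit 0]] :=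
  NC.orb' b.x le_rfl _ _ [nat_lit 36, nat_lit 44, nat_lit 32, nat_lit 11] [[nat_lit 2], [nat_lit 4]] (nat_lit 0) [nat_lit 1, nat_lit 0, nat_lit 1, nat_lit 0, nat_lit 1, nat_lit 0, nat_lit 1, nat_lit 0, nat_lit 1, nat_lit 0, nat_lit 1, nat_lit 1] (uace24 b) (by decide +kernel)

theorem uanc26 (b : Base D τ s e2 9196830720) : NC ⊤ s [[nat_lit 72], [nat_lit 0], [nat_lit 68]] [[nat_lit 43, nat_lit 72, nat_lit 42], [nat_lit 0], [nat_lit 68]] :=
  NC.mono b.x le_rfl (uanc25 b) _ _ [] [] [[nat_lit 4, nat_lit 2, nat_lit 5], [nat_lit 0], [nat_lit 2]] (by decide +kernel)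

theorem uacu27 (b : Base D τ s e2 9196830720) : CU ⊤ s [[nat_lit 0], [nat_lit 68]] 108 :=
  CU.up b.x le_rfl b.ns (uacu19 b) (nat_lit 1) [[nat_lit 27, nat_lit 53, nat_lit 17], [nat_lit 54, nat_lit 40, nat_lit 10, nat_lit 45, nat_lit 26, nat_lit 48], [nat_lit 46, nat_lit 41, nat_lit 41, nat_lit 37, nat_lit 49, nat_lit 53]] (SE.diff (SE.fx [nat_lit 2]) (SE.fx [nat_lit 0])) [([nat_lit 43, nat_lit 72, nat_lit 42], [nat_lit 1, nat_lit 2, nat_lit 0, nat_lit 1])] (nat_lit 6) 108 (NCs.cons (uanc26 b) NCs.nil) (by decide +kernel)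

theorem uanc28 (b : Base D τ s e2 9196830720) : NC ⊤ s [[nat_lit 0], [nat_lit 68]] [[nat_lit 48], [nat_lit 68]] :=
  NC.pc b.x b.ns _ _ (SE.and (SE.fx [nat_lit 0]) (SE.pre [nat_lit 2] (SE.tp (nat_lit 0)))) (by decide +kernel)

theorem uacu29 (b : Base D τ s e2 9196830720) : CU ⊤ s [[nat_lit 68]] 46656 :=
  CU.up b.x le_rfl b.ns (uacu27 b) (nat_lit 0) [[nat_lit 58], [nat_lit 60], [nat_lit 62], [nat_lit 64], [nat_lit 66], [nat_lit 78]] (SE.diff SE.all (SE.fx [nat_lit 0])) [([nat_lit 48], [nat_lit 0, nat_lit 1, nat_lit 2, nat_lit 3, nat_lit 4, nat_lit 5, nat_lit 0, nat_lit 1, nat_lit 3, nat_lit 4])] (nat_lit 432) 46656 (NCs.cons (uanc28 b) NCs.nil) (by decide +kernel)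

theorem uage30 (b : Base D τ s e2 9196830720) : GE s [[nat_lit 65, nat_lit 59, nat_lit 12, nat_lit 4, nat_lit 40, nat_lit 39, nat_lit 44, nat_lit 44]] 2 :=
  GE.step b.x (GE.base []) _ [] (nat_lit 0) [nat_lit 0] (nat_lit 2) 2 (by decide +kernel)

theorem uage31 (b : Base D τ s e2 9196830720) : GE s [[nat_lit 78], [nat_lit 72, nat_lit 36, nat_lit 8, nat_lit 44, nat_lit 26, nat_lit 38, nat_lit 41, nat_lit 47], [nat_lit 34, nat_lit 20, nat_lit 33, nat_lit 14, nat_lit 0, nat_lit 44, nat_lit 26, nat_lit 43, nat_lit 47]] 216 :=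
  GE.step b.x (uage30 b) _ [([nat_lit 65, nat_lit 59, nat_lit 12, nat_lit 4, nat_lit 40, nat_lit 39, nat_lit 44, nat_lit 44], [nat_lit 3, nat_lit 1, nat_lit 5, nat_lit 3])] (nat_lit 2) [nat_lit 0, nat_lit 0, nat_lit 1, nat_lit 0, nat_lit 0, nat_lit 2, nat_lit 0, nat_lit 0, nat_lit 1, nat_lit 0, nat_lit 0, nat_lit 1] (nat_lit 108) 216 (by decide +kernel)

theorem uage32 (b : Base D τ s e2 9196830720) : GE s [[nat_lit 70], [nat_lit 76], [nat_lit 78]] 93312 :=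
  GE.step b.x (uage31 b) _ [([nat_lit 72, nat_lit 36, nat_lit 8, nat_lit 44, nat_lit 26, nat_lit 38, nat_lit 41, nat_lit 47], [nat_lit 3, nat_lit 1, nat_lit 4, nat_lit 1, nat_lit 4, nat_lit 2, nat_lit 1]), ([nat_lit 34, nat_lit 20, nat_lit 33, nat_lit 14, nat_lit 0, nat_lit 44, nat_lit 26, nat_lit 43, nat_lit 47], [nat_lit 4, nat_lit 2, nat_lit 6, nat_lit 5, nat_lit 2, nat_lit 4])] (nat_lit 228) [nat_lit 0, nat_lit 1, nat_lit 0, nat_lit 2, nat_lit 1, nat_lit 0, nat_lit 2, nat_lit 1, nat_lit 0, nat_lit 2, nat_lit 0, nat_lit 1, nat_lit 0, nat_lit 0] (nat_lit 432) 93312 (by decide +kernel)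

theorem aNZ (b : Base D τ s e2 9196830720) : Nat.card (Subgroup.zpowers (E s [nat_lit 68])) = 3 ∧ Subgroup.normalizer (Subgroup.zpowers (E s [nat_lit 68]) : Set G) = genW (sv s) NW ∧ Nat.card (genW (sv s) NW) = 93312 :=
  b.norm1 (uacu29 b) (uage32 b) _ (nat_lit 0) (by norm_num) [[[nat_lit 1]], [[nat_lit 0]], [[nat_lit 0]]] (by decide +kernel) (by decide +kernel)

noncomputable def R1 : List (List Nat) := [[nat_lit 76], [nat_lit 77], [nat_lit 76, nat_lit 72], [nat_lit 77, nat_lit 72], [nat_lit 70, nat_lit 76], [nat_lit 70, nat_lit 76, nat_lit 72]]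

noncomputable def R2 : List (List Nat) := [[nat_lit 78], [nat_lit 79], [nat_lit 78, nat_lit 72], [nat_lit 79, nat_lit 72], [nat_lit 70, nat_lit 78], [nat_lit 70, nat_lit 78, nat_lit 72]]

noncomputable def R3 : List (List Nat) := [[nat_lit 80], [nat_lit 81], [nat_lit 80, nat_lit 72], [nat_lit 81, nat_lit 72], [nat_lit 70, nat_lit 81], [nat_lit 70, nat_lit 81, nat_lit 72]]

noncomputable def R4 : List (List Nat) := [[nat_lit 76, nat_lit 78], [nat_lit 76, nat_lit 81], [nat_lit 77, nat_lit 79], [nat_lit 77, nat_lit 80], [nat_lit 78, nat_lit 76], [nat_lit 78, nat_lit 81], [nat_lit 79, nat_lit 77], [nat_lit 79, nat_lit 80], [nat_lit 80, nat_lit 77], [nat_lit 80, nat_lit 79], [nat_lit 81, nat_lit 76], [nat_lit 81, nat_lit 78]]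

theorem aCo (b : Base D τ s e2 9196830720) : ∀ g ∈ Subgroup.normalizer (Subgroup.zpowers (E s [nat_lit 68]) : Set G), ∃ r ∈ [] :: ([nat_lit 72] :: (R1 ++ (R2 ++ (R3 ++ R4)))), ∃ c ∈ genW (sv s) BW, g = E s r * c := fun _ hg =>
  b.x.cosets NW _ BW [[((nat_lit 0), [nat_lit 12]), ((nat_lit 1), [nat_lit 13]), ((nat_lit 6), []), ((nat_lit 3), [nat_lit 13, nat_lit 1, nat_lit 2, nat_lit 6, nat_lit 8, nat_lit 10]), ((nat_lit 7), []), ((nat_lit 5), [nat_lit 12, nat_lit 0, nat_lit 3, nat_lit 4, nat_lit 6, nat_lit 8, nat_lit 10]), ((nat_lit 2), [nat_lit 12, nat_lit 12, nat_lit 1, nat_lit 3, nat_lit 5, nat_lit 6, nat_lit 8, nat_lit 10]), ((nat_lit 4), [nat_lit 12, nat_lit 12, nat_lit 2, nat_lit 4, nat_lit 6, nat_lit 8, nat_lit 11]), ((nat_lit 12), []), ((nat_lit 9), [nat_lit 13, nat_lit 1, nat_lit 3, nat_lit 4, nat_lit 7, nat_lit 10]), ((nat_lit 13), []), ((nat_lit 11), [nat_lit 12, nat_lit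 2, nat_lit 7, nat_lit 11]), ((nat_lit 8), [nat_lit 12, nat_lit 12, nat_lit 0, nat_lit 7, nat_lit 9]), ((nat_lit 10), [nat_lit 12, nat_lit 12, nat_lit 0, nat_lit 7, nat_lit 9]), ((nat_lit 14), [nat_lit 13, nat_lit 5, nat_lit 6, nat_lit 9, nat_lit 11]), ((nat_lit 18), []), ((nat_lit 16), [nat_lit 12, nat_lit 5, nat_lit 6, nat_lit 9, nat_lit 11]), ((nat_lit 19), []), ((nat_lit 15), [nat_lit 12, nat_lit 12]), ((nat_lit 17), [nat_lit 12, nat_lit 12]), ((nat_lit 27), [nat_lit 12, nat_lit 7, nat_lit 9, nat_lit 10]), ((nat_lit 29), [nat_lit 12, nat_lit 6, nat_lit 8, nat_lit 10]), ((nat_lit 30), [nat_lit 12, nat_lit 6, nat_lit 11]), ((nat_lit 24), [nat_lit 12, nat_lit 1, nat_lit 3, nat_lit 5, nat_lit 9]), ((nat_lit 23), [nat_lit 12, nat_lit 1, nat_lit 8, nat_lit 11]), ((nat_lit 28), [nat_lit 12, nat_lit 0, nat_lit 2, nat_lit 4, nat_lit 8, nat_lit 10]), ((nat_lit 31), [nat_lit 12, nat_lit 1,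 nat_lit 2, nat_lit 4, nat_lit 9]), ((nat_lit 20), [nat_lit 12, nat_lit 9, nat_lit 11]), ((nat_lit 25), [nat_lit 12, nat_lit 0]), ((nat_lit 21), [nat_lit 12, nat_lit 1, nat_lit 9, nat_lit 11]), ((nat_lit 22), [nat_lit 12, nat_lit 1, nat_lit 3, nat_lit 5, nat_lit 6, nat_lit 9, nat_lit 11]), ((nat_lit 26), [nat_lit 12, nat_lit 9, nat_lit 11])], [((nat_lit 2), []), ((nat_lit 4), []), ((nat_lit 3), []), ((nat_lit 0), []), ((nat_lit 5), []), ((nat_lit 1), []), ((nat_lit 6), [nat_lit 4, nat_lit 7, nat_lit 11]), ((nat_lit 7), [nat_lit 4, nat_lit 7, nat_lit 9, nat_lit 10]), ((nat_lit 20), []), ((nat_lit 17), [nat_lit 12, nat_lit 12, nat_lit 1, nat_lit 3, nat_lit 10]), ((nat_lit 23), [nat_lit 0, nat_lit 5, nat_lit 7, nat_lit 9, nat_lit 11]), ((nat_lit 15), [nat_lit 12, nat_lit 12, nat_lit 2, nat_lit 5, nat_lit 8]), ((nat_lit 28), [nat_lit 13, nat_lit 0, nat_lit 2, nat_lit 9]), ((nat_lit 31),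 [nat_lit 13, nat_lit 0, nat_lit 3, nat_lit 8, nat_lit 11]), ((nat_lit 10), [nat_lit 1, nat_lit 4, nat_lit 7, nat_lit 8]), ((nat_lit 21), []), ((nat_lit 8), [nat_lit 1, nat_lit 4, nat_lit 7, nat_lit 11]), ((nat_lit 22), [nat_lit 12, nat_lit 12, nat_lit 1, nat_lit 3, nat_lit 4, nat_lit 9]), ((nat_lit 26), [nat_lit 13, nat_lit 2, nat_lit 7, nat_lit 8, nat_lit 10]), ((nat_lit 25), [nat_lit 12, nat_lit 1, nat_lit 4, nat_lit 8, nat_lit 11]), ((nat_lit 16), [nat_lit 0, nat_lit 5, nat_lit 7]), ((nat_lit 11), [nat_lit 12, nat_lit 12, nat_lit 2, nat_lit 8]), ((nat_lit 9), []), ((nat_lit 14), []), ((nat_lit 18), [nat_lit 13, nat_lit 0, nat_lit 5, nat_lit 6, nat_lit 9, nat_lit 11]), ((nat_lit 27), [nat_lit 3, nat_lit 6]), ((nat_lit 24), [nat_lit 12, nat_lit 12, nat_lit 1, nat_lit 2, nat_lit 4, nat_lit 8]), ((nat_lit 19), [nat_lit 13, nat_lit 1, nat_lit 3, nat_lit 5, nat_lit 7, nat_lit 10]), ((nat_lit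 30), [nat_lit 12, nat_lit 12, nat_lit 3, nat_lit 5, nat_lit 9, nat_lit 11]), ((nat_lit 13), [nat_lit 12, nat_lit 0, nat_lit 2, nat_lit 4, nat_lit 7, nat_lit 11]), ((nat_lit 12), [nat_lit 13, nat_lit 5, nat_lit 7, nat_lit 8, nat_lit 10]), ((nat_lit 29), [nat_lit 3, nat_lit 7, nat_lit 8])], [((nat_lit 8), []), ((nat_lit 10), []), ((nat_lit 24), []), ((nat_lit 17), [nat_lit 3, nat_lit 7]), ((nat_lit 27), [nat_lit 12, nat_lit 12, nat_lit 3, nat_lit 4, nat_lit 10]), ((nat_lit 15), [nat_lit 0, nat_lit 2, nat_lit 5, nat_lit 7, nat_lit 9, nat_lit 10]), ((nat_lit 29), [nat_lit 13, nat_lit 0, nat_lit 2, nat_lit 6, nat_lit 10]), ((nat_lit 30), [nat_lit 12, nat_lit 0, nat_lit 4, nat_lit 6, nat_lit 10]), ((nat_lit 9), []), ((nat_lit 0), []), ((nat_lit 11), []), ((nat_lit 1), []), ((nat_lit 12), [nat_lit 4, nat_lit 9, nat_lit 10]), ((nat_lit 13), [nat_lit 4, nat_lit 11]), ((nat_lit 4), [nat_lit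 12, nat_lit 12, nat_lit 3, nat_lit 7, nat_lit 8]), ((nat_lit 25), []), ((nat_lit 2), [nat_lit 12, nat_lit 12, nat_lit 0, nat_lit 2, nat_lit 5, nat_lit 7, nat_lit 8, nat_lit 11]), ((nat_lit 26), [nat_lit 2, nat_lit 6, nat_lit 11]), ((nat_lit 22), [nat_lit 13, nat_lit 2, nat_lit 7, nat_lit 8, nat_lit 10]), ((nat_lit 21), [nat_lit 13, nat_lit 0, nat_lit 2, nat_lit 5, nat_lit 7]), ((nat_lit 18), [nat_lit 13, nat_lit 0, nat_lit 5, nat_lit 6, nat_lit 9, nat_lit 11]), ((nat_lit 23), [nat_lit 3, nat_lit 6]), ((nat_lit 20), [nat_lit 12, nat_lit 12, nat_lit 1, nat_lit 2, nat_lit 4, nat_lit 8]), ((nat_lit 19), [nat_lit 12, nat_lit 7, nat_lit 8]), ((nat_lit 16), [nat_lit 12, nat_lit 12, nat_lit 0, nat_lit 2, nat_lit 8, nat_lit 10]), ((nat_lit 5), [nat_lit 1, nat_lit 3, nat_lit 4, nat_lit 6, nat_lit 10]), ((nat_lit 3), []), ((nat_lit 14), []), ((nat_lit 7), [nat_lit 13, nat_lit 0, nat_lit 11]),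 ((nat_lit 31), [nat_lit 12, nat_lit 12, nat_lit 0, nat_lit 6, nat_lit 9, nat_lit 10]), ((nat_lit 28), [nat_lit 3, nat_lit 9, nat_lit 10]), ((nat_lit 6), [nat_lit 13, nat_lit 0, nat_lit 2, nat_lit 7])]] (by decide +kernel) ((aNZ b).2.1 ▸ hg)

theorem aNN (b : Base D τ s e2 9196830720) : ∀ r ∈ R1 ++ (R2 ++ (R3 ++ R4)), E s r ∉ Subgroup.normalizer (genW (sv s) JW : Set G) :=
  b.x.not_norm (aEl b) _ [((nat_lit 0), (nat_lit 0), (nat_lit 0)), ((nat_lit 0), (nat_lit 0), (nat_lit 0)), ((nat_lit 0), (nat_lit 0), (nat_lit 0)), ((nat_lit 0), (nat_lit 0), (nat_lit 0)), ((nat_lit 0), (nat_lit 0), (nat_lit 0)), ((nat_lit 0), (nat_lit 0), (nat_lit 0)), ((nat_lit 0), (nat_lit 0), (nat_lit 0)), ((nat_lit 0), (nat_lit 0), (nat_lit 0)), ((nat_lit 0), (nat_lit 0), (nat_lit 0)), ((nat_lit 0), (nat_lit 0), (nat_lit 0)), ((nat_lit 0), (nat_lit 0), (nat_lit 0)), ((nat_lit 0), (nat_lit 0), (nat_lit 0)),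 ((nat_lit 0), (nat_lit 0), (nat_lit 0)), ((nat_lit 0), (nat_lit 0), (nat_lit 0)), ((nat_lit 0), (nat_lit 0), (nat_lit 0)), ((nat_lit 0), (nat_lit 0), (nat_lit 0)), ((nat_lit 0), (nat_lit 0), (nat_lit 0)), ((nat_lit 0), (nat_lit 0), (nat_lit 0)), ((nat_lit 0), (nat_lit 0), (nat_lit 0)), ((nat_lit 0), (nat_lit 0), (nat_lit 0)), ((nat_lit 0), (nat_lit 0), (nat_lit 0)), ((nat_lit 0), (nat_lit 0), (nat_lit 0)), ((nat_lit 0), (nat_lit 0), (nat_lit 0)), ((nat_lit 0), (nat_lit 0), (nat_lit 0)), ((nat_lit 0), (nat_lit 0), (nat_lit 0)), ((nat_lit 0), (nat_lit 0), (nat_lit 0)), ((nat_lit 0), (nat_lit 0), (nat_lit 0)), ((nat_lit 0), (nat_lit 0), (nat_lit 0)), ((nat_lit 0), (nat_lit 0), (nat_lit 0)), ((nat_lit 0), (nat_lit 0), (nat_lit 0))] (by decide +kernel)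

theorem aO (b : Base D τ s e2 9196830720) : ∀ r ∈ R4, 11 ∣ Nat.card (genW (sv s) (r :: LW)) :=
  b.x.has_ord _ _ [[nat_lit 0, nat_lit 2, nat_lit 17], [nat_lit 11, nat_lit 1, nat_lit 16], [nat_lit 7, nat_lit 16, nat_lit 1], [nat_lit 1, nat_lit 17], [nat_lit 0, nat_lit 7, nat_lit 17], [nat_lit 7, nat_lit 16, nat_lit 0], [nat_lit 2, nat_lit 16, nat_lit 1], [nat_lit 0, nat_lit 16, nat_lit 4, nat_lit 17], [nat_lit 17, nat_lit 2, nat_lit 0], [nat_lit 0, nat_lit 6, nat_lit 17], [nat_lit 16, nat_lit 1], [nat_lit 0, nat_lit 15, nat_lit 17, nat_lit 13]] (by norm_num) [nat_lit 0, nat_lit 0, nat_lit 0, nat_lit 0, nat_lit 0, nat_lit 0, nat_lit 0, nat_lit 0, nat_lit 0, nat_lit 0, nat_lit 0, nat_lit 0] (by decide +kernel)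

theorem aO12 (b : Base D τ s e2 9196830720) : 11 ∣ Nat.card (genW (sv s) ([nat_lit 78] :: (LW ++ [[nat_lit 76]]))) :=
  b.x.has_ord _ [[nat_lit 78]] [[nat_lit 18, nat_lit 7, nat_lit 16, nat_lit 0]] (by norm_num) [nat_lit 0] (by decide +kernel) _ List.mem_cons_self

theorem aO13 (b : Base D τ s e2 9196830720) : 11 ∣ Nat.card (genW (sv s) ([nat_lit 80] :: (LW ++ [[nat_lit 76]]))) :=
  b.x.has_ord _ [[nat_lit 80]] [[nat_lit 19, nat_lit 0, nat_lit 17]] (by norm_num) [nat_lit 0] (by decide +kernel) _ List.mem_cons_self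

theorem aO23 (b : Base D τ s e2 9196830720) : 11 ∣ Nat.card (genW (sv s) ([nat_lit 80] :: (LW ++ [[nat_lit 78]]))) :=
  b.x.has_ord _ [[nat_lit 80]] [[nat_lit 0, nat_lit 19, nat_lit 17, nat_lit 5]] (by norm_num) [nat_lit 0] (by decide +kernel) _ List.mem_cons_self

theorem aBL (b : Base D τ s e2 9196830720) : genW (sv s) BW ≤ genW (sv s) LW :=
  b.x.sub _ _ [] (by decide +kernel)

theorem am (b : Base D τ s e2 9196830720) : AM (genW (sv s) aW) (genW (sv s) JW) (genW (sv s) LW)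
    (E s [nat_lit 68]) (E s [nat_lit 72]) where
  cP := (aPC b).card0 three_pos (aGE b)
  nG := by rw [b.card]; norm_num
  cJ := by rw [aFr b, centralizer_genW, aCJ b]
  cZ := by rw [centralizer_genW, aCZ b, genW1]
  z3 := (aNZ b).1
  zP := ev_mem_genW (by decide +kernel)
  JP := b.x.sub _ _ [] (by decide +kernel)
  PL := b.x.sub _ _ [] (by decide +kernel)
  LJ := aLJ b
  perf := aPf b
  NJ := normJ_of (ev_mem_genW (by decide +kernel)) (aBL b) (aLJ b) (fun _ => aOr b) (aNC b) (aCo b)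
    (aNN b)
  σL := aSL b

theorem aR1 (b : Base D τ s e2 9196830720) : ∀ r ∈ R1, E s r ∈ genW (sv s) (LW ++ [[nat_lit 76]]) ⊔ Subgroup.zpowers (E s [nat_lit 72]) :=
  genW_le_iff.1 ((b.x.sub (LW ++ [[nat_lit 76]] ++ [[nat_lit 72]]) _ [] (by decide +kernel)).trans ((genW_append ..).trans (congrArg _ (genW1 ..))).le)

theorem aR2 (b : Base D τ s e2 9196830720) : ∀ r ∈ R2, E s r ∈ genW (sv s) (LW ++ [[nat_lit 78]]) ⊔ Subgroup.zpowers (E s [nat_lit 72]) :=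
  genW_le_iff.1 ((b.x.sub (LW ++ [[nat_lit 78]] ++ [[nat_lit 72]]) _ [] (by decide +kernel)).trans ((genW_append ..).trans (congrArg _ (genW1 ..))).le)

theorem aR3 (b : Base D τ s e2 9196830720) : ∀ r ∈ R3, E s r ∈ genW (sv s) (LW ++ [[nat_lit 80]]) ⊔ Subgroup.zpowers (E s [nat_lit 72]) :=
  genW_le_iff.1 ((b.x.sub (LW ++ [[nat_lit 80]] ++ [[nat_lit 72]]) _ [] (by decide +kernel)).trans ((genW_append ..).trans (congrArg _ (genW1 ..))).le)

theorem aB1 (b : Base D τ s e2 9196830720) : E s [nat_lit 76] ∈ Subgroup.normalizer (Subgroup.zpowers (E s [nat_lit 68]) : Set G) :=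
  genW1 s [nat_lit 68] ▸ b.x.nz _ [[nat_lit 76]] [[[nat_lit 0]]] (by decide +kernel) (ev_mem_genW List.mem_cons_self)

end Cfsg.Agent.FiC.U62
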