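import Cfsg.Agent.Fischer.UF0
import Cfsg.Agent.SchurG.U43.Main

set_option autoImplicit false
set_option maxRecDepth 100000
set_option synthInstance.maxSize 2048
set_option Elab.async false
set_option linter.unusedSectionVars false
set_option linter.unusedVariables false

namespace Cfsg.Agent.FiC.U62
open Cfsg.Agent.Comp Cfsg.Agent.FiC

variable {G : Type*} [Group G] [Finite G] {D : Set G} {τ s : ℕ → G}

noncomputable def k2U : List (List Nat) := [[nat_lit 41, nat_lit 36, nat_lit 42], [nat_lit 43, nat_lit 37, nat_lit 40], [nat_lit 7, nat_lit 12, nat_lit 56, nat_lit 46, nat_lit 32, nat_lit 42, nat_lit 39, nat_lit 26], [nat_lit 47, nat_lit 49, nat_lit 45, nat_lit 42, nat_lit 37, nat_lit 33, nat_lit 47, nat_lit 57, nat_lit 13], [nat_lit 12, nat_lit 56, nat_lit 12, nat_lit 41, nat_lit 26, nat_lit 40], [nat_lit 14, nat_lit 38, nat_lit 6, nat_lit 45, nat_lit 48, nat_lit 46], [nat_lit 45,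 nat_lit 20, nat_lit 41, nat_lit 14, nat_lit 0, nat_lit 44, nat_lit 37, nat_lit 40, nat_lit 48, nat_lit 46], [nat_lit 79, nat_lit 24, nat_lit 37, nat_lit 2, nat_lit 45, nat_lit 42, nat_lit 36, nat_lit 40, nat_lit 40], [nat_lit 41, nat_lit 41, nat_lit 37, nat_lit 43, nat_lit 44, nat_lit 3, nat_lit 36, nat_lit 25, nat_lit 78], [nat_lit 61, nat_lit 66, nat_lit 20, nat_lit 32, nat_lit 42, nat_lit 38, nat_lit 43, nat_lit 41], [nat_lit 12, nat_lit 30, nat_lit 2, nat_lit 18, nat_lit 4, nat_lit 40, nat_lit 39, nat_lit 37]]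

theorem k2ge1 (b : Base D τ s e2 9196830720) : GE s [[nat_lit 58], [nat_lit 66], [nat_lit 41, nat_lit 41, nat_lit 28, nat_lit 33, nat_lit 33, nat_lit 48, nat_lit 36, nat_lit 42, nat_lit 48]] 18 :=
  GE.step b.x (GE.base []) _ [] (nat_lit 1) [nat_lit 0, nat_lit 1, nat_lit 0, nat_lit 1, nat_lit 2] (nat_lit 18) 18 (by decide +kernel)

theorem k2ge2 (b : Base D τ s e2 9196830720) : GE s [[nat_lit 58], [nat_lit 66], [nat_lit 25, nat_lit 56, nat_lit 30, nat_lit 4, nat_lit 35, nat_lit 42, nat_lit 37, nat_lit 26, nat_lit 41], [nat_lit 20, nat_lit 34, nat_lit 20, nat_lit 42, nat_lit 14, nat_lit 44, nat_lit 26, nat_lit 45, nat_lit 46]] 5760 :=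
  GE.step b.x (k2ge1 b) _ [([nat_lit 41, nat_lit 41, nat_lit 28, nat_lit 33, nat_lit 33, nat_lit 48, nat_lit 36, nat_lit 42, nat_lit 48], [nat_lit 5, nat_lit 3, nat_lit 5, nat_lit 2, nat_lit 4])] (nat_lit 387) [nat_lit 2, nat_lit 0, nat_lit 1, nat_lit 0, nat_lit 1, nat_lit 3, nat_lit 0, nat_lit 0, nat_lit 2, nat_lit 0, nat_lit 1, nat_lit 0, nat_lit 1, nat_lit 3, nat_lit 0, nat_lit 2, nat_lit 0, nat_lit 0] (nat_lit 320) 5760 (by decide +kernel)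

theorem k2ge3 (b : Base D τ s e2 9196830720) : GE s [[nat_lit 58], [nat_lit 60], [nat_lit 62], [nat_lit 64], [nat_lit 66], [nat_lit 68], [nat_lit 70], [nat_lit 74], [nat_lit 78]] 3265920 :=
  GE.step b.x (k2ge2 b) _ [([nat_lit 25, nat_lit 56, nat_lit 30, nat_lit 4, nat_lit 35, nat_lit 42, nat_lit 37, nat_lit 26, nat_lit 41], [nat_lit 16, nat_lit 14, nat_lit 17]), ([nat_lit 20, nat_lit 34, nat_lit 20, nat_lit 42, nat_lit 14, nat_lit 44, nat_lit 26, nat_lit 45, nat_lit 46], [nat_lit 4, nat_lit 9, nat_lit 3, nat_lit 16, nat_lit 5])] (nat_lit 327) [nat_lit 1, nat_lit 2, nat_lit 3, nat_lit 5, nat_lit 6, nat_lit 8, nat_lit 1, nat_lit 7, nat_lit 0, nat_lit 6, nat_lit 1, nat_lit 7, nat_lit 2] (nat_lit 567) 3265920 (by decide +kernel)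

theorem k2iso (b : Base D τ s e2 9196830720) : Nat.card (genW (sv s) (LW ++ [[nat_lit 78]])) = 3265920 ∧ Nonempty (genW (sv s) (LW ++ [[nat_lit 78]]) ≃* SchurG.U43.G) :=
  b.x.isoW (U := k2U) (fun h => b.x.iso (IsPres.univ' SchurG.U43.pres) SchurG.U43.card.2.1 (by norm_num) h (by decide +kernel)) (k2ge3 b) [([nat_lit 1, nat_lit 62, nat_lit 56, nat_lit 32, nat_lit 32, nat_lit 4, nat_lit 42, nat_lit 36, nat_lit 42], [nat_lit 19, nat_lit 7, nat_lit 19, nat_lit 0, nat_lit 7, nat_lit 10, nat_lit 18, nat_lit 20, nat_lit 8, nat_lit 12, nat_lit 17, nat_lit 7, nat_lit 12, nat_lit 9, nat_lit 12, nat_lit 4, nat_lit 3, nat_lit 9, nat_lit 0, nat_lit 6, nat_lit 17, nat_lit 6, nat_lit 5, nat_lit 0]), ([nat_lit 32, nat_lit 47, nat_lit 56, nat_lit 32, nat_lit 38, nat_lit 46], [nat_lit 23, nat_lit 10, nat_lit 2, nat_lit 1, nat_lit 4]), ([nat_lit 70, nat_lit 76, nat_lit 50, nat_lit 43, nat_lit 16, nat_lit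 39, nat_lit 39, nat_lit 40], [nat_lit 0, nat_lit 13, nat_lit 24, nat_lit 13, nat_lit 9]), ([nat_lit 8, nat_lit 30, nat_lit 39, nat_lit 16, nat_lit 40, nat_lit 36, nat_lit 47, nat_lit 40], [nat_lit 5, nat_lit 2, nat_lit 19, nat_lit 21, nat_lit 4, nat_lit 21, nat_lit 0]), ([nat_lit 64, nat_lit 78, nat_lit 56, nat_lit 43, nat_lit 16, nat_lit 42, nat_lit 38, nat_lit 45, nat_lit 42, nat_lit 46], [nat_lit 27, nat_lit 21, nat_lit 18, nat_lit 26, nat_lit 5, nat_lit 26, nat_lit 12]), ([nat_lit 13, nat_lit 64, nat_lit 63, nat_lit 14, nat_lit 4, nat_lit 43, nat_lit 38, nat_lit 36, nat_lit 41], [nat_lit 1, nat_lit 3, nat_lit 0, nat_lit 3, nat_lit 0, nat_lit 2, nat_lit 1]), ([nat_lit 43, nat_lit 41, nat_lit 27, nat_lit 43, nat_lit 36, nat_lit 5, nat_lit 43, nat_lit 64, nat_lit 31], [nat_lit 5, nat_lit 5, nat_lit 0, nat_lit 0, nat_lit 4, nat_lit 3, nat_lit 1, nat_lit 3]), ([nat_lit 29, nat_lit 32,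 nat_lit 31, nat_lit 20, nat_lit 6, nat_lit 46, nat_lit 39, nat_lit 47, nat_lit 40], [nat_lit 6, nat_lit 2, nat_lit 3, nat_lit 1, nat_lit 6, nat_lit 3, nat_lit 0]), ([nat_lit 16, nat_lit 71, nat_lit 6, nat_lit 32, nat_lit 46, nat_lit 36, nat_lit 43, nat_lit 40], [nat_lit 3, nat_lit 0, nat_lit 4, nat_lit 0, nat_lit 2, nat_lit 4, nat_lit 2]), ([nat_lit 21, nat_lit 59, nat_lit 14, nat_lit 0, nat_lit 41, nat_lit 26, nat_lit 44], [nat_lit 7, nat_lit 1, nat_lit 3, nat_lit 1, nat_lit 7, nat_lit 5, nat_lit 1, nat_lit 3]), ([nat_lit 58], [nat_lit 10, nat_lit 32, nat_lit 10, nat_lit 10, nat_lit 6, nat_lit 1]), ([nat_lit 60], [nat_lit 10, nat_lit 2, nat_lit 22, nat_lit 14, nat_lit 6, nat_lit 4]), ([nat_lit 62], [nat_lit 6, nat_lit 12, nat_lit 17, nat_lit 9, nat_lit 14, nat_lit 24, nat_lit 43]), ([nat_lit 64], [nat_lit 18, nat_lit 23, nat_lit 17, nat_lit 14]), ([nat_lit 66], [nat_lit 15, nat_lit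 11, nat_lit 21, nat_lit 10, nat_lit 47, nat_lit 23]), ([nat_lit 68], [nat_lit 49, nat_lit 35, nat_lit 28, nat_lit 18, nat_lit 10]), ([nat_lit 70], [nat_lit 17, nat_lit 19, nat_lit 25, nat_lit 12, nat_lit 32, nat_lit 16]), ([nat_lit 74], [nat_lit 21, nat_lit 52, nat_lit 25, nat_lit 27, nat_lit 23, nat_lit 16]), ([nat_lit 78], [nat_lit 54, nat_lit 20, nat_lit 44, nat_lit 18, nat_lit 26, nat_lit 24, nat_lit 20])] (by decide +kernel)

theorem k2ns (b : Base D τ s e2 9196830720) : E s [nat_lit 72] ∈ Subgroup.normalizer (genW (sv s) (LW ++ [[nat_lit 78]]) : Set G) :=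
  b.x.nzS _ [[nat_lit 72]] [([nat_lit 45, nat_lit 42, nat_lit 37, nat_lit 41, nat_lit 41, nat_lit 9, nat_lit 45, nat_lit 25, nat_lit 41], [nat_lit 14, nat_lit 5, nat_lit 6, nat_lit 9, nat_lit 6, nat_lit 17, nat_lit 1, nat_lit 11, nat_lit 6, nat_lit 15, nat_lit 7, nat_lit 9, nat_lit 2, nat_lit 16, nat_lit 0, nat_lit 4, nat_lit 11, nat_lit 3, nat_lit 7, nat_lit 15, nat_lit 13, nat_lit 14, nat_lit 9, nat_lit 11]), ([nat_lit 66, nat_lit 45, nat_lit 21, nat_lit 10, nat_lit 34, nat_lit 26, nat_lit 48, nat_lit 46], [nat_lit 1, nat_lit 14, nat_lit 0, nat_lit 9, nat_lit 18]), ([nat_lit 3, nat_lit 45, nat_lit 63, nat_lit 44, nat_lit 2, nat_lit 47, nat_lit 37, nat_lit 41, nat_lit 47], [nat_lit 4, nat_lit 8, nat_lit 0, nat_lit 15, nat_lit 2]), ([nat_lit 44, nat_lit 28, nat_lit 6, nat_lit 33, nat_lit 47, nat_lit 37, nat_lit 43, nat_lit 41, nat_lit 46], [nat_lit 7, nat_lit 23, nat_lit 23, nat_lit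 16, nat_lit 1, nat_lit 8, nat_lit 0]), ([nat_lit 45, nat_lit 78, nat_lit 72, nat_lit 36, nat_lit 52, nat_lit 47, nat_lit 36, nat_lit 42], [nat_lit 4, nat_lit 12, nat_lit 5, nat_lit 19, nat_lit 20, nat_lit 5, nat_lit 18]), ([nat_lit 51, nat_lit 81, nat_lit 71, nat_lit 45, nat_lit 33, nat_lit 38, nat_lit 38, nat_lit 43, nat_lit 47], [nat_lit 3, nat_lit 0, nat_lit 2, nat_lit 0, nat_lit 0, nat_lit 3, nat_lit 1, nat_lit 2, nat_lit 0]), ([nat_lit 32, nat_lit 72, nat_lit 26, nat_lit 20, nat_lit 16, nat_lit 39, nat_lit 36, nat_lit 36, nat_lit 40, nat_lit 48], [nat_lit 5, nat_lit 2, nat_lit 5, nat_lit 2, nat_lit 1, nat_lit 4, nat_lit 2, nat_lit 5]), ([nat_lit 30, nat_lit 65, nat_lit 67, nat_lit 32, nat_lit 39, nat_lit 26, nat_lit 44, nat_lit 41, nat_lit 48, nat_lit 47], [nat_lit 2, nat_lit 2, nat_lit 1, nat_lit 3, nat_lit 1, nat_lit 3, nat_lit 0, nat_lit 3]), ([nat_lit 43, nat_lit 36, nat_lit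 38, nat_lit 41, nat_lit 66, nat_lit 35, nat_lit 29, nat_lit 59], [nat_lit 5, nat_lit 2, nat_lit 4, nat_lit 1, nat_lit 4]), ([nat_lit 72, nat_lit 58, nat_lit 73], [nat_lit 0, nat_lit 4, nat_lit 6, nat_lit 10, nat_lit 6, nat_lit 19, nat_lit 24]), ([nat_lit 72, nat_lit 60, nat_lit 73], [nat_lit 28, nat_lit 22, nat_lit 12, nat_lit 7, nat_lit 3]), ([nat_lit 72, nat_lit 62, nat_lit 73], [nat_lit 21, nat_lit 32, nat_lit 30, nat_lit 8, nat_lit 5, nat_lit 7]), ([nat_lit 72, nat_lit 64, nat_lit 73], [nat_lit 30]), ([nat_lit 72, nat_lit 66, nat_lit 73], [nat_lit 38, nat_lit 28, nat_lit 13, nat_lit 17, nat_lit 14, nat_lit 14, nat_lit 9, nat_lit 10]), ([nat_lit 72, nat_lit 68, nat_lit 73], [nat_lit 38]), ([nat_lit 72, nat_lit 70, nat_lit 73], [nat_lit 43]), ([nat_lit 72, nat_lit 74, nat_lit 73], [nat_lit 46]), ([nat_lit 72, nat_lit 78, nat_lit 73], [nat_lit 50])] (by decide +kernel) (ev_mem_genW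 List.mem_cons_self)

theorem k2L (b : Base D τ s e2 9196830720) : genW (sv s) LW ≤ genW (sv s) (LW ++ [[nat_lit 78]]) :=
  b.x.sub _ _ [] (by decide +kernel)

noncomputable def k2T : List (List Nat) := [[], [nat_lit 58, nat_lit 80, nat_lit 18, nat_lit 66, nat_lit 42, nat_lit 26], [nat_lit 50, nat_lit 59, nat_lit 16, nat_lit 38, nat_lit 41, nat_lit 26, nat_lit 41], [nat_lit 42, nat_lit 72, nat_lit 20, nat_lit 14, nat_lit 10, nat_lit 39, nat_lit 43, nat_lit 37, nat_lit 43, nat_lit 40], [nat_lit 79, nat_lit 18, nat_lit 66, nat_lit 42, nat_lit 41, nat_lit 48, nat_lit 47], [nat_lit 32, nat_lit 24, nat_lit 66, nat_lit 34, nat_lit 2, nat_lit 42, nat_lit 37, nat_lit 48], [], [nat_lit 27, nat_lit 43, nat_lit 67, nat_lit 19, nat_lit 81, nat_lit 59], [nat_lit 40, nat_lit 27, nat_lit 40, nat_lit 39, nat_lit 17, nat_lit 58, nat_lit 51], [nat_lit 41, nat_lit 42, nat_lit 36, nat_lit 42, nat_lit 38,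 nat_lit 11, nat_lit 15, nat_lit 21, nat_lit 73, nat_lit 43], [nat_lit 46, nat_lit 49, nat_lit 40, nat_lit 43, nat_lit 67, nat_lit 19, nat_lit 78], [nat_lit 49, nat_lit 36, nat_lit 43, nat_lit 3, nat_lit 35, nat_lit 67, nat_lit 25, nat_lit 33]]

theorem k2ge4 (b : Base D τ s e2 9196830720) : GE s [[nat_lit 15, nat_lit 81, nat_lit 56, nat_lit 42, nat_lit 6, nat_lit 37, nat_lit 26, nat_lit 42, nat_lit 42], [nat_lit 10, nat_lit 50, nat_lit 76, nat_lit 32, nat_lit 35, nat_lit 0, nat_lit 26, nat_lit 44, nat_lit 41], [nat_lit 63, nat_lit 40, nat_lit 63, nat_lit 45, nat_lit 8, nat_lit 39, nat_lit 39, nat_lit 40, nat_lit 40, nat_lit 48]] 60 :=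
  GE.step b.x (GE.base []) _ [] (nat_lit 3) [nat_lit 0, nat_lit 1, nat_lit 2, nat_lit 0, nat_lit 2, nat_lit 1, nat_lit 0, nat_lit 1] (nat_lit 60) 60 (by decide +kernel)

theorem k2ge5 (b : Base D τ s e2 9196830720) : GE s [[nat_lit 61, nat_lit 30, nat_lit 60, nat_lit 33, nat_lit 52, nat_lit 45, nat_lit 39, nat_lit 48, nat_lit 41, nat_lit 47], [nat_lit 80, nat_lit 64, nat_lit 38, nat_lit 32, nat_lit 2, nat_lit 46, nat_lit 37, nat_lit 40, nat_lit 48]] 60 :=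
  GE.sub b.x (k2ge4 b) _ [([nat_lit 15, nat_lit 81, nat_lit 56, nat_lit 42, nat_lit 6, nat_lit 37, nat_lit 26, nat_lit 42, nat_lit 42], [nat_lit 3, nat_lit 0, nat_lit 1, nat_lit 1, nat_lit 2, nat_lit 3]), ([nat_lit 10, nat_lit 50, nat_lit 76, nat_lit 32, nat_lit 35, nat_lit 0, nat_lit 26, nat_lit 44, nat_lit 41], [nat_lit 4, nat_lit 2, nat_lit 3, nat_lit 3, nat_lit 5, nat_lit 5]), ([nat_lit 63, nat_lit 40, nat_lit 63, nat_lit 45, nat_lit 8, nat_lit 39, nat_lit 39, nat_lit 40, nat_lit 40, nat_lit 48], [nat_lit 5, nat_lit 4, nat_lit 7, nat_lit 6, nat_lit 5, nat_lit 5])] (by decide +kernel)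

theorem k2ge6 (b : Base D τ s e2 9196830720) : GE s [[nat_lit 40, nat_lit 24, nat_lit 36, nat_lit 35, nat_lit 46, nat_lit 36, nat_lit 40, nat_lit 45, nat_lit 46], [nat_lit 61, nat_lit 30, nat_lit 60, nat_lit 33, nat_lit 52, nat_lit 45, nat_lit 39, nat_lit 48, nat_lit 41, nat_lit 47], [nat_lit 47, nat_lit 40, nat_lit 27, nat_lit 36, nat_lit 1, nat_lit 17, nat_lit 40, nat_lit 79]] 25920 :=
  GE.step b.x (k2ge5 b) _ [([nat_lit 80, nat_lit 64, nat_lit 38, nat_lit 32, nat_lit 2, nat_lit 46, nat_lit 37, nat_lit 40, nat_lit 48], [nat_lit 4, nat_lit 4, nat_lit 1])] (nat_lit 168) [nat_lit 2, nat_lit 0, nat_lit 2, nat_lit 0, nat_lit 2, nat_lit 0, nat_lit 2, nat_lit 0, nat_lit 1, nat_lit 2, nat_lit 0, nat_lit 2, nat_lit 0, nat_lit 2, nat_lit 0, nat_lit 2, nat_lit 1, nat_lit 0, nat_lit 0] (nat_lit 432) 25920 (by decide +kernel)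

theorem k2ge7 (b : Base D τ s e2 9196830720) : GE s [[], [nat_lit 58, nat_lit 80, nat_lit 18, nat_lit 66, nat_lit 42, nat_lit 26], [nat_lit 50, nat_lit 59, nat_lit 16, nat_lit 38, nat_lit 41, nat_lit 26, nat_lit 41], [nat_lit 42, nat_lit 72, nat_lit 20, nat_lit 14, nat_lit 10, nat_lit 39, nat_lit 43, nat_lit 37, nat_lit 43, nat_lit 40], [nat_lit 79, nat_lit 18, nat_lit 66, nat_lit 42, nat_lit 41, nat_lit 48, nat_lit 47], [nat_lit 32, nat_lit 24, nat_lit 66, nat_lit 34, nat_lit 2, nat_lit 42, nat_lit 37, nat_lit 48], [], [nat_lit 27, nat_lit 43, nat_lit 67, nat_lit 19, nat_lit 81, nat_lit 59], [nat_lit 40, nat_lit 27, nat_lit 40, nat_lit 39, nat_lit 17, nat_lit 58, nat_lit 51], [nat_lit 41, nat_lit 42, nat_lit 36, nat_lit 42, nat_lit 38, nat_lit 11, nat_lit 15, nat_lit 21, nat_lit 73, nat_lit 43], [nat_lit 46, nat_lit 49, nat_lit 40, nat_lit 43, nat_lit 67, nat_lit 19, nat_lit 78],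 [nat_lit 49, nat_lit 36, nat_lit 43, nat_lit 3, nat_lit 35, nat_lit 67, nat_lit 25, nat_lit 33]] 25920 :=
  GE.sub b.x (k2ge6 b) _ [([nat_lit 40, nat_lit 24, nat_lit 36, nat_lit 35, nat_lit 46, nat_lit 36, nat_lit 40, nat_lit 45, nat_lit 46], [nat_lit 19, nat_lit 10, nat_lit 1, nat_lit 17, nat_lit 19, nat_lit 17]), ([nat_lit 61, nat_lit 30, nat_lit 60, nat_lit 33, nat_lit 52, nat_lit 45, nat_lit 39, nat_lit 48, nat_lit 41, nat_lit 47], [nat_lit 3, nat_lit 13, nat_lit 11, nat_lit 10, nat_lit 7, nat_lit 11]), ([nat_lit 47, nat_lit 40, nat_lit 27, nat_lit 36, nat_lit 1, nat_lit 17, nat_lit 40, nat_lit 79], [nat_lit 9, nat_lit 15, nat_lit 19, nat_lit 8, nat_lit 25, nat_lit 8])] (by decide +kernel)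

theorem k2Tiso (b : Base D τ s e2 9196830720) : Nat.card (genW (sv s) k2T) = 25920 ∧ Nonempty (genW (sv s) k2T ≃* commutator O6m) :=
  b.x.iso univ_o6p card_o6p (by norm_num) (k2ge7 b) (by decide +kernel)

noncomputable def k2V : List (List Nat) := [[nat_lit 32, nat_lit 24, nat_lit 33, nat_lit 40, nat_lit 42, nat_lit 46], [nat_lit 81, nat_lit 56, nat_lit 80, nat_lit 40, nat_lit 43, nat_lit 40, nat_lit 46], [nat_lit 54, nat_lit 52, nat_lit 30, nat_lit 35, nat_lit 12, nat_lit 26, nat_lit 36, nat_lit 47], [nat_lit 47, nat_lit 21, nat_lit 14, nat_lit 10, nat_lit 39, nat_lit 42, nat_lit 40, nat_lit 46]]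

noncomputable def k2S : List (List Nat) := [[nat_lit 76, nat_lit 52, nat_lit 77], [nat_lit 32, nat_lit 24, nat_lit 33], [nat_lit 4, nat_lit 72, nat_lit 5], [nat_lit 16, nat_lit 52, nat_lit 17], [nat_lit 59, nat_lit 72, nat_lit 58]]

noncomputable def k2A : List (List Nat) := [[nat_lit 76, nat_lit 52, nat_lit 77, nat_lit 32, nat_lit 24, nat_lit 33], [nat_lit 76, nat_lit 52, nat_lit 77, nat_lit 4, nat_lit 72, nat_lit 5], [nat_lit 76, nat_lit 52, nat_lit 77, nat_lit 16, nat_lit 52, nat_lit 17], [nat_lit 76, nat_lit 52, nat_lit 77, nat_lit 59, nat_lit 72, nat_lit 58]]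

theorem k2h1 (b : Base D τ s e2 9196830720) : genW (sv s) (k2T ++ (k2V ++ k2A)) ≤ genW (sv s) (LW ++ [[nat_lit 78]]) :=
  b.x.sub _ _ [([nat_lit 45, nat_lit 42, nat_lit 37, nat_lit 41, nat_lit 41, nat_lit 9, nat_lit 45, nat_lit 25, nat_lit 41], [nat_lit 14, nat_lit 5, nat_lit 6, nat_lit 9, nat_lit 6, nat_lit 17, nat_lit 1, nat_lit 11, nat_lit 6, nat_lit 15, nat_lit 7, nat_lit 9, nat_lit 2, nat_lit 16, nat_lit 0, nat_lit 4, nat_lit 11, nat_lit 3, nat_lit 7, nat_lit 15, nat_lit 13, nat_lit 14, nat_lit 9, nat_lit 11]), ([nat_lit 66, nat_lit 45, nat_lit 21, nat_lit 10, nat_lit 34, nat_lit 26, nat_lit 48, nat_lit 46], [nat_lit 1, nat_lit 14, nat_lit 0, nat_lit 9, nat_lit 18]), ([nat_lit 3, nat_lit 45, nat_lit 63, nat_lit 44, nat_lit 2, nat_lit 47, nat_lit 37, nat_lit 41, nat_lit 47], [nat_lit 4, nat_lit 8, nat_lit 0, nat_lit 15, nat_lit 2]), ([nat_lit 44, nat_lit 28, nat_lit 6, nat_lit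 33, nat_lit 47, nat_lit 37, nat_lit 43, nat_lit 41, nat_lit 46], [nat_lit 7, nat_lit 23, nat_lit 23, nat_lit 16, nat_lit 1, nat_lit 8, nat_lit 0]), ([nat_lit 45, nat_lit 78, nat_lit 72, nat_lit 36, nat_lit 52, nat_lit 47, nat_lit 36, nat_lit 42], [nat_lit 4, nat_lit 12, nat_lit 5, nat_lit 19, nat_lit 20, nat_lit 5, nat_lit 18]), ([nat_lit 51, nat_lit 81, nat_lit 71, nat_lit 45, nat_lit 33, nat_lit 38, nat_lit 38, nat_lit 43, nat_lit 47], [nat_lit 3, nat_lit 0, nat_lit 2, nat_lit 0, nat_lit 0, nat_lit 3, nat_lit 1, nat_lit 2, nat_lit 0]), ([nat_lit 32, nat_lit 72, nat_lit 26, nat_lit 20, nat_lit 16, nat_lit 39, nat_lit 36, nat_lit 36, nat_lit 40, nat_lit 48], [nat_lit 5, nat_lit 2, nat_lit 5, nat_lit 2, nat_lit 1, nat_lit 4, nat_lit 2, nat_lit 5]), ([nat_lit 30, nat_lit 65, nat_lit 67, nat_lit 32, nat_lit 39, nat_lit 26, nat_lit 44, nat_lit 41, nat_lit 48, nat_lit 47], [nat_lit 2, nat_lit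 2, nat_lit 1, nat_lit 3, nat_lit 1, nat_lit 3, nat_lit 0, nat_lit 3]), ([nat_lit 43, nat_lit 36, nat_lit 38, nat_lit 41, nat_lit 66, nat_lit 35, nat_lit 29, nat_lit 59], [nat_lit 5, nat_lit 2, nat_lit 4, nat_lit 1, nat_lit 4]), ([nat_lit 58, nat_lit 80, nat_lit 18, nat_lit 66, nat_lit 42, nat_lit 26], [nat_lit 33, nat_lit 28, nat_lit 5, nat_lit 10, nat_lit 0, nat_lit 2]), ([nat_lit 50, nat_lit 59, nat_lit 16, nat_lit 38, nat_lit 41, nat_lit 26, nat_lit 41], [nat_lit 18, nat_lit 21, nat_lit 12, nat_lit 11, nat_lit 6, nat_lit 3]), ([nat_lit 42, nat_lit 72, nat_lit 20, nat_lit 14, nat_lit 10, nat_lit 39, nat_lit 43, nat_lit 37, nat_lit 43, nat_lit 40], [nat_lit 16, nat_lit 34, nat_lit 9, nat_lit 13, nat_lit 14]), ([nat_lit 79, nat_lit 18, nat_lit 66, nat_lit 42, nat_lit 41, nat_lit 48, nat_lit 47], [nat_lit 41, nat_lit 11, nat_lit 11, nat_lit 16, nat_lit 12, nat_lit 10, nat_lit 6]), ([nat_lit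 32, nat_lit 24, nat_lit 66, nat_lit 34, nat_lit 2, nat_lit 42, nat_lit 37, nat_lit 48], [nat_lit 30, nat_lit 40, nat_lit 26, nat_lit 8, nat_lit 13, nat_lit 15]), ([nat_lit 27, nat_lit 43, nat_lit 67, nat_lit 19, nat_lit 81, nat_lit 59], [nat_lit 43, nat_lit 38, nat_lit 15, nat_lit 20, nat_lit 10, nat_lit 12]), ([nat_lit 40, nat_lit 27, nat_lit 40, nat_lit 39, nat_lit 17, nat_lit 58, nat_lit 51], [nat_lit 12, nat_lit 17, nat_lit 20, nat_lit 23, nat_lit 30, nat_lit 29]), ([nat_lit 41, nat_lit 42, nat_lit 36, nat_lit 42, nat_lit 38, nat_lit 11, nat_lit 15, nat_lit 21, nat_lit 73, nat_lit 43], [nat_lit 45, nat_lit 38, nat_lit 32, nat_lit 22, nat_lit 22, nat_lit 21, nat_lit 19]), ([nat_lit 46, nat_lit 49, nat_lit 40, nat_lit 43, nat_lit 67, nat_lit 19, nat_lit 78], [nat_lit 29, nat_lit 32, nat_lit 36, nat_lit 26, nat_lit 20, nat_lit 19]), ([nat_lit 49, nat_lit 36, nat_lit 43, nat_lit 3,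 nat_lit 35, nat_lit 67, nat_lit 25, nat_lit 33], [nat_lit 22, nat_lit 53, nat_lit 44, nat_lit 28, nat_lit 28, nat_lit 24, nat_lit 23, nat_lit 24, nat_lit 21]), ([nat_lit 32, nat_lit 24, nat_lit 33, nat_lit 40, nat_lit 42, nat_lit 46], [nat_lit 32, nat_lit 41, nat_lit 24, nat_lit 30, nat_lit 23, nat_lit 26, nat_lit 21]), ([nat_lit 81, nat_lit 56, nat_lit 80, nat_lit 40, nat_lit 43, nat_lit 40, nat_lit 46], [nat_lit 54, nat_lit 40, nat_lit 26, nat_lit 30, nat_lit 29, nat_lit 26, nat_lit 22]), ([nat_lit 54, nat_lit 52, nat_lit 30, nat_lit 35, nat_lit 12, nat_lit 26, nat_lit 36, nat_lit 47], [nat_lit 34, nat_lit 43, nat_lit 25, nat_lit 34, nat_lit 26, nat_lit 24]), ([nat_lit 47, nat_lit 21, nat_lit 14, nat_lit 10, nat_lit 39, nat_lit 42, nat_lit 40, nat_lit 46], [nat_lit 39, nat_lit 33, nat_lit 37, nat_lit 31, nat_lit 31, nat_lit 28, nat_lit 26]), ([nat_lit 76, nat_lit 52, nat_lit 77, nat_lit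 32, nat_lit 24, nat_lit 33], [nat_lit 30, nat_lit 33, nat_lit 30, nat_lit 39, nat_lit 46, nat_lit 44]), ([nat_lit 76, nat_lit 52, nat_lit 77, nat_lit 4, nat_lit 72, nat_lit 5], [nat_lit 35, nat_lit 45, nat_lit 39, nat_lit 33]), ([nat_lit 76, nat_lit 52, nat_lit 77, nat_lit 16, nat_lit 52, nat_lit 17], [nat_lit 43, nat_lit 58, nat_lit 36, nat_lit 43, nat_lit 38, nat_lit 38]), ([nat_lit 76, nat_lit 52, nat_lit 77, nat_lit 59, nat_lit 72, nat_lit 58], [nat_lit 58, nat_lit 64, nat_lit 34, nat_lit 44, nat_lit 44, nat_lit 41, nat_lit 35, nat_lit 37])] (by decide +kernel)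

theorem k2h2 (b : Base D τ s e2 9196830720) : genW (sv s) k2S ≤ genW (sv s) ((LW ++ [[nat_lit 78]]) ++ [[nat_lit 72]]) :=
  b.x.sub _ _ [([nat_lit 47, nat_lit 37, nat_lit 39, nat_lit 45, nat_lit 1, nat_lit 32, nat_lit 32, nat_lit 21, nat_lit 31], [nat_lit 18, nat_lit 11, nat_lit 5, nat_lit 16, nat_lit 0, nat_lit 16, nat_lit 12, nat_lit 9, nat_lit 11, nat_lit 19, nat_lit 3, nat_lit 12, nat_lit 18, nat_lit 9, nat_lit 14, nat_lit 16, nat_lit 13, nat_lit 17, nat_lit 11, nat_lit 3, nat_lit 4, nat_lit 9, nat_lit 3, nat_lit 8]), ([nat_lit 47, nat_lit 29, nat_lit 67, nat_lit 6, nat_lit 46, nat_lit 39, nat_lit 37, nat_lit 41, nat_lit 42, nat_lit 47], [nat_lit 0, nat_lit 20, nat_lit 0, nat_lit 10, nat_lit 6]), ([nat_lit 49, nat_lit 20, nat_lit 39, nat_lit 20, nat_lit 35, nat_lit 52, nat_lit 43, nat_lit 26, nat_lit 41], [nat_lit 2, nat_lit 9, nat_lit 2, nat_lit 1, nat_lit 2]), ([nat_lit 62, nat_lit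 30, nat_lit 6, nat_lit 39, nat_lit 2, nat_lit 48, nat_lit 36, nat_lit 45, nat_lit 46], [nat_lit 0, nat_lit 14, nat_lit 2, nat_lit 25, nat_lit 15, nat_lit 4]), ([nat_lit 61, nat_lit 56, nat_lit 33, nat_lit 8, nat_lit 45, nat_lit 37, nat_lit 43, nat_lit 41, nat_lit 46], [nat_lit 8, nat_lit 18, nat_lit 25, nat_lit 0, nat_lit 23, nat_lit 4, nat_lit 10]), ([nat_lit 51, nat_lit 29, nat_lit 76, nat_lit 14, nat_lit 10, nat_lit 40, nat_lit 36, nat_lit 26, nat_lit 47], [nat_lit 3, nat_lit 1, nat_lit 2, nat_lit 0, nat_lit 1, nat_lit 2, nat_lit 0, nat_lit 2, nat_lit 0]), ([nat_lit 0, nat_lit 59, nat_lit 21, nat_lit 10, nat_lit 41, nat_lit 26, nat_lit 44, nat_lit 41], [nat_lit 5, nat_lit 3, nat_lit 4, nat_lit 0, nat_lit 3, nat_lit 4, nat_lit 0]), ([nat_lit 46, nat_lit 43, nat_lit 37, nat_lit 40, nat_lit 5, nat_lit 41, nat_lit 67, nat_lit 21, nat_lit 28], [nat_lit 0, nat_lit 3, nat_lit 1, nat_lit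 0, nat_lit 3, nat_lit 1, nat_lit 2, nat_lit 0]), ([nat_lit 55, nat_lit 47, nat_lit 29, nat_lit 42, nat_lit 14, nat_lit 41, nat_lit 37, nat_lit 42, nat_lit 47], [nat_lit 5, nat_lit 3, nat_lit 0, nat_lit 4, nat_lit 1, nat_lit 4, nat_lit 3, nat_lit 0]), ([nat_lit 30, nat_lit 65, nat_lit 67, nat_lit 32, nat_lit 39, nat_lit 26, nat_lit 43, nat_lit 41], [nat_lit 2, nat_lit 1, nat_lit 3, nat_lit 0, nat_lit 2]), ([nat_lit 76, nat_lit 52, nat_lit 77], [nat_lit 23, nat_lit 20, nat_lit 23, nat_lit 11, nat_lit 13, nat_lit 3, nat_lit 5]), ([nat_lit 32, nat_lit 24, nat_lit 33], [nat_lit 33, nat_lit 28, nat_lit 2, nat_lit 10, nat_lit 5, nat_lit 2]), ([nat_lit 4, nat_lit 72, nat_lit 5], [nat_lit 4, nat_lit 12, nat_lit 7, nat_lit 4]), ([nat_lit 16, nat_lit 52, nat_lit 17], [nat_lit 11, nat_lit 8, nat_lit 6]), ([nat_lit 59, nat_lit 72, nat_lit 58], [nat_lit 11, nat_lit 23, nat_lit 21, nat_lit 18, nat_lit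 17, nat_lit 15, nat_lit 10, nat_lit 8])] (by decide +kernel)

theorem k2ge8 (b : Base D τ s e2 9196830720) : GE s [[nat_lit 32, nat_lit 24, nat_lit 33, nat_lit 40, nat_lit 42, nat_lit 46], [nat_lit 81, nat_lit 56, nat_lit 80, nat_lit 40, nat_lit 43, nat_lit 40, nat_lit 46], [nat_lit 54, nat_lit 52, nat_lit 30, nat_lit 35, nat_lit 12, nat_lit 26, nat_lit 36, nat_lit 47], [nat_lit 47, nat_lit 21, nat_lit 14, nat_lit 10, nat_lit 39, nat_lit 42, nat_lit 40, nat_lit 46]] 16 :=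
  GE.step b.x (GE.base []) _ [] (nat_lit 1) [nat_lit 0, nat_lit 1, nat_lit 2, nat_lit 3] (nat_lit 16) 16 (by decide +kernel)

theorem k2hV (b : Base D τ s e2 9196830720) : Nat.card (genW (sv s) k2V) = 16 :=
  card_of_elem (p := 2) two_pos (b.x.elem _ _ (by decide +kernel)) (k2ge8 b)

theorem k2ge9 (b : Base D τ s e2 9196830720) : GE s [[nat_lit 42, nat_lit 59, nat_lit 16, nat_lit 52, nat_lit 0, nat_lit 26, nat_lit 43], [nat_lit 7, nat_lit 32, nat_lit 62, nat_lit 47, nat_lit 10, nat_lit 41, nat_lit 36, nat_lit 40, nat_lit 45]] 4 :=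
  GE.step b.x (GE.base []) _ [] (nat_lit 1) [nat_lit 0, nat_lit 1] (nat_lit 4) 4 (by decide +kernel)

theorem k2ge10 (b : Base D τ s e2 9196830720) : GE s [[nat_lit 42, nat_lit 59, nat_lit 16, nat_lit 52, nat_lit 0, nat_lit 26, nat_lit 43], [nat_lit 47, nat_lit 42, nat_lit 37, nat_lit 39, nat_lit 1, nat_lit 3, nat_lit 32, nat_lit 75, nat_lit 20], [nat_lit 47, nat_lit 20, nat_lit 24, nat_lit 8, nat_lit 4, nat_lit 26, nat_lit 41]] 720 :=
  GE.step b.x (k2ge9 b) _ [([nat_lit 7, nat_lit 32, nat_lit 62, nat_lit 47, nat_lit 10, nat_lit 41, nat_lit 36, nat_lit 40, nat_lit 45], [nat_lit 3, nat_lit 5, nat_lit 1, nat_lit 3, nat_lit 5, nat_lit 0, nat_lit 3, nat_lit 4])] (nat_lit 7) [nat_lit 2, nat_lit 1, nat_lit 0, nat_lit 2, nat_lit 1, nat_lit 2, nat_lit 1, nat_lit 2, nat_lit 0, nat_lit 2, nat_lit 1, nat_lit 2, nat_lit 1] (nat_lit 180) 720 (by decide +kernel)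

theorem k2ge11 (b : Base D τ s e2 9196830720) : GE s [[nat_lit 76, nat_lit 52, nat_lit 77], [nat_lit 32, nat_lit 24, nat_lit 33], [nat_lit 4, nat_lit 72, nat_lit 5], [nat_lit 16, nat_lit 52, nat_lit 17], [nat_lit 59, nat_lit 72, nat_lit 58]] 720 :=
  GE.sub b.x (k2ge10 b) _ [([nat_lit 42, nat_lit 59, nat_lit 16, nat_lit 52, nat_lit 0, nat_lit 26, nat_lit 43], [nat_lit 6, nat_lit 7, nat_lit 9, nat_lit 0, nat_lit 6, nat_lit 6, nat_lit 0]), ([nat_lit 47, nat_lit 42, nat_lit 37, nat_lit 39, nat_lit 1, nat_lit 3, nat_lit 32, nat_lit 75, nat_lit 20], [nat_lit 9, nat_lit 7, nat_lit 8, nat_lit 7, nat_lit 5, nat_lit 5, nat_lit 5]), ([nat_lit 47, nat_lit 20, nat_lit 24, nat_lit 8, nat_lit 4, nat_lit 26, nat_lit 41], [nat_lit 6, nat_lit 4, nat_lit 11, nat_lit 13, nat_lit 7, nat_lit 7, nat_lit 12])] (by decide +kernel)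

theorem k2hS (b : Base D τ s e2 9196830720) : Nonempty (genW (sv s) k2S ≃* Equiv.Perm (Fin 6)) :=
  b.x.perm (k2ge11 b) (by decide +kernel)

theorem k2h3 (b : Base D τ s e2 9196830720) : genW (sv s) k2S ≤ Subgroup.normalizer (genW (sv s) k2V : Set G) :=
  b.x.nz _ _ [[[nat_lit 0, nat_lit 2, nat_lit 6], [nat_lit 2], [nat_lit 2, nat_lit 4, nat_lit 6], [nat_lit 6]], [[nat_lit 0], [nat_lit 2], [nat_lit 4], [nat_lit 0, nat_lit 6]], [[nat_lit 4, nat_lit 6], [nat_lit 0, nat_lit 2, nat_lit 4, nat_lit 6], [nat_lit 4], [nat_lit 0, nat_lit 4]], [[nat_lit 0], [nat_lit 2], [nat_lit 2, nat_lit 4], [nat_lit 6]], [[nat_lit 0], [nat_lit 0, nat_lit 4], [nat_lit 0, nat_lit 2], [nat_lit 0, nat_lit 2, nat_lit 4, nat_lit 6]]] (by decide +kernel)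

theorem k2ge12 (b : Base D τ s e2 9196830720) : GE s [[nat_lit 12, nat_lit 56, nat_lit 12, nat_lit 40, nat_lit 43, nat_lit 40, nat_lit 46], [nat_lit 37, nat_lit 74, nat_lit 42, nat_lit 14, nat_lit 42, nat_lit 26, nat_lit 38, nat_lit 41, nat_lit 42, nat_lit 48, nat_lit 46], [nat_lit 76, nat_lit 28, nat_lit 66, nat_lit 34, nat_lit 36, nat_lit 26, nat_lit 42, nat_lit 48, nat_lit 46]] 36 :=
  GE.step b.x (GE.base []) _ [] (nat_lit 0) [nat_lit 0, nat_lit 2, nat_lit 1, nat_lit 0, nat_lit 2, nat_lit 2, nat_lit 1] (nat_lit 36) 36 (by decide +kernel)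

theorem k2ge13 (b : Base D τ s e2 9196830720) : GE s [[nat_lit 42, nat_lit 61, nat_lit 36, nat_lit 52, nat_lit 43, nat_lit 37, nat_lit 43, nat_lit 48], [nat_lit 12, nat_lit 56, nat_lit 12, nat_lit 40, nat_lit 43, nat_lit 40, nat_lit 46], [nat_lit 41, nat_lit 24, nat_lit 44, nat_lit 36, nat_lit 26, nat_lit 43, nat_lit 44, nat_lit 48]] 11520 :=
  GE.step b.x (k2ge12 b) _ [([nat_lit 37, nat_lit 74, nat_lit 42, nat_lit 14, nat_lit 42, nat_lit 26, nat_lit 38, nat_lit 41, nat_lit 42, nat_lit 48, nat_lit 46], [nat_lit 5, nat_lit 3, nat_lit 4, nat_lit 2, nat_lit 5]), ([nat_lit 76, nat_lit 28, nat_lit 66, nat_lit 34, nat_lit 36, nat_lit 26, nat_lit 42, nat_lit 48, nat_lit 46], [nat_lit 2, nat_lit 5, nat_lit 3, nat_lit 4, nat_lit 7, nat_lit 2])] (nat_lit 538) [nat_lit 0, nat_lit 2, nat_lit 1, nat_lit 0, nat_lit 2, nat_lit 1, nat_lit 0, nat_lit 1, nat_lit 2, nat_lit 1, nat_lit 0, nat_lit 1, nat_lit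 0] (nat_lit 320) 11520 (by decide +kernel)

theorem k2ge14 (b : Base D τ s e2 9196830720) : GE s [[nat_lit 32, nat_lit 24, nat_lit 33, nat_lit 40, nat_lit 42, nat_lit 46], [nat_lit 81, nat_lit 56, nat_lit 80, nat_lit 40, nat_lit 43, nat_lit 40, nat_lit 46], [nat_lit 54, nat_lit 52, nat_lit 30, nat_lit 35, nat_lit 12, nat_lit 26, nat_lit 36, nat_lit 47], [nat_lit 47, nat_lit 21, nat_lit 14, nat_lit 10, nat_lit 39, nat_lit 42, nat_lit 40, nat_lit 46], [nat_lit 76, nat_lit 52, nat_lit 77], [nat_lit 32, nat_lit 24, nat_lit 33], [nat_lit 4, nat_lit 72, nat_lit 5], [nat_lit 16, nat_lit 52, nat_lit 17], [nat_lit 59, nat_lit 72, nat_lit 58]] 11520 :=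
  GE.sub b.x (k2ge13 b) _ [([nat_lit 42, nat_lit 61, nat_lit 36, nat_lit 52, nat_lit 43, nat_lit 37, nat_lit 43, nat_lit 48], [nat_lit 12, nat_lit 3, nat_lit 10, nat_lit 17, nat_lit 4, nat_lit 7, nat_lit 0, nat_lit 0]), ([nat_lit 12, nat_lit 56, nat_lit 12, nat_lit 40, nat_lit 43, nat_lit 40, nat_lit 46], [nat_lit 18, nat_lit 18, nat_lit 16, nat_lit 13, nat_lit 4, nat_lit 14, nat_lit 4, nat_lit 13]), ([nat_lit 41, nat_lit 24, nat_lit 44, nat_lit 36, nat_lit 26, nat_lit 43, nat_lit 44, nat_lit 48], [nat_lit 7, nat_lit 13, nat_lit 14, nat_lit 21, nat_lit 5, nat_lit 20, nat_lit 9, nat_lit 7])] (by decide +kernel)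

theorem k2h4 (b : Base D τ s e2 9196830720) : GE s (k2V ++ k2S) 11520 :=
  (k2ge14 b)

theorem k2ge15 (b : Base D τ s e2 9196830720) : GE s [[nat_lit 58, nat_lit 21, nat_lit 12, nat_lit 52, nat_lit 45, nat_lit 26, nat_lit 42, nat_lit 41, nat_lit 48, nat_lit 47], [nat_lit 32, nat_lit 24, nat_lit 33, nat_lit 38, nat_lit 38, nat_lit 43, nat_lit 41, nat_lit 48, nat_lit 46], [nat_lit 40, nat_lit 63, nat_lit 34, nat_lit 0, nat_lit 42, nat_lit 26, nat_lit 40, nat_lit 44, nat_lit 40]] 18 :=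
  GE.step b.x (GE.base []) _ [] (nat_lit 2) [nat_lit 1, nat_lit 2, nat_lit 0, nat_lit 1, nat_lit 2] (nat_lit 18) 18 (by decide +kernel)

theorem k2ge16 (b : Base D τ s e2 9196830720) : GE s [[nat_lit 58, nat_lit 21, nat_lit 12, nat_lit 52, nat_lit 45, nat_lit 26, nat_lit 42, nat_lit 41, nat_lit 48, nat_lit 47], [nat_lit 45, nat_lit 42, nat_lit 38, nat_lit 41, nat_lit 36, nat_lit 34, nat_lit 11, nat_lit 29, nat_lit 80], [nat_lit 41, nat_lit 24, nat_lit 38, nat_lit 45, nat_lit 42, nat_lit 48]] 5760 :=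
  GE.step b.x (k2ge15 b) _ [([nat_lit 32, nat_lit 24, nat_lit 33, nat_lit 38, nat_lit 38, nat_lit 43, nat_lit 41, nat_lit 48, nat_lit 46], [nat_lit 5, nat_lit 3, nat_lit 4, nat_lit 4, nat_lit 3]), ([nat_lit 40, nat_lit 63, nat_lit 34, nat_lit 0, nat_lit 42, nat_lit 26, nat_lit 40, nat_lit 44, nat_lit 40], [nat_lit 7, nat_lit 7, nat_lit 3, nat_lit 5, nat_lit 2, nat_lit 5])] (nat_lit 565) [nat_lit 2, nat_lit 1, nat_lit 2, nat_lit 0, nat_lit 2, nat_lit 1, nat_lit 2, nat_lit 0, nat_lit 2, nat_lit 1, nat_lit 2, nat_lit 2, nat_lit 2, nat_lit 2] (nat_lit 320) 5760 (by decide +kernel)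

theorem k2ge17 (b : Base D τ s e2 9196830720) : GE s [[nat_lit 32, nat_lit 24, nat_lit 33, nat_lit 40, nat_lit 42, nat_lit 46], [nat_lit 81, nat_lit 56, nat_lit 80, nat_lit 40, nat_lit 43, nat_lit 40, nat_lit 46], [nat_lit 54, nat_lit 52, nat_lit 30, nat_lit 35, nat_lit 12, nat_lit 26, nat_lit 36, nat_lit 47], [nat_lit 47, nat_lit 21, nat_lit 14, nat_lit 10, nat_lit 39, nat_lit 42, nat_lit 40, nat_lit 46], [nat_lit 76, nat_lit 52, nat_lit 77, nat_lit 32, nat_lit 24, nat_lit 33], [nat_lit 76, nat_lit 52, nat_lit 77, nat_lit 4, nat_lit 72, nat_lit 5], [nat_lit 76, nat_lit 52, nat_lit 77, nat_lit 16, nat_lit 52, nat_lit 17], [nat_lit 76, nat_lit 52, nat_lit 77, nat_lit 59, nat_lit 72, nat_lit 58]] 5760 :=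
  GE.sub b.x (k2ge16 b) _ [([nat_lit 58, nat_lit 21, nat_lit 12, nat_lit 52, nat_lit 45, nat_lit 26, nat_lit 42, nat_lit 41, nat_lit 48, nat_lit 47], [nat_lit 7, nat_lit 8, nat_lit 11, nat_lit 10, nat_lit 14, nat_lit 13]), ([nat_lit 45, nat_lit 42, nat_lit 38, nat_lit 41, nat_lit 36, nat_lit 34, nat_lit 11, nat_lit 29, nat_lit 80], [nat_lit 12, nat_lit 9, nat_lit 3, nat_lit 16, nat_lit 16, nat_lit 4]), ([nat_lit 41, nat_lit 24, nat_lit 38, nat_lit 45, nat_lit 42, nat_lit 48], [nat_lit 13, nat_lit 14, nat_lit 17, nat_lit 10, nat_lit 4, nat_lit 9])] (by decide +kernel)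

theorem k2h5 (b : Base D τ s e2 9196830720) : GE s (k2V ++ k2A) 5760 :=
  (k2ge17 b)

theorem k2kf (b : Base D τ s e2 9196830720) : KF D (genW (sv s) (LW ++ [[nat_lit 78]])) :=
  b.kf [nat_lit 72] [nat_lit 50] [nat_lit 31, nat_lit 48, nat_lit 30] [nat_lit 2, nat_lit 4, nat_lit 8, nat_lit 6, nat_lit 10] [nat_lit 0, nat_lit 1, nat_lit 6, nat_lit 7, nat_lit 0, nat_lit 8, nat_lit 1, nat_lit 0, nat_lit 8, nat_lit 2, nat_lit 0] [nat_lit 0, nat_lit 1, nat_lit 2, nat_lit 4, nat_lit 6, nat_lit 8, nat_lit 5, nat_lit 7, nat_lit 1, nat_lit 0, nat_lit 7, nat_lit 0, nat_lit 0] (k2iso b).1 ((am b).norm (k2L b) (k2ns b)) (k2Tiso b) (k2h1 b) (k2h2 b) (k2hV b) (k2hS b) (k2h3 b) (k2h4 b) (k2h5 b) (by decide +kernel) (by decide +kernel) (by decide +kernel) (by decide +kernel)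

end Cfsg.Agent.FiC.U62
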