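import Cfsg.Agent.Fischer.UF0
import Cfsg.Agent.SchurG.U43.Main

set_option autoImplicit false
set_option maxRecDepth 100000
set_option synthInstance.maxSize 2048
set_option Elab.async false
set_option linter.unusedSectionVars false
set_option linter.unusedVariables false

namespace Cfsg.Agent.FiC.U62
open Cfsg.Agent.Comp Cfsg.Agent.FiC

variable {G : Type*} [Group G] [Finite G] {D : Set G} {τ s : ℕ → G}

noncomputable def k3U : List (List Nat) := [[nat_lit 78, nat_lit 59, nat_lit 52, nat_lit 42, nat_lit 26, nat_lit 42, nat_lit 41, nat_lit 47], [nat_lit 36, nat_lit 81, nat_lit 61, nat_lit 10, nat_lit 38, nat_lit 44, nat_lit 40], [nat_lit 47, nat_lit 41, nat_lit 45, nat_lit 32, nat_lit 25, nat_lit 33], [nat_lit 32, nat_lit 24, nat_lit 33, nat_lit 44, nat_lit 40, nat_lit 46], [nat_lit 35, nat_lit 74, nat_lit 14, nat_lit 33, nat_lit 40, nat_lit 40, nat_lit 36, nat_lit 44, nat_lit 43], [nat_lit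 28, nat_lit 31, nat_lit 33, nat_lit 67, nat_lit 0, nat_lit 40, nat_lit 38, nat_lit 26, nat_lit 45], [nat_lit 28, nat_lit 31, nat_lit 45, nat_lit 8, nat_lit 37, nat_lit 42, nat_lit 26, nat_lit 45, nat_lit 47], [nat_lit 24, nat_lit 41, nat_lit 24, nat_lit 42, nat_lit 10, nat_lit 39, nat_lit 39, nat_lit 40, nat_lit 48], [nat_lit 21, nat_lit 56, nat_lit 30, nat_lit 12, nat_lit 0, nat_lit 38, nat_lit 40, nat_lit 45, nat_lit 46], [nat_lit 35, nat_lit 74, nat_lit 4, nat_lit 35, nat_lit 39, nat_lit 43, nat_lit 37, nat_lit 40, nat_lit 45, nat_lit 48], [nat_lit 42, nat_lit 37, nat_lit 74, nat_lit 42, nat_lit 14, nat_lit 45, nat_lit 39, nat_lit 42, nat_lit 48]]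

theorem k3ge1 (b : Base D τ s e2 9196830720) : GE s [[nat_lit 58], [nat_lit 66], [nat_lit 73, nat_lit 62, nat_lit 60, nat_lit 66, nat_lit 40, nat_lit 38, nat_lit 26, nat_lit 43, nat_lit 41, nat_lit 47]] 18 :=
  GE.step b.x (GE.base []) _ [] (nat_lit 1) [nat_lit 0, nat_lit 1, nat_lit 0, nat_lit 1, nat_lit 2] (nat_lit 18) 18 (by decide +kernel)

theorem k3ge2 (b : Base D τ s e2 9196830720) : GE s [[nat_lit 58], [nat_lit 66], [nat_lit 73, nat_lit 62, nat_lit 60, nat_lit 66, nat_lit 40, nat_lit 38, nat_lit 26, nat_lit 43, nat_lit 41, nat_lit 47], [nat_lit 58, nat_lit 80, nat_lit 50, nat_lit 32, nat_lit 34, nat_lit 40, nat_lit 36, nat_lit 26, nat_lit 42, nat_lit 47], [nat_lit 81, nat_lit 64, nat_lit 35, nat_lit 32, nat_lit 2, nat_lit 40, nat_lit 36, nat_lit 41]] 5760 :=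
  GE.step b.x (k3ge1 b) _ [] (nat_lit 387) [nat_lit 4, nat_lit 0, nat_lit 1, nat_lit 0, nat_lit 1, nat_lit 3, nat_lit 4, nat_lit 0, nat_lit 1, nat_lit 0, nat_lit 1, nat_lit 3, nat_lit 4, nat_lit 0] (nat_lit 320) 5760 (by decide +kernel)

theorem k3ge3 (b : Base D τ s e2 9196830720) : GE s [[nat_lit 58], [nat_lit 60], [nat_lit 62], [nat_lit 64], [nat_lit 66], [nat_lit 68], [nat_lit 70], [nat_lit 74], [nat_lit 80]] 3265920 :=
  GE.step b.x (k3ge2 b) _ [([nat_lit 73, nat_lit 62, nat_lit 60, nat_lit 66, nat_lit 40, nat_lit 38, nat_lit 26, nat_lit 43, nat_lit 41, nat_lit 47], [nat_lit 13, nat_lit 0, nat_lit 13]), ([nat_lit 58, nat_lit 80, nat_lit 50, nat_lit 32, nat_lit 34, nat_lit 40, nat_lit 36, nat_lit 26, nat_lit 42, nat_lit 47], [nat_lit 13, nat_lit 19, nat_lit 4, nat_lit 15]), ([nat_lit 81, nat_lit 64, nat_lit 35, nat_lit 32, nat_lit 2, nat_lit 40, nat_lit 36, nat_lit 41], [nat_lit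 21, nat_lit 19, nat_lit 21, nat_lit 18, nat_lit 10])] (nat_lit 327) [nat_lit 1, nat_lit 2, nat_lit 3, nat_lit 5, nat_lit 6, nat_lit 8, nat_lit 1, nat_lit 7, nat_lit 8, nat_lit 0, nat_lit 2, nat_lit 1, nat_lit 0] (nat_lit 567) 3265920 (by decide +kernel)

theorem k3iso (b : Base D τ s e2 9196830720) : Nat.card (genW (sv s) (LW ++ [[nat_lit 80]])) = 3265920 ∧ Nonempty (genW (sv s) (LW ++ [[nat_lit 80]]) ≃* SchurG.U43.G) :=
  b.x.isoW (U := k3U) (fun h => b.x.iso (IsPres.univ' SchurG.U43.pres) SchurG.U43.card.2.1 (by norm_num) h (by decide +kernel)) (k3ge3 b) [([nat_lit 30, nat_lit 64, nat_lit 21, nat_lit 4, nat_lit 42, nat_lit 39, nat_lit 26, nat_lit 44, nat_lit 43], [nat_lit 0, nat_lit 2, nat_lit 5, nat_lit 13, nat_lit 2, nat_lit 12, nat_lit 1, nat_lit 5, nat_lit 3, nat_lit 18, nat_lit 13, nat_lit 9, nat_lit 21, nat_lit 5, nat_lit 8, nat_lit 16, nat_lit 13, nat_lit 8, nat_lit 5, nat_lit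 13, nat_lit 10, nat_lit 8, nat_lit 0, nat_lit 2]), ([nat_lit 24, nat_lit 66, nat_lit 43, nat_lit 6, nat_lit 42, nat_lit 38, nat_lit 40, nat_lit 40], [nat_lit 1, nat_lit 14, nat_lit 12, nat_lit 0, nat_lit 18]), ([nat_lit 33, nat_lit 20, nat_lit 34, nat_lit 20, nat_lit 44, nat_lit 16, nat_lit 44, nat_lit 36, nat_lit 40], [nat_lit 15, nat_lit 2, nat_lit 11, nat_lit 16, nat_lit 2]), ([nat_lit 0, nat_lit 56, nat_lit 32, nat_lit 35, nat_lit 37, nat_lit 38, nat_lit 26, nat_lit 43, nat_lit 47, nat_lit 40, nat_lit 47], [nat_lit 19, nat_lit 0, nat_lit 0, nat_lit 25, nat_lit 22, nat_lit 4, nat_lit 9]), ([nat_lit 41, nat_lit 37, nat_lit 20, nat_lit 41, nat_lit 12, nat_lit 26, nat_lit 40, nat_lit 43, nat_lit 40], [nat_lit 5, nat_lit 15, nat_lit 4, nat_lit 9, nat_lit 26, nat_lit 1]), ([nat_lit 72, nat_lit 20, nat_lit 16, nat_lit 0, nat_lit 42, nat_lit 36, nat_lit 42, nat_lit 46], [nat_lit 0, nat_lit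 2, nat_lit 2, nat_lit 31, nat_lit 3, nat_lit 30, nat_lit 2, nat_lit 0]), ([nat_lit 40, nat_lit 43, nat_lit 37, nat_lit 49, nat_lit 11, nat_lit 57, nat_lit 59], [nat_lit 3, nat_lit 1, nat_lit 2, nat_lit 32, nat_lit 4, nat_lit 1, nat_lit 33]), ([nat_lit 2, nat_lit 24, nat_lit 66, nat_lit 52, nat_lit 0, nat_lit 44, nat_lit 26, nat_lit 45, nat_lit 43], [nat_lit 35, nat_lit 2, nat_lit 0, nat_lit 34, nat_lit 2, nat_lit 0, nat_lit 2, nat_lit 35]), ([nat_lit 80, nat_lit 64, nat_lit 31, nat_lit 39, nat_lit 33, nat_lit 37, nat_lit 43, nat_lit 41, nat_lit 46], [nat_lit 37, nat_lit 3, nat_lit 37, nat_lit 4, nat_lit 37, nat_lit 2, nat_lit 4]), ([nat_lit 66, nat_lit 28, nat_lit 59, nat_lit 18, nat_lit 40, nat_lit 2, nat_lit 43, nat_lit 40], [nat_lit 2, nat_lit 0, nat_lit 2, nat_lit 0, nat_lit 3]), ([nat_lit 58], [nat_lit 2, nat_lit 41, nat_lit 9, nat_lit 13, nat_lit 6, nat_lit 10, nat_lit 18]), ([nat_lit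 60], [nat_lit 13, nat_lit 34, nat_lit 11, nat_lit 14, nat_lit 9, nat_lit 11, nat_lit 6]), ([nat_lit 62], [nat_lit 6, nat_lit 12, nat_lit 10, nat_lit 17, nat_lit 11, nat_lit 21, nat_lit 11]), ([nat_lit 64], [nat_lit 16, nat_lit 18, nat_lit 46]), ([nat_lit 66], [nat_lit 14, nat_lit 24, nat_lit 48, nat_lit 17, nat_lit 20, nat_lit 11, nat_lit 48, nat_lit 13]), ([nat_lit 68], [nat_lit 13, nat_lit 16, nat_lit 28, nat_lit 12, nat_lit 50, nat_lit 22, nat_lit 12]), ([nat_lit 70], [nat_lit 50, nat_lit 44, nat_lit 32, nat_lit 15, nat_lit 23, nat_lit 18, nat_lit 52, nat_lit 14]), ([nat_lit 74], [nat_lit 38, nat_lit 28, nat_lit 24, nat_lit 27, nat_lit 17, nat_lit 18]), ([nat_lit 80], [nat_lit 39, nat_lit 31, nat_lit 51, nat_lit 26, nat_lit 19, nat_lit 25, nat_lit 19])] (by decide +kernel)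

theorem k3ns (b : Base D τ s e2 9196830720) : E s [nat_lit 72] ∈ Subgroup.normalizer (genW (sv s) (LW ++ [[nat_lit 80]]) : Set G) :=
  b.x.nzS _ [[nat_lit 72]] [([nat_lit 19, nat_lit 8, nat_lit 29, nat_lit 67, nat_lit 2, nat_lit 45, nat_lit 39, nat_lit 42, nat_lit 48], [nat_lit 2, nat_lit 12, nat_lit 1, nat_lit 15, nat_lit 6, nat_lit 5, nat_lit 10, nat_lit 15, nat_lit 6, nat_lit 17, nat_lit 0, nat_lit 12, nat_lit 8, nat_lit 2, nat_lit 5, nat_lit 12, nat_lit 9, nat_lit 7, nat_lit 8, nat_lit 0, nat_lit 16, nat_lit 7, nat_lit 0, nat_lit 8]), ([nat_lit 49, nat_lit 43, nat_lit 44, nat_lit 36, nat_lit 40, nat_lit 13, nat_lit 67, nat_lit 30, nat_lit 78], [nat_lit 4, nat_lit 0, nat_lit 4, nat_lit 1, nat_lit 11]), ([nat_lit 46, nat_lit 37, nat_lit 43, nat_lit 36, nat_lit 3, nat_lit 33, nat_lit 39, nat_lit 20, nat_lit 39], [nat_lit 2, nat_lit 1, nat_lit 2, nat_lit 13, nat_lit 0]), ([nat_lit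 40, nat_lit 45, nat_lit 37, nat_lit 40, nat_lit 9, nat_lit 43, nat_lit 13, nat_lit 51, nat_lit 81], [nat_lit 9, nat_lit 23, nat_lit 17, nat_lit 11, nat_lit 21, nat_lit 18, nat_lit 2]), ([nat_lit 41, nat_lit 41, nat_lit 38, nat_lit 42, nat_lit 5, nat_lit 13, nat_lit 63, nat_lit 60], [nat_lit 12, nat_lit 24, nat_lit 23, nat_lit 13, nat_lit 6, nat_lit 16, nat_lit 12]), ([nat_lit 49, nat_lit 42, nat_lit 36, nat_lit 47, nat_lit 33, nat_lit 39, nat_lit 21, nat_lit 39, nat_lit 60], [nat_lit 3, nat_lit 1, nat_lit 1, nat_lit 17, nat_lit 3, nat_lit 17, nat_lit 0, nat_lit 3]), ([nat_lit 60, nat_lit 36, nat_lit 21, nat_lit 35, nat_lit 14, nat_lit 6, nat_lit 44, nat_lit 36, nat_lit 26], [nat_lit 3, nat_lit 5, nat_lit 19, nat_lit 2, nat_lit 0, nat_lit 19, nat_lit 4]), ([nat_lit 4, nat_lit 81, nat_lit 43, nat_lit 4, nat_lit 37, nat_lit 41, nat_lit 26, nat_lit 42, nat_lit 47], [nat_lit 3, nat_lit 1,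 nat_lit 3, nat_lit 1, nat_lit 2, nat_lit 0, nat_lit 3, nat_lit 1]), ([nat_lit 47, nat_lit 41, nat_lit 45, nat_lit 27, nat_lit 25, nat_lit 27], [nat_lit 4, nat_lit 1, nat_lit 3, nat_lit 0, nat_lit 2, nat_lit 0, nat_lit 5]), ([nat_lit 72, nat_lit 58, nat_lit 73], [nat_lit 18, nat_lit 25, nat_lit 7, nat_lit 0]), ([nat_lit 72, nat_lit 60, nat_lit 73], [nat_lit 21, nat_lit 23, nat_lit 27, nat_lit 9, nat_lit 3, nat_lit 5]), ([nat_lit 72, nat_lit 62, nat_lit 73], [nat_lit 26, nat_lit 28, nat_lit 5, nat_lit 10]), ([nat_lit 72, nat_lit 64, nat_lit 73], [nat_lit 30]), ([nat_lit 72, nat_lit 66, nat_lit 73], [nat_lit 31, nat_lit 8, nat_lit 11]), ([nat_lit 72, nat_lit 68, nat_lit 73], [nat_lit 30, nat_lit 30, nat_lit 30]), ([nat_lit 72, nat_lit 70, nat_lit 73], [nat_lit 43]), ([nat_lit 72, nat_lit 74, nat_lit 73], [nat_lit 46]), ([nat_lit 72, nat_lit 80, nat_lit 73], [nat_lit 50])] (by decide +kernel)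 (ev_mem_genW List.mem_cons_self)

theorem k3L (b : Base D τ s e2 9196830720) : genW (sv s) LW ≤ genW (sv s) (LW ++ [[nat_lit 80]]) :=
  b.x.sub _ _ [] (by decide +kernel)

noncomputable def k3T : List (List Nat) := [[], [nat_lit 32, nat_lit 62, nat_lit 36, nat_lit 44, nat_lit 2, nat_lit 47, nat_lit 37, nat_lit 44, nat_lit 47], [nat_lit 64, nat_lit 62, nat_lit 66], [nat_lit 59, nat_lit 80, nat_lit 72, nat_lit 67, nat_lit 32, nat_lit 4, nat_lit 36, nat_lit 38, nat_lit 42], [nat_lit 8, nat_lit 61, nat_lit 21, nat_lit 32, nat_lit 46, nat_lit 39, nat_lit 45], [nat_lit 21, nat_lit 36, nat_lit 36, nat_lit 47, nat_lit 40, nat_lit 48, nat_lit 47], [], [nat_lit 46, nat_lit 45, nat_lit 36, nat_lit 46, nat_lit 3, nat_lit 45, nat_lit 37, nat_lit 63, nat_lit 33], [nat_lit 67, nat_lit 63, nat_lit 65], [nat_lit 43, nat_lit 39, nat_lit 37, nat_lit 5, nat_lit 33, nat_lit 66, nat_lit 73, nat_lit 81, nat_lit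 58], [nat_lit 44, nat_lit 38, nat_lit 47, nat_lit 33, nat_lit 20, nat_lit 60, nat_lit 9], [nat_lit 46, nat_lit 49, nat_lit 41, nat_lit 46, nat_lit 37, nat_lit 37, nat_lit 20]]

theorem k3ge4 (b : Base D τ s e2 9196830720) : GE s [[nat_lit 30, nat_lit 36, nat_lit 20, nat_lit 43, nat_lit 32, nat_lit 46, nat_lit 37, nat_lit 44, nat_lit 40, nat_lit 47], [nat_lit 12, nat_lit 20, nat_lit 26, nat_lit 36, nat_lit 45, nat_lit 42, nat_lit 46], [nat_lit 26, nat_lit 44, nat_lit 4, nat_lit 44, nat_lit 26]] 60 :=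
  GE.step b.x (GE.base []) _ [] (nat_lit 3) [nat_lit 2, nat_lit 1, nat_lit 0, nat_lit 2, nat_lit 1, nat_lit 0, nat_lit 2, nat_lit 1, nat_lit 0] (nat_lit 60) 60 (by decide +kernel)

theorem k3ge5 (b : Base D τ s e2 9196830720) : GE s [[nat_lit 40, nat_lit 49, nat_lit 38, nat_lit 42, nat_lit 67, nat_lit 9, nat_lit 21, nat_lit 25, nat_lit 68], [nat_lit 30, nat_lit 36, nat_lit 20, nat_lit 43, nat_lit 32, nat_lit 46, nat_lit 37, nat_lit 44, nat_lit 40, nat_lit 47], [nat_lit 60, nat_lit 24, nat_lit 66, nat_lit 2, nat_lit 43, nat_lit 26, nat_lit 40, nat_lit 45, nat_lit 48]] 25920 :=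
  GE.step b.x (k3ge4 b) _ [([nat_lit 12, nat_lit 20, nat_lit 26, nat_lit 36, nat_lit 45, nat_lit 42, nat_lit 46], [nat_lit 0, nat_lit 0, nat_lit 0]), ([nat_lit 26, nat_lit 44, nat_lit 4, nat_lit 44, nat_lit 26], [nat_lit 2, nat_lit 5, nat_lit 6, nat_lit 3, nat_lit 4, nat_lit 7])] (nat_lit 98) [nat_lit 0, nat_lit 2, nat_lit 0, nat_lit 1, nat_lit 2, nat_lit 0, nat_lit 2, nat_lit 1, nat_lit 0, nat_lit 2, nat_lit 0, nat_lit 1, nat_lit 2, nat_lit 0] (nat_lit 432) 25920 (by decide +kernel)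

theorem k3ge6 (b : Base D τ s e2 9196830720) : GE s [[], [nat_lit 32, nat_lit 62, nat_lit 36, nat_lit 44, nat_lit 2, nat_lit 47, nat_lit 37, nat_lit 44, nat_lit 47], [nat_lit 64, nat_lit 62, nat_lit 66], [nat_lit 59, nat_lit 80, nat_lit 72, nat_lit 67, nat_lit 32, nat_lit 4, nat_lit 36, nat_lit 38, nat_lit 42], [nat_lit 8, nat_lit 61, nat_lit 21, nat_lit 32, nat_lit 46, nat_lit 39, nat_lit 45], [nat_lit 21, nat_lit 36, nat_lit 36, nat_lit 47, nat_lit 40, nat_lit 48, nat_lit 47], [], [nat_lit 46, nat_lit 45, nat_lit 36, nat_lit 46, nat_lit 3, nat_lit 45, nat_lit 37, nat_lit 63, nat_lit 33], [nat_lit 67, nat_lit 63, nat_lit 65], [nat_lit 43, nat_lit 39, nat_lit 37, nat_lit 5, nat_lit 33, nat_lit 66, nat_lit 73, nat_lit 81, nat_lit 58], [nat_lit 44, nat_lit 38, nat_lit 47, nat_lit 33, nat_lit 20, nat_lit 60, nat_lit 9], [nat_lit 46, nat_lit 49, nat_lit 41, nat_lit 46, nat_lit 37, nat_lit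 37, nat_lit 20]] 25920 :=
  GE.sub b.x (k3ge5 b) _ [([nat_lit 40, nat_lit 49, nat_lit 38, nat_lit 42, nat_lit 67, nat_lit 9, nat_lit 21, nat_lit 25, nat_lit 68], [nat_lit 3, nat_lit 2, nat_lit 10, nat_lit 12, nat_lit 3, nat_lit 3, nat_lit 3, nat_lit 5]), ([nat_lit 30, nat_lit 36, nat_lit 20, nat_lit 43, nat_lit 32, nat_lit 46, nat_lit 37, nat_lit 44, nat_lit 40, nat_lit 47], [nat_lit 23, nat_lit 14, nat_lit 21, nat_lit 25, nat_lit 8, nat_lit 9, nat_lit 2, nat_lit 11]), ([nat_lit 60, nat_lit 24, nat_lit 66, nat_lit 2, nat_lit 43, nat_lit 26, nat_lit 40, nat_lit 45, nat_lit 48], [nat_lit 25, nat_lit 18, nat_lit 13, nat_lit 12, nat_lit 4, nat_lit 25, nat_lit 21, nat_lit 23])] (by decide +kernel)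

theorem k3Tiso (b : Base D τ s e2 9196830720) : Nat.card (genW (sv s) k3T) = 25920 ∧ Nonempty (genW (sv s) k3T ≃* commutator O6m) :=
  b.x.iso univ_o6p card_o6p (by norm_num) (k3ge6 b) (by decide +kernel)

noncomputable def k3V : List (List Nat) := [[nat_lit 8, nat_lit 14, nat_lit 10, nat_lit 48, nat_lit 46], [nat_lit 8, nat_lit 43, nat_lit 44, nat_lit 26, nat_lit 45, nat_lit 42], [nat_lit 33, nat_lit 31, nat_lit 63, nat_lit 67, nat_lit 32, nat_lit 36, nat_lit 44, nat_lit 26, nat_lit 41], [nat_lit 29, nat_lit 24, nat_lit 20, nat_lit 18, nat_lit 8, nat_lit 0, nat_lit 47, nat_lit 39, nat_lit 26, nat_lit 46]]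

noncomputable def k3S : List (List Nat) := [[nat_lit 72], [nat_lit 76, nat_lit 26, nat_lit 77], [nat_lit 31, nat_lit 6, nat_lit 30], [nat_lit 36, nat_lit 72, nat_lit 37], [nat_lit 4, nat_lit 56, nat_lit 5]]

noncomputable def k3A : List (List Nat) := [[nat_lit 72, nat_lit 76, nat_lit 26, nat_lit 77], [nat_lit 72, nat_lit 31, nat_lit 6, nat_lit 30], [nat_lit 72, nat_lit 36, nat_lit 72, nat_lit 37], [nat_lit 72, nat_lit 4, nat_lit 56, nat_lit 5]]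

theorem k3h1 (b : Base D τ s e2 9196830720) : genW (sv s) (k3T ++ (k3V ++ k3A)) ≤ genW (sv s) (LW ++ [[nat_lit 80]]) :=
  b.x.sub _ _ [([nat_lit 19, nat_lit 8, nat_lit 29, nat_lit 67, nat_lit 2, nat_lit 45, nat_lit 39, nat_lit 42, nat_lit 48], [nat_lit 2, nat_lit 12, nat_lit 1, nat_lit 15, nat_lit 6, nat_lit 5, nat_lit 10, nat_lit 15, nat_lit 6, nat_lit 17, nat_lit 0, nat_lit 12, nat_lit 8, nat_lit 2, nat_lit 5, nat_lit 12, nat_lit 9, nat_lit 7, nat_lit 8, nat_lit 0, nat_lit 16, nat_lit 7, nat_lit 0, nat_lit 8]), ([nat_lit 49, nat_lit 43, nat_lit 44, nat_lit 36, nat_lit 40, nat_lit 13, nat_lit 67, nat_lit 30, nat_lit 78], [nat_lit 4, nat_lit 0, nat_lit 4, nat_lit 1, nat_lit 11]), ([nat_lit 46, nat_lit 37, nat_lit 43, nat_lit 36, nat_lit 3, nat_lit 33, nat_lit 39, nat_lit 20, nat_lit 39], [nat_lit 2, nat_lit 1, nat_lit 2, nat_lit 13, nat_lit 0]), ([nat_lit 40, nat_lit 45, nat_lit 37,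 nat_lit 40, nat_lit 9, nat_lit 43, nat_lit 13, nat_lit 51, nat_lit 81], [nat_lit 9, nat_lit 23, nat_lit 17, nat_lit 11, nat_lit 21, nat_lit 18, nat_lit 2]), ([nat_lit 41, nat_lit 41, nat_lit 38, nat_lit 42, nat_lit 5, nat_lit 13, nat_lit 63, nat_lit 60], [nat_lit 12, nat_lit 24, nat_lit 23, nat_lit 13, nat_lit 6, nat_lit 16, nat_lit 12]), ([nat_lit 49, nat_lit 42, nat_lit 36, nat_lit 47, nat_lit 33, nat_lit 39, nat_lit 21, nat_lit 39, nat_lit 60], [nat_lit 3, nat_lit 1, nat_lit 1, nat_lit 17, nat_lit 3, nat_lit 17, nat_lit 0, nat_lit 3]), ([nat_lit 60, nat_lit 36, nat_lit 21, nat_lit 35, nat_lit 14, nat_lit 6, nat_lit 44, nat_lit 36, nat_lit 26], [nat_lit 3, nat_lit 5, nat_lit 19, nat_lit 2, nat_lit 0, nat_lit 19, nat_lit 4]), ([nat_lit 4, nat_lit 81, nat_lit 43, nat_lit 4, nat_lit 37, nat_lit 41, nat_lit 26, nat_lit 42, nat_lit 47], [nat_lit 3, nat_lit 1, nat_lit 3, nat_lit 1, nat_lit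 2, nat_lit 0, nat_lit 3, nat_lit 1]), ([nat_lit 47, nat_lit 41, nat_lit 45, nat_lit 27, nat_lit 25, nat_lit 27], [nat_lit 4, nat_lit 1, nat_lit 3, nat_lit 0, nat_lit 2, nat_lit 0, nat_lit 5]), ([nat_lit 32, nat_lit 62, nat_lit 36, nat_lit 44, nat_lit 2, nat_lit 47, nat_lit 37, nat_lit 44, nat_lit 47], [nat_lit 32, nat_lit 23, nat_lit 1, nat_lit 9, nat_lit 5, nat_lit 6, nat_lit 3, nat_lit 0]), ([nat_lit 64, nat_lit 62, nat_lit 66], [nat_lit 28, nat_lit 24, nat_lit 26]), ([nat_lit 59, nat_lit 80, nat_lit 72, nat_lit 67, nat_lit 32, nat_lit 4, nat_lit 36, nat_lit 38, nat_lit 42], [nat_lit 26, nat_lit 26, nat_lit 17, nat_lit 12, nat_lit 5, nat_lit 10, nat_lit 7]), ([nat_lit 8, nat_lit 61, nat_lit 21, nat_lit 32, nat_lit 46, nat_lit 39, nat_lit 45], [nat_lit 35, nat_lit 38, nat_lit 28, nat_lit 31, nat_lit 6, nat_lit 9]), ([nat_lit 21, nat_lit 36, nat_lit 36, nat_lit 47, nat_lit 40, nat_lit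 48, nat_lit 47], [nat_lit 40, nat_lit 31, nat_lit 33, nat_lit 9, nat_lit 14]), ([nat_lit 46, nat_lit 45, nat_lit 36, nat_lit 46, nat_lit 3, nat_lit 45, nat_lit 37, nat_lit 63, nat_lit 33], [nat_lit 42, nat_lit 33, nat_lit 11, nat_lit 19, nat_lit 15, nat_lit 16, nat_lit 13, nat_lit 10]), ([nat_lit 67, nat_lit 63, nat_lit 65], [nat_lit 39, nat_lit 35, nat_lit 37]), ([nat_lit 43, nat_lit 39, nat_lit 37, nat_lit 5, nat_lit 33, nat_lit 66, nat_lit 73, nat_lit 81, nat_lit 58], [nat_lit 36, nat_lit 36, nat_lit 27, nat_lit 22, nat_lit 15, nat_lit 20, nat_lit 17]), ([nat_lit 44, nat_lit 38, nat_lit 47, nat_lit 33, nat_lit 20, nat_lit 60, nat_lit 9], [nat_lit 39, nat_lit 48, nat_lit 39, nat_lit 16, nat_lit 19]), ([nat_lit 46, nat_lit 49, nat_lit 41, nat_lit 46, nat_lit 37, nat_lit 37, nat_lit 20], [nat_lit 50, nat_lit 41, nat_lit 43, nat_lit 19, nat_lit 24]), ([nat_lit 8, nat_lit 14, nat_lit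 10, nat_lit 48, nat_lit 46], [nat_lit 33, nat_lit 40, nat_lit 38, nat_lit 26, nat_lit 30, nat_lit 21, nat_lit 26]), ([nat_lit 8, nat_lit 43, nat_lit 44, nat_lit 26, nat_lit 45, nat_lit 42], [nat_lit 56, nat_lit 39, nat_lit 53, nat_lit 47, nat_lit 28, nat_lit 25]), ([nat_lit 33, nat_lit 31, nat_lit 63, nat_lit 67, nat_lit 32, nat_lit 36, nat_lit 44, nat_lit 26, nat_lit 41], [nat_lit 31, nat_lit 36, nat_lit 42, nat_lit 35, nat_lit 32, nat_lit 26, nat_lit 28, nat_lit 25]), ([nat_lit 29, nat_lit 24, nat_lit 20, nat_lit 18, nat_lit 8, nat_lit 0, nat_lit 47, nat_lit 39, nat_lit 26, nat_lit 46], [nat_lit 33, nat_lit 61, nat_lit 45, nat_lit 35, nat_lit 36, nat_lit 32]), ([nat_lit 72, nat_lit 76, nat_lit 26, nat_lit 77], [nat_lit 52, nat_lit 55, nat_lit 45, nat_lit 36]), ([nat_lit 72, nat_lit 31, nat_lit 6, nat_lit 30], [nat_lit 38, nat_lit 64, nat_lit 51, nat_lit 41, nat_lit 54, nat_lit 36,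 nat_lit 36]), ([nat_lit 72, nat_lit 36, nat_lit 72, nat_lit 37], [nat_lit 50, nat_lit 64, nat_lit 56, nat_lit 42, nat_lit 34, nat_lit 39]), ([nat_lit 72, nat_lit 4, nat_lit 56, nat_lit 5], [nat_lit 41, nat_lit 43, nat_lit 44, nat_lit 39, nat_lit 37, nat_lit 34])] (by decide +kernel)

theorem k3h2 (b : Base D τ s e2 9196830720) : genW (sv s) k3S ≤ genW (sv s) ((LW ++ [[nat_lit 80]]) ++ [[nat_lit 72]]) :=
  b.x.sub _ _ [([nat_lit 15, nat_lit 71, nat_lit 20, nat_lit 66, nat_lit 34, nat_lit 48, nat_lit 36, nat_lit 42, nat_lit 41, nat_lit 46], [nat_lit 10, nat_lit 0, nat_lit 4, nat_lit 12, nat_lit 7, nat_lit 5, nat_lit 6, nat_lit 8, nat_lit 17, nat_lit 7, nat_lit 14, nat_lit 11, nat_lit 0, nat_lit 19, nat_lit 5, nat_lit 16, nat_lit 19, nat_lit 14, nat_lit 0, nat_lit 12, nat_lit 19, nat_lit 13, nat_lit 11, nat_lit 17]), ([nat_lit 43, nat_lit 21, nat_lit 59, nat_lit 66, nat_lit 44, nat_lit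 26, nat_lit 40, nat_lit 40], [nat_lit 12, nat_lit 19, nat_lit 1, nat_lit 12, nat_lit 19]), ([nat_lit 8, nat_lit 33, nat_lit 29, nat_lit 8, nat_lit 4, nat_lit 43, nat_lit 38, nat_lit 41, nat_lit 42, nat_lit 40], [nat_lit 2, nat_lit 6, nat_lit 23, nat_lit 3, nat_lit 0]), ([nat_lit 71, nat_lit 33, nat_lit 66, nat_lit 4, nat_lit 36, nat_lit 40, nat_lit 26, nat_lit 44], [nat_lit 8, nat_lit 1, nat_lit 16, nat_lit 1, nat_lit 8, nat_lit 14, nat_lit 6]), ([nat_lit 63, nat_lit 67, nat_lit 20, nat_lit 34, nat_lit 6, nat_lit 39, nat_lit 26, nat_lit 43, nat_lit 44, nat_lit 47], [nat_lit 11, nat_lit 24, nat_lit 27, nat_lit 2, nat_lit 7, nat_lit 24, nat_lit 22]), ([nat_lit 12, nat_lit 35, nat_lit 74, nat_lit 66, nat_lit 34, nat_lit 2, nat_lit 47, nat_lit 39, nat_lit 36, nat_lit 46], [nat_lit 0, nat_lit 2, nat_lit 17, nat_lit 28, nat_lit 1, nat_lit 16]), ([nat_lit 28, nat_lit 36, nat_lit 35, nat_lit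 37, nat_lit 38, nat_lit 43, nat_lit 48, nat_lit 47], [nat_lit 2, nat_lit 1, nat_lit 31, nat_lit 18, nat_lit 3, nat_lit 18]), ([nat_lit 36, nat_lit 21, nat_lit 38, nat_lit 35, nat_lit 38, nat_lit 45, nat_lit 43, nat_lit 47], [nat_lit 2, nat_lit 1, nat_lit 3, nat_lit 1, nat_lit 3]), ([nat_lit 47, nat_lit 49, nat_lit 45, nat_lit 27, nat_lit 40, nat_lit 36, nat_lit 5, nat_lit 42, nat_lit 80, nat_lit 5], [nat_lit 4, nat_lit 1, nat_lit 3, nat_lit 4, nat_lit 0, nat_lit 4, nat_lit 2]), ([nat_lit 71, nat_lit 14, nat_lit 67, nat_lit 47, nat_lit 36, nat_lit 40, nat_lit 40, nat_lit 47], [nat_lit 3, nat_lit 1, nat_lit 3, nat_lit 0, nat_lit 3]), ([nat_lit 72], [nat_lit 38]), ([nat_lit 76, nat_lit 26, nat_lit 77], [nat_lit 13, nat_lit 7, nat_lit 26, nat_lit 7, nat_lit 28, nat_lit 4, nat_lit 8, nat_lit 8]), ([nat_lit 31, nat_lit 6, nat_lit 30], [nat_lit 31, nat_lit 19, nat_lit 25, nat_lit 42, nat_lit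 7, nat_lit 8]), ([nat_lit 36, nat_lit 72, nat_lit 37], [nat_lit 20, nat_lit 12, nat_lit 26, nat_lit 18, nat_lit 10, nat_lit 14, nat_lit 10]), ([nat_lit 4, nat_lit 56, nat_lit 5], [nat_lit 16, nat_lit 10, nat_lit 17, nat_lit 13, nat_lit 11])] (by decide +kernel)

theorem k3ge7 (b : Base D τ s e2 9196830720) : GE s [[nat_lit 8, nat_lit 14, nat_lit 10, nat_lit 48, nat_lit 46], [nat_lit 8, nat_lit 43, nat_lit 44, nat_lit 26, nat_lit 45, nat_lit 42], [nat_lit 33, nat_lit 31, nat_lit 63, nat_lit 67, nat_lit 32, nat_lit 36, nat_lit 44, nat_lit 26, nat_lit 41], [nat_lit 29, nat_lit 24, nat_lit 20, nat_lit 18, nat_lit 8, nat_lit 0, nat_lit 47, nat_lit 39, nat_lit 26, nat_lit 46]] 16 :=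
  GE.step b.x (GE.base []) _ [] (nat_lit 2) [nat_lit 0, nat_lit 1, nat_lit 2, nat_lit 3] (nat_lit 16) 16 (by decide +kernel)

theorem k3hV (b : Base D τ s e2 9196830720) : Nat.card (genW (sv s) k3V) = 16 :=
  card_of_elem (p := 2) two_pos (b.x.elem _ _ (by decide +kernel)) (k3ge7 b)

theorem k3ge8 (b : Base D τ s e2 9196830720) : GE s [[nat_lit 40, nat_lit 43, nat_lit 12, nat_lit 0, nat_lit 37, nat_lit 26], [nat_lit 45, nat_lit 45, nat_lit 14, nat_lit 0, nat_lit 44, nat_lit 44]] 4 :=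
  GE.step b.x (GE.base []) _ [] (nat_lit 2) [nat_lit 0, nat_lit 1] (nat_lit 4) 4 (by decide +kernel)

theorem k3ge9 (b : Base D τ s e2 9196830720) : GE s [[nat_lit 46, nat_lit 27, nat_lit 37, nat_lit 45, nat_lit 3, nat_lit 38, nat_lit 32, nat_lit 20, nat_lit 65], [nat_lit 41, nat_lit 41, nat_lit 38, nat_lit 44, nat_lit 5, nat_lit 41, nat_lit 75, nat_lit 29], [nat_lit 40, nat_lit 43, nat_lit 12, nat_lit 0, nat_lit 37, nat_lit 26]] 720 :=
  GE.step b.x (k3ge8 b) _ [([nat_lit 45, nat_lit 45, nat_lit 14, nat_lit 0, nat_lit 44, nat_lit 44], [nat_lit 0, nat_lit 5, nat_lit 3, nat_lit 4, nat_lit 0])] (nat_lit 357) [nat_lit 1, nat_lit 0, nat_lit 2, nat_lit 1, nat_lit 0, nat_lit 2, nat_lit 1, nat_lit 0, nat_lit 2, nat_lit 1, nat_lit 2, nat_lit 1] (nat_lit 180) 720 (by decide +kernel)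

theorem k3ge10 (b : Base D τ s e2 9196830720) : GE s [[nat_lit 72], [nat_lit 76, nat_lit 26, nat_lit 77], [nat_lit 31, nat_lit 6, nat_lit 30], [nat_lit 36, nat_lit 72, nat_lit 37], [nat_lit 4, nat_lit 56, nat_lit 5]] 720 :=
  GE.sub b.x (k3ge9 b) _ [([nat_lit 46, nat_lit 27, nat_lit 37, nat_lit 45, nat_lit 3, nat_lit 38, nat_lit 32, nat_lit 20, nat_lit 65], [nat_lit 2, nat_lit 4, nat_lit 1, nat_lit 1, nat_lit 0, nat_lit 2, nat_lit 4, nat_lit 8, nat_lit 8]), ([nat_lit 41, nat_lit 41, nat_lit 38, nat_lit 44, nat_lit 5, nat_lit 41, nat_lit 75, nat_lit 29], [nat_lit 10, nat_lit 2, nat_lit 4, nat_lit 5, nat_lit 9, nat_lit 7, nat_lit 4, nat_lit 9, nat_lit 5]), ([nat_lit 40, nat_lit 43, nat_lit 12, nat_lit 0, nat_lit 37, nat_lit 26], [nat_lit 10, nat_lit 9, nat_lit 9, nat_lit 12, nat_lit 7, nat_lit 7, nat_lit 11, nat_lit 5, nat_lit 5])] (by decide +kernel)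

theorem k3hS (b : Base D τ s e2 9196830720) : Nonempty (genW (sv s) k3S ≃* Equiv.Perm (Fin 6)) :=
  b.x.perm (k3ge10 b) (by decide +kernel)

theorem k3h3 (b : Base D τ s e2 9196830720) : genW (sv s) k3S ≤ Subgroup.normalizer (genW (sv s) k3V : Set G) :=
  b.x.nz _ _ [[[nat_lit 4], [nat_lit 0, nat_lit 2, nat_lit 4], [nat_lit 0], [nat_lit 6]], [[nat_lit 0], [nat_lit 2], [nat_lit 2, nat_lit 4], [nat_lit 2, nat_lit 6]], [[nat_lit 0], [nat_lit 2, nat_lit 6], [nat_lit 4], [nat_lit 6]], [[nat_lit 0, nat_lit 2, nat_lit 4, nat_lit 6], [nat_lit 2], [nat_lit 2, nat_lit 6], [nat_lit 2, nat_lit 4]], [[nat_lit 4, nat_lit 6], [nat_lit 2], [nat_lit 0, nat_lit 6], [nat_lit 6]]] (by decide +kernel)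

theorem k3ge11 (b : Base D τ s e2 9196830720) : GE s [[nat_lit 61, nat_lit 58, nat_lit 20, nat_lit 36, nat_lit 2, nat_lit 48, nat_lit 39, nat_lit 41, nat_lit 48, nat_lit 46], [nat_lit 42, nat_lit 37, nat_lit 27, nat_lit 42, nat_lit 15, nat_lit 35, nat_lit 21, nat_lit 29, nat_lit 77], [nat_lit 70, nat_lit 30, nat_lit 24, nat_lit 41, nat_lit 35, nat_lit 10, nat_lit 47, nat_lit 39, nat_lit 41]] 36 :=
  GE.step b.x (GE.base []) _ [] (nat_lit 8) [nat_lit 1, nat_lit 2, nat_lit 0, nat_lit 2, nat_lit 1, nat_lit 2, nat_lit 0] (nat_lit 36) 36 (by decide +kernel)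

theorem k3ge12 (b : Base D τ s e2 9196830720) : GE s [[nat_lit 61, nat_lit 58, nat_lit 20, nat_lit 36, nat_lit 2, nat_lit 48, nat_lit 39, nat_lit 41, nat_lit 48, nat_lit 46], [nat_lit 60, nat_lit 79, nat_lit 24, nat_lit 35, nat_lit 16, nat_lit 39, nat_lit 37, nat_lit 48, nat_lit 46], [nat_lit 72, nat_lit 56, nat_lit 14, nat_lit 44, nat_lit 8, nat_lit 37, nat_lit 42, nat_lit 26, nat_lit 43, nat_lit 44]] 11520 :=
  GE.step b.x (k3ge11 b) _ [([nat_lit 42, nat_lit 37, nat_lit 27, nat_lit 42, nat_lit 15, nat_lit 35, nat_lit 21, nat_lit 29, nat_lit 77], [nat_lit 5, nat_lit 1, nat_lit 3]), ([nat_lit 70, nat_lit 30, nat_lit 24, nat_lit 41, nat_lit 35, nat_lit 10, nat_lit 47, nat_lit 39, nat_lit 41], [nat_lit 7, nat_lit 5, nat_lit 7, nat_lit 5, nat_lit 3, nat_lit 4])] (nat_lit 459) [nat_lit 1, nat_lit 2, nat_lit 1, nat_lit 0, nat_lit 1, nat_lit 2, nat_lit 0, nat_lit 1, nat_lit 2, nat_lit 1,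 nat_lit 0, nat_lit 2, nat_lit 1] (nat_lit 320) 11520 (by decide +kernel)

theorem k3ge13 (b : Base D τ s e2 9196830720) : GE s [[nat_lit 8, nat_lit 14, nat_lit 10, nat_lit 48, nat_lit 46], [nat_lit 8, nat_lit 43, nat_lit 44, nat_lit 26, nat_lit 45, nat_lit 42], [nat_lit 33, nat_lit 31, nat_lit 63, nat_lit 67, nat_lit 32, nat_lit 36, nat_lit 44, nat_lit 26, nat_lit 41], [nat_lit 29, nat_lit 24, nat_lit 20, nat_lit 18, nat_lit 8, nat_lit 0, nat_lit 47, nat_lit 39, nat_lit 26, nat_lit 46], [nat_lit 72], [nat_lit 76, nat_lit 26, nat_lit 77], [nat_lit 31, nat_lit 6, nat_lit 30], [nat_lit 36, nat_lit 72, nat_lit 37], [nat_lit 4, nat_lit 56, nat_lit 5]] 11520 :=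
  GE.sub b.x (k3ge12 b) _ [([nat_lit 61, nat_lit 58, nat_lit 20, nat_lit 36, nat_lit 2, nat_lit 48, nat_lit 39, nat_lit 41, nat_lit 48, nat_lit 46], [nat_lit 4, nat_lit 14, nat_lit 16, nat_lit 14, nat_lit 7, nat_lit 5, nat_lit 12, nat_lit 6]), ([nat_lit 60, nat_lit 79, nat_lit 24, nat_lit 35, nat_lit 16, nat_lit 39, nat_lit 37, nat_lit 48, nat_lit 46], [nat_lit 15, nat_lit 11, nat_lit 17, nat_lit 17, nat_lit 15, nat_lit 13, nat_lit 7, nat_lit 18]), ([nat_lit 72, nat_lit 56, nat_lit 14, nat_lit 44, nat_lit 8, nat_lit 37, nat_lit 42, nat_lit 26, nat_lit 43, nat_lit 44], [nat_lit 17, nat_lit 14, nat_lit 19, nat_lit 7, nat_lit 20, nat_lit 21, nat_lit 4, nat_lit 17])] (by decide +kernel)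

theorem k3h4 (b : Base D τ s e2 9196830720) : GE s (k3V ++ k3S) 11520 :=
  (k3ge13 b)

theorem k3ge14 (b : Base D τ s e2 9196830720) : GE s [[nat_lit 16, nat_lit 6, nat_lit 46, nat_lit 39, nat_lit 37, nat_lit 47, nat_lit 40, nat_lit 47], [nat_lit 36, nat_lit 20, nat_lit 14, nat_lit 10, nat_lit 41, nat_lit 26, nat_lit 44, nat_lit 44, nat_lit 46], [nat_lit 78, nat_lit 29, nat_lit 33, nat_lit 33, nat_lit 37, nat_lit 47, nat_lit 40, nat_lit 48, nat_lit 46]] 18 :=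
  GE.step b.x (GE.base []) _ [] (nat_lit 2) [nat_lit 0, nat_lit 1, nat_lit 2, nat_lit 0, nat_lit 1] (nat_lit 18) 18 (by decide +kernel)

theorem k3ge15 (b : Base D τ s e2 9196830720) : GE s [[nat_lit 16, nat_lit 6, nat_lit 46, nat_lit 39, nat_lit 37, nat_lit 47, nat_lit 40, nat_lit 47], [nat_lit 36, nat_lit 20, nat_lit 14, nat_lit 10, nat_lit 41, nat_lit 26, nat_lit 44, nat_lit 44, nat_lit 46], [nat_lit 65, nat_lit 21, nat_lit 12, nat_lit 36, nat_lit 4, nat_lit 40, nat_lit 42, nat_lit 26, nat_lit 44]] 5760 :=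
  GE.step b.x (k3ge14 b) _ [([nat_lit 78, nat_lit 29, nat_lit 33, nat_lit 33, nat_lit 37, nat_lit 47, nat_lit 40, nat_lit 48, nat_lit 46], [nat_lit 4, nat_lit 3, nat_lit 1, nat_lit 5, nat_lit 1, nat_lit 4, nat_lit 0, nat_lit 2, nat_lit 5])] (nat_lit 669) [nat_lit 2, nat_lit 0, nat_lit 1, nat_lit 2, nat_lit 0, nat_lit 2, nat_lit 1, nat_lit 0, nat_lit 2, nat_lit 1, nat_lit 0, nat_lit 2, nat_lit 1, nat_lit 2, nat_lit 0] (nat_lit 320) 5760 (by decide +kernel)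

theorem k3ge16 (b : Base D τ s e2 9196830720) : GE s [[nat_lit 8, nat_lit 14, nat_lit 10, nat_lit 48, nat_lit 46], [nat_lit 8, nat_lit 43, nat_lit 44, nat_lit 26, nat_lit 45, nat_lit 42], [nat_lit 33, nat_lit 31, nat_lit 63, nat_lit 67, nat_lit 32, nat_lit 36, nat_lit 44, nat_lit 26, nat_lit 41], [nat_lit 29, nat_lit 24, nat_lit 20, nat_lit 18, nat_lit 8, nat_lit 0, nat_lit 47, nat_lit 39, nat_lit 26, nat_lit 46], [nat_lit 72, nat_lit 76, nat_lit 26, nat_lit 77], [nat_lit 72, nat_lit 31, nat_lit 6, nat_lit 30], [nat_lit 72, nat_lit 36, nat_lit 72, nat_lit 37], [nat_lit 72, nat_lit 4, nat_lit 56, nat_lit 5]] 5760 :=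
  GE.sub b.x (k3ge15 b) _ [([nat_lit 16, nat_lit 6, nat_lit 46, nat_lit 39, nat_lit 37, nat_lit 47, nat_lit 40, nat_lit 47], [nat_lit 13, nat_lit 14, nat_lit 12, nat_lit 12, nat_lit 13, nat_lit 8]), ([nat_lit 36, nat_lit 20, nat_lit 14, nat_lit 10, nat_lit 41, nat_lit 26, nat_lit 44, nat_lit 44, nat_lit 46], [nat_lit 8, nat_lit 14, nat_lit 4, nat_lit 13, nat_lit 3, nat_lit 13]), ([nat_lit 65, nat_lit 21, nat_lit 12, nat_lit 36, nat_lit 4, nat_lit 40, nat_lit 42, nat_lit 26, nat_lit 44], [nat_lit 4, nat_lit 14, nat_lit 6, nat_lit 19, nat_lit 7, nat_lit 12])] (by decide +kernel)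

theorem k3h5 (b : Base D τ s e2 9196830720) : GE s (k3V ++ k3A) 5760 :=
  (k3ge16 b)

theorem k3kf (b : Base D τ s e2 9196830720) : KF D (genW (sv s) (LW ++ [[nat_lit 80]])) :=
  b.kf [nat_lit 72] [nat_lit 6] [nat_lit 70, nat_lit 72, nat_lit 71] [nat_lit 2, nat_lit 4, nat_lit 6, nat_lit 8, nat_lit 10] [nat_lit 0, nat_lit 1, nat_lit 6, nat_lit 7, nat_lit 0, nat_lit 8, nat_lit 6, nat_lit 1, nat_lit 8, nat_lit 1, nat_lit 0] [nat_lit 0, nat_lit 1, nat_lit 2, nat_lit 3, nat_lit 4, nat_lit 7, nat_lit 1, nat_lit 6, nat_lit 8, nat_lit 1, nat_lit 2, nat_lit 0, nat_lit 1] (k3iso b).1 ((am b).norm (k3L b) (k3ns b)) (k3Tiso b) (k3h1 b) (k3h2 b) (k3hV b) (k3hS b) (k3h3 b) (k3h4 b) (k3h5 b) (by decide +kernel) (by decide +kernel) (by decide +kernel) (by decide +kernel)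

end Cfsg.Agent.FiC.U62
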