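import Cfsg.Agent.Fischer.UF1
import Cfsg.Agent.Fischer.UH

set_option autoImplicit false
set_option maxRecDepth 100000
set_option synthInstance.maxSize 2048
set_option Elab.async false
set_option linter.unusedSectionVars false
set_option linter.unusedVariables false

namespace Cfsg.Agent.FiC.U62
open Cfsg.Agent.Comp Cfsg.Agent.FiC

variable {G : Type*} [Group G] [Finite G] {D : Set G} {τ s : ℕ → G}

noncomputable def w1T : List (List Nat) := [[nat_lit 3, nat_lit 35, nat_lit 36, nat_lit 36, nat_lit 36, nat_lit 47], [nat_lit 46, nat_lit 49, nat_lit 45, nat_lit 9, nat_lit 51, nat_lit 59], [nat_lit 73, nat_lit 50, nat_lit 52, nat_lit 45, nat_lit 26, nat_lit 48, nat_lit 41], [nat_lit 39, nat_lit 41, nat_lit 28, nat_lit 33, nat_lit 2, nat_lit 38], [nat_lit 62, nat_lit 71, nat_lit 38, nat_lit 32, nat_lit 36, nat_lit 43], [nat_lit 39, nat_lit 0, nat_lit 72, nat_lit 42, nat_lit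 2, nat_lit 43, nat_lit 38], [nat_lit 60, nat_lit 74, nat_lit 61, nat_lit 66, nat_lit 39, nat_lit 37, nat_lit 47, nat_lit 40]]

noncomputable def w1F : List (List Nat) := [[nat_lit 34, nat_lit 36, nat_lit 4, nat_lit 39, nat_lit 40, nat_lit 46], [nat_lit 29, nat_lit 30, nat_lit 12, nat_lit 10, nat_lit 41, nat_lit 38, nat_lit 26, nat_lit 41], [nat_lit 52, nat_lit 14, nat_lit 74, nat_lit 14, nat_lit 66, nat_lit 41, nat_lit 26, nat_lit 47], [nat_lit 63, nat_lit 58, nat_lit 26, nat_lit 34, nat_lit 37, nat_lit 38, nat_lit 43, nat_lit 41]]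

noncomputable def w1N : List (List Nat) := [[nat_lit 39, nat_lit 42, nat_lit 33, nat_lit 53, nat_lit 65, nat_lit 9], [nat_lit 43, nat_lit 43, nat_lit 37, nat_lit 47, nat_lit 34, nat_lit 67, nat_lit 62]]

theorem w1h2 (b : Base D τ s e2 9196830720) : genW (sv s) (w1T ++ w1N) ≤ genW (sv s) (LW ++ [[nat_lit 76]]) :=
  b.x.sub _ _ [([nat_lit 71, nat_lit 14, nat_lit 31, nat_lit 33, nat_lit 38, nat_lit 44, nat_lit 40, nat_lit 46], [nat_lit 14, nat_lit 16, nat_lit 1, nat_lit 11, nat_lit 13, nat_lit 5, nat_lit 17, nat_lit 12, nat_lit 6, nat_lit 5, nat_lit 10, nat_lit 1, nat_lit 17, nat_lit 8, nat_lit 12, nat_lit 5, nat_lit 3, nat_lit 14, nat_lit 11, nat_lit 17, nat_lit 1, nat_lit 5, nat_lit 7, nat_lit 8]), ([nat_lit 47, nat_lit 49, nat_lit 43, nat_lit 43, nat_lit 27, nat_lit 32, nat_lit 77, nat_lit 20], [nat_lit 0, nat_lit 7, nat_lit 11, nat_lit 15, nat_lit 0]), ([nat_lit 39,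 nat_lit 20, nat_lit 52, nat_lit 4, nat_lit 42, nat_lit 26, nat_lit 38, nat_lit 43, nat_lit 44, nat_lit 48, nat_lit 47], [nat_lit 15, nat_lit 13, nat_lit 10, nat_lit 5, nat_lit 3]), ([nat_lit 46, nat_lit 65, nat_lit 24, nat_lit 67, nat_lit 37, nat_lit 26, nat_lit 37, nat_lit 43, nat_lit 44], [nat_lit 11, nat_lit 4, nat_lit 4, nat_lit 13, nat_lit 11, nat_lit 0, nat_lit 5]), ([nat_lit 41, nat_lit 61, nat_lit 36, nat_lit 33, nat_lit 39, nat_lit 37, nat_lit 38, nat_lit 26, nat_lit 46], [nat_lit 13, nat_lit 15, nat_lit 15, nat_lit 23, nat_lit 1, nat_lit 10, nat_lit 19]), ([nat_lit 10, nat_lit 29, nat_lit 76, nat_lit 34, nat_lit 8, nat_lit 46, nat_lit 39, nat_lit 43], [nat_lit 2, nat_lit 2, nat_lit 0, nat_lit 2, nat_lit 2, nat_lit 1, nat_lit 3, nat_lit 0, nat_lit 3]), ([nat_lit 44, nat_lit 36, nat_lit 21, nat_lit 39, nat_lit 6, nat_lit 39, nat_lit 37, nat_lit 42, nat_lit 40],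 [nat_lit 4, nat_lit 4, nat_lit 3, nat_lit 0, nat_lit 3, nat_lit 0, nat_lit 5, nat_lit 3]), ([nat_lit 80, nat_lit 24, nat_lit 32, nat_lit 12, nat_lit 46, nat_lit 38, nat_lit 41, nat_lit 48], [nat_lit 3, nat_lit 0, nat_lit 3, nat_lit 0, nat_lit 3, nat_lit 1, nat_lit 2, nat_lit 0, nat_lit 2]), ([nat_lit 41, nat_lit 42, nat_lit 37, nat_lit 49, nat_lit 1, nat_lit 13, nat_lit 42, nat_lit 64, nat_lit 78], [nat_lit 5, nat_lit 3, nat_lit 5, nat_lit 0, nat_lit 4, nat_lit 1, nat_lit 3, nat_lit 5]), ([nat_lit 3, nat_lit 35, nat_lit 36, nat_lit 36, nat_lit 36, nat_lit 47], [nat_lit 32, nat_lit 21, nat_lit 6, nat_lit 6, nat_lit 6]), ([nat_lit 46, nat_lit 49, nat_lit 45, nat_lit 9, nat_lit 51, nat_lit 59], [nat_lit 27, nat_lit 20, nat_lit 5, nat_lit 13, nat_lit 3, nat_lit 7]), ([nat_lit 73, nat_lit 50, nat_lit 52, nat_lit 45, nat_lit 26, nat_lit 48, nat_lit 41], [nat_lit 21, nat_lit 23,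 nat_lit 14, nat_lit 14, nat_lit 14, nat_lit 10, nat_lit 9]), ([nat_lit 39, nat_lit 41, nat_lit 28, nat_lit 33, nat_lit 2, nat_lit 38], [nat_lit 21, nat_lit 19, nat_lit 14, nat_lit 13, nat_lit 13, nat_lit 6]), ([nat_lit 62, nat_lit 71, nat_lit 38, nat_lit 32, nat_lit 36, nat_lit 43], [nat_lit 38, nat_lit 18, nat_lit 27, nat_lit 13, nat_lit 18, nat_lit 9, nat_lit 13]), ([nat_lit 39, nat_lit 0, nat_lit 72, nat_lit 42, nat_lit 2, nat_lit 43, nat_lit 38], [nat_lit 33, nat_lit 19, nat_lit 31, nat_lit 13, nat_lit 20, nat_lit 10, nat_lit 12]), ([nat_lit 60, nat_lit 74, nat_lit 61, nat_lit 66, nat_lit 39, nat_lit 37, nat_lit 47, nat_lit 40], [nat_lit 23, nat_lit 27, nat_lit 30, nat_lit 20, nat_lit 18, nat_lit 22, nat_lit 14]), ([nat_lit 39, nat_lit 42, nat_lit 33, nat_lit 53, nat_lit 65, nat_lit 9], [nat_lit 28, nat_lit 43, nat_lit 34, nat_lit 22, nat_lit 25, nat_lit 16, nat_lit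 18]), ([nat_lit 43, nat_lit 43, nat_lit 37, nat_lit 47, nat_lit 34, nat_lit 67, nat_lit 62], [nat_lit 40, nat_lit 38, nat_lit 23, nat_lit 26, nat_lit 20, nat_lit 17, nat_lit 18])] (by decide +kernel)

theorem w1h3 (b : Base D τ s e2 9196830720) : genW (sv s) k1A ≤ Subgroup.normalizer (genW (sv s) k1V : Set G) :=
  b.x.nz _ _ [[[nat_lit 4], [nat_lit 0, nat_lit 2, nat_lit 4], [nat_lit 2, nat_lit 4], [nat_lit 2, nat_lit 6]], [[nat_lit 2, nat_lit 4], [nat_lit 2, nat_lit 4, nat_lit 6], [nat_lit 0, nat_lit 2, nat_lit 4, nat_lit 6], [nat_lit 0, nat_lit 2]], [[nat_lit 0, nat_lit 6], [nat_lit 0, nat_lit 4], [nat_lit 0, nat_lit 2, nat_lit 6], [nat_lit 6]], [[nat_lit 2, nat_lit 6], [nat_lit 0, nat_lit 4], [nat_lit 6], [nat_lit 4]]] (by decide +kernel)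

theorem w1Tpc (b : Base D τ s e2 9196830720) : PC s 2 w1T :=
  Cx.pcs b.x _ _ [[[]], [[nat_lit 6, nat_lit 8], [nat_lit 8]], [[nat_lit 0, nat_lit 2, nat_lit 6], [nat_lit 0, nat_lit 6], [nat_lit 0, nat_lit 6]], [[nat_lit 2], [nat_lit 4], [], [nat_lit 4]], [[nat_lit 0], [nat_lit 0, nat_lit 2], [nat_lit 0, nat_lit 2], [nat_lit 2], []], [[], [], [nat_lit 0], [], [], []], [[], [], [], [], [], [], []]] (by decide +kernel)

theorem w1ge1 (b : Base D τ s e2 9196830720) : GE s [[nat_lit 42, nat_lit 62, nat_lit 43, nat_lit 12, nat_lit 37, nat_lit 48, nat_lit 36, nat_lit 43, nat_lit 44]] 2 :=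
  GE.step b.x (GE.base []) _ [] (nat_lit 1) [nat_lit 0] (nat_lit 2) 2 (by decide +kernel)

theorem w1ge2 (b : Base D τ s e2 9196830720) : GE s [[nat_lit 3, nat_lit 35, nat_lit 36, nat_lit 36, nat_lit 36, nat_lit 47], [nat_lit 46, nat_lit 49, nat_lit 45, nat_lit 9, nat_lit 51, nat_lit 59], [nat_lit 73, nat_lit 50, nat_lit 52, nat_lit 45, nat_lit 26, nat_lit 48, nat_lit 41], [nat_lit 39, nat_lit 41, nat_lit 28, nat_lit 33, nat_lit 2, nat_lit 38], [nat_lit 62, nat_lit 71, nat_lit 38, nat_lit 32, nat_lit 36, nat_lit 43], [nat_lit 39, nat_lit 0, nat_lit 72, nat_lit 42, nat_lit 2, nat_lit 43, nat_lit 38], [nat_lit 60, nat_lit 74, nat_lit 61, nat_lit 66, nat_lit 39, nat_lit 37, nat_lit 47, nat_lit 40]] 128 :=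
  GE.step b.x (w1ge1 b) _ [([nat_lit 42, nat_lit 62, nat_lit 43, nat_lit 12, nat_lit 37, nat_lit 48, nat_lit 36, nat_lit 43, nat_lit 44], [nat_lit 4, nat_lit 8, nat_lit 3])] (nat_lit 0) [nat_lit 0, nat_lit 1, nat_lit 3, nat_lit 4, nat_lit 5, nat_lit 6] (nat_lit 64) 128 (by decide +kernel)

theorem w1Tge (b : Base D τ s e2 9196830720) : GE s w1T (2 ^ w1T.length) :=
  (w1ge2 b)

theorem w1Tcard (b : Base D τ s e2 9196830720) : Nat.card (genW (sv s) w1T) = 128 :=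
  (w1Tpc b).card0 (by norm_num) (w1Tge b)

theorem w1h6 (b : Base D τ s e2 9196830720) : genW (sv s) w1F ≤ genW (sv s) w1T :=
  b.x.leW _ _ [[nat_lit 0], [nat_lit 4, nat_lit 8, nat_lit 4], [nat_lit 0, nat_lit 7, nat_lit 8], [nat_lit 0, nat_lit 12]] (by decide +kernel)

theorem w1Fe (b : Base D τ s e2 9196830720) : IsElementaryAbelian 2 (genW (sv s) w1F) :=
  b.x.elem _ _ (by decide +kernel)

theorem w1Ve (b : Base D τ s e2 9196830720) : IsElementaryAbelian 2 (genW (sv s) k1V) :=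
  b.x.elem _ _ (by decide +kernel)

theorem w1ge3 (b : Base D τ s e2 9196830720) : GE s [[nat_lit 34, nat_lit 36, nat_lit 4, nat_lit 39, nat_lit 40, nat_lit 46], [nat_lit 29, nat_lit 30, nat_lit 12, nat_lit 10, nat_lit 41, nat_lit 38, nat_lit 26, nat_lit 41], [nat_lit 52, nat_lit 14, nat_lit 74, nat_lit 14, nat_lit 66, nat_lit 41, nat_lit 26, nat_lit 47], [nat_lit 63, nat_lit 58, nat_lit 26, nat_lit 34, nat_lit 37, nat_lit 38, nat_lit 43, nat_lit 41]] 16 :=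
  GE.step b.x (GE.base []) _ [] (nat_lit 0) [nat_lit 0, nat_lit 1, nat_lit 2, nat_lit 3] (nat_lit 16) 16 (by decide +kernel)

theorem w1hF (b : Base D τ s e2 9196830720) : Nat.card (genW (sv s) w1F) = 16 :=
  card_of_elem (p := 2) two_pos (w1Fe b) (w1ge3 b)

theorem w1h7 (b : Base D τ s e2 9196830720) : genW (sv s) w1N ≤ Subgroup.normalizer (genW (sv s) w1F : Set G) :=
  b.x.nz _ _ [[[nat_lit 6], [nat_lit 2, nat_lit 6], [nat_lit 0, nat_lit 4, nat_lit 6], [nat_lit 0, nat_lit 6]], [[nat_lit 0, nat_lit 2, nat_lit 4], [nat_lit 2, nat_lit 4], [nat_lit 4], [nat_lit 0, nat_lit 2, nat_lit 6]]] (by decide +kernel)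

noncomputable def w1Z : List (List Nat) := [[], [nat_lit 28, nat_lit 72, nat_lit 20, nat_lit 52, nat_lit 47, nat_lit 37, nat_lit 44, nat_lit 44, nat_lit 48, nat_lit 46], [nat_lit 14, nat_lit 62, nat_lit 39, nat_lit 4, nat_lit 40, nat_lit 38, nat_lit 36, nat_lit 43, nat_lit 46], [nat_lit 34, nat_lit 36, nat_lit 4, nat_lit 39, nat_lit 40, nat_lit 46], [nat_lit 77, nat_lit 74, nat_lit 31, nat_lit 32, nat_lit 67, nat_lit 36, nat_lit 38], [nat_lit 38, nat_lit 28, nat_lit 20, nat_lit 33, nat_lit 66, nat_lit 47, nat_lit 37, nat_lit 41, nat_lit 46], [nat_lit 55, nat_lit 31, nat_lit 64, nat_lit 37, nat_lit 35, nat_lit 46, nat_lit 36, nat_lit 41, nat_lit 47], [nat_lit 69, nat_lit 47, nat_lit 21, nat_lit 47, nat_lit 12, nat_lit 36, nat_lit 36], [nat_lit 54, nat_lit 79, nat_lit 24, nat_lit 32, nat_lit 0, nat_lit 40, nat_lit 36, nat_lit 26, nat_lit 45], [nat_lit 60, nat_lit 30, nat_lit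 35, nat_lit 4, nat_lit 42, nat_lit 26, nat_lit 38, nat_lit 42, nat_lit 42, nat_lit 48], [nat_lit 8, nat_lit 10, nat_lit 71, nat_lit 34, nat_lit 6, nat_lit 37, nat_lit 37, nat_lit 41], [nat_lit 13, nat_lit 69, nat_lit 38, nat_lit 20, nat_lit 66, nat_lit 35, nat_lit 45, nat_lit 39, nat_lit 48], [nat_lit 64, nat_lit 63, nat_lit 67, nat_lit 10, nat_lit 38, nat_lit 36, nat_lit 26, nat_lit 41, nat_lit 42, nat_lit 46], [nat_lit 32, nat_lit 24, nat_lit 33, nat_lit 66, nat_lit 38, nat_lit 36, nat_lit 26, nat_lit 41, nat_lit 48], [nat_lit 35, nat_lit 21, nat_lit 33, nat_lit 52, nat_lit 37, nat_lit 40, nat_lit 39, nat_lit 41], [nat_lit 38, nat_lit 28, nat_lit 20, nat_lit 34, nat_lit 37, nat_lit 39, nat_lit 40, nat_lit 45, nat_lit 48, nat_lit 46], [nat_lit 41, nat_lit 61, nat_lit 24, nat_lit 36, nat_lit 52, nat_lit 36, nat_lit 26, nat_lit 45, nat_lit 48, nat_lit 47], [nat_lit 53, nat_lit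 14, nat_lit 74, nat_lit 14, nat_lit 66, nat_lit 41, nat_lit 26, nat_lit 47], [nat_lit 41, nat_lit 0, nat_lit 31, nat_lit 6, nat_lit 67, nat_lit 37, nat_lit 38, nat_lit 41, nat_lit 47], [nat_lit 65, nat_lit 4, nat_lit 24, nat_lit 12, nat_lit 36, nat_lit 4, nat_lit 42, nat_lit 26, nat_lit 40, nat_lit 45], [nat_lit 70, nat_lit 59, nat_lit 32, nat_lit 0, nat_lit 38, nat_lit 43, nat_lit 40], [nat_lit 8, nat_lit 77, nat_lit 18, nat_lit 16, nat_lit 46, nat_lit 36, nat_lit 41, nat_lit 42, nat_lit 46], [nat_lit 71, nat_lit 35, nat_lit 65, nat_lit 33, nat_lit 44, nat_lit 4, nat_lit 39, nat_lit 43, nat_lit 41, nat_lit 46], [nat_lit 13, nat_lit 29, nat_lit 58, nat_lit 39, nat_lit 10, nat_lit 46, nat_lit 38, nat_lit 41, nat_lit 42], [nat_lit 47, nat_lit 16, nat_lit 24, nat_lit 36, nat_lit 34, nat_lit 40, nat_lit 47], [nat_lit 25, nat_lit 16, nat_lit 76, nat_lit 12, nat_lit 52, nat_lit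 4, nat_lit 42, nat_lit 36, nat_lit 45, nat_lit 46], [nat_lit 80, nat_lit 24, nat_lit 66, nat_lit 0, nat_lit 36, nat_lit 40, nat_lit 26, nat_lit 44, nat_lit 46], [nat_lit 28, nat_lit 0, nat_lit 31, nat_lit 42, nat_lit 6, nat_lit 26, nat_lit 37, nat_lit 43], [nat_lit 73, nat_lit 77, nat_lit 30, nat_lit 42, nat_lit 35, nat_lit 39, nat_lit 43, nat_lit 37, nat_lit 40, nat_lit 40], [nat_lit 78, nat_lit 41, nat_lit 31, nat_lit 66, nat_lit 32, nat_lit 39, nat_lit 36, nat_lit 36], [nat_lit 32, nat_lit 24, nat_lit 38, nat_lit 66, nat_lit 0, nat_lit 46, nat_lit 37, nat_lit 42, nat_lit 46], [nat_lit 3, nat_lit 14, nat_lit 31, nat_lit 36, nat_lit 38, nat_lit 40, nat_lit 45, nat_lit 48], [nat_lit 6, nat_lit 20, nat_lit 60, nat_lit 39, nat_lit 16, nat_lit 40, nat_lit 40], [nat_lit 29, nat_lit 21, nat_lit 66, nat_lit 44, nat_lit 41, nat_lit 36, nat_lit 43, nat_lit 41, nat_lit 48, nat_lit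 46], [nat_lit 26, nat_lit 47, nat_lit 61, nat_lit 33, nat_lit 40, nat_lit 4, nat_lit 46, nat_lit 37, nat_lit 43, nat_lit 48], [nat_lit 63, nat_lit 58, nat_lit 26, nat_lit 34, nat_lit 37, nat_lit 38, nat_lit 43, nat_lit 41]]

theorem w1tm (b : Base D τ s e2 9196830720) {A : Subgroup G} : A ≤ genW (sv s) w1T → (∀ a ∈ A, a * a = 1) → 16 ≤ Nat.card A → A ≤ genW (sv s) k1V ∨ A ≤ genW (sv s) w1F :=
  b.x.tm (w1Tpc b) _ _ w1Z [[nat_lit 0, nat_lit 0], [nat_lit 0, nat_lit 24], [nat_lit 0, nat_lit 30], [nat_lit 0, nat_lit 5], [nat_lit 0, nat_lit 34], [nat_lit 0, nat_lit 1], [nat_lit 0, nat_lit 10], [nat_lit 0, nat_lit 12], [nat_lit 0, nat_lit 0], [nat_lit 0, nat_lit 0], [nat_lit 0, nat_lit 0], [nat_lit 0, nat_lit 0], [nat_lit 0, nat_lit 22], [nat_lit 0, nat_lit 11], [nat_lit 0, nat_lit 16], [nat_lit 0, nat_lit 32], [nat_lit 0, nat_lit 0], [nat_lit 0, nat_lit 0], [nat_lit 0, nat_lit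 0], [nat_lit 0, nat_lit 0], [nat_lit 0, nat_lit 0], [nat_lit 0, nat_lit 0], [nat_lit 0, nat_lit 0], [nat_lit 0, nat_lit 0], [nat_lit 0, nat_lit 0], [nat_lit 0, nat_lit 0], [nat_lit 0, nat_lit 0], [nat_lit 0, nat_lit 0], [nat_lit 0, nat_lit 0], [nat_lit 0, nat_lit 0], [nat_lit 0, nat_lit 0], [nat_lit 0, nat_lit 0], [nat_lit 0, nat_lit 0], [nat_lit 0, nat_lit 0], [nat_lit 0, nat_lit 0], [nat_lit 0, nat_lit 0], [nat_lit 0, nat_lit 0], [nat_lit 0, nat_lit 0], [nat_lit 0, nat_lit 0], [nat_lit 0, nat_lit 0], [nat_lit 0, nat_lit 0], [nat_lit 0, nat_lit 0], [nat_lit 0, nat_lit 0], [nat_lit 0, nat_lit 0], [nat_lit 0, nat_lit 0], [nat_lit 0, nat_lit 0], [nat_lit 0, nat_lit 0], [nat_lit 0, nat_lit 0], [nat_lit 0, nat_lit 14], [nat_lit 0, nat_lit 23], [nat_lit 0, nat_lit 0], [nat_lit 0, nat_lit 0], [nat_lit 0, nat_lit 33], [nat_lit 0, nat_lit 19], [nat_lit 0, nat_lit 0], [nat_lit 0,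 nat_lit 0], [nat_lit 0, nat_lit 2], [nat_lit 0, nat_lit 20], [nat_lit 0, nat_lit 0], [nat_lit 0, nat_lit 0], [nat_lit 0, nat_lit 0], [nat_lit 0, nat_lit 0], [nat_lit 0, nat_lit 31], [nat_lit 0, nat_lit 4], [nat_lit 0, nat_lit 3], [nat_lit 0, nat_lit 35], [nat_lit 0, nat_lit 13], [nat_lit 0, nat_lit 15], [nat_lit 0, nat_lit 0], [nat_lit 0, nat_lit 0], [nat_lit 0, nat_lit 0], [nat_lit 0, nat_lit 0], [nat_lit 0, nat_lit 0], [nat_lit 0, nat_lit 0], [nat_lit 0, nat_lit 0], [nat_lit 0, nat_lit 0], [nat_lit 0, nat_lit 21], [nat_lit 0, nat_lit 17], [nat_lit 0, nat_lit 6], [nat_lit 0, nat_lit 18], [nat_lit 0, nat_lit 0], [nat_lit 0, nat_lit 0], [nat_lit 0, nat_lit 0], [nat_lit 0, nat_lit 0], [nat_lit 0, nat_lit 0], [nat_lit 0, nat_lit 0], [nat_lit 0, nat_lit 0], [nat_lit 0, nat_lit 0], [nat_lit 0, nat_lit 0], [nat_lit 0, nat_lit 0], [nat_lit 0, nat_lit 0], [nat_lit 0, nat_lit 0],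 [nat_lit 0, nat_lit 0], [nat_lit 0, nat_lit 0], [nat_lit 0, nat_lit 0], [nat_lit 0, nat_lit 0], [nat_lit 0, nat_lit 0], [nat_lit 0, nat_lit 0], [nat_lit 0, nat_lit 0], [nat_lit 0, nat_lit 0], [nat_lit 0, nat_lit 0], [nat_lit 0, nat_lit 0], [nat_lit 0, nat_lit 0], [nat_lit 0, nat_lit 0], [nat_lit 0, nat_lit 25], [nat_lit 0, nat_lit 28], [nat_lit 0, nat_lit 8], [nat_lit 0, nat_lit 27], [nat_lit 0, nat_lit 29], [nat_lit 0, nat_lit 7], [nat_lit 0, nat_lit 26], [nat_lit 0, nat_lit 9], [nat_lit 0, nat_lit 0], [nat_lit 0, nat_lit 0], [nat_lit 0, nat_lit 0], [nat_lit 0, nat_lit 0], [nat_lit 0, nat_lit 0], [nat_lit 0, nat_lit 0], [nat_lit 0, nat_lit 0], [nat_lit 0, nat_lit 0], [nat_lit 0, nat_lit 0], [nat_lit 0, nat_lit 0], [nat_lit 0, nat_lit 0], [nat_lit 0, nat_lit 0], [nat_lit 0, nat_lit 0], [nat_lit 0, nat_lit 0], [nat_lit 0, nat_lit 0], [nat_lit 0, nat_lit 0]] [[], [nat_lit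 2, nat_lit 4, nat_lit 6], [nat_lit 0, nat_lit 0, nat_lit 0, nat_lit 0, nat_lit 0, nat_lit 0, nat_lit 0, nat_lit 0, nat_lit 0, nat_lit 0, nat_lit 0, nat_lit 0, nat_lit 0, nat_lit 0, nat_lit 0, nat_lit 0, nat_lit 0, nat_lit 0, nat_lit 0, nat_lit 0, nat_lit 0, nat_lit 0, nat_lit 0, nat_lit 0, nat_lit 0, nat_lit 0, nat_lit 0, nat_lit 0, nat_lit 0, nat_lit 0, nat_lit 0, nat_lit 0, nat_lit 0, nat_lit 0, nat_lit 0, nat_lit 0], [nat_lit 0], [nat_lit 0, nat_lit 0, nat_lit 0, nat_lit 0, nat_lit 0, nat_lit 0, nat_lit 0, nat_lit 0, nat_lit 0, nat_lit 0, nat_lit 0, nat_lit 0, nat_lit 0, nat_lit 0, nat_lit 0, nat_lit 0, nat_lit 0, nat_lit 0, nat_lit 0, nat_lit 0, nat_lit 0, nat_lit 0, nat_lit 0, nat_lit 0, nat_lit 0, nat_lit 0, nat_lit 0, nat_lit 0, nat_lit 0, nat_lit 0, nat_lit 0, nat_lit 0, nat_lit 0, nat_lit 0, nat_lit 0, nat_lit 0], [nat_lit 0, nat_lit 4, nat_lit 6], [nat_lit 2,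 nat_lit 6], [nat_lit 0, nat_lit 2, nat_lit 4, nat_lit 6], [nat_lit 2, nat_lit 6], [nat_lit 4], [nat_lit 0, nat_lit 2], [nat_lit 0, nat_lit 4], [nat_lit 0, nat_lit 4], [nat_lit 2, nat_lit 4], [nat_lit 0, nat_lit 0, nat_lit 0, nat_lit 0, nat_lit 0, nat_lit 0, nat_lit 0, nat_lit 0, nat_lit 0, nat_lit 0, nat_lit 0, nat_lit 0, nat_lit 0, nat_lit 0, nat_lit 0, nat_lit 0, nat_lit 0, nat_lit 0, nat_lit 0, nat_lit 0, nat_lit 0, nat_lit 0, nat_lit 0, nat_lit 0, nat_lit 0, nat_lit 0, nat_lit 0, nat_lit 0, nat_lit 0, nat_lit 0, nat_lit 0, nat_lit 0, nat_lit 0, nat_lit 0, nat_lit 0, nat_lit 0], [nat_lit 0, nat_lit 2, nat_lit 4, nat_lit 6], [nat_lit 0, nat_lit 2, nat_lit 6], [nat_lit 4], [nat_lit 0, nat_lit 2], [nat_lit 0, nat_lit 0, nat_lit 0, nat_lit 0, nat_lit 0, nat_lit 0, nat_lit 0, nat_lit 0, nat_lit 0, nat_lit 0, nat_lit 0, nat_lit 0, nat_lit 0, nat_lit 0, nat_lit 0, nat_lit 0,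 nat_lit 0, nat_lit 0, nat_lit 0, nat_lit 0, nat_lit 0, nat_lit 0, nat_lit 0, nat_lit 0, nat_lit 0, nat_lit 0, nat_lit 0, nat_lit 0, nat_lit 0, nat_lit 0, nat_lit 0, nat_lit 0, nat_lit 0, nat_lit 0, nat_lit 0, nat_lit 0], [nat_lit 0, nat_lit 0, nat_lit 0, nat_lit 0, nat_lit 0, nat_lit 0, nat_lit 0, nat_lit 0, nat_lit 0, nat_lit 0, nat_lit 0, nat_lit 0, nat_lit 0, nat_lit 0, nat_lit 0, nat_lit 0, nat_lit 0, nat_lit 0, nat_lit 0, nat_lit 0, nat_lit 0, nat_lit 0, nat_lit 0, nat_lit 0, nat_lit 0, nat_lit 0, nat_lit 0, nat_lit 0, nat_lit 0, nat_lit 0, nat_lit 0, nat_lit 0, nat_lit 0, nat_lit 0, nat_lit 0, nat_lit 0], [nat_lit 0, nat_lit 4, nat_lit 6], [nat_lit 4, nat_lit 6], [nat_lit 0, nat_lit 0, nat_lit 0, nat_lit 0, nat_lit 0, nat_lit 0, nat_lit 0, nat_lit 0, nat_lit 0, nat_lit 0, nat_lit 0, nat_lit 0, nat_lit 0, nat_lit 0, nat_lit 0, nat_lit 0, nat_lit 0, nat_lit 0, nat_lit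 0, nat_lit 0, nat_lit 0, nat_lit 0, nat_lit 0, nat_lit 0, nat_lit 0, nat_lit 0, nat_lit 0, nat_lit 0, nat_lit 0, nat_lit 0, nat_lit 0, nat_lit 0, nat_lit 0, nat_lit 0, nat_lit 0, nat_lit 0], [nat_lit 2, nat_lit 4], [nat_lit 0], [nat_lit 2], [nat_lit 4, nat_lit 6], [nat_lit 0, nat_lit 2, nat_lit 4], [nat_lit 0, nat_lit 6], [nat_lit 0, nat_lit 2, nat_lit 6], [nat_lit 0, nat_lit 0, nat_lit 0, nat_lit 0, nat_lit 0, nat_lit 0, nat_lit 0, nat_lit 0, nat_lit 0, nat_lit 0, nat_lit 0, nat_lit 0, nat_lit 0, nat_lit 0, nat_lit 0, nat_lit 0, nat_lit 0, nat_lit 0, nat_lit 0, nat_lit 0, nat_lit 0, nat_lit 0, nat_lit 0, nat_lit 0, nat_lit 0, nat_lit 0, nat_lit 0, nat_lit 0, nat_lit 0, nat_lit 0, nat_lit 0, nat_lit 0, nat_lit 0, nat_lit 0, nat_lit 0, nat_lit 0], [nat_lit 2], [nat_lit 0, nat_lit 0, nat_lit 0, nat_lit 0, nat_lit 0, nat_lit 0, nat_lit 0, nat_lit 0, nat_lit 0, nat_lit 0, nat_lit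 0, nat_lit 0, nat_lit 0, nat_lit 0, nat_lit 0, nat_lit 0, nat_lit 0, nat_lit 0, nat_lit 0, nat_lit 0, nat_lit 0, nat_lit 0, nat_lit 0, nat_lit 0, nat_lit 0, nat_lit 0, nat_lit 0, nat_lit 0, nat_lit 0, nat_lit 0, nat_lit 0, nat_lit 0, nat_lit 0, nat_lit 0, nat_lit 0, nat_lit 0], [nat_lit 6], [nat_lit 6]] (by decide +kernel) (by decide +kernel)

theorem w1kw (b : Base D τ s e2 9196830720) : KW D (genW (sv s) (LW ++ [[nat_lit 76]])) (genW (sv s) k1V) (genW (sv s) w1F) (genW (sv s) w1T) (E s [nat_lit 56]) :=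
  b.kw k1S [[nat_lit 76, nat_lit 26, nat_lit 77], [nat_lit 62, nat_lit 56, nat_lit 63], [nat_lit 32, nat_lit 58, nat_lit 0, nat_lit 59, nat_lit 33], [nat_lit 46, nat_lit 61, nat_lit 0, nat_lit 60, nat_lit 47], [nat_lit 32, nat_lit 71, nat_lit 0, nat_lit 70, nat_lit 33], [nat_lit 32, nat_lit 24, nat_lit 33], [nat_lit 64, nat_lit 56, nat_lit 0, nat_lit 57, nat_lit 65], [nat_lit 56], [nat_lit 20, nat_lit 52, nat_lit 21], [nat_lit 12, nat_lit 56, nat_lit 0, nat_lit 57, nat_lit 13], [nat_lit 76, nat_lit 50, nat_lit 0, nat_lit 51, nat_lit 77], [nat_lit 63, nat_lit 56, nat_lit 62], [nat_lit 40, nat_lit 63, nat_lit 0, nat_lit 62, nat_lit 41], [nat_lit 18, nat_lit 32, nat_lit 6, nat_lit 33, nat_lit 19], [nat_lit 79, nat_lit 61, nat_lit 0, nat_lit 60, nat_lit 78], [nat_lit 33, nat_lit 61, nat_lit 0, nat_lit 60, nat_lit 32], [nat_lit 70, nat_lit 50, nat_lit 0, nat_lit 51, nat_lit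 71], [nat_lit 41, nat_lit 31, nat_lit 0, nat_lit 30, nat_lit 40], [nat_lit 81, nat_lit 71, nat_lit 0, nat_lit 70, nat_lit 80], [nat_lit 41, nat_lit 26, nat_lit 40], [nat_lit 78, nat_lit 24, nat_lit 0, nat_lit 25, nat_lit 79]] [[nat_lit 0, nat_lit 0], [nat_lit 1, nat_lit 0], [nat_lit 1, nat_lit 0], [nat_lit 3, nat_lit 0], [nat_lit 0, nat_lit 0], [nat_lit 0, nat_lit 0], [nat_lit 0, nat_lit 0], [nat_lit 0, nat_lit 0], [nat_lit 0, nat_lit 0], [nat_lit 0, nat_lit 0], [nat_lit 0, nat_lit 0], [nat_lit 0, nat_lit 0], [nat_lit 2, nat_lit 0], [nat_lit 1, nat_lit 0], [nat_lit 1, nat_lit 0], [nat_lit 2, nat_lit 0]] [[], [nat_lit 0], [nat_lit 1, nat_lit 3, nat_lit 0], [nat_lit 2, nat_lit 1], [nat_lit 0, nat_lit 3], [nat_lit 1, nat_lit 3], [nat_lit 1, nat_lit 2], [nat_lit 3, nat_lit 1], [], [nat_lit 1], [nat_lit 2, nat_lit 2], [nat_lit 3, nat_lit 0], [nat_lit 3], [nat_lit 2, nat_lit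 0], [nat_lit 2], [nat_lit 0, nat_lit 2]] [nat_lit 56] [nat_lit 0, nat_lit 1, nat_lit 2, nat_lit 4, nat_lit 6, nat_lit 8, nat_lit 1, nat_lit 7, nat_lit 0, nat_lit 1, nat_lit 5, nat_lit 2, nat_lit 0] [nat_lit 59, nat_lit 6, nat_lit 58] [nat_lit 66, nat_lit 50, nat_lit 67] [nat_lit 0] [nat_lit 4] [nat_lit 8, nat_lit 10, nat_lit 12, nat_lit 14] [nat_lit 12, nat_lit 10, nat_lit 9, nat_lit 14] [nat_lit 61, nat_lit 72, nat_lit 60] [nat_lit 34, nat_lit 36, nat_lit 4, nat_lit 39, nat_lit 40, nat_lit 46] (nat_lit 0) (nat_lit 0) (nat_lit 0) (nat_lit 0) (nat_lit 0) (k1iso b).1 (k1h1 b) (w1h2 b) (k1hV b) (w1Ve b) (w1h3 b) (k1h5 b) (w1Tcard b) (w1h6 b) (w1hF b) (w1Fe b) (w1h7 b) (w1tm b) (by decide +kernel) (by decide +kernel) (by decide +kernel) (by decide +kernel) (by decide +kernel) (by decide +kernel) (by decide +kernel)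

end Cfsg.Agent.FiC.U62
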