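import Cfsg.Agent.Fischer.UF3
import Cfsg.Agent.Fischer.UH

set_option autoImplicit false
set_option maxRecDepth 100000
set_option synthInstance.maxSize 2048
set_option Elab.async false
set_option linter.unusedSectionVars false
set_option linter.unusedVariables false

namespace Cfsg.Agent.FiC.U62
open Cfsg.Agent.Comp Cfsg.Agent.FiC

variable {G : Type*} [Group G] [Finite G] {D : Set G} {τ s : ℕ → G}

noncomputable def w3T : List (List Nat) := [[nat_lit 26, nat_lit 44, nat_lit 4, nat_lit 44, nat_lit 26], [nat_lit 45, nat_lit 45, nat_lit 36, nat_lit 46, nat_lit 9, nat_lit 29, nat_lit 40], [nat_lit 24, nat_lit 60, nat_lit 26, nat_lit 32, nat_lit 38, nat_lit 48], [nat_lit 21, nat_lit 30, nat_lit 65, nat_lit 66, nat_lit 34, nat_lit 40, nat_lit 42, nat_lit 40], [nat_lit 8, nat_lit 43, nat_lit 44, nat_lit 26, nat_lit 45, nat_lit 42], [nat_lit 12, nat_lit 43, nat_lit 34, nat_lit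 20, nat_lit 40, nat_lit 14, nat_lit 40, nat_lit 39], [nat_lit 59, nat_lit 2, nat_lit 58, nat_lit 36, nat_lit 32, nat_lit 26, nat_lit 42, nat_lit 40, nat_lit 47]]

noncomputable def w3F : List (List Nat) := [[nat_lit 78, nat_lit 29, nat_lit 36, nat_lit 10, nat_lit 44, nat_lit 26, nat_lit 48], [nat_lit 64, nat_lit 63, nat_lit 61, nat_lit 16, nat_lit 33, nat_lit 37, nat_lit 40, nat_lit 39], [nat_lit 24, nat_lit 60, nat_lit 46, nat_lit 33, nat_lit 0, nat_lit 26, nat_lit 41, nat_lit 42], [nat_lit 62, nat_lit 44, nat_lit 79, nat_lit 33, nat_lit 4, nat_lit 44, nat_lit 37, nat_lit 40]]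

noncomputable def w3N : List (List Nat) := [[nat_lit 76, nat_lit 36, nat_lit 20, nat_lit 32, nat_lit 34, nat_lit 36, nat_lit 36], [nat_lit 42, nat_lit 58, nat_lit 77, nat_lit 4, nat_lit 45, nat_lit 38, nat_lit 45, nat_lit 48]]

theorem w3h2 (b : Base D τ s e2 9196830720) : genW (sv s) (w3T ++ w3N) ≤ genW (sv s) (LW ++ [[nat_lit 80]]) :=
  b.x.sub _ _ [([nat_lit 45, nat_lit 38, nat_lit 38, nat_lit 3, nat_lit 43, nat_lit 38, nat_lit 71, nat_lit 36], [nat_lit 8, nat_lit 16, nat_lit 2, nat_lit 7, nat_lit 13, nat_lit 9, nat_lit 17, nat_lit 0, nat_lit 9, nat_lit 3, nat_lit 11, nat_lit 13, nat_lit 4, nat_lit 2, nat_lit 10, nat_lit 9, nat_lit 4, nat_lit 2, nat_lit 13, nat_lit 9, nat_lit 16, nat_lit 11, nat_lit 3, nat_lit 10]), ([nat_lit 59, nat_lit 39, nat_lit 20, nat_lit 2, nat_lit 0, nat_lit 36, nat_lit 43, nat_lit 48], [nat_lit 1, nat_lit 11, nat_lit 1, nat_lit 16, nat_lit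 5]), ([nat_lit 49, nat_lit 43, nat_lit 44, nat_lit 39, nat_lit 44, nat_lit 67, nat_lit 19, nat_lit 31, nat_lit 37], [nat_lit 2, nat_lit 1, nat_lit 2, nat_lit 1, nat_lit 2]), ([nat_lit 59, nat_lit 46, nat_lit 70, nat_lit 46, nat_lit 32, nat_lit 0, nat_lit 42, nat_lit 38, nat_lit 43], [nat_lit 21, nat_lit 8, nat_lit 4, nat_lit 18, nat_lit 8, nat_lit 14, nat_lit 0]), ([nat_lit 41, nat_lit 46, nat_lit 37, nat_lit 45, nat_lit 5, nat_lit 35, nat_lit 21, nat_lit 28, nat_lit 5], [nat_lit 5, nat_lit 8, nat_lit 16, nat_lit 15, nat_lit 10, nat_lit 1, nat_lit 25]), ([nat_lit 39, nat_lit 61, nat_lit 12, nat_lit 39, nat_lit 26, nat_lit 42, nat_lit 41, nat_lit 47], [nat_lit 16, nat_lit 2, nat_lit 3, nat_lit 0, nat_lit 2, nat_lit 17, nat_lit 1]), ([nat_lit 2, nat_lit 62, nat_lit 10, nat_lit 66, nat_lit 36, nat_lit 26, nat_lit 48, nat_lit 41], [nat_lit 5, nat_lit 5, nat_lit 5, nat_lit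 3, nat_lit 4, nat_lit 3, nat_lit 5, nat_lit 1]), ([nat_lit 80, nat_lit 56, nat_lit 43, nat_lit 10, nat_lit 0, nat_lit 46, nat_lit 39, nat_lit 37, nat_lit 43, nat_lit 47], [nat_lit 1, nat_lit 2, nat_lit 1, nat_lit 3, nat_lit 0, nat_lit 2, nat_lit 1, nat_lit 2]), ([nat_lit 26, nat_lit 24, nat_lit 26, nat_lit 44, nat_lit 40, nat_lit 46], [nat_lit 5, nat_lit 2, nat_lit 2, nat_lit 4, nat_lit 0, nat_lit 2, nat_lit 4, nat_lit 0, nat_lit 3]), ([nat_lit 26, nat_lit 44, nat_lit 4, nat_lit 44, nat_lit 26], [nat_lit 28, nat_lit 32, nat_lit 23, nat_lit 8, nat_lit 5, nat_lit 6, nat_lit 1]), ([nat_lit 45, nat_lit 45, nat_lit 36, nat_lit 46, nat_lit 9, nat_lit 29, nat_lit 40], [nat_lit 15, nat_lit 24, nat_lit 2, nat_lit 13, nat_lit 6, nat_lit 2]), ([nat_lit 24, nat_lit 60, nat_lit 26, nat_lit 32, nat_lit 38, nat_lit 48], [nat_lit 22, nat_lit 25, nat_lit 29, nat_lit 5, nat_lit 9, nat_lit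 5, nat_lit 7]), ([nat_lit 21, nat_lit 30, nat_lit 65, nat_lit 66, nat_lit 34, nat_lit 40, nat_lit 42, nat_lit 40], [nat_lit 10, nat_lit 16, nat_lit 24, nat_lit 13, nat_lit 10, nat_lit 9]), ([nat_lit 8, nat_lit 43, nat_lit 44, nat_lit 26, nat_lit 45, nat_lit 42], [nat_lit 16, nat_lit 30, nat_lit 13, nat_lit 32, nat_lit 13]), ([nat_lit 12, nat_lit 43, nat_lit 34, nat_lit 20, nat_lit 40, nat_lit 14, nat_lit 40, nat_lit 39], [nat_lit 19, nat_lit 45, nat_lit 30, nat_lit 20, nat_lit 16, nat_lit 12, nat_lit 14, nat_lit 16]), ([nat_lit 59, nat_lit 2, nat_lit 58, nat_lit 36, nat_lit 32, nat_lit 26, nat_lit 42, nat_lit 40, nat_lit 47], [nat_lit 21, nat_lit 28, nat_lit 32, nat_lit 22, nat_lit 17, nat_lit 12, nat_lit 18, nat_lit 12]), ([nat_lit 76, nat_lit 36, nat_lit 20, nat_lit 32, nat_lit 34, nat_lit 36, nat_lit 36], [nat_lit 28, nat_lit 34, nat_lit 19, nat_lit 17, nat_lit 18,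 nat_lit 16]), ([nat_lit 42, nat_lit 58, nat_lit 77, nat_lit 4, nat_lit 45, nat_lit 38, nat_lit 45, nat_lit 48], [nat_lit 27, nat_lit 22, nat_lit 34, nat_lit 23, nat_lit 20, nat_lit 16, nat_lit 19])] (by decide +kernel)

theorem w3h3 (b : Base D τ s e2 9196830720) : genW (sv s) k3A ≤ Subgroup.normalizer (genW (sv s) k3V : Set G) :=
  b.x.nz _ _ [[[nat_lit 4], [nat_lit 0, nat_lit 2, nat_lit 4], [nat_lit 2, nat_lit 4], [nat_lit 0, nat_lit 2, nat_lit 4, nat_lit 6]], [[nat_lit 4], [nat_lit 0, nat_lit 2, nat_lit 4, nat_lit 6], [nat_lit 0], [nat_lit 6]], [[nat_lit 2, nat_lit 6], [nat_lit 0, nat_lit 2, nat_lit 4], [nat_lit 0, nat_lit 2, nat_lit 4, nat_lit 6], [nat_lit 2, nat_lit 4]], [[nat_lit 0, nat_lit 6], [nat_lit 0, nat_lit 2, nat_lit 4], [nat_lit 4, nat_lit 6], [nat_lit 6]]] (by decide +kernel)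

theorem w3Tpc (b : Base D τ s e2 9196830720) : PC s 2 w3T :=
  Cx.pcs b.x _ _ [[[]], [[nat_lit 4], [nat_lit 2, nat_lit 4, nat_lit 6]], [[nat_lit 4], [nat_lit 0, nat_lit 2, nat_lit 6], [nat_lit 4, nat_lit 6]], [[nat_lit 2, nat_lit 4], [nat_lit 2, nat_lit 4], [nat_lit 2], [nat_lit 4]], [[], [nat_lit 0], [nat_lit 0, nat_lit 2], [nat_lit 2], []], [[], [nat_lit 0], [], [], [], []], [[], [], [], [], [], [], []]] (by decide +kernel)

theorem w3ge1 (b : Base D τ s e2 9196830720) : GE s [[nat_lit 26, nat_lit 21, nat_lit 42, nat_lit 36, nat_lit 42, nat_lit 48, nat_lit 47]] 2 :=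
  GE.step b.x (GE.base []) _ [] (nat_lit 0) [nat_lit 0] (nat_lit 2) 2 (by decide +kernel)

theorem w3ge2 (b : Base D τ s e2 9196830720) : GE s [[nat_lit 26, nat_lit 44, nat_lit 4, nat_lit 44, nat_lit 26], [nat_lit 45, nat_lit 45, nat_lit 36, nat_lit 46, nat_lit 9, nat_lit 29, nat_lit 40], [nat_lit 24, nat_lit 60, nat_lit 26, nat_lit 32, nat_lit 38, nat_lit 48], [nat_lit 21, nat_lit 30, nat_lit 65, nat_lit 66, nat_lit 34, nat_lit 40, nat_lit 42, nat_lit 40], [nat_lit 8, nat_lit 43, nat_lit 44, nat_lit 26, nat_lit 45, nat_lit 42], [nat_lit 12, nat_lit 43, nat_lit 34, nat_lit 20, nat_lit 40, nat_lit 14, nat_lit 40, nat_lit 39], [nat_lit 59, nat_lit 2, nat_lit 58, nat_lit 36, nat_lit 32, nat_lit 26, nat_lit 42, nat_lit 40, nat_lit 47]] 128 :=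
  GE.step b.x (w3ge1 b) _ [([nat_lit 26, nat_lit 21, nat_lit 42, nat_lit 36, nat_lit 42, nat_lit 48, nat_lit 47], [nat_lit 9, nat_lit 3, nat_lit 4])] (nat_lit 2) [nat_lit 0, nat_lit 2, nat_lit 4, nat_lit 1, nat_lit 2, nat_lit 0, nat_lit 2, nat_lit 0] (nat_lit 64) 128 (by decide +kernel)

theorem w3Tge (b : Base D τ s e2 9196830720) : GE s w3T (2 ^ w3T.length) :=
  (w3ge2 b)

theorem w3Tcard (b : Base D τ s e2 9196830720) : Nat.card (genW (sv s) w3T) = 128 :=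
  (w3Tpc b).card0 (by norm_num) (w3Tge b)

theorem w3h6 (b : Base D τ s e2 9196830720) : genW (sv s) w3F ≤ genW (sv s) w3T :=
  b.x.leW _ _ [[nat_lit 4, nat_lit 8, nat_lit 12], [nat_lit 5, nat_lit 8], [nat_lit 4, nat_lit 8], [nat_lit 2, nat_lit 2, nat_lit 12]] (by decide +kernel)

theorem w3Fe (b : Base D τ s e2 9196830720) : IsElementaryAbelian 2 (genW (sv s) w3F) :=
  b.x.elem _ _ (by decide +kernel)

theorem w3Ve (b : Base D τ s e2 9196830720) : IsElementaryAbelian 2 (genW (sv s) k3V) :=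
  b.x.elem _ _ (by decide +kernel)

theorem w3ge3 (b : Base D τ s e2 9196830720) : GE s [[nat_lit 78, nat_lit 29, nat_lit 36, nat_lit 10, nat_lit 44, nat_lit 26, nat_lit 48], [nat_lit 64, nat_lit 63, nat_lit 61, nat_lit 16, nat_lit 33, nat_lit 37, nat_lit 40, nat_lit 39], [nat_lit 24, nat_lit 60, nat_lit 46, nat_lit 33, nat_lit 0, nat_lit 26, nat_lit 41, nat_lit 42], [nat_lit 62, nat_lit 44, nat_lit 79, nat_lit 33, nat_lit 4, nat_lit 44, nat_lit 37, nat_lit 40]] 16 :=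
  GE.step b.x (GE.base []) _ [] (nat_lit 1) [nat_lit 0, nat_lit 1, nat_lit 2, nat_lit 3] (nat_lit 16) 16 (by decide +kernel)

theorem w3hF (b : Base D τ s e2 9196830720) : Nat.card (genW (sv s) w3F) = 16 :=
  card_of_elem (p := 2) two_pos (w3Fe b) (w3ge3 b)

theorem w3h7 (b : Base D τ s e2 9196830720) : genW (sv s) w3N ≤ Subgroup.normalizer (genW (sv s) w3F : Set G) :=
  b.x.nz _ _ [[[nat_lit 0], [nat_lit 2, nat_lit 6], [nat_lit 4], [nat_lit 0, nat_lit 2]], [[nat_lit 2, nat_lit 4], [nat_lit 0, nat_lit 2], [nat_lit 0, nat_lit 2, nat_lit 6], [nat_lit 0, nat_lit 2, nat_lit 4, nat_lit 6]]] (by decide +kernel)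

noncomputable def w3Z : List (List Nat) := [[], [nat_lit 72, nat_lit 12, nat_lit 71, nat_lit 33, nat_lit 44, nat_lit 4, nat_lit 37, nat_lit 45, nat_lit 47], [nat_lit 60, nat_lit 39, nat_lit 59, nat_lit 10, nat_lit 33, nat_lit 36, nat_lit 42, nat_lit 26, nat_lit 45, nat_lit 42, nat_lit 46], [nat_lit 12, nat_lit 4, nat_lit 56, nat_lit 10, nat_lit 0, nat_lit 37, nat_lit 26, nat_lit 44, nat_lit 47], [nat_lit 81, nat_lit 68, nat_lit 20, nat_lit 42, nat_lit 16, nat_lit 39, nat_lit 47], [nat_lit 54, nat_lit 37, nat_lit 79, nat_lit 66, nat_lit 52, nat_lit 43, nat_lit 37, nat_lit 43, nat_lit 48], [nat_lit 39, nat_lit 42, nat_lit 62, nat_lit 52, nat_lit 0, nat_lit 46, nat_lit 41, nat_lit 47], [nat_lit 20, nat_lit 81, nat_lit 59, nat_lit 8, nat_lit 35, nat_lit 45, nat_lit 26, nat_lit 44, nat_lit 40], [nat_lit 24, nat_lit 60, nat_lit 46, nat_lit 33, nat_lit 0, nat_lit 26, nat_lit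 41, nat_lit 42], [nat_lit 49, nat_lit 37, nat_lit 21, nat_lit 43, nat_lit 10, nat_lit 0, nat_lit 26, nat_lit 46, nat_lit 43, nat_lit 40, nat_lit 46], [nat_lit 26, nat_lit 21, nat_lit 42, nat_lit 36, nat_lit 42, nat_lit 48, nat_lit 47], [nat_lit 16, nat_lit 42, nat_lit 24, nat_lit 43, nat_lit 12, nat_lit 43, nat_lit 44, nat_lit 26, nat_lit 45, nat_lit 42], [nat_lit 38, nat_lit 24, nat_lit 60, nat_lit 6, nat_lit 33, nat_lit 36, nat_lit 36, nat_lit 42, nat_lit 48, nat_lit 46], [nat_lit 43, nat_lit 34, nat_lit 20, nat_lit 47, nat_lit 34, nat_lit 37, nat_lit 42, nat_lit 36, nat_lit 45, nat_lit 42], [nat_lit 56, nat_lit 12, nat_lit 71, nat_lit 52, nat_lit 26, nat_lit 38, nat_lit 46], [nat_lit 29, nat_lit 24, nat_lit 20, nat_lit 18, nat_lit 8, nat_lit 0, nat_lit 47, nat_lit 39, nat_lit 26, nat_lit 46], [nat_lit 8, nat_lit 74, nat_lit 42, nat_lit 32, nat_lit 38, nat_lit 41, nat_lit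 26, nat_lit 40, nat_lit 45, nat_lit 46], [nat_lit 36, nat_lit 81, nat_lit 59, nat_lit 10, nat_lit 33, nat_lit 26, nat_lit 45, nat_lit 42, nat_lit 47], [nat_lit 17, nat_lit 14, nat_lit 6, nat_lit 37, nat_lit 26, nat_lit 44, nat_lit 47], [nat_lit 39, nat_lit 37, nat_lit 21, nat_lit 12, nat_lit 36, nat_lit 41, nat_lit 26, nat_lit 42, nat_lit 48, nat_lit 47], [nat_lit 38, nat_lit 45, nat_lit 20, nat_lit 32, nat_lit 32, nat_lit 36, nat_lit 38, nat_lit 47, nat_lit 40, nat_lit 48], [nat_lit 39, nat_lit 28, nat_lit 30, nat_lit 8, nat_lit 66, nat_lit 43, nat_lit 37, nat_lit 45, nat_lit 48], [nat_lit 66, nat_lit 62, nat_lit 60, nat_lit 10, nat_lit 37, nat_lit 42, nat_lit 36, nat_lit 44, nat_lit 47], [nat_lit 53, nat_lit 34, nat_lit 62, nat_lit 38, nat_lit 34, nat_lit 44, nat_lit 26, nat_lit 44, nat_lit 46], [nat_lit 80, nat_lit 50, nat_lit 39, nat_lit 10, nat_lit 38, nat_lit 37,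 nat_lit 46, nat_lit 41, nat_lit 48], [nat_lit 78, nat_lit 29, nat_lit 36, nat_lit 10, nat_lit 44, nat_lit 26, nat_lit 48], [nat_lit 7, nat_lit 30, nat_lit 29, nat_lit 20, nat_lit 4, nat_lit 45, nat_lit 26, nat_lit 43, nat_lit 47, nat_lit 40], [nat_lit 9, nat_lit 14, nat_lit 74, nat_lit 12, nat_lit 52, nat_lit 0, nat_lit 43, nat_lit 40, nat_lit 46], [nat_lit 30, nat_lit 28, nat_lit 36, nat_lit 14, nat_lit 38, nat_lit 38, nat_lit 42, nat_lit 40, nat_lit 47], [nat_lit 54, nat_lit 44, nat_lit 4, nat_lit 44, nat_lit 26], [nat_lit 39, nat_lit 37, nat_lit 20, nat_lit 12, nat_lit 39, nat_lit 40, nat_lit 44, nat_lit 40, nat_lit 47], [nat_lit 29, nat_lit 24, nat_lit 20, nat_lit 46, nat_lit 33, nat_lit 42, nat_lit 37, nat_lit 26, nat_lit 46, nat_lit 41], [nat_lit 8, nat_lit 43, nat_lit 44, nat_lit 26, nat_lit 45, nat_lit 42], [nat_lit 40, nat_lit 76, nat_lit 28, nat_lit 20, nat_lit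 38, nat_lit 4, nat_lit 38, nat_lit 37, nat_lit 44, nat_lit 40], [nat_lit 40, nat_lit 45, nat_lit 63, nat_lit 34, nat_lit 0, nat_lit 44, nat_lit 37, nat_lit 46, nat_lit 41], [nat_lit 77, nat_lit 28, nat_lit 20, nat_lit 39, nat_lit 32, nat_lit 2, nat_lit 42, nat_lit 36, nat_lit 43, nat_lit 48]]

theorem w3tm (b : Base D τ s e2 9196830720) {A : Subgroup G} : A ≤ genW (sv s) w3T → (∀ a ∈ A, a * a = 1) → 16 ≤ Nat.card A → A ≤ genW (sv s) k3V ∨ A ≤ genW (sv s) w3F :=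
  b.x.tm (w3Tpc b) _ _ w3Z [[nat_lit 0, nat_lit 0], [nat_lit 0, nat_lit 2], [nat_lit 0, nat_lit 13], [nat_lit 0, nat_lit 1], [nat_lit 0, nat_lit 32], [nat_lit 0, nat_lit 33], [nat_lit 0, nat_lit 17], [nat_lit 0, nat_lit 15], [nat_lit 0, nat_lit 0], [nat_lit 0, nat_lit 0], [nat_lit 0, nat_lit 0], [nat_lit 0, nat_lit 0], [nat_lit 0, nat_lit 34], [nat_lit 0, nat_lit 16], [nat_lit 0, nat_lit 14], [nat_lit 0, nat_lit 35], [nat_lit 0, nat_lit 0], [nat_lit 0, nat_lit 0], [nat_lit 0, nat_lit 0], [nat_lit 0, nat_lit 0], [nat_lit 0, nat_lit 8], [nat_lit 0, nat_lit 25], [nat_lit 0, nat_lit 30], [nat_lit 0, nat_lit 21], [nat_lit 0, nat_lit 6], [nat_lit 0, nat_lit 12], [nat_lit 0, nat_lit 23], [nat_lit 0, nat_lit 19], [nat_lit 1, nat_lit 0], [nat_lit 1, nat_lit 0], [nat_lit 1, nat_lit 0], [nat_lit 1, nat_lit 0], [nat_lit 0, nat_lit 0], [nat_lit 0, nat_lit 0], [nat_lit 0, nat_lit 0],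 [nat_lit 0, nat_lit 0], [nat_lit 0, nat_lit 0], [nat_lit 0, nat_lit 0], [nat_lit 0, nat_lit 0], [nat_lit 0, nat_lit 0], [nat_lit 0, nat_lit 0], [nat_lit 0, nat_lit 0], [nat_lit 0, nat_lit 0], [nat_lit 0, nat_lit 0], [nat_lit 0, nat_lit 0], [nat_lit 0, nat_lit 0], [nat_lit 0, nat_lit 0], [nat_lit 0, nat_lit 0], [nat_lit 0, nat_lit 3], [nat_lit 0, nat_lit 11], [nat_lit 0, nat_lit 0], [nat_lit 0, nat_lit 0], [nat_lit 0, nat_lit 28], [nat_lit 0, nat_lit 5], [nat_lit 0, nat_lit 0], [nat_lit 0, nat_lit 0], [nat_lit 0, nat_lit 0], [nat_lit 0, nat_lit 0], [nat_lit 0, nat_lit 10], [nat_lit 0, nat_lit 26], [nat_lit 0, nat_lit 27], [nat_lit 0, nat_lit 24], [nat_lit 0, nat_lit 0], [nat_lit 0, nat_lit 0], [nat_lit 0, nat_lit 29], [nat_lit 0, nat_lit 20], [nat_lit 0, nat_lit 7], [nat_lit 0, nat_lit 31], [nat_lit 0, nat_lit 18], [nat_lit 0, nat_lit 9], [nat_lit 0, nat_lit 22], [nat_lit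 0, nat_lit 4], [nat_lit 1, nat_lit 0], [nat_lit 1, nat_lit 0], [nat_lit 1, nat_lit 0], [nat_lit 1, nat_lit 0], [nat_lit 0, nat_lit 0], [nat_lit 0, nat_lit 0], [nat_lit 0, nat_lit 0], [nat_lit 0, nat_lit 0], [nat_lit 0, nat_lit 0], [nat_lit 0, nat_lit 0], [nat_lit 0, nat_lit 0], [nat_lit 0, nat_lit 0], [nat_lit 1, nat_lit 0], [nat_lit 1, nat_lit 0], [nat_lit 1, nat_lit 0], [nat_lit 1, nat_lit 0], [nat_lit 0, nat_lit 0], [nat_lit 0, nat_lit 0], [nat_lit 0, nat_lit 0], [nat_lit 0, nat_lit 0], [nat_lit 0, nat_lit 0], [nat_lit 0, nat_lit 0], [nat_lit 0, nat_lit 0], [nat_lit 0, nat_lit 0], [nat_lit 0, nat_lit 0], [nat_lit 0, nat_lit 0], [nat_lit 0, nat_lit 0], [nat_lit 0, nat_lit 0], [nat_lit 0, nat_lit 0], [nat_lit 0, nat_lit 0], [nat_lit 0, nat_lit 0], [nat_lit 0, nat_lit 0], [nat_lit 0, nat_lit 0], [nat_lit 0, nat_lit 0], [nat_lit 0, nat_lit 0], [nat_lit 0, nat_lit 0], [nat_lit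 0, nat_lit 0], [nat_lit 0, nat_lit 0], [nat_lit 0, nat_lit 0], [nat_lit 0, nat_lit 0], [nat_lit 0, nat_lit 0], [nat_lit 0, nat_lit 0], [nat_lit 2, nat_lit 0], [nat_lit 2, nat_lit 0], [nat_lit 0, nat_lit 0], [nat_lit 0, nat_lit 0], [nat_lit 2, nat_lit 0], [nat_lit 2, nat_lit 0], [nat_lit 1, nat_lit 0], [nat_lit 1, nat_lit 0], [nat_lit 0, nat_lit 0], [nat_lit 0, nat_lit 0], [nat_lit 0, nat_lit 0], [nat_lit 0, nat_lit 0], [nat_lit 1, nat_lit 0], [nat_lit 1, nat_lit 0]] [[], [nat_lit 2, nat_lit 6], [nat_lit 4, nat_lit 6], [nat_lit 0, nat_lit 0, nat_lit 0, nat_lit 0, nat_lit 2, nat_lit 0, nat_lit 0, nat_lit 2, nat_lit 0, nat_lit 0, nat_lit 0, nat_lit 0, nat_lit 0, nat_lit 0, nat_lit 0, nat_lit 0, nat_lit 0, nat_lit 0, nat_lit 0, nat_lit 0, nat_lit 0, nat_lit 0, nat_lit 2, nat_lit 0, nat_lit 0, nat_lit 0, nat_lit 0, nat_lit 0, nat_lit 0, nat_lit 0, nat_lit 0, nat_lit 2, nat_lit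 0, nat_lit 0, nat_lit 0, nat_lit 0], [nat_lit 0, nat_lit 2, nat_lit 6], [nat_lit 0, nat_lit 0, nat_lit 0, nat_lit 0, nat_lit 2, nat_lit 0, nat_lit 0, nat_lit 2, nat_lit 0, nat_lit 0, nat_lit 0, nat_lit 0, nat_lit 0, nat_lit 0, nat_lit 0, nat_lit 0, nat_lit 0, nat_lit 0, nat_lit 0, nat_lit 0, nat_lit 0, nat_lit 0, nat_lit 2, nat_lit 0, nat_lit 0, nat_lit 0, nat_lit 0, nat_lit 0, nat_lit 0, nat_lit 0, nat_lit 0, nat_lit 2, nat_lit 0, nat_lit 0, nat_lit 0, nat_lit 0], [nat_lit 0, nat_lit 2, nat_lit 4, nat_lit 6], [nat_lit 0, nat_lit 4], [nat_lit 4], [nat_lit 0, nat_lit 4, nat_lit 6], [nat_lit 0, nat_lit 0, nat_lit 0, nat_lit 0, nat_lit 0, nat_lit 0, nat_lit 0, nat_lit 1, nat_lit 0, nat_lit 1, nat_lit 0, nat_lit 0, nat_lit 0, nat_lit 0, nat_lit 0, nat_lit 0, nat_lit 0, nat_lit 0, nat_lit 1, nat_lit 0, nat_lit 0, nat_lit 0, nat_lit 0, nat_lit 0, nat_lit 0, nat_lit 0, nat_lit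 0, nat_lit 0, nat_lit 0, nat_lit 0, nat_lit 0, nat_lit 1, nat_lit 0, nat_lit 0, nat_lit 0, nat_lit 0], [nat_lit 0, nat_lit 0, nat_lit 0, nat_lit 0, nat_lit 2, nat_lit 0, nat_lit 0, nat_lit 2, nat_lit 0, nat_lit 0, nat_lit 0, nat_lit 0, nat_lit 0, nat_lit 0, nat_lit 0, nat_lit 0, nat_lit 0, nat_lit 0, nat_lit 0, nat_lit 0, nat_lit 0, nat_lit 0, nat_lit 2, nat_lit 0, nat_lit 0, nat_lit 0, nat_lit 0, nat_lit 0, nat_lit 0, nat_lit 0, nat_lit 0, nat_lit 2, nat_lit 0, nat_lit 0, nat_lit 0, nat_lit 0], [nat_lit 2, nat_lit 6], [nat_lit 2, nat_lit 4], [nat_lit 0, nat_lit 4, nat_lit 6], [nat_lit 6], [nat_lit 0, nat_lit 2, nat_lit 6], [nat_lit 4], [nat_lit 0], [nat_lit 0, nat_lit 6], [nat_lit 0, nat_lit 2, nat_lit 4, nat_lit 6], [nat_lit 2], [nat_lit 0, nat_lit 2, nat_lit 4], [nat_lit 4, nat_lit 6], [nat_lit 0, nat_lit 0, nat_lit 0, nat_lit 0, nat_lit 0, nat_lit 0, nat_lit 0, nat_lit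 1, nat_lit 0, nat_lit 1, nat_lit 0, nat_lit 0, nat_lit 0, nat_lit 0, nat_lit 0, nat_lit 0, nat_lit 0, nat_lit 0, nat_lit 1, nat_lit 0, nat_lit 0, nat_lit 0, nat_lit 0, nat_lit 0, nat_lit 0, nat_lit 0, nat_lit 0, nat_lit 0, nat_lit 0, nat_lit 0, nat_lit 0, nat_lit 1, nat_lit 0, nat_lit 0, nat_lit 0, nat_lit 0], [nat_lit 0], [nat_lit 0, nat_lit 0, nat_lit 0, nat_lit 0, nat_lit 0, nat_lit 0, nat_lit 0, nat_lit 1, nat_lit 0, nat_lit 1, nat_lit 0, nat_lit 0, nat_lit 0, nat_lit 0, nat_lit 0, nat_lit 0, nat_lit 0, nat_lit 0, nat_lit 1, nat_lit 0, nat_lit 0, nat_lit 0, nat_lit 0, nat_lit 0, nat_lit 0, nat_lit 0, nat_lit 0, nat_lit 0, nat_lit 0, nat_lit 0, nat_lit 0, nat_lit 1, nat_lit 0, nat_lit 0, nat_lit 0, nat_lit 0], [nat_lit 0, nat_lit 0, nat_lit 0, nat_lit 0, nat_lit 0, nat_lit 0, nat_lit 0, nat_lit 1, nat_lit 0, nat_lit 1, nat_lit 0, nat_lit 0, nat_lit 0, nat_lit 0, nat_lit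 0, nat_lit 0, nat_lit 0, nat_lit 0, nat_lit 1, nat_lit 0, nat_lit 0, nat_lit 0, nat_lit 0, nat_lit 0, nat_lit 0, nat_lit 0, nat_lit 0, nat_lit 0, nat_lit 0, nat_lit 0, nat_lit 0, nat_lit 1, nat_lit 0, nat_lit 0, nat_lit 0, nat_lit 0], [nat_lit 0, nat_lit 0, nat_lit 0, nat_lit 0, nat_lit 2, nat_lit 0, nat_lit 0, nat_lit 2, nat_lit 0, nat_lit 0, nat_lit 0, nat_lit 0, nat_lit 0, nat_lit 0, nat_lit 0, nat_lit 0, nat_lit 0, nat_lit 0, nat_lit 0, nat_lit 0, nat_lit 0, nat_lit 0, nat_lit 2, nat_lit 0, nat_lit 0, nat_lit 0, nat_lit 0, nat_lit 0, nat_lit 0, nat_lit 0, nat_lit 0, nat_lit 2, nat_lit 0, nat_lit 0, nat_lit 0, nat_lit 0], [nat_lit 0, nat_lit 2], [nat_lit 0, nat_lit 2, nat_lit 4], [nat_lit 0, nat_lit 6], [nat_lit 2], [nat_lit 2, nat_lit 4, nat_lit 6], [nat_lit 2, nat_lit 4, nat_lit 6], [nat_lit 6]] (by decide +kernel) (by decide +kernel)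

theorem w3kw (b : Base D τ s e2 9196830720) : KW D (genW (sv s) (LW ++ [[nat_lit 80]])) (genW (sv s) k3V) (genW (sv s) w3F) (genW (sv s) w3T) (E s [nat_lit 6]) :=
  b.kw k3S [[nat_lit 20, nat_lit 64, nat_lit 0, nat_lit 65, nat_lit 21], [nat_lit 35, nat_lit 61, nat_lit 0, nat_lit 60, nat_lit 34], [nat_lit 21, nat_lit 71, nat_lit 0, nat_lit 70, nat_lit 20], [nat_lit 10, nat_lit 72, nat_lit 11], [nat_lit 6], [nat_lit 28, nat_lit 48, nat_lit 29], [nat_lit 30, nat_lit 6, nat_lit 31], [nat_lit 42, nat_lit 24, nat_lit 43], [nat_lit 31, nat_lit 63, nat_lit 0, nat_lit 62, nat_lit 30], [nat_lit 32, nat_lit 29, nat_lit 6, nat_lit 28, nat_lit 33], [nat_lit 56, nat_lit 21, nat_lit 0, nat_lit 20, nat_lit 57], [nat_lit 43, nat_lit 60, nat_lit 0, nat_lit 61, nat_lit 42], [nat_lit 60, nat_lit 29, nat_lit 0, nat_lit 28, nat_lit 61], [nat_lit 64, nat_lit 24, nat_lit 65], [nat_lit 12, nat_lit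 26, nat_lit 13], [nat_lit 30, nat_lit 56, nat_lit 31], [nat_lit 12, nat_lit 32, nat_lit 6, nat_lit 33, nat_lit 13], [nat_lit 8, nat_lit 56, nat_lit 9], [nat_lit 45, nat_lit 63, nat_lit 6, nat_lit 62, nat_lit 44], [nat_lit 31, nat_lit 65, nat_lit 0, nat_lit 64, nat_lit 30], [nat_lit 30, nat_lit 72, nat_lit 31]] [[nat_lit 0, nat_lit 0], [nat_lit 1, nat_lit 2], [nat_lit 0, nat_lit 1], [nat_lit 0, nat_lit 1], [nat_lit 0, nat_lit 1], [nat_lit 0, nat_lit 1], [nat_lit 1, nat_lit 2], [nat_lit 2, nat_lit 0], [nat_lit 0, nat_lit 1], [nat_lit 0, nat_lit 1], [nat_lit 1, nat_lit 2], [nat_lit 3, nat_lit 0], [nat_lit 2, nat_lit 0], [nat_lit 1, nat_lit 2], [nat_lit 0, nat_lit 1], [nat_lit 0, nat_lit 1]] [[], [nat_lit 2, nat_lit 2], [nat_lit 2, nat_lit 0, nat_lit 3], [nat_lit 0, nat_lit 3], [nat_lit 2, nat_lit 1, nat_lit 2], [nat_lit 3, nat_lit 0, nat_lit 3], [nat_lit 2], [nat_lit 0, nat_lit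 2], [], [nat_lit 1, nat_lit 2, nat_lit 1, nat_lit 2], [nat_lit 3, nat_lit 1, nat_lit 2], [nat_lit 1, nat_lit 2], [nat_lit 0, nat_lit 2, nat_lit 2], [nat_lit 1, nat_lit 2, nat_lit 2], [nat_lit 1, nat_lit 3], [nat_lit 3]] [nat_lit 6] [nat_lit 0, nat_lit 1, nat_lit 2, nat_lit 3, nat_lit 4, nat_lit 7, nat_lit 1, nat_lit 6, nat_lit 8, nat_lit 1, nat_lit 2, nat_lit 0, nat_lit 1] [nat_lit 50] [nat_lit 39, nat_lit 6, nat_lit 38] [nat_lit 0, nat_lit 4] [nat_lit 0] [nat_lit 8, nat_lit 10, nat_lit 12, nat_lit 14] [nat_lit 9] [nat_lit 72] [nat_lit 78, nat_lit 29, nat_lit 36, nat_lit 10, nat_lit 44, nat_lit 26, nat_lit 48] (nat_lit 1) (nat_lit 1) (nat_lit 1) (nat_lit 0) (nat_lit 0) (k3iso b).1 (k3h1 b) (w3h2 b) (k3hV b) (w3Ve b) (w3h3 b) (k3h5 b) (w3Tcard b) (w3h6 b) (w3hF b) (w3Fe b) (w3h7 b) (w3tm b) (by decide +kernel) (by decide +kernel) (by decide +kernel) (by decide +kernel)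 (by decide +kernel) (by decide +kernel) (by decide +kernel)

end Cfsg.Agent.FiC.U62
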