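import Cfsg.Agent.Fischer.UI1
import Cfsg.Agent.Fischer.UK

set_option autoImplicit false
set_option maxRecDepth 100000
set_option synthInstance.maxSize 2048
set_option Elab.async false
set_option linter.unusedSectionVars false
set_option linter.unusedVariables false

namespace Cfsg.Agent.FiC.U62
open Cfsg.Agent.Comp Cfsg.Agent.FiC

variable {G : Type*} [Group G] [Finite G] {D : Set G} {τ s : ℕ → G}

noncomputable def o1N : List (List Nat) := [[nat_lit 42, nat_lit 37, nat_lit 33, nat_lit 39, nat_lit 70], [nat_lit 47, nat_lit 38, nat_lit 44, nat_lit 34, nat_lit 67, nat_lit 25]]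

noncomputable def o1C : List (List Nat) := [[nat_lit 76, nat_lit 59], [nat_lit 34, nat_lit 60, nat_lit 2, nat_lit 0, nat_lit 40, nat_lit 39, nat_lit 41, nat_lit 48, nat_lit 46]]

theorem o1h1 (b : Base D τ s e2 9196830720) : genW (sv s) ((w1F ++ o1N) ++ o1C) ≤ genW (sv s) (LW ++ [[nat_lit 76]]) :=
  b.x.sub _ _ [([nat_lit 47, nat_lit 41, nat_lit 43, nat_lit 40, nat_lit 37, nat_lit 47, nat_lit 67, nat_lit 36, nat_lit 60, nat_lit 11], [nat_lit 11, nat_lit 17, nat_lit 12, nat_lit 1, nat_lit 3, nat_lit 14, nat_lit 1, nat_lit 2, nat_lit 15, nat_lit 5, nat_lit 9, nat_lit 12, nat_lit 14, nat_lit 10, nat_lit 1, nat_lit 12, nat_lit 7, nat_lit 17, nat_lit 1, nat_lit 15, nat_lit 0, nat_lit 8, nat_lit 2, nat_lit 16]), ([nat_lit 12, nat_lit 29, nat_lit 42, nat_lit 14, nat_lit 26, nat_lit 38, nat_lit 37, nat_lit 43], [nat_lit 1, nat_lit 4, nat_lit 3, nat_lit 11, nat_lit 9]), ([nat_lit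 36, nat_lit 34, nat_lit 21, nat_lit 39, nat_lit 33, nat_lit 48, nat_lit 39, nat_lit 45], [nat_lit 10, nat_lit 17, nat_lit 0, nat_lit 5, nat_lit 9]), ([nat_lit 34, nat_lit 71, nat_lit 74, nat_lit 46, nat_lit 2, nat_lit 38, nat_lit 38, nat_lit 48, nat_lit 41], [nat_lit 6, nat_lit 0, nat_lit 18, nat_lit 6, nat_lit 16, nat_lit 22, nat_lit 4]), ([nat_lit 41, nat_lit 42, nat_lit 41, nat_lit 27, nat_lit 37, nat_lit 39, nat_lit 35, nat_lit 40, nat_lit 70, nat_lit 38], [nat_lit 9, nat_lit 13, nat_lit 16, nat_lit 15, nat_lit 3, nat_lit 0, nat_lit 19]), ([nat_lit 27, nat_lit 39, nat_lit 28, nat_lit 34, nat_lit 4, nat_lit 46, nat_lit 37, nat_lit 44, nat_lit 48], [nat_lit 2, nat_lit 1, nat_lit 1, nat_lit 1, nat_lit 2, nat_lit 0, nat_lit 2, nat_lit 1]), ([nat_lit 44, nat_lit 70, nat_lit 24, nat_lit 26, nat_lit 33, nat_lit 40, nat_lit 39, nat_lit 39, nat_lit 43, nat_lit 44], [nat_lit 5,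 nat_lit 3, nat_lit 4, nat_lit 5, nat_lit 2, nat_lit 5, nat_lit 1, nat_lit 2]), ([nat_lit 46, nat_lit 49, nat_lit 43, nat_lit 40, nat_lit 36, nat_lit 38, nat_lit 5, nat_lit 17, nat_lit 71, nat_lit 29], [nat_lit 1, nat_lit 0, nat_lit 2, nat_lit 0, nat_lit 3, nat_lit 1]), ([nat_lit 41, nat_lit 42, nat_lit 37, nat_lit 49, nat_lit 1, nat_lit 13, nat_lit 42, nat_lit 64, nat_lit 78], [nat_lit 4, nat_lit 3, nat_lit 3, nat_lit 0, nat_lit 3, nat_lit 0, nat_lit 2]), ([nat_lit 34, nat_lit 36, nat_lit 4, nat_lit 39, nat_lit 40, nat_lit 46], [nat_lit 22, nat_lit 11, nat_lit 4, nat_lit 6, nat_lit 6, nat_lit 3]), ([nat_lit 29, nat_lit 30, nat_lit 12, nat_lit 10, nat_lit 41, nat_lit 38, nat_lit 26, nat_lit 41], [nat_lit 3, nat_lit 9, nat_lit 24, nat_lit 7, nat_lit 9, nat_lit 6, nat_lit 2]), ([nat_lit 52, nat_lit 14, nat_lit 74, nat_lit 14, nat_lit 66, nat_lit 41, nat_lit 26, nat_lit 47], [nat_lit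 13, nat_lit 15, nat_lit 24, nat_lit 9, nat_lit 6]), ([nat_lit 63, nat_lit 58, nat_lit 26, nat_lit 34, nat_lit 37, nat_lit 38, nat_lit 43, nat_lit 41], [nat_lit 35, nat_lit 27, nat_lit 25, nat_lit 14, nat_lit 16, nat_lit 12, nat_lit 10, nat_lit 12, nat_lit 12]), ([nat_lit 42, nat_lit 37, nat_lit 33, nat_lit 39, nat_lit 70], [nat_lit 10, nat_lit 9, nat_lit 13, nat_lit 19, nat_lit 8, nat_lit 23]), ([nat_lit 47, nat_lit 38, nat_lit 44, nat_lit 34, nat_lit 67, nat_lit 25], [nat_lit 30, nat_lit 19, nat_lit 21, nat_lit 15, nat_lit 15, nat_lit 13]), ([nat_lit 76, nat_lit 59], [nat_lit 46, nat_lit 31]), ([nat_lit 34, nat_lit 60, nat_lit 2, nat_lit 0, nat_lit 40, nat_lit 39, nat_lit 41, nat_lit 48, nat_lit 46], [nat_lit 22, nat_lit 42, nat_lit 25, nat_lit 23, nat_lit 24, nat_lit 21, nat_lit 16])] (by decide +kernel)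

theorem o1h3 (b : Base D τ s e2 9196830720) : genW (sv s) o1N ≤ Subgroup.normalizer (genW (sv s) w1F : Set G) :=
  b.x.nz _ _ [[[nat_lit 0, nat_lit 2], [nat_lit 0, nat_lit 4], [nat_lit 4], [nat_lit 2, nat_lit 6]], [[nat_lit 4], [nat_lit 2, nat_lit 6], [nat_lit 0, nat_lit 2, nat_lit 4], [nat_lit 0, nat_lit 2, nat_lit 4, nat_lit 6]]] (by decide +kernel)

theorem o1ge1 (b : Base D τ s e2 9196830720) : GE s [[nat_lit 29, nat_lit 30, nat_lit 12, nat_lit 10, nat_lit 41, nat_lit 38, nat_lit 26, nat_lit 41], [nat_lit 0, nat_lit 31, nat_lit 32, nat_lit 20, nat_lit 67, nat_lit 6, nat_lit 26, nat_lit 36, nat_lit 42], [nat_lit 79, nat_lit 36, nat_lit 63, nat_lit 14, nat_lit 4, nat_lit 41, nat_lit 26, nat_lit 41, nat_lit 48]] 16 :=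
  GE.step b.x (GE.base []) _ [] (nat_lit 0) [nat_lit 0, nat_lit 1, nat_lit 2, nat_lit 1, nat_lit 1] (nat_lit 16) 16 (by decide +kernel)

theorem o1ge2 (b : Base D τ s e2 9196830720) : GE s [[nat_lit 34, nat_lit 36, nat_lit 4, nat_lit 39, nat_lit 40, nat_lit 46], [nat_lit 29, nat_lit 30, nat_lit 12, nat_lit 10, nat_lit 41, nat_lit 38, nat_lit 26, nat_lit 41], [nat_lit 52, nat_lit 14, nat_lit 74, nat_lit 14, nat_lit 66, nat_lit 41, nat_lit 26, nat_lit 47], [nat_lit 63, nat_lit 58, nat_lit 26, nat_lit 34, nat_lit 37, nat_lit 38, nat_lit 43, nat_lit 41], [nat_lit 42, nat_lit 37, nat_lit 33, nat_lit 39, nat_lit 70], [nat_lit 47, nat_lit 38, nat_lit 44, nat_lit 34, nat_lit 67, nat_lit 25]] 5760 :=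
  GE.step b.x (o1ge1 b) _ [([nat_lit 0, nat_lit 31, nat_lit 32, nat_lit 20, nat_lit 67, nat_lit 6, nat_lit 26, nat_lit 36, nat_lit 42], [nat_lit 9, nat_lit 10, nat_lit 2, nat_lit 10]), ([nat_lit 79, nat_lit 36, nat_lit 63, nat_lit 14, nat_lit 4, nat_lit 41, nat_lit 26, nat_lit 41, nat_lit 48], [nat_lit 3, nat_lit 10, nat_lit 12, nat_lit 10, nat_lit 12, nat_lit 12, nat_lit 10, nat_lit 13])] (nat_lit 266) [nat_lit 4, nat_lit 0, nat_lit 5, nat_lit 4, nat_lit 3, nat_lit 5, nat_lit 4, nat_lit 5, nat_lit 4, nat_lit 5, nat_lit 4, nat_lit 5, nat_lit 4, nat_lit 4] (nat_lit 360) 5760 (by decide +kernel)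

theorem o1h4 (b : Base D τ s e2 9196830720) : GE s (w1F ++ o1N) 5760 :=
  (o1ge2 b)

theorem o1ge3 (b : Base D τ s e2 9196830720) : GE s [[nat_lit 28, nat_lit 45, nat_lit 56, nat_lit 36, nat_lit 33, nat_lit 42, nat_lit 37, nat_lit 45, nat_lit 43, nat_lit 46], [nat_lit 52, nat_lit 60, nat_lit 16, nat_lit 43, nat_lit 4, nat_lit 47, nat_lit 37, nat_lit 46, nat_lit 41]] 60 :=
  GE.step b.x (GE.base []) _ [] (nat_lit 4) [nat_lit 1, nat_lit 0, nat_lit 1, nat_lit 0, nat_lit 1, nat_lit 0, nat_lit 1, nat_lit 0, nat_lit 1, nat_lit 0] (nat_lit 60) 60 (by decide +kernel)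

theorem o1ge4 (b : Base D τ s e2 9196830720) : GE s [[nat_lit 49, nat_lit 41, nat_lit 37, nat_lit 45, nat_lit 40, nat_lit 9, nat_lit 45, nat_lit 60, nat_lit 44], [nat_lit 61, nat_lit 63, nat_lit 29, nat_lit 36, nat_lit 35, nat_lit 38, nat_lit 42, nat_lit 42], [nat_lit 28, nat_lit 45, nat_lit 56, nat_lit 36, nat_lit 33, nat_lit 42, nat_lit 37, nat_lit 45, nat_lit 43, nat_lit 46]] 25920 :=
  GE.step b.x (o1ge3 b) _ [([nat_lit 52, nat_lit 60, nat_lit 16, nat_lit 43, nat_lit 4, nat_lit 47, nat_lit 37, nat_lit 46, nat_lit 41], [nat_lit 2, nat_lit 5, nat_lit 2, nat_lit 2])] (nat_lit 631) [nat_lit 1, nat_lit 0, nat_lit 1, nat_lit 0, nat_lit 2, nat_lit 1, nat_lit 0, nat_lit 1, nat_lit 2, nat_lit 0, nat_lit 1, nat_lit 0, nat_lit 2, nat_lit 1] (nat_lit 432) 25920 (by decide +kernel)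

theorem o1ge5 (b : Base D τ s e2 9196830720) : GE s [[nat_lit 76, nat_lit 59], [nat_lit 34, nat_lit 60, nat_lit 2, nat_lit 0, nat_lit 40, nat_lit 39, nat_lit 41, nat_lit 48, nat_lit 46]] 25920 :=
  GE.sub b.x (o1ge4 b) _ [([nat_lit 49, nat_lit 41, nat_lit 37, nat_lit 45, nat_lit 40, nat_lit 9, nat_lit 45, nat_lit 60, nat_lit 44], [nat_lit 1, nat_lit 3, nat_lit 2, nat_lit 1, nat_lit 3, nat_lit 1]), ([nat_lit 61, nat_lit 63, nat_lit 29, nat_lit 36, nat_lit 35, nat_lit 38, nat_lit 42, nat_lit 42], [nat_lit 5, nat_lit 4, nat_lit 4, nat_lit 5, nat_lit 2, nat_lit 5]), ([nat_lit 28, nat_lit 45, nat_lit 56, nat_lit 36, nat_lit 33, nat_lit 42, nat_lit 37, nat_lit 45, nat_lit 43, nat_lit 46], [nat_lit 6, nat_lit 6, nat_lit 6, nat_lit 7, nat_lit 4, nat_lit 6])] (by decide +kernel)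

theorem o1h5 (b : Base D τ s e2 9196830720) : GE s o1C 25920 :=
  (o1ge5 b)

theorem o1ko (b : Base D τ s e2 9196830720) : KO D (genW (sv s) (LW ++ [[nat_lit 76]])) (genW (sv s) w1F) (E s [nat_lit 56]) fun i => E s (nth [] [[nat_lit 32, nat_lit 24, nat_lit 33], [nat_lit 64, nat_lit 56, nat_lit 0, nat_lit 57, nat_lit 65], [nat_lit 18, nat_lit 32, nat_lit 6, nat_lit 33, nat_lit 19], [nat_lit 79, nat_lit 61, nat_lit 0, nat_lit 60, nat_lit 78], [nat_lit 33, nat_lit 61, nat_lit 0, nat_lit 60, nat_lit 32], [nat_lit 41, nat_lit 31, nat_lit 0, nat_lit 30, nat_lit 40]] i) :=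
  b.ko _ [[nat_lit 76, nat_lit 26, nat_lit 77], [nat_lit 62, nat_lit 56, nat_lit 63], [nat_lit 32, nat_lit 58, nat_lit 0, nat_lit 59, nat_lit 33], [nat_lit 46, nat_lit 61, nat_lit 0, nat_lit 60, nat_lit 47], [nat_lit 32, nat_lit 71, nat_lit 0, nat_lit 70, nat_lit 33], [nat_lit 56], [nat_lit 20, nat_lit 52, nat_lit 21], [nat_lit 12, nat_lit 56, nat_lit 0, nat_lit 57, nat_lit 13], [nat_lit 76, nat_lit 50, nat_lit 0, nat_lit 51, nat_lit 77], [nat_lit 63, nat_lit 56, nat_lit 62], [nat_lit 40, nat_lit 63, nat_lit 0, nat_lit 62, nat_lit 41], [nat_lit 70, nat_lit 50, nat_lit 0, nat_lit 51, nat_lit 71], [nat_lit 81, nat_lit 71, nat_lit 0, nat_lit 70, nat_lit 80], [nat_lit 41, nat_lit 26, nat_lit 40], [nat_lit 78, nat_lit 24, nat_lit 0, nat_lit 25, nat_lit 79]] [[nat_lit 32, nat_lit 24, nat_lit 33], [nat_lit 50], [nat_lit 4, nat_lit 50, nat_lit 5], [nat_lit 72], [nat_lit 2, nat_lit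 50, nat_lit 3], [nat_lit 58, nat_lit 72, nat_lit 59], [nat_lit 50], [nat_lit 32, nat_lit 24, nat_lit 33], [nat_lit 58, nat_lit 0, nat_lit 59], [nat_lit 52], [nat_lit 41, nat_lit 72, nat_lit 40], [nat_lit 21, nat_lit 72, nat_lit 20], [nat_lit 4, nat_lit 50, nat_lit 5], [nat_lit 58, nat_lit 0, nat_lit 59], [nat_lit 32, nat_lit 24, nat_lit 33], [nat_lit 0], [nat_lit 59, nat_lit 0, nat_lit 58], [nat_lit 26], [nat_lit 72], [nat_lit 52], [nat_lit 0], [nat_lit 32, nat_lit 24, nat_lit 33], [nat_lit 48], [nat_lit 10, nat_lit 24, nat_lit 11], [nat_lit 2, nat_lit 50, nat_lit 3], [nat_lit 41, nat_lit 72, nat_lit 40], [nat_lit 59, nat_lit 0, nat_lit 58], [nat_lit 48], [nat_lit 32, nat_lit 24, nat_lit 33], [nat_lit 24], [nat_lit 58, nat_lit 72, nat_lit 59], [nat_lit 21, nat_lit 72, nat_lit 20], [nat_lit 26], [nat_lit 10, nat_lit 24, nat_lit 11], [nat_lit 24], [nat_lit 32, nat_lit 24, nat_lit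 33]] [[], [nat_lit 0, nat_lit 0, nat_lit 0, nat_lit 0, nat_lit 0, nat_lit 0], [nat_lit 0, nat_lit 0, nat_lit 0, nat_lit 0, nat_lit 0, nat_lit 0], [nat_lit 0, nat_lit 0, nat_lit 0, nat_lit 0, nat_lit 0, nat_lit 0], [nat_lit 0, nat_lit 0, nat_lit 0, nat_lit 0, nat_lit 0, nat_lit 0], [nat_lit 0, nat_lit 0, nat_lit 0, nat_lit 0, nat_lit 0, nat_lit 0], [nat_lit 0, nat_lit 0, nat_lit 0, nat_lit 0, nat_lit 0, nat_lit 0], [], [nat_lit 0, nat_lit 0, nat_lit 0, nat_lit 0, nat_lit 0, nat_lit 0], [nat_lit 0, nat_lit 0, nat_lit 0, nat_lit 0, nat_lit 0, nat_lit 0], [nat_lit 0, nat_lit 0, nat_lit 0, nat_lit 0, nat_lit 0, nat_lit 0], [nat_lit 0, nat_lit 0, nat_lit 0, nat_lit 0, nat_lit 0, nat_lit 0], [nat_lit 0, nat_lit 0, nat_lit 0, nat_lit 0, nat_lit 0, nat_lit 0], [nat_lit 0, nat_lit 0, nat_lit 0, nat_lit 0, nat_lit 0, nat_lit 0], [], [nat_lit 0, nat_lit 0, nat_lit 0, nat_lit 0, nat_lit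 0, nat_lit 0], [nat_lit 0, nat_lit 0, nat_lit 0, nat_lit 0, nat_lit 0, nat_lit 0], [nat_lit 0, nat_lit 0, nat_lit 0, nat_lit 0, nat_lit 0, nat_lit 0], [nat_lit 0, nat_lit 0, nat_lit 0, nat_lit 0, nat_lit 0, nat_lit 0], [nat_lit 0, nat_lit 0, nat_lit 0, nat_lit 0, nat_lit 0, nat_lit 0], [nat_lit 0, nat_lit 0, nat_lit 0, nat_lit 0, nat_lit 0, nat_lit 0], [], [nat_lit 0, nat_lit 0, nat_lit 0, nat_lit 0, nat_lit 0, nat_lit 0], [nat_lit 0, nat_lit 0, nat_lit 0, nat_lit 0, nat_lit 0, nat_lit 0], [nat_lit 0, nat_lit 0, nat_lit 0, nat_lit 0, nat_lit 0, nat_lit 0], [nat_lit 0, nat_lit 0, nat_lit 0, nat_lit 0, nat_lit 0, nat_lit 0], [nat_lit 0, nat_lit 0, nat_lit 0, nat_lit 0, nat_lit 0, nat_lit 0], [nat_lit 0, nat_lit 0, nat_lit 0, nat_lit 0, nat_lit 0, nat_lit 0], [], [nat_lit 0, nat_lit 0, nat_lit 0, nat_lit 0, nat_lit 0, nat_lit 0], [nat_lit 0, nat_lit 0, nat_lit 0, nat_lit 0, nat_lit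 0, nat_lit 0], [nat_lit 0, nat_lit 0, nat_lit 0, nat_lit 0, nat_lit 0, nat_lit 0], [nat_lit 0, nat_lit 0, nat_lit 0, nat_lit 0, nat_lit 0, nat_lit 0], [nat_lit 0, nat_lit 0, nat_lit 0, nat_lit 0, nat_lit 0, nat_lit 0], [nat_lit 0, nat_lit 0, nat_lit 0, nat_lit 0, nat_lit 0, nat_lit 0], []] [[nat_lit 1, nat_lit 3], [nat_lit 0], [nat_lit 0, nat_lit 2, nat_lit 0], [nat_lit 1, nat_lit 2, nat_lit 0], [nat_lit 3, nat_lit 1], [], [nat_lit 2, nat_lit 1], [nat_lit 0, nat_lit 2, nat_lit 1], [nat_lit 0, nat_lit 3, nat_lit 1], [nat_lit 1], [nat_lit 1, nat_lit 2, nat_lit 1], [nat_lit 1, nat_lit 3, nat_lit 1], [nat_lit 3], [nat_lit 2, nat_lit 0], [nat_lit 0, nat_lit 3]] [[], [nat_lit 3, nat_lit 0], [nat_lit 2], [nat_lit 0], [nat_lit 3], [nat_lit 1]] [[nat_lit 0, nat_lit 0], [nat_lit 3, nat_lit 4], [nat_lit 1, nat_lit 4], [nat_lit 1, nat_lit 3], [nat_lit 3, nat_lit 5], [nat_lit 4, nat_lit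 5], [nat_lit 0, nat_lit 2], [nat_lit 1, nat_lit 5], [nat_lit 2, nat_lit 3], [nat_lit 2, nat_lit 4], [nat_lit 0, nat_lit 5], [nat_lit 1, nat_lit 2], [nat_lit 2, nat_lit 5], [nat_lit 0, nat_lit 1], [nat_lit 0, nat_lit 3], [nat_lit 0, nat_lit 4]] [[], [nat_lit 0, nat_lit 2, nat_lit 6], [nat_lit 2, nat_lit 4], [nat_lit 0, nat_lit 2, nat_lit 4], [nat_lit 0, nat_lit 2, nat_lit 4, nat_lit 6], [nat_lit 0, nat_lit 4], [nat_lit 0, nat_lit 2, nat_lit 6], [], [nat_lit 0, nat_lit 4, nat_lit 6], [nat_lit 4, nat_lit 6], [nat_lit 4], [nat_lit 2, nat_lit 4, nat_lit 6], [nat_lit 2, nat_lit 4], [nat_lit 0, nat_lit 4, nat_lit 6], [], [nat_lit 0], [nat_lit 0, nat_lit 6], [nat_lit 0, nat_lit 2], [nat_lit 0, nat_lit 2, nat_lit 4], [nat_lit 4, nat_lit 6], [nat_lit 0], [], [nat_lit 6], [nat_lit 2], [nat_lit 0, nat_lit 2, nat_lit 4, nat_lit 6], [nat_lit 4], [nat_lit 0, nat_lit 6], [nat_lit 6], [],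 [nat_lit 2, nat_lit 6], [nat_lit 0, nat_lit 4], [nat_lit 2, nat_lit 4, nat_lit 6], [nat_lit 0, nat_lit 2], [nat_lit 2], [nat_lit 2, nat_lit 6], []] _ (o1h1 b) (w1Fe b) (o1h3 b) (o1h4 b) (o1h5 b) (by decide +kernel) (by decide +kernel) (by decide +kernel) (by decide +kernel)

end Cfsg.Agent.FiC.U62
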