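import Cfsg.Agent.Fischer.QK
import Cfsg.Agent.Fischer.ZAn
import Cfsg.Agent.FiC.Semi
import Cfsg.Agent.FiC.F24.T
import Cfsg.Agent.FiC.F24.Iso

set_option autoImplicit false
set_option maxRecDepth 100000
set_option synthInstance.maxSize 2048
set_option Elab.async false
set_option linter.unusedSectionVars false
set_option linter.unusedVariables false

namespace Cfsg.Agent.FiC.F24
open Cfsg.Agent.Comp Cfsg.Agent.FiC

variable {G : Type*} [Group G] [Finite G] {D : Set G} {τ s : ℕ → G}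

theorem _root_.Cfsg.Agent.FiC.Base.uf {d : Dat} {n k : ℕ} (b : Base D τ s d n) (u : UF D) {A : Subgroup G}
    {Y : List (List ℕ)} {v : List ℕ} (h : CU A s (v :: Y) k) (U : List (List ℕ)) (I : List ℕ)
    (hc : band (Nat.ble U.length 3 && U.contains v) (band (d.clique U (ivl (nat_lit 0) d.m))
      (d.eqs [(flat Y I, U.flatten)])) = true) : CU A s Y (U.length * k) := by
  rw [band_eq, band_eq, Bool.and_eq_true, Nat.ble_eq, List.contains_iff_mem] at hc
  obtain ⟨h1, h2, h3⟩ := b.clq_facts U hc.2.1 1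
  have := h.uf u b.conj_mem _ (by simpa using hc.1.1) h1 h2 h3 (List.mem_map.2 ⟨v, hc.1.2, by simp⟩) I
    (by rw [prod_map_conj, b.x.eq1 _ _ hc.2.2]; simp)
  rwa [List.length_map] at this

theorem two_of (k : Fischer.Cl D) {a c z : G} (ha : a ∈ D) (hc : c ∈ D) (hz : orderOf z = 2)
    (h : a⁻¹ * c ∈ Subgroup.zpowers z) (hn : a ≠ c) : PT D 2 z := by
  classical
  obtain ⟨m, hm, e⟩ := Finset.mem_image.1 (mem_zpowers_iff_mem_range_orderOf.1 h)
  rw [hz, Finset.mem_range] at hm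
  have h1 : a * c = z := by
    interval_cases m
    · exact absurd (inv_mul_eq_one.1 (e.symm.trans (pow_zero z))) hn
    · rw [← k.inv ha, ← e, pow_one]
  have h2 : Commute a c := by
    have := pow_orderOf_eq_one z
    rw [hz, ← h1, sq, mul_eq_one_iff_eq_inv, mul_inv_rev, k.inv ha, k.inv hc] at this
    exact this
  exact ⟨[a, c], by simp [hn], rfl, by simp [ha, hc], by simp [h2, h2.symm], by simpa using h1⟩

theorem zacu1 (b : Base D τ s d0 2510411418381323442585600) : CU ⊤ s [[nat_lit 55, nat_lit 48, nat_lit 41, nat_lit 26, nat_lit 0, nat_lit 27, nat_lit 40, nat_lit 49, nat_lit 54], [nat_lit 14], [nat_lit 12], [nat_lit 8], [nat_lit 4], [nat_lit 0]] 16 :=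
  CU.down b.x le_rfl (zcu20 b) (nat_lit 31) [[nat_lit 0], [nat_lit 8], [nat_lit 18], [nat_lit 20], [nat_lit 22], [nat_lit 56], [nat_lit 18, nat_lit 51, nat_lit 46, nat_lit 50, nat_lit 8], [nat_lit 23, nat_lit 21, nat_lit 1, nat_lit 5, nat_lit 53, nat_lit 53, nat_lit 53, nat_lit 19]] [nat_lit 55, nat_lit 48, nat_lit 41, nat_lit 26, nat_lit 0, nat_lit 27, nat_lit 40, nat_lit 49, nat_lit 54] [nat_lit 0, nat_lit 1, nat_lit 2, nat_lit 4, nat_lit 5, nat_lit 2, nat_lit 3, nat_lit 6, nat_lit 5, nat_lit 3, nat_lit 2, nat_lit 4, nat_lit 7, nat_lit 5, nat_lit 3, nat_lit 2, nat_lit 4, nat_lit 6, nat_lit 5, nat_lit 3, nat_lit 7, nat_lit 5, nat_lit 3] (nat_lit 12960) 16 (by decide +kernel)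

theorem zacu2 (b : Base D τ s d0 2510411418381323442585600) : CU ⊤ s [[nat_lit 60, nat_lit 35, nat_lit 10, nat_lit 34, nat_lit 61], [nat_lit 55, nat_lit 48, nat_lit 41, nat_lit 26, nat_lit 0, nat_lit 27, nat_lit 40, nat_lit 49, nat_lit 54], [nat_lit 14], [nat_lit 12], [nat_lit 8], [nat_lit 4], [nat_lit 0]] 2 :=
  CU.down b.x le_rfl (zacu1 b) (nat_lit 63) [[nat_lit 4], [nat_lit 20], [nat_lit 22, nat_lit 56, nat_lit 55, nat_lit 18, nat_lit 54, nat_lit 4, nat_lit 56, nat_lit 22]] [nat_lit 60, nat_lit 35, nat_lit 10, nat_lit 34, nat_lit 61] [nat_lit 0, nat_lit 1, nat_lit 2] (nat_lit 8) 2 (by decide +kernel)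

theorem zacu3 (b : Base D τ s d0 2510411418381323442585600) : CU ⊤ s [[nat_lit 0], [nat_lit 58, nat_lit 14, nat_lit 59], [nat_lit 53, nat_lit 22, nat_lit 52], [nat_lit 22], [nat_lit 43, nat_lit 12, nat_lit 42], [nat_lit 20], [nat_lit 4]] 2 :=
  CU.mono b.x le_rfl (zacu2 b) [[nat_lit 0], [nat_lit 58, nat_lit 14, nat_lit 59], [nat_lit 53, nat_lit 22, nat_lit 52], [nat_lit 22], [nat_lit 43, nat_lit 12, nat_lit 42], [nat_lit 20], [nat_lit 4]] [nat_lit 36, nat_lit 20, nat_lit 32, nat_lit 46, nat_lit 18, nat_lit 37, nat_lit 45, nat_lit 45, nat_lit 14, nat_lit 20, nat_lit 48, nat_lit 55, nat_lit 20, nat_lit 22, nat_lit 51, nat_lit 52, nat_lit 16, nat_lit 22] [[nat_lit 6], [nat_lit 2], [nat_lit 8], [nat_lit 4], [nat_lit 12], [nat_lit 10], [nat_lit 0]] (by decide +kernel)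

theorem zcge4 (b : Base D τ s d0 2510411418381323442585600) : GE s [[nat_lit 12, nat_lit 8, nat_lit 4, nat_lit 0]] 2 :=
  GE.step b.x (GE.base []) _ [] (nat_lit 2) [nat_lit 0] (nat_lit 2) 2 (by decide +kernel)

theorem zaY (b : Base D τ s d0 2510411418381323442585600) : Cen ⊤ s [[nat_lit 0], [nat_lit 58, nat_lit 14, nat_lit 59], [nat_lit 53, nat_lit 22, nat_lit 52], [nat_lit 22], [nat_lit 43, nat_lit 12, nat_lit 42], [nat_lit 20], [nat_lit 4]] = genW (sv s) [[nat_lit 12, nat_lit 8, nat_lit 4, nat_lit 0]] :=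
  (CU.eq b.x le_rfl (zacu3 b) (zcge4 b) (nat_lit 127) (by decide +kernel)).1

theorem zac3 (b : Base D τ s d0 2510411418381323442585600) : CU ⊤ s [[nat_lit 8], [nat_lit 4], [nat_lit 0], [nat_lit 12, nat_lit 8, nat_lit 4, nat_lit 0]] 106168320 :=
  CU.mono b.x le_rfl (zcu11 b) _ [] [[nat_lit 6, nat_lit 5, nat_lit 3, nat_lit 1], [nat_lit 0], [nat_lit 2], [nat_lit 4]] (by decide +kernel)

theorem zac1 (b : Base D τ s d0 2510411418381323442585600) (u : UF D) : CU ⊤ s [[nat_lit 0], [nat_lit 12, nat_lit 8, nat_lit 4, nat_lit 0]] 637009920 :=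
  b.uf u (b.uf u (zac3 b) [[nat_lit 12], [nat_lit 8]] [nat_lit 4, nat_lit 3, nat_lit 1] (by decide +kernel))
    [[nat_lit 12], [nat_lit 8], [nat_lit 4]] [nat_lit 2, nat_lit 1] (by decide +kernel)

theorem zac0 (b : Base D τ s d0 2510411418381323442585600) (u : UF D) : CU ⊤ s [[nat_lit 12, nat_lit 8, nat_lit 4, nat_lit 0]] 321052999680 :=
  CU.up0 b.x (z := [nat_lit 12, nat_lit 8, nat_lit 4, nat_lit 0]) (le_top.trans b.ns) (zac1 b u) (.fx [nat_lit 0]) 504 _ (by decide +kernel)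

theorem zcn1 (b : Base D τ s d0 2510411418381323442585600) : nf D (E s [nat_lit 12, nat_lit 8, nat_lit 4, nat_lit 0]) = 504 := b.nf_eq _ _ (by decide +kernel)

theorem zcn2 (b : Base D τ s d0 2510411418381323442585600) : nf D (E s [nat_lit 4, nat_lit 0]) = 3512 := b.nf_eq _ _ (by decide +kernel)

theorem zaM (b : Base D τ s d0 2510411418381323442585600) : genW (sv s) [[nat_lit 0], [nat_lit 4], [nat_lit 8], [nat_lit 20], [nat_lit 22], [nat_lit 16], [nat_lit 18], [nat_lit 25, nat_lit 22, nat_lit 24], [nat_lit 38, nat_lit 16, nat_lit 39], [nat_lit 53, nat_lit 22, nat_lit 52], [nat_lit 52, nat_lit 20, nat_lit 53], [nat_lit 58, nat_lit 14, nat_lit 59], [nat_lit 26, nat_lit 4, nat_lit 26]] ≤ Subgroup.centralizer {E s [nat_lit 12, nat_lit 8, nat_lit 4, nat_lit 0]} :=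
  (b.x.com_le le_rfl (Y := [[nat_lit 12, nat_lit 8, nat_lit 4, nat_lit 0]]) (F := nat_lit 0) (by decide +kernel)).trans (Cen_top1 _ _).le

theorem zah1 : subC d0.m d0.B zad0.m zad0.B (dbl (zapi :: d0.T)) [[nat_lit 0], [nat_lit 4], [nat_lit 8], [nat_lit 20], [nat_lit 22], [nat_lit 16], [nat_lit 18], [nat_lit 25, nat_lit 22, nat_lit 24], [nat_lit 38, nat_lit 16, nat_lit 39], [nat_lit 53, nat_lit 22, nat_lit 52], [nat_lit 52, nat_lit 20, nat_lit 53], [nat_lit 58, nat_lit 14, nat_lit 59], [nat_lit 26, nat_lit 4, nat_lit 26]] zad0.T = true := by decide +kernel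

theorem zah2 : d0.part zad0 zapi [[nat_lit 0], [nat_lit 4], [nat_lit 8], [nat_lit 20], [nat_lit 22], [nat_lit 16], [nat_lit 18], [nat_lit 25, nat_lit 22, nat_lit 24], [nat_lit 38, nat_lit 16, nat_lit 39], [nat_lit 53, nat_lit 22, nat_lit 52], [nat_lit 52, nat_lit 20, nat_lit 53], [nat_lit 58, nat_lit 14, nat_lit 59], [nat_lit 26, nat_lit 4, nat_lit 26]] [[nat_lit 0], [nat_lit 58, nat_lit 14, nat_lit 59], [nat_lit 53, nat_lit 22, nat_lit 52], [nat_lit 22], [nat_lit 43, nat_lit 12, nat_lit 42], [nat_lit 20], [nat_lit 4]] [nat_lit 0, nat_lit 39, nat_lit 14, nat_lit 5, nat_lit 23, nat_lit 4, nat_lit 1] = true := by decide +kernel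

theorem zaq (b : Base D τ s d0 2510411418381323442585600) {H : Type*} [Group H] (φ : Subgroup.centralizer {E s [nat_lit 12, nat_lit 8, nat_lit 4, nat_lit 0]} →* H)
    (hφ : Function.Surjective φ) (hk : ∀ g, φ g = 1 ↔ (g : G) ∈ Subgroup.zpowers (E s [nat_lit 12, nat_lit 8, nat_lit 4, nat_lit 0])) :
    ∃ τ' s' : ℕ → H, Base (φ '' {a | (a : G) ∈ D ∧ Commute (E s [nat_lit 12, nat_lit 8, nat_lit 4, nat_lit 0]) a}) τ' s' zad0 (Nat.card H) :=
  b.qpart zad0 zapi [[nat_lit 0], [nat_lit 4], [nat_lit 8], [nat_lit 20], [nat_lit 22], [nat_lit 16], [nat_lit 18], [nat_lit 25, nat_lit 22, nat_lit 24], [nat_lit 38, nat_lit 16, nat_lit 39], [nat_lit 53, nat_lit 22, nat_lit 52], [nat_lit 52, nat_lit 20, nat_lit 53], [nat_lit 58, nat_lit 14, nat_lit 59], [nat_lit 26, nat_lit 4, nat_lit 26]] [[nat_lit 0], [nat_lit 58, nat_lit 14, nat_lit 59], [nat_lit 53, nat_lit 22, nat_lit 52], [nat_lit 22], [nat_lit 43, nat_lit 12, nat_lit 42], [nat_lit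 20], [nat_lit 4]] [nat_lit 12, nat_lit 8, nat_lit 4, nat_lit 0] [nat_lit 0, nat_lit 39, nat_lit 14, nat_lit 5, nat_lit 23, nat_lit 4, nat_lit 1]
    (cent_zpowers (E s [nat_lit 12, nat_lit 8, nat_lit 4, nat_lit 0]) ▸ Subgroup.centralizer_le_normalizer _) le_rfl (zaM b) φ hφ
    (fun g hg => (hk g).2 (by rwa [zaY b, genW1] at hg)) (fun a c ha hc e => by
      by_contra hn
      obtain ⟨g, hg⟩ := isConj_iff.1 (((pt2 b).2 _).1 (two_of (cl b) ha.1 hc.1 (pt4 b).1
        ((hk (a⁻¹ * c)).1 (by rw [map_mul, map_inv, e, inv_mul_cancel])) fun h => hn (Subtype.ext h)))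
      have h5 := nf_conj b.conj_mem g (E s [nat_lit 4, nat_lit 0])
      rw [hg, zcn1 b, zcn2 b] at h5
      omega) (by decide +kernel) zah1 zah2 (by decide +kernel)

end Cfsg.Agent.FiC.F24
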